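import Mathlib
import Groth.Prelude.Def_W4c2azumayainvolQEt
import Groth.Agent.Hensel.Local
import Groth.Agent.LocH.FiniteH
import Groth.Agent.LocH.Noetherian

/-!
# Short statements: rings with an involution over a strictly henselian fixed ring, finiteness of
first local cohomology via associated primes
-/

set_option autoImplicit false
set_option linter.style.haveILetI false

open CategoryTheory IsLocalRing

universe u v

namespace Groth.Agent.H4Easy

/-- Transport of the henselian property of a local ring along an isomorphism, across universes. -/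
theorem henselianLocal_of_equiv {A : Type u} {B : Type v} [CommRing A] [CommRing B] [HenselianLocalRing A]
    (e : A ≃+* B) : HenselianLocalRing B := by
  haveI : IsLocalRing B := e.isLocalRing
  refine { is_henselian := fun f hf b₀ h1 h2 => ?_ }
  have hmem : ∀ x : B, x ∈ maximalIdeal B ↔ e.symm x ∈ maximalIdeal A := fun x => by
    simp only [mem_maximalIdeal, mem_nonunits_iff, MulEquiv.isUnit_map e.symm]
  have hev : ∀ (g : Polynomial B) (x : B), (g.map e.symm.toRingHom).eval (e.symm x) = e.symm (g.eval x) := fun g x =>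
    Polynomial.eval_map_apply e.symm.toRingHom x
  obtain ⟨a, ha, ha'⟩ := HenselianLocalRing.is_henselian (f.map e.symm.toRingHom) (hf.map _) (e.symm b₀)
    (by rw [hev]; exact (hmem _).1 h1)
    (by rw [Polynomial.derivative_map, hev]; exact h2.map e.symm)
  refine ⟨e a, ?_, (hmem _).2 (by rw [map_sub, e.symm_apply_apply]; exact ha')⟩
  rw [Polynomial.IsRoot, ← e.symm.map_eq_zero_iff, ← hev, e.symm_apply_apply]
  exact ha

theorem invol_strictHensel (S : Type u) (R : Type v) [CommRing S] [CommRing R] [Algebra S R] (lam : R ≃+* R)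
    (hlam : Function.Involutive lam) (hS : RInv.IsFixedRing S R lam) [HenselianLocalRing S]
    [IsSepClosed (ResidueField S)] :
    ∃ (ι : Type) (_ : Fintype ι) (T : ι → Type v) (_ : ∀ i, CommRing (T i)) (_ : ∀ i, HenselianLocalRing (T i)),
      (∀ i, IsSepClosed (ResidueField (T i))) ∧ Nonempty (R ≃+* (∀ i, T i)) := by
  classical
  obtain ⟨hinj, hfix⟩ := hS
  let S' : Subring R := (algebraMap S R).range
  let eS : S ≃+* S' := RingEquiv.ofBijective (algebraMap S R).rangeRestrict
    ⟨fun a b h => hinj (congrArg Subtype.val h), (algebraMap S R).rangeRestrict_surjective⟩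
  haveI : HenselianLocalRing S' := henselianLocal_of_equiv eS
  haveI : IsSepClosed (ResidueField S') := by
    let e' := ResidueField.mapEquiv eS
    letI := e'.toRingHom.toAlgebra
    haveI : Algebra.IsAlgebraic (ResidueField S) (ResidueField S') := ⟨fun x => by
      obtain ⟨a, rfl⟩ := e'.surjective x
      exact isAlgebraic_algebraMap (R := ResidueField S) a⟩
    exact Algebra.IsAlgebraic.isSepClosed (F := ResidueField S)
  have hmem : ∀ r, lam r = r → r ∈ S' := fun r hr => (hfix r).1 hr
  haveI : Algebra.IsIntegral S' R := ⟨fun x => by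
    refine ⟨Polynomial.X ^ 2 - Polynomial.C (⟨x + lam x, hmem _ (by rw [map_add, hlam, add_comm])⟩ : S') * Polynomial.X +
      Polynomial.C ⟨x * lam x, hmem _ (by rw [map_mul, hlam, mul_comm])⟩, ?_, ?_⟩
    · monicity!
    · simp only [Polynomial.eval₂_add, Polynomial.eval₂_sub, Polynomial.eval₂_mul, Polynomial.eval₂_pow,
        Polynomial.eval₂_X, Polynomial.eval₂_C]
      change x ^ 2 - (x + lam x) * x + x * lam x = 0
      ring⟩
  haveI : Nontrivial R := (Subring.subtype_injective S').nontrivial
  have hover : ∀ M : Ideal R, M.IsMaximal → ∀ s : S', (s : R) ∈ M ↔ s ∈ maximalIdeal S' := fun M hM s => by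
    haveI := Ideal.isMaximal_comap_of_isIntegral_of_isMaximal (R := S') M
    rw [← IsLocalRing.eq_maximalIdeal this]
    rfl
  -- residue fields and the henselian property of local quotients
  have hT : ∀ (T : Type v) [CommRing T] [IsLocalRing T] (π : R →+* T), Function.Surjective π →
      ∃ _ : HenselianLocalRing T, IsSepClosed (ResidueField T) := by
    intro T _ _ π hπ
    letI := (π.comp (algebraMap S' R)).toAlgebra
    haveI : IsScalarTower S' S' T := IsScalarTower.left _
    haveI : Algebra.IsIntegral S' T := ⟨fun x => by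
      obtain ⟨r, rfl⟩ := hπ x
      obtain ⟨p, hp, hr⟩ := Algebra.IsIntegral.isIntegral (R := S') r
      exact ⟨p, hp, by rw [RingHom.algebraMap_toAlgebra, ← Polynomial.hom_eval₂, hr, map_zero]⟩⟩
    haveI hl : IsLocalHom (algebraMap S' T) := ((IsLocalRing.local_hom_TFAE (algebraMap S' T)).out 4 0 :).mp (by
      haveI := Ideal.isMaximal_comap_of_isIntegral_of_isMaximal (R := S') (maximalIdeal T)
      exact IsLocalRing.eq_maximalIdeal this)
    refine ⟨Groth.Agent.Hensel.henselianLocalRing_finite S' T, ?_⟩
    haveI : Algebra.IsAlgebraic (ResidueField S') (ResidueField T) := ⟨fun x => by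
      obtain ⟨t, rfl⟩ := IsLocalRing.residue_surjective x
      exact (((Algebra.IsIntegral.isIntegral (R := S') t).map (IsScalarTower.toAlgHom S' T (ResidueField T))).tower_top).isAlgebraic⟩
    exact Algebra.IsAlgebraic.isSepClosed (F := ResidueField S')
  obtain ⟨M₁, hM₁⟩ := Ideal.exists_maximal R
  let M₂ : Ideal R := M₁.comap lam.toRingHom
  haveI : M₁.IsMaximal := hM₁
  haveI hM₂ : M₂.IsMaximal := Ideal.comap_isMaximal_of_surjective _ lam.surjective
  have htwo : ∀ Q : Ideal R, Q.IsMaximal → Q = M₁ ∨ Q = M₂ := by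
    intro Q hQ
    have hsub : (Q : Set R) ⊆ (M₁ : Set R) ∪ M₂ := fun x hx => by
      have h1 : x * lam x ∈ M₁ := (hover M₁ hM₁ ⟨_, hmem _ (by rw [map_mul, hlam, mul_comm])⟩).2
        ((hover Q hQ _).1 (Q.mul_mem_right _ hx))
      exact (hM₁.isPrime.mem_or_mem h1).imp id id
    rcases (Ideal.subset_union.1 hsub) with h | h
    · exact Or.inl (hQ.eq_of_le hM₁.ne_top h)
    · exact Or.inr (hQ.eq_of_le hM₂.ne_top h)
  by_cases heq : M₁ = M₂
  · haveI : IsLocalRing R := IsLocalRing.of_unique_max_ideal ⟨M₁, hM₁, fun Q hQ => (htwo Q hQ).elim id fun h => h.trans heq.symm⟩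
    obtain ⟨_, hs⟩ := hT R (RingHom.id R) Function.surjective_id
    exact ⟨Unit, inferInstance, fun _ => R, fun _ => inferInstance, fun _ => inferInstance, fun _ => hs,
      ⟨{ toFun := fun r _ => r, invFun := fun f => f (), left_inv := fun _ => rfl, right_inv := fun _ => rfl,
         map_mul' := fun _ _ => rfl, map_add' := fun _ _ => rfl }⟩⟩
  · have hcop : IsCoprime M₁ M₂ := Ideal.isCoprime_iff_sup_eq.2 (hM₁.coprime_of_ne hM₂ heq)
    obtain ⟨a, ha, c, hc, hac⟩ := Ideal.isCoprime_iff_exists.1 hcop
    let J := M₁ ⊓ M₂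
    haveI : HenselianRing R ((maximalIdeal S').map (algebraMap S' R)) := Groth.Agent.Hensel.henselianRing_integral S' _ R
    have hrad : ((maximalIdeal S').map (algebraMap S' R)).radical = J := by
      refine le_antisymm ?_ ?_
      · refine (Ideal.IsRadical.inf hM₁.isPrime.isRadical hM₂.isPrime.isRadical).radical_le_iff.2 ?_
        exact le_inf (Ideal.map_le_iff_le_comap.2 fun s hs => (hover M₁ hM₁ s).2 hs)
          (Ideal.map_le_iff_le_comap.2 fun s hs => (hover M₂ hM₂ s).2 hs)
      · rw [Ideal.radical_eq_sInf]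
        refine le_sInf ?_
        rintro P ⟨hle, hP⟩
        haveI := hP
        haveI : P.IsMaximal := Ideal.isMaximal_of_isIntegral_of_isMaximal_comap (R := S') P (by
          have : maximalIdeal S' ≤ P.comap (algebraMap S' R) := Ideal.map_le_iff_le_comap.1 hle
          rw [← (IsLocalRing.maximalIdeal.isMaximal S').eq_of_le (Ideal.IsPrime.ne_top inferInstance) this]
          exact IsLocalRing.maximalIdeal.isMaximal S')
        rcases htwo P inferInstance with h | h <;> rw [h]
        · exact inf_le_left
        · exact inf_le_right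
    haveI : HenselianRing R J := hrad ▸ (Groth.Agent.Hensel.henselianRing_iff_of_radical (Ideal.radical_idem _).symm).1 inferInstance
    obtain ⟨e, he, hea⟩ := Groth.Agent.Hensel.exists_idempotent_lift (A := R) (I := J) (B := R) a (by
      rw [Algebra.algebraMap_self, Ideal.map_id, show a * a - a = a * (a - 1) by ring]
      refine ⟨M₁.mul_mem_right _ ha, M₂.mul_mem_left _ ?_⟩
      rw [show a - 1 = -c by linear_combination hac]
      exact neg_mem hc)
    rw [Algebra.algebraMap_self, Ideal.map_id] at hea
    have he1 : e ∈ M₁ := by simpa using add_mem hea.1 ha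
    have he2 : 1 - e ∈ M₂ := by
      rw [show (1 : R) - e = c - (e - a) by linear_combination -hac]
      exact sub_mem hc hea.2
    have hne1 : e ∉ M₂ := fun h => hM₂.ne_top ((Ideal.eq_top_iff_one _).2 (by simpa using add_mem he2 h))
    have hne2 : 1 - e ∉ M₁ := fun h => hM₁.ne_top ((Ideal.eq_top_iff_one _).2 (by simpa using add_mem h he1))
    let x : Bool → R := fun b => if b then e else 1 - e
    have hloc : ∀ b, IsLocalRing (R ⧸ Ideal.span {1 - x b}) := by
      intro b
      let M : Ideal R := if b then M₂ else M₁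
      haveI hMm : M.IsMaximal := by cases b <;> simp [M] <;> assumption
      have hxM : 1 - x b ∈ M := by cases b <;> simp [x, M, he1, he2]
      have huniq : ∀ Q : Ideal R, Q.IsMaximal → 1 - x b ∈ Q → Q = M := fun Q hQ hxQ => by
        cases b <;> rcases htwo Q hQ with rfl | rfl <;> simp_all [x, M]
      have hle : RingHom.ker (Ideal.Quotient.mk (Ideal.span {1 - x b})) ≤ M := by
        rw [Ideal.mk_ker, Ideal.span_le, Set.singleton_subset_iff]; exact hxM
      refine IsLocalRing.of_unique_max_ideal ⟨M.map (Ideal.Quotient.mk _),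
        Ideal.IsMaximal.map_of_surjective_of_ker_le Ideal.Quotient.mk_surjective hle, fun Q hQ => ?_⟩
      rw [← Ideal.map_comap_of_surjective (Ideal.Quotient.mk (Ideal.span {1 - x b})) Ideal.Quotient.mk_surjective Q]
      congr 1
      refine huniq _ (Ideal.comap_isMaximal_of_surjective _ Ideal.Quotient.mk_surjective) ?_
      rw [Ideal.mem_comap, Ideal.Quotient.eq_zero_iff_mem.2 (Ideal.mem_span_singleton_self _)]
      exact zero_mem _
    have hcoi : CompleteOrthogonalIdempotents x := by
      refine ⟨⟨fun b => by cases b <;> simp [x, he, he.one_sub], ?_⟩, by simp [x]⟩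
      intro b b' hbb
      cases b <;> cases b' <;> simp_all [x, he.one_sub_mul_self, he.mul_one_sub_self]
    choose h1 h2 using fun b => haveI := hloc b; hT (R ⧸ Ideal.span {1 - x b}) (Ideal.Quotient.mk _) Ideal.Quotient.mk_surjective
    exact ⟨Bool, inferInstance, fun b => R ⧸ Ideal.span {1 - x b}, fun _ => inferInstance, h1, h2,
      ⟨RingEquiv.ofBijective _ hcoi.bijective_pi⟩⟩

theorem finite_h1_of_assoc (A : Type u) [CommRing A] [IsNoetherianRing A] (I : Ideal A) (M : Type u) [AddCommGroup M]
    [Module A M] [Module.Finite A M] :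
    Module.Finite A (LocCoh.H I 1 M) ↔
      ∀ p : Ideal A, p ∈ associatedPrimes A M → ¬ I ≤ p → Module.Finite A (LocCoh.H I 1 (A ⧸ p)) := by
  classical
  -- `H⁰` of a finite module is finite
  have h0 : ∀ (N : ModuleCat.{u} A) [Module.Finite A N], Module.Finite A ↑((localCohomology I 0).obj N) := by
    intro N _
    haveI : Module.Finite A ↑((DRing.gammaI I).obj N) := Module.Finite.iff_fg.2 (IsNoetherian.noetherian (DRing.torsionSub I N))
    exact Module.Finite.equiv ((Groth.Agent.LocH.zeroIso I).app N).toLinearEquiv.symm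
  -- extensions
  have hsub : ∀ {X : Type u} [AddCommGroup X] [Module A X] [Module.Finite A X] (N : Submodule A X),
      Module.Finite A (LocCoh.H I 1 X) → Module.Finite A (LocCoh.H I 1 N) := by
    intro X _ _ _ N hX
    let T : ShortComplex (ModuleCat.{u} A) := ShortComplex.mk (X₁ := ModuleCat.of A N) (X₂ := ModuleCat.of A X)
      (X₃ := ModuleCat.of A (X ⧸ N)) (ModuleCat.ofHom N.subtype) (ModuleCat.ofHom N.mkQ)
      (by ext x; exact (Submodule.Quotient.mk_eq_zero N).2 x.2)
    have hT : T.ShortExact :=
      { exact := by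
          rw [ShortComplex.moduleCat_exact_iff]
          intro y hy
          exact ⟨⟨y, (Submodule.Quotient.mk_eq_zero N).1 hy⟩, rfl⟩
        mono_f := (ModuleCat.mono_iff_injective _).2 N.injective_subtype
        epi_g := (ModuleCat.epi_iff_surjective _).2 N.mkQ_surjective }
    haveI : Module.Finite A ↑((localCohomology I 0).obj T.X₃) := h0 _
    haveI : IsNoetherian A ↑((localCohomology I 1).obj T.X₂) := isNoetherian_of_isNoetherianRing_of_finite A (LocCoh.H I 1 X)
    let δ := Groth.Agent.LocH.delta (I := I) hT 0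
    let f := ((localCohomology I 1).map T.f).hom
    refine ⟨Submodule.fg_of_fg_map_of_fg_inf_ker f (IsNoetherian.noetherian _) ?_⟩
    rw [top_inf_eq, show LinearMap.ker f = LinearMap.range δ from le_antisymm
      (fun x hx => Groth.Agent.LocH.exact₁ hT 0 hx) (by rintro _ ⟨y, rfl⟩; exact Groth.Agent.LocH.map_delta hT 0 y)]
    exact Module.Finite.iff_fg.1 (Module.Finite.range δ)
  refine ⟨fun hM p hp _ => ?_, fun h => ?_⟩
  · obtain ⟨-, y, hy⟩ := (isAssociatedPrime_iff_exists_injective_linearMap p M).1 hp
    haveI := hsub (LinearMap.range y) hM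
    exact Module.Finite.equiv ((localCohomology I 1).mapIso (LinearEquiv.ofInjective y hy).toModuleIso).toLinearEquiv.symm
  -- middle of a short exact sequence
  have hmid' : ∀ {X Y Z : Type u} [AddCommGroup X] [Module A X] [AddCommGroup Y] [Module A Y] [AddCommGroup Z]
      [Module A Z] (a : X →ₗ[A] Y) (b : Y →ₗ[A] Z), Function.Injective a → Function.Surjective b → Function.Exact a b →
      Module.Finite A (LocCoh.H I 1 X) → Module.Finite A (LocCoh.H I 1 Z) → Module.Finite A (LocCoh.H I 1 Y) := by
    intro X Y Z _ _ _ _ _ _ a b ha hb hab h1 h2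
    let T : ShortComplex (ModuleCat.{u} A) := ShortComplex.mk (X₁ := ModuleCat.of A X) (X₂ := ModuleCat.of A Y)
      (X₃ := ModuleCat.of A Z) (ModuleCat.ofHom a) (ModuleCat.ofHom b)
      (ModuleCat.hom_ext (LinearMap.ext fun z => hab.apply_apply_eq_zero z))
    have hT : T.ShortExact :=
      { exact := by
          rw [ShortComplex.moduleCat_exact_iff]
          exact fun z hz => (hab z).1 hz
        mono_f := (ModuleCat.mono_iff_injective _).2 ha
        epi_g := (ModuleCat.epi_iff_surjective _).2 hb }
    haveI : IsNoetherian A ↑((localCohomology I 1).obj T.X₃) := isNoetherian_of_isNoetherianRing_of_finite A (LocCoh.H I 1 Z)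
    let f := ((localCohomology I 1).map T.f).hom
    let g := ((localCohomology I 1).map T.g).hom
    refine ⟨Submodule.fg_of_fg_map_of_fg_inf_ker g (IsNoetherian.noetherian _) ?_⟩
    rw [top_inf_eq, show LinearMap.ker g = LinearMap.range f from le_antisymm
      (fun x hx => Groth.Agent.LocH.exact₂ hT 1 hx) (by rintro _ ⟨y, rfl⟩; exact Groth.Agent.LocH.map_g_map_f 1 y)]
    haveI : Module.Finite A ↑((localCohomology I 1).obj T.X₁) := h1
    exact Module.Finite.iff_fg.1 (Module.Finite.range f)
  have hmid : ∀ (X : Submodule A M) (Y : Submodule A M), X ≤ Y →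
      Module.Finite A (LocCoh.H I 1 (↥Y ⧸ X.comap Y.subtype)) → Module.Finite A (LocCoh.H I 1 (M ⧸ Y)) →
      Module.Finite A (LocCoh.H I 1 (M ⧸ X)) := by
    intro X Y hXY h1 h2
    refine hmid' (Submodule.mapQ (X.comap Y.subtype) X Y.subtype le_rfl) (Submodule.factor hXY) ?_
      (Submodule.factor_surjective hXY) ?_ h1 h2
    · rw [← LinearMap.ker_eq_bot, Submodule.ker_mapQ, eq_bot_iff, Submodule.map_le_iff_le_comap]
      intro z hz
      simpa [Submodule.Quotient.mk_eq_zero] using hz
    · rw [LinearMap.exact_iff, Submodule.range_mapQ, Submodule.range_subtype]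
      simp [Submodule.factor, Submodule.mapQ, Submodule.ker_liftQ]
  let S := {p ∈ associatedPrimes A M | ¬ I ≤ p}
  have key : ∀ N : Submodule A M, associatedPrimes A (M ⧸ N) ⊆ S → Module.Finite A (LocCoh.H I 1 (M ⧸ N)) := by
    intro N
    induction N using WellFoundedGT.induction with
    | _ N ih =>
      intro hN
      rcases subsingleton_or_nontrivial (M ⧸ N) with hs | hs
      · haveI : Subsingleton (LocCoh.H I 1 (M ⧸ N)) :=
          Groth.Agent.LocH.subsingleton_of_isPowerTorsion (I := I) 0 (ModuleCat.of A (M ⧸ N))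
            (fun x => ⟨0, fun a _ => Subsingleton.elim _ _⟩)
        exact ⟨⟨∅, Subsingleton.elim _ _⟩⟩
      obtain ⟨p, hp, hmax⟩ := (associatedPrimes.finite A (M ⧸ N)).exists_maximal (associatedPrimes.nonempty A (M ⧸ N))
      haveI := hp.isPrime
      -- the part killed by `p`
      let N' : Submodule A M := (Submodule.torsionBySet A (M ⧸ N) p).comap N.mkQ
      have hNN' : N ≤ N' := fun z hz => by
        change N.mkQ z ∈ Submodule.torsionBySet A (M ⧸ N) p
        rw [show N.mkQ z = 0 from (Submodule.Quotient.mk_eq_zero N).2 hz]; exact zero_mem _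
      have hlt : N < N' := by
        refine lt_of_le_of_ne hNN' fun heq => ?_
        obtain ⟨-, y, hy⟩ := (isAssociatedPrime_iff_exists_injective_linearMap p (M ⧸ N)).1 hp
        obtain ⟨z, hz⟩ := N.mkQ_surjective (y (Ideal.Quotient.mk p 1))
        have hzN' : z ∈ N' := by
          rw [Submodule.mem_comap]
          rw [hz, Submodule.mem_torsionBySet_iff]
          rintro ⟨a, ha⟩
          rw [← map_smul]
          have : a • Ideal.Quotient.mk p 1 = 0 := by
            rw [← Ideal.Quotient.mk_eq_mk, ← Submodule.Quotient.mk_smul, smul_eq_mul, mul_one, Submodule.Quotient.mk_eq_zero]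
            exact ha
          rw [this, map_zero]
        rw [← heq] at hzN'
        have h1 : y (Ideal.Quotient.mk p 1) = 0 := hz.symm.trans ((Submodule.Quotient.mk_eq_zero N).2 hzN')
        exact hp.isPrime.ne_top ((Ideal.eq_top_iff_one _).2 (Ideal.Quotient.eq_zero_iff_mem.1 (hy (h1.trans (map_zero y).symm))))
      -- `M/N'` embeds into finitely many copies of `M/N`
      have hass : associatedPrimes A (M ⧸ N') ⊆ S := by
        obtain ⟨k, g, hg⟩ := Submodule.fg_iff_exists_fin_generating_family.1 (IsNoetherian.noetherian p)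
        let ψ : M →ₗ[A] (Fin k → M ⧸ N) := LinearMap.pi fun i => g i • N.mkQ
        have hker : LinearMap.ker ψ = N' := by
          ext z
          change ψ z = 0 ↔ N.mkQ z ∈ Submodule.torsionBySet A (M ⧸ N) p
          rw [Submodule.mem_torsionBySet_iff, funext_iff]
          refine ⟨fun h a => ?_, fun h i => h ⟨g i, hg ▸ Submodule.subset_span ⟨i, rfl⟩⟩⟩
          have : (a : A) ∈ Submodule.span A (Set.range g) := hg ▸ a.2
          obtain ⟨c, hc⟩ := (Submodule.mem_span_range_iff_exists_fun A).1 this
          rw [← hc, Finset.sum_smul]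
          exact Finset.sum_eq_zero fun i _ => by rw [smul_assoc]; exact (congrArg (c i • ·) (h i)).trans (smul_zero _)
        let ψ' : (M ⧸ N') →ₗ[A] (Fin k → M ⧸ N) := N'.liftQ ψ hker.ge
        refine (associatedPrimes.subset_of_injective (f := ψ') (LinearMap.ker_eq_bot.1
          (Submodule.ker_liftQ_eq_bot _ _ _ hker.le))).trans ?_
        intro q hq
        obtain ⟨hqp, y, hy⟩ := (isAssociatedPrime_iff_exists_injective_linearMap q _).1 hq
        haveI := hqp
        obtain ⟨i, hi⟩ : ∃ i, y (Ideal.Quotient.mk q 1) i ≠ 0 := Function.ne_iff.1 fun h0 =>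
          hqp.ne_top ((Ideal.eq_top_iff_one _).2 (Ideal.Quotient.eq_zero_iff_mem.1 (hy (h0.trans (map_zero y).symm))))
        have : ∀ i, (Ideal.radical (Submodule.colon (⊥ : Submodule A (M ⧸ N)) {y (Ideal.Quotient.mk q 1) i})) ≥ q := fun i => by
          refine le_trans (fun a ha => ?_) Ideal.le_radical
          rw [Submodule.mem_colon_singleton, Submodule.mem_bot, ← Pi.smul_apply, ← map_smul,
            show a • Ideal.Quotient.mk q 1 = 0 by
              rw [← Ideal.Quotient.mk_eq_mk, ← Submodule.Quotient.mk_smul, smul_eq_mul, mul_one, Submodule.Quotient.mk_eq_zero]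
              exact ha,
            map_zero, Pi.zero_apply]
        refine hN ?_
        have hk : ∀ a : A, a • y (Ideal.Quotient.mk q 1) = 0 → a ∈ q := fun a ha => by
          rw [← map_smul] at ha
          have := hy (ha.trans (map_zero y).symm)
          rwa [← Ideal.Quotient.mk_eq_mk, ← Submodule.Quotient.mk_smul, smul_eq_mul, mul_one, Submodule.Quotient.mk_eq_zero] at this
        have : ∃ i, ∀ a : A, a • y (Ideal.Quotient.mk q 1) i = 0 → a ∈ q := by
          by_contra hcon
          push Not at hcon
          choose a ha haq using hcon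
          refine Ideal.IsPrime.prod_mem_iff.not.2 (fun ⟨i, _, h⟩ => haq i h) (hk (∏ i, a i) (funext fun i => ?_))
          obtain ⟨d, hd⟩ := Finset.dvd_prod_of_mem a (Finset.mem_univ i)
          rw [Pi.smul_apply, hd, mul_comm, mul_smul, ha, smul_zero, Pi.zero_apply]
        obtain ⟨j, hj⟩ := this
        refine (isAssociatedPrime_iff_exists_injective_linearMap q (M ⧸ N)).2 ⟨hqp, (LinearMap.proj j).comp y, ?_⟩
        rw [injective_iff_map_eq_zero]
        intro z hz
        obtain ⟨a, rfl⟩ := Ideal.Quotient.mk_surjective z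
        refine Ideal.Quotient.eq_zero_iff_mem.2 (hj a ?_)
        rw [← Pi.smul_apply, ← map_smul, ← Ideal.Quotient.mk_eq_mk, ← Submodule.Quotient.mk_smul, smul_eq_mul, mul_one]
        exact hz
      refine hmid N N' hNN' ?_ (ih N' hlt hass)
      -- a finite torsion-free `A/p`-module
      let Q := ↥N' ⧸ N.comap N'.subtype
      have htor : Module.IsTorsionBySet A Q p := fun z a => by
        obtain ⟨z, rfl⟩ := Submodule.Quotient.mk_surjective _ z
        rw [← Submodule.Quotient.mk_smul, Submodule.Quotient.mk_eq_zero]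
        have := (Submodule.mem_torsionBySet_iff _ _).1 (show N.mkQ (z : M) ∈ Submodule.torsionBySet A (M ⧸ N) p from z.2) a
        rw [← map_smul] at this
        exact (Submodule.Quotient.mk_eq_zero N).1 this
      letI : Module (A ⧸ p) Q := htor.module
      haveI : IsScalarTower A (A ⧸ p) Q := htor.isScalarTower
      haveI : Module.Finite (A ⧸ p) Q := Module.Finite.of_restrictScalars_finite A _ _
      haveI : Module.IsTorsionFree (A ⧸ p) Q := by
        refine Module.isTorsionFree_iff_smul_eq_zero.2 fun c z hcz => ?_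
        obtain ⟨a, rfl⟩ := Ideal.Quotient.mk_surjective c
        by_contra hcon
        rw [not_or] at hcon
        obtain ⟨ha, hz⟩ := hcon
        obtain ⟨z, rfl⟩ := Submodule.Quotient.mk_surjective _ z
        have hap : a ∉ p := fun h => ha (Ideal.Quotient.eq_zero_iff_mem.2 h)
        change a • (Submodule.Quotient.mk z : Q) = 0 at hcz
        rw [← Submodule.Quotient.mk_smul, Submodule.Quotient.mk_eq_zero] at hcz
        have hz' : N.mkQ (z : M) ≠ 0 := fun h => hz ((Submodule.Quotient.mk_eq_zero _).2 ((Submodule.Quotient.mk_eq_zero N).1 h))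
        obtain ⟨q, hq, hle⟩ := exists_le_isAssociatedPrime_of_isNoetherianRing A (N.mkQ (z : M)) hz'
        have hpq : p ≤ q := fun b hb => hle (Submodule.mem_colon_singleton.2 (by
          rw [Submodule.mem_bot]; exact (Submodule.mem_torsionBySet_iff _ _).1 (show N.mkQ (z : M) ∈ Submodule.torsionBySet A (M ⧸ N) p from z.2) ⟨b, hb⟩))
        exact hap (hmax hq hpq (hle (Submodule.mem_colon_singleton.2 (by
          rw [Submodule.mem_bot, ← map_smul]; exact (Submodule.Quotient.mk_eq_zero N).2 hcz))))
      obtain ⟨n, φ, hφ⟩ : ∃ (n : ℕ) (φ : Q →ₗ[A ⧸ p] (Fin n → A ⧸ p)), Function.Injective φ := by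
        obtain ⟨k, g, hg⟩ := Module.Finite.exists_fin (R := A ⧸ p) (M := Q)
        obtain ⟨s, hs, hmax'⟩ := exists_maximal_linearIndepOn (A ⧸ p) g
        have hc : ∀ i, ∃ c : A ⧸ p, c ≠ 0 ∧ c • g i ∈ Submodule.span (A ⧸ p) (g '' s) := fun i => by
          by_cases hi : i ∈ s
          · exact ⟨1, one_ne_zero, by rw [one_smul]; exact Submodule.subset_span ⟨i, hi, rfl⟩⟩
          · exact hmax' i hi
        choose c hc0 hc using hc
        have hC : ∀ z, (∏ i, c i) • z ∈ Submodule.span (A ⧸ p) (g '' s) := fun z => by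
          have hz : z ∈ Submodule.span (A ⧸ p) (Set.range g) := hg ▸ Submodule.mem_top
          induction hz using Submodule.span_induction with
          | mem x hx =>
            obtain ⟨i, rfl⟩ := hx
            rw [← Finset.prod_erase_mul _ _ (Finset.mem_univ i), mul_smul]
            exact Submodule.smul_mem _ _ (hc i)
          | zero => rw [smul_zero]; exact zero_mem _
          | add x y _ _ hx hy => rw [smul_add]; exact add_mem hx hy
          | smul a x _ hx => rw [smul_comm]; exact Submodule.smul_mem _ _ hx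
        let m : Q →ₗ[A ⧸ p] ↥(Submodule.span (A ⧸ p) (g '' s)) :=
          ((∏ i, c i) • LinearMap.id).codRestrict _ hC
        have hm : Function.Injective m := fun x y h =>
          smul_right_injective Q (Finset.prod_ne_zero_iff.2 fun i _ => hc0 i) (congrArg Subtype.val h)
        haveI : Fintype s := Fintype.ofFinite _
        let β := (Module.Basis.span hs).reindex (Fintype.equivFin s)
        let ε : ↥(Submodule.span (A ⧸ p) (g '' s)) ≃ₗ[A ⧸ p] _ := (LinearEquiv.ofEq _ _ (by
          congr 1; ext; simp)).trans β.equivFun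
        exact ⟨_, ε.toLinearMap.comp m, ε.injective.comp hm⟩
      have hpS := hN hp
      haveI : Module.Finite A (LocCoh.H I 1 (A ⧸ p)) := h p hpS.1 hpS.2
      have hF : ∀ n, Module.Finite A (LocCoh.H I 1 (Fin n → A ⧸ p)) := by
        intro n
        induction n with
        | zero =>
          haveI : Subsingleton (LocCoh.H I 1 (Fin 0 → A ⧸ p)) :=
            Groth.Agent.LocH.subsingleton_of_isPowerTorsion (I := I) 0 (ModuleCat.of A (Fin 0 → A ⧸ p))
              (fun x => ⟨0, fun a _ => @Subsingleton.elim (Fin 0 → A ⧸ p) _ _ _⟩)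
          exact ⟨⟨∅, Subsingleton.elim _ _⟩⟩
        | succ n ihn =>
          refine hmid' (LinearMap.single A (fun _ : Fin (n + 1) => A ⧸ p) 0) (LinearMap.funLeft A (A ⧸ p) Fin.succ)
            (fun x y h => by simpa using congrFun h 0) (LinearMap.funLeft_surjective_of_injective _ _ _ (Fin.succ_injective n)) ?_ ‹_› ihn
          intro v
          constructor
          · intro hv
            refine ⟨v 0, ?_⟩
            ext l
            cases l using Fin.cases with
            | zero => simp
            | succ l => simpa [LinearMap.funLeft] using (congrFun hv l).symm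
          · rintro ⟨c, rfl⟩
            ext l
            simp [LinearMap.funLeft]
      haveI := hsub (LinearMap.range (φ.restrictScalars A)) (hF n)
      exact Module.Finite.equiv ((localCohomology I 1).mapIso (LinearEquiv.ofInjective (φ.restrictScalars A) hφ).toModuleIso).toLinearEquiv.symm
  -- reduce to a torsion-free quotient
  let T := DRing.torsionSub I M
  obtain ⟨N₀, hN₀⟩ : ∃ N₀ : ℕ, ∀ a ∈ I ^ N₀, ∀ t ∈ T, a • t = 0 := by
    obtain ⟨k, g, hg⟩ := Submodule.fg_iff_exists_fin_generating_family.1 (IsNoetherian.noetherian T)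
    choose f hf using fun i => (show g i ∈ T from hg ▸ Submodule.subset_span ⟨i, rfl⟩)
    refine ⟨Finset.univ.sup f, fun a ha t ht => ?_⟩
    rw [← hg] at ht
    induction ht using Submodule.span_induction with
    | mem x hx =>
      obtain ⟨i, rfl⟩ := hx
      exact hf i a (Ideal.pow_le_pow_right (Finset.le_sup (Finset.mem_univ i)) ha)
    | zero => exact smul_zero _
    | add x y _ _ hx hy => rw [smul_add, hx, hy, add_zero]
    | smul c x _ hx => rw [smul_comm, hx, smul_zero]
  have hT' : associatedPrimes A (M ⧸ T) ⊆ S := by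
    intro q hq
    obtain ⟨hqp, y, hy⟩ := (isAssociatedPrime_iff_exists_injective_linearMap q _).1 hq
    haveI := hqp
    obtain ⟨z, hz⟩ := T.mkQ_surjective (y (Ideal.Quotient.mk q 1))
    have hann : ∀ a : A, a • z ∈ T ↔ a ∈ q := fun a => by
      rw [← Submodule.Quotient.mk_eq_zero, Submodule.Quotient.mk_smul, ← Submodule.mkQ_apply, hz, ← map_smul,
        map_eq_zero_iff _ hy, ← Ideal.Quotient.mk_eq_mk, ← Submodule.Quotient.mk_smul, smul_eq_mul, mul_one,
        Submodule.Quotient.mk_eq_zero]
    have hIq : ¬ I ≤ q := fun hIq => hqp.ne_top ((Ideal.eq_top_iff_one _).2 ((hann 1).1 (by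
      rw [one_smul]
      refine ⟨N₀ + 1, fun a ha => ?_⟩
      rw [pow_succ] at ha
      refine Submodule.mul_induction_on ha (fun b hb c hc => ?_) fun b c hb hc => by rw [add_smul, hb, hc, add_zero]
      rw [mul_smul]
      exact hN₀ b hb _ ((hann c).2 (hIq hc)))))
    obtain ⟨a, haI, haq⟩ := Set.not_subset.1 hIq
    refine ⟨(isAssociatedPrime_iff_exists_injective_linearMap q M).2 ⟨hqp,
      Submodule.liftQ q (LinearMap.toSpanSingleton A M (a ^ N₀ • z)) fun r hr => ?_, ?_⟩, hIq⟩
    · rw [LinearMap.mem_ker, LinearMap.toSpanSingleton_apply, smul_comm]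
      exact hN₀ _ (Ideal.pow_mem_pow haI N₀) _ ((hann r).2 hr)
    · rw [← LinearMap.ker_eq_bot, Submodule.ker_liftQ_eq_bot]
      intro r hr
      rw [LinearMap.mem_ker, LinearMap.toSpanSingleton_apply, ← mul_smul] at hr
      have := (hann (r * a ^ N₀)).1 (by rw [hr]; exact zero_mem _)
      exact (hqp.mem_or_mem this).resolve_right fun h => haq (hqp.mem_of_pow_mem _ h)
  haveI := key T hT'
  exact Module.Finite.equiv (LinearEquiv.ofBijective _ (Groth.Agent.LocH.map_mkQ_bijective (I := I) (ModuleCat.of A M) 0)).symm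

end Groth.Agent.H4Easy
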