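import Mathlib

/-! Universal effective epimorphisms: composition, descent, kernel pairs. -/

set_option autoImplicit false
set_option linter.style.haveILetI false

open CategoryTheory CategoryTheory.Limits CategoryTheory.MonoidalCategory CategoryTheory.CartesianMonoidalCategory CategoryTheory.MonObj

universe w v₁ u₁

namespace Groth.Agent.H4Easy


section
variable {C : Type u₁} [Category.{v₁} C]

theorem effectiveEpi_of_universally {X Y : C} {f : X ⟶ Y}
    (h : (MorphismProperty.universally (fun (A B : C) (p : A ⟶ B) => EffectiveEpi p)) f) : EffectiveEpi f :=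
  MorphismProperty.universally_le _ _ h

variable [HasPullbacks C]

theorem effectiveEpi_comp_of_universally_epi {U T S : C} (v : U ⟶ T) (u : T ⟶ S) [EffectiveEpi u] [EffectiveEpi v]
    (hv : MorphismProperty.universally (MorphismProperty.epimorphisms C) v) : EffectiveEpi (v ≫ u) := by
  have hd : ∀ {W : C} (e : U ⟶ W), (∀ {Z : C} (g₁ g₂ : Z ⟶ U), g₁ ≫ v ≫ u = g₂ ≫ v ≫ u → g₁ ≫ e = g₂ ≫ e) →
      ∃ m : S ⟶ W, (v ≫ u) ≫ m = e := by
    intro W e he
    let e₁ := EffectiveEpi.desc v e fun g₁ g₂ h => he g₁ g₂ (by rw [← Category.assoc, h, Category.assoc])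
    have he₁ : v ≫ e₁ = e := EffectiveEpi.fac _ _ _
    refine ⟨EffectiveEpi.desc u e₁ fun {Z} g₁ g₂ h => ?_, by rw [Category.assoc, EffectiveEpi.fac, he₁]⟩
    haveI : Epi (pullback.fst g₁ v) := hv _ _ _ (IsPullback.of_hasPullback g₁ v)
    haveI : Epi (pullback.fst (pullback.fst g₁ v ≫ g₂) v) := hv _ _ _ (IsPullback.of_hasPullback _ v)
    rw [← cancel_epi (pullback.fst g₁ v), ← cancel_epi (pullback.fst (pullback.fst g₁ v ≫ g₂) v)]
    have k₁ : pullback.fst (pullback.fst g₁ v ≫ g₂) v ≫ pullback.fst g₁ v ≫ g₁ =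
        (pullback.fst (pullback.fst g₁ v ≫ g₂) v ≫ pullback.snd g₁ v) ≫ v := by
      rw [Category.assoc, pullback.condition]
    have k₂ : pullback.fst (pullback.fst g₁ v ≫ g₂) v ≫ pullback.fst g₁ v ≫ g₂ =
        pullback.snd (pullback.fst g₁ v ≫ g₂) v ≫ v := pullback.condition
    have := he (pullback.fst (pullback.fst g₁ v ≫ g₂) v ≫ pullback.snd g₁ v)
      (pullback.snd (pullback.fst g₁ v ≫ g₂) v) (by
        rw [← Category.assoc, ← k₁, ← Category.assoc (pullback.snd _ _), ← k₂]
        simp only [Category.assoc, h])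
    simp only [← he₁, Category.assoc] at this
    rwa [← reassoc_of% k₁, ← reassoc_of% k₂] at this
  refine ⟨⟨⟨fun e h => (hd e h).choose, fun e h => (hd e h).choose_spec, fun e h m hm => ?_⟩⟩⟩
  rw [← cancel_epi u, ← cancel_epi v, ← Category.assoc, hm, ← Category.assoc, (hd e h).choose_spec]

local notation "UEE" => MorphismProperty.universally (fun (A B : C) (p : A ⟶ B) => EffectiveEpi p)

theorem universally_epi_of_universally_effectiveEpi {X Y : C} {f : X ⟶ Y} (h : UEE f) :
    MorphismProperty.universally (MorphismProperty.epimorphisms C) f := fun _ _ i₁ i₂ f' sq => by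
  have : EffectiveEpi f' := h i₁ i₂ f' sq
  exact MorphismProperty.epimorphisms.infer_property f'

theorem universally_effectiveEpi_comp {U T S : C} (v : U ⟶ T) (u : T ⟶ S) (hu : UEE u) (hv : UEE v) :
    UEE (v ≫ u) := by
  intro U' S' i₁ i₂ f' sq
  let T' := pullback i₂ u
  let v' : U' ⟶ T' := pullback.lift f' (i₁ ≫ v) (by rw [Category.assoc]; exact sq.w)
  have h1 : v' ≫ pullback.fst i₂ u = f' := pullback.lift_fst _ _ _
  have sqv : IsPullback v' i₁ (pullback.snd i₂ u) v :=
    IsPullback.of_right (by rw [h1]; exact sq) (pullback.lift_snd _ _ _) (IsPullback.of_hasPullback i₂ u)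
  haveI : EffectiveEpi v' := hv _ _ _ sqv
  haveI : EffectiveEpi (pullback.fst i₂ u) := hu _ _ _ (IsPullback.of_hasPullback i₂ u)
  have sqv' : MorphismProperty.universally (MorphismProperty.epimorphisms C) v' := by
    intro A B j₁ j₂ g sq'
    exact universally_epi_of_universally_effectiveEpi hv _ _ _ (sq'.paste_vert sqv)
  rw [← h1]
  exact effectiveEpi_comp_of_universally_epi v' _ sqv'

theorem universally_effectiveEpi_of_comp {U T S : C} (v : U ⟶ T) (u : T ⟶ S) (h : UEE (v ≫ u)) : UEE u := by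
  intro T' S' i₁ i₂ u' sq
  let v' : pullback i₁ v ⟶ T' := pullback.fst i₁ v
  have sqc : IsPullback (v' ≫ u') (pullback.snd i₁ v) i₂ (v ≫ u) :=
    (IsPullback.of_hasPullback i₁ v).paste_horiz sq
  haveI : EffectiveEpi (v' ≫ u') := h _ _ _ sqc
  have sqP := (IsPullback.of_hasPullback u' (v' ≫ u')).paste_vert sqc
  haveI : EffectiveEpi (pullback.fst u' (v' ≫ u')) := h _ _ _ sqP
  haveI : Epi u' := epi_of_epi v' u'
  have hd : ∀ {W : C} (e : T' ⟶ W), (∀ {Z : C} (g₁ g₂ : Z ⟶ T'), g₁ ≫ u' = g₂ ≫ u' → g₁ ≫ e = g₂ ≫ e) →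
      ∃ m : S' ⟶ W, u' ≫ m = e := by
    intro W e he
    let d := EffectiveEpi.desc (v' ≫ u') (v' ≫ e) fun g₁ g₂ h => by
      rw [← Category.assoc, ← Category.assoc]
      exact he _ _ (by simpa only [Category.assoc] using h)
    have hd : (v' ≫ u') ≫ d = v' ≫ e := EffectiveEpi.fac _ _ _
    refine ⟨d, ?_⟩
    rw [← cancel_epi (pullback.fst u' (v' ≫ u')), he (pullback.fst u' (v' ≫ u'))
      (pullback.snd u' (v' ≫ u') ≫ v') (by rw [pullback.condition, Category.assoc]), pullback.condition_assoc,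
      hd, Category.assoc]
  exact ⟨⟨⟨fun e he => (hd e he).choose, fun e he => (hd e he).choose_spec, fun e he m hm => by
    rw [← cancel_epi u', hm, (hd e he).choose_spec]⟩⟩⟩

theorem universally_effectiveEpi_iff_pullback {S' S T : C} (g : S' ⟶ S) (hg : UEE g) (u : T ⟶ S) :
    UEE u ↔ UEE (pullback.snd u g) := by
  have hstab : ∀ {A B A' B' : C} {f : A ⟶ B} {f' : A' ⟶ B'} {i₁ : A' ⟶ A} {i₂ : B' ⟶ B},
      IsPullback f' i₁ i₂ f → UEE f → UEE f' := fun sq hf _ _ _ _ _ sq' => hf _ _ _ (sq'.paste_vert sq)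
  refine ⟨fun hu => hstab (IsPullback.of_hasPullback u g).flip hu, fun h => ?_⟩
  refine universally_effectiveEpi_of_comp (pullback.fst u g) u ?_
  rw [pullback.condition]
  exact universally_effectiveEpi_comp _ _ hg h

theorem universally_effectiveEpi_prodMap [HasBinaryProducts C] {X Y X' Y' : C} (u : X ⟶ Y) (u' : X' ⟶ Y')
    (hu : UEE u) (hu' : UEE u') : UEE (prod.map u u') := by
  have hstab : ∀ {A B A' B' : C} {f : A ⟶ B} {f' : A' ⟶ B'} {i₁ : A' ⟶ A} {i₂ : B' ⟶ B},
      IsPullback f' i₁ i₂ f → UEE f → UEE f' := fun sq hf _ _ _ _ _ sq' => hf _ _ _ (sq'.paste_vert sq)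
  rw [show prod.map u u' = prod.map u (𝟙 X') ≫ prod.map (𝟙 Y) u' by rw [prod.map_map, Category.comp_id, Category.id_comp]]
  refine universally_effectiveEpi_comp _ _ (hstab (i₁ := prod.snd) (i₂ := prod.snd) ?_ hu')
    (hstab (i₁ := prod.fst) (i₂ := prod.fst) ?_ hu)
  · refine IsPullback.of_isLimit' ⟨by simp [prod.lift_fst, prod.lift_snd, prod.map_fst, prod.map_snd]⟩ (PullbackCone.IsLimit.mk _
      (fun s => prod.lift (s.fst ≫ prod.fst) s.snd) (fun s => ?_) (fun s => by simp [prod.lift_fst, prod.lift_snd, prod.map_fst, prod.map_snd]) fun s m h₁ h₂ => ?_)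
    · ext <;> simp [prod.lift_fst, prod.lift_snd, prod.map_fst, prod.map_snd, ← s.condition]
    · ext
      · simp [prod.lift_fst, prod.lift_snd, prod.map_fst, prod.map_snd, ← h₁]
      · simp [prod.lift_fst, prod.lift_snd, prod.map_fst, prod.map_snd, ← h₂]
  · refine IsPullback.of_isLimit' ⟨by simp [prod.lift_fst, prod.lift_snd, prod.map_fst, prod.map_snd]⟩ (PullbackCone.IsLimit.mk _
      (fun s => prod.lift s.snd (s.fst ≫ prod.snd)) (fun s => ?_) (fun s => by simp [prod.lift_fst, prod.lift_snd, prod.map_fst, prod.map_snd]) fun s m h₁ h₂ => ?_)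
    · ext <;> simp [prod.lift_fst, prod.lift_snd, prod.map_fst, prod.map_snd, ← s.condition]
    · ext
      · simp [prod.lift_fst, prod.lift_snd, prod.map_fst, prod.map_snd, ← h₂]
      · simp [prod.lift_fst, prod.lift_snd, prod.map_fst, prod.map_snd, ← h₁]

theorem isKernelPair_prodMap [HasBinaryProducts C] {R X B R' X' B' : C} {p₁ p₂ : R ⟶ X} {p₁' p₂' : R' ⟶ X'}
    {π : X ⟶ B} {π' : X' ⟶ B'} (h : IsKernelPair π p₁ p₂) (h' : IsKernelPair π' p₁' p₂') :
    IsKernelPair (prod.map π π') (prod.map p₁ p₁') (prod.map p₂ p₂') := by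
  refine IsPullback.of_isLimit' ⟨by rw [prod.map_map, prod.map_map, h.w, h'.w]⟩ (PullbackCone.IsLimit.mk _
    (fun s => prod.lift
      (h.lift (s.fst ≫ prod.fst) (s.snd ≫ prod.fst) (by simpa using congrArg (· ≫ Limits.prod.fst) s.condition))
      (h'.lift (s.fst ≫ prod.snd) (s.snd ≫ prod.snd) (by simpa using congrArg (· ≫ Limits.prod.snd) s.condition)))
    (fun s => ?_) (fun s => ?_) fun s m h₁ h₂ => ?_)
  · ext <;> simp [prod.lift_fst, prod.lift_snd, prod.map_fst, prod.map_snd]
  · ext <;> simp [prod.lift_fst, prod.lift_snd, prod.map_fst, prod.map_snd]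
  · ext
    · refine h.hom_ext ?_ ?_ <;> simp [prod.lift_fst, prod.lift_snd, prod.map_fst, prod.map_snd, ← h₁, ← h₂]
    · refine h'.hom_ext ?_ ?_ <;> simp [prod.lift_fst, prod.lift_snd, prod.map_fst, prod.map_snd, ← h₁, ← h₂]

theorem mono_of_isIso_mapDesc {S' S T : C} (f : S' ⟶ S) (hf : UEE f) (g : S ⟶ T)
    [IsIso (pullback.mapDesc f f g)] : Mono g := by
  refine ⟨fun {Z} a b h => ?_⟩
  haveI : EffectiveEpi (pullback.fst a f) := hf _ _ _ (IsPullback.of_hasPullback a f)
  haveI : EffectiveEpi (pullback.fst (pullback.fst a f ≫ b) f) := hf _ _ _ (IsPullback.of_hasPullback _ f)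
  rw [← cancel_epi (pullback.fst a f), ← cancel_epi (pullback.fst (pullback.fst a f ≫ b) f)]
  set a' := pullback.fst (pullback.fst a f ≫ b) f ≫ pullback.snd a f with ha'
  set b' := pullback.snd (pullback.fst a f ≫ b) f with hb'
  have k₁ : pullback.fst (pullback.fst a f ≫ b) f ≫ pullback.fst a f ≫ a = a' ≫ f := by
    rw [ha', Category.assoc, pullback.condition]
  have k₂ : pullback.fst (pullback.fst a f ≫ b) f ≫ pullback.fst a f ≫ b = b' ≫ f := pullback.condition
  have hw : a' ≫ f ≫ g = b' ≫ f ≫ g := by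
    rw [← Category.assoc, ← k₁, ← Category.assoc b', ← k₂]
    simp only [Category.assoc, h]
  obtain ⟨l, hl⟩ : ∃ l, l ≫ pullback.mapDesc f f g = pullback.lift a' b' hw :=
    ⟨pullback.lift a' b' hw ≫ inv (pullback.mapDesc f f g), by simp⟩
  have l₁ : l ≫ pullback.fst f f = a' := by
    simpa [pullback.mapDesc, pullback.map, pullback.lift_fst, pullback.lift_snd] using congrArg (· ≫ pullback.fst (f ≫ g) (f ≫ g)) hl
  have l₂ : l ≫ pullback.snd f f = b' := by
    simpa [pullback.mapDesc, pullback.map, pullback.lift_fst, pullback.lift_snd] using congrArg (· ≫ pullback.snd (f ≫ g) (f ≫ g)) hl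
  rw [k₁, k₂, ← l₁, ← l₂, Category.assoc, Category.assoc, pullback.condition]

theorem mono_iff_isKernelPair_of_ueer {R X Z : C} {p₁ p₂ : R ⟶ X}
    (e : UniversallyEffectiveEquivalenceRelation p₁ p₂) (f : X ⟶ Z) (g : e.B ⟶ Z) (hg : e.π ≫ g = f) :
    Mono g ↔ IsKernelPair f p₁ p₂ := by
  subst hg
  refine ⟨fun _ => e.isKernelPair.comp_of_mono, fun h => ?_⟩
  haveI : IsIso (pullback.mapDesc e.π e.π g) := by
    have : pullback.mapDesc e.π e.π g = e.isKernelPair.isoPullback.inv ≫ h.isoPullback.hom := by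
      ext <;> simp [pullback.mapDesc, pullback.map, pullback.lift_fst, pullback.lift_snd]
    rw [this]; infer_instance
  exact mono_of_isIso_mapDesc e.π e.universally_effectiveEpi_π g

theorem nonempty_hom_iff_pullback {S' S : C} (f : S' ⟶ S) (hf : UEE f) (X Y : Over S) [Mono Y.hom] :
    Nonempty (X ⟶ Y) ↔ Nonempty ((Over.pullback f).obj X ⟶ (Over.pullback f).obj Y) := by
  refine ⟨fun ⟨g⟩ => ⟨(Over.pullback f).map g⟩, fun ⟨g⟩ => ?_⟩
  haveI : EffectiveEpi (pullback.fst X.hom f) := hf _ _ _ (IsPullback.of_hasPullback X.hom f)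
  have hg : g.left ≫ pullback.snd Y.hom f = pullback.snd X.hom f := Over.w g
  obtain ⟨e, he⟩ : ∃ e : pullback X.hom f ⟶ Y.left, e ≫ Y.hom = pullback.fst X.hom f ≫ X.hom := by
    refine ⟨g.left ≫ pullback.fst Y.hom f, ?_⟩
    rw [Category.assoc, pullback.condition, ← Category.assoc, hg, ← pullback.condition]
  let d : X.left ⟶ Y.left := EffectiveEpi.desc (pullback.fst X.hom f) e fun g₁ g₂ h => by
    rw [← cancel_mono Y.hom, Category.assoc, Category.assoc, he, reassoc_of% h]
  refine ⟨Over.homMk d ?_⟩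
  rw [← cancel_epi (pullback.fst X.hom f), ← Category.assoc, EffectiveEpi.fac, he]

theorem isIso_mono_iff_pullback {S' S : C} (f : S' ⟶ S) (hf : UEE f) {X Y : Over S} (g : X ⟶ Y) :
    (IsIso g ↔ IsIso ((Over.pullback f).map g)) ∧ (Mono g ↔ Mono ((Over.pullback f).map g)) := by
  have hmono : Mono ((Over.pullback f).map g) → Mono g := by
    intro hm
    refine ⟨fun {Z} a b h => ?_⟩
    have hab : (Over.pullback f).map a = (Over.pullback f).map b := by
      rw [← cancel_mono ((Over.pullback f).map g), ← Functor.map_comp, ← Functor.map_comp, h]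
    haveI : EffectiveEpi (pullback.fst Z.hom f) := hf _ _ _ (IsPullback.of_hasPullback Z.hom f)
    ext
    rw [← cancel_epi (pullback.fst Z.hom f)]
    simpa [Over.pullback, pullback.lift_fst, pullback.lift_snd] using congrArg (fun m => m.left ≫ pullback.fst X.hom f) hab
  refine ⟨⟨fun _ => inferInstance, fun hi => ?_⟩, ⟨fun _ => inferInstance, hmono⟩⟩
  haveI : Mono g := hmono inferInstance
  haveI : EffectiveEpi (pullback.fst Y.hom f) := hf _ _ _ (IsPullback.of_hasPullback Y.hom f)
  have h1 : (inv ((Over.pullback f).map g)).left ≫ ((Over.pullback f).map g).left = 𝟙 _ := by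
    rw [← Over.comp_left, IsIso.inv_hom_id]; rfl
  obtain ⟨e, he⟩ : ∃ e : pullback Y.hom f ⟶ X.left, e ≫ g.left = pullback.fst Y.hom f := by
    refine ⟨(inv ((Over.pullback f).map g)).left ≫ pullback.fst X.hom f, ?_⟩
    have h2 : ((Over.pullback f).map g).left ≫ pullback.fst Y.hom f = pullback.fst X.hom f ≫ g.left := by
      simp [Over.pullback, pullback.lift_fst, pullback.lift_snd]
    rw [Category.assoc, ← h2, ← Category.assoc, h1]
    exact Category.id_comp _
  haveI : Mono g.left := inferInstance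
  let d : Y.left ⟶ X.left := EffectiveEpi.desc (pullback.fst Y.hom f) e fun g₁ g₂ h => by
    rw [← cancel_mono g.left, Category.assoc, Category.assoc, he, h]
  have hd : d ≫ g.left = 𝟙 _ := by
    rw [← cancel_epi (pullback.fst Y.hom f), ← Category.assoc, EffectiveEpi.fac, he, Category.comp_id]
  refine ⟨Over.homMk d (by rw [← Over.w g, ← Category.assoc, hd, Category.id_comp]), ?_, ?_⟩
  · rw [← cancel_mono g]
    ext
    simp [hd]
  · ext
    simp [hd]

end

section
variable {C : Type u₁} [Category.{v₁} C]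

theorem splitEpi_descent {T S : C} (u : T ⟶ S) [IsSplitEpi u] [HasPullback u u] (F : Cᵒᵖ ⥤ Type w) :
    Function.Injective (F.map u.op) ∧ ∀ y : F.obj (Opposite.op T),
      F.map (pullback.fst u u).op y = F.map (pullback.snd u u).op y → y ∈ Set.range (F.map u.op) := by
  have key : ∀ z, F.map (section_ u).op (F.map u.op z) = z := fun z => by
    rw [← FunctorToTypes.map_comp_apply, ← op_comp, IsSplitEpi.id, op_id, FunctorToTypes.map_id_apply]
  refine ⟨fun a b h => by rw [← key a, ← key b, h], fun y h => ⟨F.map (section_ u).op y, ?_⟩⟩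
  have := congrArg (F.map (pullback.lift (u ≫ section_ u) (𝟙 T) (by simp)).op) h
  rw [← FunctorToTypes.map_comp_apply, ← FunctorToTypes.map_comp_apply, ← op_comp, ← op_comp,
    pullback.lift_fst, pullback.lift_snd, op_id, FunctorToTypes.map_id_apply, op_comp,
    FunctorToTypes.map_comp_apply] at this
  exact this

theorem isKernelPair_monHom [CartesianMonoidalCategory C] [HasPullbacks C] {G G' : C} [GrpObj G] [GrpObj G']
    (f : G ⟶ G') [IsMonHom f] :
    IsKernelPair f (fst G (pullback f η[G'])) ((G ◁ pullback.fst f η[G']) ≫ μ[G]) := by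
  let k : pullback f η[G'] ⟶ G := pullback.fst f η[G']
  have hk : k ≫ f = 1 := by
    show pullback.fst f η[G'] ≫ f = 1
    rw [pullback.condition, Hom.one_def, toUnit_unique (toUnit _) (pullback.snd f η[G'])]
  have hsnd : (G ◁ pullback.fst f η[G']) ≫ μ[G] = fst G (pullback f η[G']) * (snd G _ ≫ k) := by
    rw [Hom.mul_def]
    congr 1
    ext <;> simp [k]
  rw [hsnd]
  refine IsPullback.of_isLimit' ⟨by rw [MonObj.mul_comp, Category.assoc, hk, MonObj.comp_one, _root_.mul_one]⟩
    (PullbackCone.IsLimit.mk _ (fun s => lift s.fst (pullback.lift (s.fst⁻¹ * s.snd) (toUnit _) ?_))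
      (fun s => ?_) (fun s => ?_) fun s m h₁ h₂ => ?_)
  · rw [MonObj.mul_comp, GrpObj.inv_comp, ← s.condition, inv_mul_cancel, Hom.one_def]
  · simp
  · rw [MonObj.comp_mul, lift_fst, lift_snd_assoc]
    show s.fst * (pullback.lift _ _ _ ≫ pullback.fst f η[G']) = _
    rw [pullback.lift_fst, mul_inv_cancel_left]
  · ext
    · simpa using h₁
    · simp only [Category.assoc, lift_snd_assoc]
      rw [pullback.lift_fst, ← h₁, ← h₂, MonObj.comp_mul, inv_mul_cancel_left]

end

end Groth.Agent.H4Easy
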