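import Mathlib
import Groth.Prelude.Def_CAlgX
import Groth.Prelude.Def_W4bk5brsh16IT
import Groth.Prelude.Def_Coh
import Groth.Agent.QC.SpecFT

/-!
# Short statements: injective modules under flat base change, semilocal Prüfer domains,
fibre products of complete local rings, minors of direct summands, finite type tilde modules
-/

set_option autoImplicit false
set_option linter.style.haveILetI false

open scoped TensorProduct

universe u

namespace Groth.Agent.H4Easy

theorem injective_flatTensor_hom_surjective (R : Type u) [CommRing R] [IsNoetherianRing R] (R' : Type u) [CommRing R']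
    [Algebra R R'] (I : Ideal R) [Module.Flat R R'] (E : Type u) [AddCommGroup E] [Module R E] [Module.Injective R E] :
    Function.Surjective (((LinearMap.lsmul R' (R' ⊗[R] E)).domRestrict (Ideal.map (algebraMap R R') I)).flip) := by
  classical
  obtain ⟨k, a, ha⟩ := Submodule.fg_iff_exists_fin_generating_family.1 (IsNoetherian.noetherian I)
  let A : (Fin k → R) →ₗ[R] R := Fintype.linearCombination R a
  obtain ⟨l, c, hc⟩ := Submodule.fg_iff_exists_fin_generating_family.1 (IsNoetherian.noetherian (LinearMap.ker A))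
  let u : E →ₗ[R] (Fin k → E) := LinearMap.pi fun i => a i • LinearMap.id
  let v : (Fin k → E) →ₗ[R] (Fin l → E) := LinearMap.pi fun j => ∑ i, c j i • LinearMap.proj i
  have hcker : ∀ j, ∑ i, c j i * a i = 0 := fun j => by
    have : c j ∈ LinearMap.ker A := hc ▸ Submodule.subset_span ⟨j, rfl⟩
    simpa [A, Fintype.linearCombination_apply] using this
  have hexact : Function.Exact u v := by
    rw [LinearMap.exact_iff]
    refine le_antisymm (fun e he => ?_) ?_
    · let ψ : (Fin k → R) →ₗ[R] E := Fintype.linearCombination R e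
      have hψ : LinearMap.ker A.rangeRestrict ≤ LinearMap.ker ψ := by
        rw [LinearMap.ker_rangeRestrict, ← hc, Submodule.span_le]
        rintro _ ⟨j, rfl⟩
        simpa [ψ, v, Fintype.linearCombination_apply] using congrFun (LinearMap.mem_ker.1 he) j
      let q : (Fin k → R) →ₗ[R] LinearMap.range A := A.rangeRestrict
      let χ : LinearMap.range A →ₗ[R] E := ((LinearMap.ker q).liftQ ψ hψ).comp
        (q.quotKerEquivOfSurjective A.surjective_rangeRestrict).symm.toLinearMap
      obtain ⟨g, hg⟩ := Module.Injective.out (R := R) (Q := E) (LinearMap.range A).subtype (Submodule.subtype_injective _) χ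
      refine ⟨g 1, funext fun i => ?_⟩
      change a i • g 1 = e i
      rw [← map_smul, smul_eq_mul, mul_one]
      have h1 : χ (q (Pi.single i 1)) = ψ (Pi.single i 1) := by simp [χ]
      have h2 := (hg (q (Pi.single i 1))).trans h1
      simpa [q, A, ψ, Fintype.linearCombination_apply, Pi.single_apply] using h2
    · rintro _ ⟨x, rfl⟩
      rw [LinearMap.mem_ker]
      funext j
      simp [u, v, smul_smul, ← Finset.sum_smul, hcker]
  intro φ
  let J := Ideal.map (algebraMap R R') I
  have haJ : ∀ i, algebraMap R R' (a i) ∈ J := fun i =>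
    Ideal.mem_map_of_mem _ (ha ▸ Submodule.subset_span ⟨i, rfl⟩)
  let π : ∀ {ι : Type} [Fintype ι] [DecidableEq ι], R' ⊗[R] (ι → E) ≃ₗ[R] (ι → R' ⊗[R] E) :=
    fun {ι} _ _ => (TensorProduct.piRight R R R' (fun _ : ι => E))
  let e : Fin k → R' ⊗[R] E := fun i => φ ⟨_, haJ i⟩
  have hπv : ∀ z j, π (v.lTensor R' z) j = ∑ i, c j i • π z i := by
    intro z j
    induction z using TensorProduct.induction_on with
    | zero => simp
    | add x y hx hy => simp only [map_add, Pi.add_apply, hx, hy, smul_add, Finset.sum_add_distrib]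
    | tmul r f => simp [π, v, TensorProduct.tmul_sum, TensorProduct.tmul_smul]
  have hπu : ∀ z i, π (u.lTensor R' z) i = a i • z := by
    intro z i
    induction z using TensorProduct.induction_on with
    | zero => simp
    | add x y hx hy => simp only [map_add, Pi.add_apply, hx, hy, smul_add]
    | tmul r f => simp [π, u, TensorProduct.tmul_smul]
  have hv0 : v.lTensor R' (π.symm e) = 0 := by
    apply π.injective
    funext j
    rw [hπv, LinearEquiv.apply_symm_apply, map_zero, Pi.zero_apply]
    calc ∑ i, c j i • φ ⟨_, haJ i⟩ = φ (∑ i, algebraMap R R' (c j i) • (⟨_, haJ i⟩ : J)) := by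
          rw [map_sum]
          exact Finset.sum_congr rfl fun i _ => by rw [map_smul, algebraMap_smul]
      _ = φ 0 := by
          congr 1
          apply Subtype.ext
          simp only [Submodule.coe_sum, Submodule.coe_smul, smul_eq_mul, Submodule.coe_zero]
          rw [show ∑ i, algebraMap R R' (c j i) * algebraMap R R' (a i) = algebraMap R R' (∑ i, c j i * a i) by simp,
            hcker, map_zero]
      _ = 0 := map_zero φ
  obtain ⟨x, hx⟩ := (Module.Flat.lTensor_exact R' hexact _).1 hv0
  refine ⟨x, LinearMap.ext fun ⟨y, hy⟩ => ?_⟩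
  change y • x = φ ⟨y, hy⟩
  have hJ : J = Ideal.span (Set.range fun i => algebraMap R R' (a i)) := by
    simp only [J]
    rw [← ha]
    change Ideal.map _ (Ideal.span _) = _
    rw [Ideal.map_span, ← Set.range_comp]; rfl
  have hy' : y ∈ J := hy
  rw [hJ] at hy'
  obtain ⟨s, hs⟩ := Ideal.mem_span_range_iff_exists_fun.1 hy'
  rw [show (⟨y, hy⟩ : J) = ∑ i, s i • (⟨_, haJ i⟩ : J) from Subtype.ext (by simp; exact hs.symm), map_sum]
  rw [← hs, Finset.sum_smul]
  refine Finset.sum_congr rfl fun i _ => ?_
  rw [map_smul, mul_smul, algebraMap_smul, ← hπu x i, hx, LinearEquiv.apply_symm_apply]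

theorem prufer_semilocal (R : Type u) [CommRing R] [IsDomain R]
    (hR : ∀ (p : Ideal R) [p.IsPrime], ValuationRing (Localization.AtPrime p))
    (hfin : Finite (MaximalSpectrum R)) (hdim : ringKrullDim R < ⊤) (m : Ideal R) [m.IsMaximal] :
    (∃ a : R, ∀ (p : Ideal R), p.IsPrime → (a ∈ p ↔ p = m)) ∧
      ∃ b : R, b ∉ m ∧ IsLocalization.AtPrime (Localization.Away b) m := by
  classical
  have hbot : ringKrullDim R ≠ ⊥ := fun h => absurd (h ▸ ringKrullDim_nonneg_of_nontrivial (R := R)) (by simp)
  haveI : FiniteRingKrullDim R := finiteRingKrullDim_iff_ne_bot_and_top.2 ⟨hbot, hdim.ne⟩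
  obtain ⟨D, hD⟩ := WithBot.ne_bot_iff_exists.1 hbot
  have hDtop : D ≠ ⊤ := fun h => hdim.ne (by rw [← hD, h]; rfl)
  have hchain : ∀ (M : Ideal R) [M.IsPrime] (p q : PrimeSpectrum R), p.asIdeal ≤ M → q.asIdeal ≤ M →
      p.asIdeal ≤ q.asIdeal ∨ q.asIdeal ≤ p.asIdeal := by
    intro M _ p q hp hq
    haveI := hR M
    have hmap : ∀ p : PrimeSpectrum R, p.asIdeal ≤ M →
        (p.asIdeal.map (algebraMap R (Localization.AtPrime M))).comap (algebraMap R (Localization.AtPrime M)) = p.asIdeal :=
      fun p hp => IsLocalization.comap_map_of_isPrime_disjoint M.primeCompl (Localization.AtPrime M) p.2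
        (Set.disjoint_left.2 fun x hx hxp => hx (hp hxp))
    rcases le_total (p.asIdeal.map (algebraMap R (Localization.AtPrime M))) (q.asIdeal.map (algebraMap R (Localization.AtPrime M))) with h | h
    · left; rw [← hmap p hp, ← hmap q hq]; exact Ideal.comap_mono h
    · right; rw [← hmap p hp, ← hmap q hq]; exact Ideal.comap_mono h
  haveI : Finite (PrimeSpectrum R) := by
    choose M hM hpM using fun p : PrimeSpectrum R => Ideal.exists_le_maximal p.asIdeal p.2.ne_top
    refine Finite.of_injective (β := MaximalSpectrum R × Fin (D.toNat + 1))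
      (fun p => (⟨M p, hM p⟩, ⟨p.asIdeal.height.toNat, ?_⟩)) ?_
    · refine Nat.lt_succ_of_le (ENat.toNat_le_toNat ?_ hDtop)
      have h1 := Ideal.height_le_ringKrullDim_of_ne_top p.2.ne_top
      rw [← hD] at h1
      exact WithBot.coe_le_coe.1 h1
    · intro p q h
      simp only [Prod.mk.injEq, MaximalSpectrum.mk.injEq, Fin.mk.injEq] at h
      haveI := (hM p).isPrime
      have hh : p.asIdeal.height = q.asIdeal.height := by
        have e := h.2
        rw [← ENat.coe_toNat (Ideal.height_ne_top p.2.ne_top), ← ENat.coe_toNat (Ideal.height_ne_top q.2.ne_top), e]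
      rcases hchain (M p) p q (hpM p) (h.1 ▸ hpM q) with h' | h' <;> rcases h'.eq_or_lt with h'' | h''
      · exact PrimeSpectrum.ext h''
      · exact absurd hh (Ideal.height_strict_mono_of_isPrime_of_isPrime h'').ne
      · exact (PrimeSpectrum.ext h'').symm
      · exact absurd hh (Ideal.height_strict_mono_of_isPrime_of_isPrime h'').ne'
  constructor
  · let s : Set (PrimeSpectrum R) := {p | p.asIdeal ≠ m}
    have hnc : ¬ ((m : Set R) ⊆ ⋃ p ∈ s, (p.asIdeal : Set R)) := by
      intro hcov
      obtain ⟨p, hp, hle⟩ := (Ideal.subset_union_prime_finite (f := fun p : PrimeSpectrum R => p.asIdeal)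
        s.toFinite ⟨⊥, Ideal.isPrime_bot⟩ ⟨⊥, Ideal.isPrime_bot⟩ fun p _ _ _ => p.2).1 hcov
      exact hp ((Ideal.IsMaximal.eq_of_le ‹m.IsMaximal› p.2.ne_top hle).symm)
    obtain ⟨a, ham, ha⟩ := Set.not_subset.1 hnc
    refine ⟨a, fun p hp => ⟨fun hap => by_contra fun hpm => ha (Set.mem_biUnion (x := ⟨p, hp⟩) hpm hap), fun h => h ▸ ham⟩⟩
  · have hsel : ∀ p : PrimeSpectrum R, ∃ b, b ∉ m ∧ (¬ p.asIdeal ≤ m → b ∈ p.asIdeal) := fun p => by
      by_cases hp : p.asIdeal ≤ m
      · exact ⟨1, fun h => Ideal.IsPrime.ne_top inferInstance ((Ideal.eq_top_iff_one m).2 h), fun h => absurd hp h⟩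
      · obtain ⟨b, hb, hbm⟩ := SetLike.not_le_iff_exists.1 hp
        exact ⟨b, hbm, fun _ => hb⟩
    choose b hbm hb using hsel
    haveI := Fintype.ofFinite (PrimeSpectrum R)
    have hB : ∏ p, b p ∈ m.primeCompl := prod_mem fun p _ => hbm p
    refine ⟨∏ p, b p, hB, ?_⟩
    refine IsLocalization.of_le_of_exists_dvd (Submonoid.powers (∏ p, b p)) m.primeCompl ?_ fun s hs => ?_
    · exact Submonoid.powers_le.2 hB
    · have hrad : ∏ p, b p ∈ (Ideal.span {s}).radical := by
        rw [Ideal.radical_eq_sInf, Submodule.mem_sInf]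
        rintro p ⟨hsp, hp⟩
        have : ¬ p ≤ m := fun h => hs (h (hsp (Ideal.mem_span_singleton_self s)))
        exact Ideal.mem_of_dvd _ (Finset.dvd_prod_of_mem b (Finset.mem_univ (⟨p, hp⟩ : PrimeSpectrum R))) (hb ⟨p, hp⟩ this)
      obtain ⟨N, hN⟩ := hrad
      exact ⟨_, ⟨N, rfl⟩, Ideal.mem_span_singleton.1 hN⟩

theorem isNoetherian_of_algebraMap_surjective (R S : Type u) [CommRing R] [CommRing S] [Algebra R S] [IsNoetherianRing S]
    (h : Function.Surjective (algebraMap R S)) : IsNoetherian R S := by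
  refine ⟨fun N => ?_⟩
  obtain ⟨t, -, ht⟩ := (Submodule.fg_span_iff_fg_span_finset_subset _).1 (IsNoetherian.noetherian (Submodule.span S (N : Set S)))
  refine ⟨t, ?_⟩
  rw [← Submodule.restrictScalars_span R S h, ← ht, Submodule.restrictScalars_span R S h, Submodule.span_eq]

theorem pullback_complete {A E F : Type u} [CommRing A] [CommRing E] [CommRing F] [IsLocalRing A] [IsLocalRing E]
    [IsLocalRing F] [IsNoetherianRing E] [IsNoetherianRing F] [IsAdicComplete (IsLocalRing.maximalIdeal E) E]
    [IsAdicComplete (IsLocalRing.maximalIdeal F) F] (f : E →+* A) (g : F →+* A) [IsLocalHom f] [IsLocalHom g]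
    (hf : Function.Surjective f) (hg : Function.Surjective g) :
    ∃ _ : IsLocalRing ↥(f.pullback g), IsNoetherianRing ↥(f.pullback g) ∧
      IsAdicComplete (IsLocalRing.maximalIdeal ↥(f.pullback g)) ↥(f.pullback g) := by
  set G := f.pullback g
  have hmem : ∀ z : E × F, z ∈ G ↔ f z.1 = g z.2 := fun z => Iff.rfl
  have hunit : ∀ z : G, IsUnit z ↔ IsUnit z.1.1 := by
    intro z
    refine ⟨fun h => h.map ((RingHom.fst E F).comp G.subtype), fun h => ?_⟩
    have h2 : IsUnit z.1.2 := isUnit_of_map_unit g _ (by rw [← (hmem _).1 z.2]; exact h.map f)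
    obtain ⟨a, ha⟩ := h.exists_right_inv
    obtain ⟨b, hb⟩ := h2.exists_right_inv
    have : f a = g b := by
      have h3 : f z.1.1 * f a = 1 := by rw [← map_mul, ha, map_one]
      have h4 : f z.1.1 * g b = 1 := by rw [(hmem _).1 z.2, ← map_mul, hb, map_one]
      exact (h.map f).mul_left_cancel (h3.trans h4.symm)
    exact isUnit_iff_exists_inv.2 ⟨⟨(a, b), (hmem _).2 this⟩, Subtype.ext (Prod.ext ha hb)⟩
  haveI : Nontrivial G := ⟨⟨0, 1, fun h => zero_ne_one (congrArg (fun z : G => z.1.1) h)⟩⟩
  haveI hloc : IsLocalRing G := IsLocalRing.of_nonunits_add fun {a b} ha hb => by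
    rw [mem_nonunits_iff, hunit] at *
    exact IsLocalRing.nonunits_add (R := E) ha hb
  refine ⟨hloc, ?_⟩
  let p₁ : G →+* E := (RingHom.fst E F).comp G.subtype
  let p₂ : G →+* F := (RingHom.snd E F).comp G.subtype
  have hp₁ : Function.Surjective p₁ := fun x => by
    obtain ⟨y, hy⟩ := hg (f x); exact ⟨⟨(x, y), (hmem _).2 hy.symm⟩, rfl⟩
  have hp₂ : Function.Surjective p₂ := fun y => by
    obtain ⟨x, hx⟩ := hf (g y); exact ⟨⟨(x, y), (hmem _).2 hx⟩, rfl⟩
  letI : Algebra G E := p₁.toAlgebra
  letI : Algebra G F := p₂.toAlgebra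
  haveI : IsNoetherian G E := isNoetherian_of_algebraMap_surjective G E hp₁
  haveI : IsNoetherian G F := isNoetherian_of_algebraMap_surjective G F hp₂
  haveI : IsNoetherianRing G := isNoetherianRing_iff.2 (isNoetherian_of_injective
    ((Algebra.linearMap G E).prod (Algebra.linearMap G F)) fun a b h => Subtype.ext h)
  refine ⟨inferInstance, ?_⟩
  set M := IsLocalRing.maximalIdeal G
  have hM1 : M.map p₁ = IsLocalRing.maximalIdeal E := by
    rw [← ((IsLocalRing.maximalIdeal E).map_comap_of_surjective p₁ hp₁)]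
    congr 1
    ext z
    simp only [M, IsLocalRing.mem_maximalIdeal, mem_nonunits_iff, Ideal.mem_comap, hunit]
    rfl
  have hM2 : M.map p₂ = IsLocalRing.maximalIdeal F := by
    rw [← ((IsLocalRing.maximalIdeal F).map_comap_of_surjective p₂ hp₂)]
    congr 1
    ext z
    simp only [M, IsLocalRing.mem_maximalIdeal, mem_nonunits_iff, Ideal.mem_comap, hunit]
    exact not_congr ⟨fun h => isUnit_of_map_unit g _ ((hmem _).1 z.2 ▸ h.map f), fun h => isUnit_of_map_unit f _ ((hmem _).1 z.2 ▸ h.map g)⟩
  let ι : G →ₗ[G] E × F := (Algebra.linearMap G E).prod (Algebra.linearMap G F)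
  haveI : Module.Finite G (E × F) := inferInstance
  obtain ⟨c, hc⟩ := Ideal.exists_pow_inf_eq_pow_smul M (LinearMap.range ι)
  have hbox : ∀ (n : ℕ) (z : G), p₁ z ∈ IsLocalRing.maximalIdeal E ^ n → p₂ z ∈ IsLocalRing.maximalIdeal F ^ n →
      c ≤ n → z ∈ M ^ (n - c) := by
    intro n z h1 h2 hn
    rw [← hM1, ← Ideal.map_pow] at h1
    rw [← hM2, ← Ideal.map_pow] at h2
    obtain ⟨a, ha, ha'⟩ := (Ideal.mem_map_iff_of_surjective p₁ hp₁).1 h1
    obtain ⟨b, hb, hb'⟩ := (Ideal.mem_map_iff_of_surjective p₂ hp₂).1 h2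
    have hz : ι z ∈ M ^ n • (⊤ : Submodule G (E × F)) ⊓ LinearMap.range ι := by
      refine ⟨?_, LinearMap.mem_range_self ι z⟩
      rw [show ι z = a • ((1, 0) : E × F) + b • ((0, 1) : E × F) by
        ext <;> simp [ι, Algebra.smul_def, RingHom.algebraMap_toAlgebra, ha', hb']]
      exact add_mem (Submodule.smul_mem_smul ha trivial) (Submodule.smul_mem_smul hb trivial)
    rw [hc n hn] at hz
    have := Submodule.smul_mono le_rfl inf_le_right hz
    rw [LinearMap.range_eq_map, ← Submodule.map_smul''] at this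
    obtain ⟨w, hw, hwz⟩ := this
    rw [smul_eq_mul, Ideal.mul_top] at hw
    exact (show w = z from Subtype.ext hwz) ▸ hw
  have hle1 : ∀ (n : ℕ) (z : G), z ∈ M ^ n → p₁ z ∈ IsLocalRing.maximalIdeal E ^ n := fun n z hz => by
    rw [← hM1, ← Ideal.map_pow]; exact Ideal.mem_map_of_mem _ hz
  have hle2 : ∀ (n : ℕ) (z : G), z ∈ M ^ n → p₂ z ∈ IsLocalRing.maximalIdeal F ^ n := fun n z hz => by
    rw [← hM2, ← Ideal.map_pow]; exact Ideal.mem_map_of_mem _ hz
  refine
    { haus' := fun z hz => ?_, prec' := fun s hs => ?_ }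
  · exact IsHausdorff.haus inferInstance z hz
  · have hs' : ∀ {a b}, a ≤ b → s a - s b ∈ M ^ a := fun {a b} h => by
      simpa [SModEq.sub_mem] using hs h
    obtain ⟨x, hx⟩ := IsPrecomplete.prec (I := IsLocalRing.maximalIdeal E) (M := E) inferInstance
      (f := fun n => p₁ (s n)) fun {a b} h => by
        rw [SModEq.sub_mem, smul_eq_mul, Ideal.mul_top, ← map_sub]; exact hle1 a _ (hs' h)
    obtain ⟨y, hy⟩ := IsPrecomplete.prec (I := IsLocalRing.maximalIdeal F) (M := F) inferInstance
      (f := fun n => p₂ (s n)) fun {a b} h => by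
        rw [SModEq.sub_mem, smul_eq_mul, Ideal.mul_top, ← map_sub]; exact hle2 a _ (hs' h)
    simp only [SModEq.sub_mem, smul_eq_mul, Ideal.mul_top] at hx hy
    haveI : IsNoetherianRing A := isNoetherianRing_of_surjective E A f hf
    have hxy : f x = g y := by
      refine sub_eq_zero.1 ((Submodule.mem_bot A).1 ?_)
      rw [← Ideal.iInf_pow_eq_bot_of_isLocalRing (IsLocalRing.maximalIdeal A) (Ideal.IsMaximal.ne_top inferInstance), Submodule.mem_iInf]
      intro n
      have e : f x - g y = g (p₂ (s n) - y) - f (p₁ (s n) - x) := by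
        rw [map_sub, map_sub, show f (p₁ (s n)) = g (p₂ (s n)) from (hmem _).1 (s n).2]; ring
      rw [e]
      exact sub_mem (Ideal.pow_right_mono (((IsLocalRing.local_hom_TFAE g).out 0 2 :).mp ‹IsLocalHom g›) n (by
          rw [← Ideal.map_pow]; exact Ideal.mem_map_of_mem g (hy n)))
        (Ideal.pow_right_mono (((IsLocalRing.local_hom_TFAE f).out 0 2 :).mp ‹IsLocalHom f›) n (by
          rw [← Ideal.map_pow]; exact Ideal.mem_map_of_mem f (hx n)))
    refine ⟨⟨(x, y), (hmem _).2 hxy⟩, fun n => ?_⟩
    rw [SModEq.sub_mem, smul_eq_mul, Ideal.mul_top,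
      show s n - ⟨(x, y), (hmem _).2 hxy⟩ = (s n - s (n + c)) + (s (n + c) - ⟨(x, y), (hmem _).2 hxy⟩) by abel]
    refine add_mem (hs' (Nat.le_add_right n c)) ?_
    have := hbox (n + c) (s (n + c) - ⟨(x, y), (hmem _).2 hxy⟩) (by rw [map_sub]; exact hx (n + c))
      (by rw [map_sub]; exact hy (n + c)) (Nat.le_add_left c n)
    rwa [Nat.add_sub_cancel] at this

theorem det_mul_mem_span {R : Type u} [CommRing R] {r n : ℕ} (M : Matrix (Fin r) (Fin n) R) (N : Matrix (Fin n) (Fin r) R) :
    (M * N).det ∈ Ideal.span (Set.range fun f : Fin r → Fin n => (N.submatrix f id).det) := by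
  have e : (M * N : Matrix (Fin r) (Fin r) R) = fun i => ∑ k, M i k • N k := by
    ext i j; simp [Matrix.mul_apply, Finset.sum_apply]
  rw [show (M * N).det = (Matrix.detRowAlternating : (Fin r → R) [⋀^Fin r]→ₗ[R] R).toMultilinearMap
    (fun i => ∑ k, M i k • N k) from congrArg Matrix.det e, MultilinearMap.map_sum]
  refine Ideal.sum_mem _ fun f _ => ?_
  rw [MultilinearMap.map_smul_univ]
  exact Ideal.mul_mem_left _ _ (Ideal.subset_span ⟨f, rfl⟩)

theorem minorIdeal_iff_summand (R : Type u) [CommRing R] [IsLocalRing R] (n m r : ℕ) (hr : 1 ≤ r)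
    (A : Matrix (Fin n) (Fin m) R) :
    (∃ N' : Submodule R (Fin n → R), IsCompl (LinearMap.range (Matrix.mulVecLin A)) N' ∧
        Module.finrank R (LinearMap.range (Matrix.mulVecLin A)) = r) ↔
      (CAlgX.minorIdeal A (r + 1) = ⊥ ∧ CAlgX.minorIdeal A r = ⊤) := by
  classical
  constructor
  · rintro ⟨N', hc, hrank⟩
    set W := LinearMap.range (Matrix.mulVecLin A)
    haveI : Module.Finite R W := Module.Finite.of_surjective (Submodule.linearProjOfIsCompl W N' hc) (Submodule.linearProjOfIsCompl_surjective hc)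
    haveI : Module.Projective R W := Module.Projective.of_split W.subtype (Submodule.linearProjOfIsCompl W N' hc)
      (LinearMap.ext fun w => Submodule.linearProjOfIsCompl_apply_left hc w)
    haveI : Module.Free R W := Module.free_of_flat_of_isLocalRing
    let β := (Module.finBasisOfFinrankEq R W hrank).equivFun
    let q : (Fin m → R) →ₗ[R] (Fin r → R) := β.toLinearMap.comp (Matrix.mulVecLin A).rangeRestrict
    let pm : (Fin r → R) →ₗ[R] (Fin n → R) := W.subtype.comp β.symm.toLinearMap
    let lm : (Fin n → R) →ₗ[R] (Fin r → R) := β.toLinearMap.comp (Submodule.linearProjOfIsCompl W N' hc)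
    obtain ⟨sm, hsm⟩ := Module.projective_lifting_property q LinearMap.id
      (β.surjective.comp (Matrix.mulVecLin A).surjective_rangeRestrict)
    have hA : A = LinearMap.toMatrix' pm * LinearMap.toMatrix' q := by
      rw [← LinearMap.toMatrix'_comp, show pm.comp q = A.mulVecLin from LinearMap.ext fun x => by simp [pm, q],
        ← Matrix.toLin'_apply', LinearMap.toMatrix'_toLin']
    have hL : LinearMap.toMatrix' lm * LinearMap.toMatrix' pm = 1 := by
      rw [← LinearMap.toMatrix'_comp, show lm.comp pm = LinearMap.id from LinearMap.ext fun x => by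
          change β (Submodule.linearProjOfIsCompl W N' hc (β.symm x : W)) = x
          simp only [Submodule.linearProjOfIsCompl]; rw [Submodule.projectionOnto_apply_left, LinearEquiv.apply_symm_apply],
        LinearMap.toMatrix'_id]
    have hS : LinearMap.toMatrix' q * LinearMap.toMatrix' sm = 1 := by
      rw [← LinearMap.toMatrix'_comp, hsm, LinearMap.toMatrix'_id]
    generalize LinearMap.toMatrix' pm = P, LinearMap.toMatrix' q = Q, LinearMap.toMatrix' lm = L,
      LinearMap.toMatrix' sm = S at hA hL hS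
    subst hA
    refine ⟨?_, ?_⟩
    · rw [CAlgX.minorIdeal, Ideal.span_eq_bot]
      rintro _ ⟨⟨f, g⟩, rfl⟩
      let P' : Matrix (Fin (r + 1)) (Fin (r + 1)) R := fun i k => Fin.snoc (α := fun _ => R) (fun l => P (f i) l) 0 k
      let Q' : Matrix (Fin (r + 1)) (Fin (r + 1)) R := Fin.snoc (α := fun _ => Fin (r + 1) → R) (fun l j => Q l (g j)) 0
      have e : (P * Q).submatrix f g = P' * Q' := by
        ext i j
        rw [Matrix.submatrix_apply, Matrix.mul_apply, Matrix.mul_apply, Fin.sum_univ_castSucc]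
        simp [P', Q']
      change ((P * Q).submatrix f g).det = 0
      rw [e, Matrix.det_mul, Matrix.det_eq_zero_of_column_eq_zero (Fin.last r) (fun i => by simp [P']), zero_mul]
    · rw [Ideal.eq_top_iff_one]
      have h1 : (L * ((P * Q) * S)).det = 1 := by
        rw [Matrix.mul_assoc P, hS, Matrix.mul_one, hL, Matrix.det_one]
      rw [← h1]
      refine (Ideal.span_le.2 ?_) (det_mul_mem_span L ((P * Q) * S))
      rintro _ ⟨f, rfl⟩
      change ((((P * Q) * S).submatrix f id)).det ∈ CAlgX.minorIdeal (P * Q) r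
      rw [← Matrix.det_transpose, Matrix.submatrix_mul (P * Q) S f id id Function.bijective_id, Matrix.submatrix_id_id,
        Matrix.transpose_mul]
      refine (Ideal.span_le.2 ?_) (det_mul_mem_span _ _)
      rintro _ ⟨g, rfl⟩
      exact Ideal.subset_span ⟨(f, g), by
        simp only [← Matrix.det_transpose ((P * Q).submatrix f g)]; rfl⟩
  · rintro ⟨h0, h1⟩
    obtain ⟨⟨f, g⟩, hu⟩ : ∃ fg : (Fin r → Fin n) × (Fin r → Fin m), IsUnit (A.submatrix fg.1 fg.2).det := by
      by_contra hcon
      push Not at hcon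
      have : CAlgX.minorIdeal A r ≤ IsLocalRing.maximalIdeal R := Ideal.span_le.2 (by
        rintro _ ⟨fg, rfl⟩; exact (IsLocalRing.mem_maximalIdeal _).2 (hcon fg))
      exact (Ideal.IsMaximal.ne_top inferInstance) (top_le_iff.1 (h1 ▸ this))
    set D := A.submatrix f g with hD
    haveI : Invertible D := D.invertibleOfIsUnitDet hu
    let P : Matrix (Fin n) (Fin r) R := A.submatrix id g * ⅟D
    have hfac : A = P * A.submatrix f id := by
      ext a j
      let f' : Fin r ⊕ Fin 1 → Fin n := Sum.elim f fun _ => a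
      let g' : Fin r ⊕ Fin 1 → Fin m := Sum.elim g fun _ => j
      have hz : (A.submatrix f' g').det = 0 := by
        rw [← Matrix.det_submatrix_equiv_self finSumFinEquiv.symm, Matrix.submatrix_submatrix]
        exact (Ideal.span_eq_bot.1 h0) _ ⟨(f' ∘ finSumFinEquiv.symm, g' ∘ finSumFinEquiv.symm), rfl⟩
      have hb : A.submatrix f' g' = Matrix.fromBlocks D (A.submatrix f fun _ => j) (A.submatrix (fun _ => a) g)
          (A.submatrix (fun _ => a) fun _ => j) := by
        ext (i | i) (l | l) <;> rfl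
      rw [hb, Matrix.det_fromBlocks₁₁, hu.mul_right_eq_zero, Matrix.det_fin_one] at hz
      rw [Matrix.sub_apply, sub_eq_zero] at hz
      simpa [P, Matrix.mul_apply] using hz
    have hPf : ∀ y : Fin r → R, (P.mulVec y) ∘ f = y := fun y => by
      have e : P.submatrix f id = 1 := by
        simp only [P]
        rw [Matrix.submatrix_mul _ _ f id id Function.bijective_id, Matrix.submatrix_id_id, Matrix.submatrix_submatrix]
        exact mul_invOf_self D
      calc (P.mulVec y) ∘ f = (P.submatrix f id).mulVec y := rfl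
        _ = y := by rw [e, Matrix.one_mulVec]
    let π : (Fin n → R) →ₗ[R] (Fin r → R) := LinearMap.funLeft R R f
    have hπ : π.comp P.mulVecLin = LinearMap.id := LinearMap.ext hPf
    have hinj : Function.Injective P.mulVecLin := Function.LeftInverse.injective (g := π) hPf
    have hrange : LinearMap.range A.mulVecLin = LinearMap.range P.mulVecLin := by
      refine le_antisymm ?_ ?_
      · rintro _ ⟨x, rfl⟩
        refine ⟨(A.submatrix f id).mulVec x, ?_⟩
        conv_rhs => rw [hfac]
        simp [Matrix.mulVecLin_apply, Matrix.mulVec_mulVec]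
      · have e : P = A * ((1 : Matrix (Fin m) (Fin m) R).submatrix id g * ⅟D) := by
          rw [← Matrix.mul_assoc]
          simp only [P]
          congr 1
          ext a j
          simp [Matrix.mul_apply, Matrix.one_apply]
        rintro _ ⟨y, rfl⟩
        exact ⟨_, (Matrix.mulVec_mulVec y A _).trans (by rw [← e]; rfl)⟩
    refine ⟨LinearMap.ker π, ?_, ?_⟩
    · rw [hrange]
      constructor
      · rw [Submodule.disjoint_def]
        rintro _ ⟨y, rfl⟩ hy
        rw [LinearMap.mem_ker] at hy
        rw [show y = 0 from (hPf y).symm.trans hy, map_zero]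
      · rw [codisjoint_iff, eq_top_iff]
        exact fun v _ => Submodule.mem_sup.2 ⟨_, ⟨π v, rfl⟩, v - P.mulVecLin (π v),
          by rw [LinearMap.mem_ker, map_sub]; exact sub_eq_zero.2 (hPf (π v)).symm, add_sub_cancel _ _⟩
    · rw [hrange, LinearMap.finrank_range_of_inj hinj, Module.finrank_fin_fun]

open CategoryTheory AlgebraicGeometry in
theorem isFT_tilde_iff (R : CommRingCat.{u}) (M : ModuleCat.{u} R) : CohB1.IsFT (tilde M) ↔ Module.Finite R M := by
  refine ⟨fun h => ?_, fun h => Groth.Agent.QC.isFT_tilde M⟩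
  haveI := Groth.Agent.QC.finite_sections (M := tilde M) (isAffineOpen_top (Spec R)) h
  haveI := Groth.Agent.QC.finite_top_of_finite_sections (tilde M)
  exact Module.Finite.equiv (asIso (tilde.toOpen M ⊤)).toLinearEquiv.symm

end Groth.Agent.H4Easy
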