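import Mathlib

/-! Fibre products in fibred categories, colimits of iso-algebras, stratifications, involutions of power series -/

set_option autoImplicit false
set_option linter.style.haveILetI false

open CategoryTheory CategoryTheory.Limits TopologicalSpace Topology

universe w w' v₁ v₂ u₁ u₂ v u

namespace Groth.Agent.H4Easy


section
variable {𝒮 : Type u₁} [Category.{v₁} 𝒮] {C : Type u₂} [Category.{v₂} C]

theorem isPullback_of_stronglyCartesian (p : 𝒮 ⥤ C) {x y z w : 𝒮} (φ : x ⟶ y) (ψ : z ⟶ y)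
    [p.IsStronglyCartesian (p.map φ) φ] [HasPullback (p.map φ) (p.map ψ)] (a : w ⟶ z)
    [p.IsStronglyCartesian (pullback.snd (p.map φ) (p.map ψ)) a] :
    ∃ b : w ⟶ x, p.IsHomLift (pullback.fst (p.map φ) (p.map ψ)) b ∧ IsPullback b a φ ψ := by
  let π₁ := pullback.fst (p.map φ) (p.map ψ)
  let π₂ := pullback.snd (p.map φ) (p.map ψ)
  haveI : p.IsHomLift (π₁ ≫ p.map φ) (a ≫ ψ) := by
    rw [show π₁ ≫ p.map φ = π₂ ≫ p.map ψ from pullback.condition]; infer_instance
  let b := Functor.IsStronglyCartesian.map p (p.map φ) φ (g := π₁) (f' := π₁ ≫ p.map φ) rfl (a ≫ ψ)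
  have hb : b ≫ φ = a ≫ ψ := Functor.IsStronglyCartesian.fac _ _ _ _ _
  refine ⟨b, inferInstance, IsPullback.of_isLimit' ⟨hb⟩ (PullbackCone.IsLimit.mk _
    (fun s => Functor.IsStronglyCartesian.map p π₂ a
      (g := pullback.lift (p.map s.fst) (p.map s.snd) (by rw [← p.map_comp, ← p.map_comp, s.condition]))
      (f' := p.map s.snd) (pullback.lift_snd _ _ _).symm s.snd)
    (fun s => ?_) (fun s => Functor.IsStronglyCartesian.fac _ _ _ _ _) (fun s m h₁ h₂ => ?_))⟩
  · set g := pullback.lift (p.map s.fst) (p.map s.snd) (by rw [← p.map_comp, ← p.map_comp, s.condition]) with hg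
    set χ := Functor.IsStronglyCartesian.map p π₂ a (g := g) (f' := p.map s.snd) (pullback.lift_snd _ _ _).symm s.snd
    have hχ : χ ≫ a = s.snd := Functor.IsStronglyCartesian.fac _ _ _ _ _
    haveI : p.IsHomLift (p.map s.fst) (χ ≫ b) := by
      rw [← show g ≫ π₁ = p.map s.fst from pullback.lift_fst _ _ _]; infer_instance
    refine Functor.IsStronglyCartesian.ext p (p.map φ) φ (p.map s.fst) ?_
    rw [Category.assoc, hb, reassoc_of% hχ, s.condition]
  · haveI : p.IsHomLift (pullback.lift (p.map s.fst) (p.map s.snd)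
        (by rw [← p.map_comp, ← p.map_comp, s.condition])) m := by
      refine CategoryTheory.IsHomLift.of_fac p _ m rfl (CategoryTheory.IsHomLift.domain_eq p π₂ a) ?_
      rw [eqToHom_refl, Category.id_comp]
      have e₁ : π₁ = eqToHom (CategoryTheory.IsHomLift.domain_eq p π₂ a).symm ≫ p.map b := by
        rw [CategoryTheory.IsHomLift.fac p π₁ b, eqToHom_refl, Category.comp_id]
      have e₂ : π₂ = eqToHom (CategoryTheory.IsHomLift.domain_eq p π₂ a).symm ≫ p.map a :=
        (CategoryTheory.IsHomLift.fac p π₂ a).trans (by rw [eqToHom_refl, Category.comp_id])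
      apply pullback.hom_ext
      · rw [pullback.lift_fst, show pullback.fst (p.map φ) (p.map ψ) = _ from e₁, Category.assoc,
          eqToHom_trans_assoc, eqToHom_refl, Category.id_comp, ← p.map_comp, h₁]
      · rw [pullback.lift_snd, show pullback.snd (p.map φ) (p.map ψ) = _ from e₂, Category.assoc,
          eqToHom_trans_assoc, eqToHom_refl, Category.id_comp, ← p.map_comp, h₂]
    exact Functor.IsStronglyCartesian.map_uniq _ _ _ _ _ m h₂

end

section
variable {C : Type u} [Category.{v} C] (T : C ⥤ C) (J : Type w) [Category.{w'} J] [PreservesColimitsOfShape J T]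

theorem createsColimits_isoAlgebra : Nonempty (CreatesColimitsOfShape J
    ((ObjectProperty.ι (fun A : Endofunctor.Algebra T => IsIso A.str)) ⋙ Endofunctor.Algebra.forget T)) := by
  let P : ObjectProperty (Endofunctor.Algebra T) := fun A => IsIso A.str
  let U : P.FullSubcategory ⥤ C := P.ι ⋙ Endofunctor.Algebra.forget T
  haveI : U.ReflectsIsomorphisms := ⟨fun {A B} f hf => by
    haveI : IsIso (P.ι.map f).f := hf
    haveI : IsIso (P.ι.map f) := Endofunctor.Algebra.iso_of_iso _
    exact isIso_of_reflects_iso f P.ι⟩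
  refine ⟨⟨fun {K} => createsColimitOfReflectsIso fun c t => ?_⟩⟩
  have hK : ∀ j, IsIso (K.obj j).obj.str := fun j => (K.obj j).property
  have hcw : ∀ {i j : J} (f : i ⟶ j), (K.map f).hom.f ≫ c.ι.app j = c.ι.app i := fun f => c.w f
  have hnat : ∀ {i j : J} (f : i ⟶ j),
      T.map (K.map f).hom.f ≫ (K.obj j).obj.str = (K.obj i).obj.str ≫ (K.map f).hom.f :=
    fun f => (K.map f).hom.h
  let Tt := isColimitOfPreserves T t
  let str : T.obj c.pt ⟶ c.pt := Tt.desc
    { pt := c.pt
      ι := { app := fun j => (K.obj j).obj.str ≫ c.ι.app j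
             naturality := fun i j f => by
               show T.map (K.map f).hom.f ≫ (K.obj j).obj.str ≫ c.ι.app j = ((K.obj i).obj.str ≫ c.ι.app i) ≫ 𝟙 _
               rw [Category.comp_id, reassoc_of% (hnat f), hcw f] } }
  have hstr : ∀ j, T.map (c.ι.app j) ≫ str = (K.obj j).obj.str ≫ c.ι.app j := fun j => Tt.fac _ j
  have ex : ∃ back : c.pt ⟶ T.obj c.pt, ∀ j, haveI := hK j
      c.ι.app j ≫ back = inv (K.obj j).obj.str ≫ T.map (c.ι.app j) :=
    ⟨t.desc
      { pt := T.obj c.pt
        ι := { app := fun j => (@inv _ _ _ _ (K.obj j).obj.str (hK j)) ≫ T.map (c.ι.app j)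
               naturality := fun i j f => by
                 haveI := hK i; haveI := hK j
                 show (K.map f).hom.f ≫ inv (K.obj j).obj.str ≫ T.map (c.ι.app j) =
                   (inv (K.obj i).obj.str ≫ T.map (c.ι.app i)) ≫ 𝟙 _
                 rw [Category.comp_id, ← cancel_epi (K.obj i).obj.str, IsIso.hom_inv_id_assoc,
                   ← reassoc_of% (hnat f), IsIso.hom_inv_id_assoc, ← T.map_comp, hcw f] } },
      fun j => t.fac _ j⟩
  haveI := hK
  haveI : IsIso str := by
    obtain ⟨back, hback⟩ := ex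
    exact ⟨back, Tt.hom_ext fun j => by
      show T.map (c.ι.app j) ≫ str ≫ back = T.map (c.ι.app j) ≫ 𝟙 _
      exact (Category.assoc _ _ _).symm.trans ((congrArg (· ≫ back) (hstr j)).trans ((Category.assoc _ _ _).trans
        ((congrArg ((K.obj j).obj.str ≫ ·) (hback j)).trans
          ((IsIso.hom_inv_id_assoc _ _).trans (Category.comp_id _).symm)))),
    t.hom_ext fun j => by
      show c.ι.app j ≫ back ≫ str = c.ι.app j ≫ 𝟙 _
      exact (Category.assoc _ _ _).symm.trans ((congrArg (· ≫ str) (hback j)).trans ((Category.assoc _ _ _).trans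
        ((congrArg (inv (K.obj j).obj.str ≫ ·) (hstr j)).trans
          ((IsIso.inv_hom_id_assoc _ _).trans (Category.comp_id _).symm))))⟩
  let A : P.FullSubcategory := ⟨⟨c.pt, str⟩, (inferInstance : IsIso str)⟩
  let cA : Cocone K :=
    { pt := A
      ι := { app := fun j => ObjectProperty.homMk { f := c.ι.app j, h := hstr j }
             naturality := fun i j f => by
               ext
               exact (c.w f).trans (Category.comp_id _).symm } }
  refine
    { liftedCocone := cA
      validLift := Cocone.ext (Iso.refl _) fun j => Category.comp_id _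
      makesColimit :=
        { desc := fun s => ObjectProperty.homMk
            { f := t.desc (U.mapCocone s)
              h := Tt.hom_ext fun j => by
                show T.map (c.ι.app j) ≫ T.map (t.desc (U.mapCocone s)) ≫ s.pt.obj.str =
                  T.map (c.ι.app j) ≫ str ≫ t.desc (U.mapCocone s)
                exact (Category.assoc _ _ _).symm.trans ((congrArg (· ≫ s.pt.obj.str)
                    ((T.map_comp _ _).symm.trans (congrArg T.map (t.fac (U.mapCocone s) j)))).trans
                  ((s.ι.app j).hom.h.trans ((congrArg ((K.obj j).obj.str ≫ ·) (t.fac (U.mapCocone s) j).symm).trans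
                    ((Category.assoc _ _ _).symm.trans ((congrArg (· ≫ t.desc (U.mapCocone s)) (hstr j).symm).trans
                      (Category.assoc _ _ _)))))) }
          fac := fun s j => by
            ext
            exact t.fac (U.mapCocone s) j
          uniq := fun s m hm => by
            ext
            exact t.uniq (U.mapCocone s) m.hom.f fun j => congrArg (fun q => q.hom.f) (hm j) } }

end

section
variable {X : Type u} [TopologicalSpace X]

theorem exists_opens_determining {E : Set X} (hE : IsConstructible E) :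
    ∃ 𝒰 : Finset (Set X), (∀ U ∈ 𝒰, IsOpen U ∧ IsRetrocompact U) ∧
      ∀ x y, (∀ U ∈ 𝒰, x ∈ U ↔ y ∈ U) → (x ∈ E ↔ y ∈ E) := by
  classical
  induction hE using IsConstructible.empty_union_induction with
  | open_retrocompact U h₁ h₂ =>
    exact ⟨{U}, fun V hV => by obtain rfl := Finset.mem_singleton.1 hV; exact ⟨h₁, h₂⟩,
      fun x y h => h U (Finset.mem_singleton_self _)⟩
  | union s _ t _ hs ht =>
    obtain ⟨a, ha, ha'⟩ := hs
    obtain ⟨b, hb, hb'⟩ := ht
    refine ⟨a ∪ b, fun V hV => (Finset.mem_union.1 hV).elim (ha V) (hb V), fun x y h => ?_⟩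
    exact or_congr (ha' x y fun U hU => h U (Finset.mem_union_left _ hU))
      (hb' x y fun U hU => h U (Finset.mem_union_right _ hU))
  | compl s _ hs =>
    obtain ⟨a, ha, ha'⟩ := hs
    exact ⟨a, ha, fun x y h => not_congr (ha' x y h)⟩

theorem exists_stratification {n : ℕ} (T : Fin n → Set X) (hT : ∀ k, IsConstructible (T k)) :
    ∃ (I : Type) (_ : Fintype I) (_ : PartialOrder I) (S : I → Set X),
      (∀ i, IsLocallyClosed (S i) ∧ IsConstructible (S i)) ∧ (⋃ i, S i = Set.univ) ∧
      (∀ i j, i ≠ j → Disjoint (S i) (S j)) ∧ (∀ j, closure (S j) ⊆ ⋃ i ∈ Set.Iic j, S i) ∧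
      (∀ i k, (S i ∩ T k).Nonempty → S i ⊆ T k) := by
  classical
  choose 𝒰 h𝒰 hdet using fun k => exists_opens_determining (hT k)
  let 𝒱 := Finset.univ.biUnion 𝒰
  obtain ⟨m, ⟨e⟩⟩ := Finite.exists_equiv_fin 𝒱
  let U : Fin m → Set X := fun i => (e.symm i : Set X)
  have hU : ∀ i, IsOpen (U i) ∧ IsRetrocompact (U i) := fun i => by
    obtain ⟨k, -, hk⟩ := Finset.mem_biUnion.1 (e.symm i).2
    exact h𝒰 k _ hk
  let pat : X → Finset (Fin m) := fun x => Finset.univ.filter fun i => x ∈ U i
  have hpat : ∀ x i, i ∈ pat x ↔ x ∈ U i := fun x i => by simp [pat]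
  refine ⟨Finset (Fin m), inferInstance, inferInstance, fun J => pat ⁻¹' {J}, fun J => ?_, ?_, ?_, fun J => ?_,
    fun J k h => ?_⟩
  · have e1 : pat ⁻¹' {J} = (⋂ i ∈ (↑J : Set (Fin m)), U i) ∩ ⋂ i ∈ (↑J : Set (Fin m))ᶜ, (U i)ᶜ := by
      ext x
      simp only [Set.mem_preimage, Set.mem_singleton_iff, Finset.ext_iff, hpat, Set.mem_inter_iff,
        Set.mem_iInter, Finset.mem_coe, Set.mem_compl_iff]
      exact ⟨fun h => ⟨fun i hi => (h i).2 hi, fun i hi hx => hi ((h i).1 hx)⟩,
        fun h i => ⟨fun hx => by_contra fun hi => h.2 i hi hx, h.1 i⟩⟩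
    beta_reduce
    rw [e1]
    exact ⟨⟨_, _, (Set.toFinite _).isOpen_biInter fun i _ => (hU i).1,
        isClosed_biInter fun i _ => (hU i).1.isClosed_compl, rfl⟩,
      (IsConstructible.biInter (Set.toFinite _) fun i _ => (hU i).2.isConstructible (hU i).1).inter
        (IsConstructible.biInter (Set.toFinite _) fun i _ => ((hU i).2.isConstructible (hU i).1).compl)⟩
  · exact Set.eq_univ_of_forall fun x => Set.mem_iUnion.2 ⟨pat x, rfl⟩
  · exact fun i j hij => Set.disjoint_left.2 fun x hx hx' => hij (hx.symm.trans hx')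
  · intro x hx
    refine Set.mem_biUnion (x := pat x) (fun i hi => ?_) rfl
    obtain ⟨y, hyU, hyJ⟩ := mem_closure_iff.1 hx (U i) (hU i).1 ((hpat x i).1 hi)
    rw [← hyJ]
    exact (hpat y i).2 hyU
  · obtain ⟨x, hx, hxk⟩ := h
    intro y hy
    refine (hdet k x y fun V hV => ?_).1 hxk
    have hV' : V ∈ 𝒱 := Finset.mem_biUnion.2 ⟨k, Finset.mem_univ _, hV⟩
    have e2 : V = U (e ⟨V, hV'⟩) := by simp [U]
    rw [e2, ← hpat, ← hpat, show pat x = J from hx, show pat y = J from hy]

end

section
open PowerSeries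
variable {k : Type u} [Field k]

theorem algHom_eq_subst (τ : PowerSeries k →ₐ[k] PowerSeries k) (h0 : constantCoeff (τ X) = 0) (f : PowerSeries k) :
    τ f = subst (τ X) f := by
  have hs : HasSubst (τ X) := HasSubst.of_constantCoeff_zero' h0
  have key : ∀ τ' : PowerSeries k →ₐ[k] PowerSeries k, τ' X = τ X → ∀ n,
      coeff n (τ' f) = coeff n (Polynomial.aeval (τ X) (trunc (n + 1) f)) := by
    intro τ' h n
    obtain ⟨g, hg⟩ : (X : PowerSeries k) ^ (n + 1) ∣ f - (trunc (n + 1) f : PowerSeries k) := by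
      rw [X_pow_dvd_iff]
      intro m hm
      simp [coeff_trunc, hm]
    have hp : τ' (trunc (n + 1) f : PowerSeries k) = Polynomial.aeval (τ X) (trunc (n + 1) f) := by
      have e : τ'.comp (Polynomial.coeToPowerSeries.algHom k) = Polynomial.aeval (τ X) :=
        Polynomial.algHom_ext (by simp [h])
      have := DFunLike.congr_fun e (trunc (n + 1) f)
      simpa using this
    conv_lhs => rw [eq_add_of_sub_eq hg]
    rw [map_add, map_mul, map_pow, h, hp, map_add]
    obtain ⟨q, hq⟩ : (X : PowerSeries k) ∣ τ X := X_dvd_iff.2 h0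
    rw [hq, mul_pow, mul_assoc, coeff_X_pow_mul', if_neg (by omega), zero_add, ← hq]
  ext n
  rw [key τ rfl n, ← coe_substAlgHom hs, key (substAlgHom hs) (substAlgHom_X hs) n]

theorem powerSeries_involution (h2 : (2 : k) ≠ 0) (σ : PowerSeries k ≃ₐ[k] PowerSeries k) (hσ : ∀ f, σ (σ f) = f) :
    (coeff 1 (σ X)) ^ 2 = 1 ∧ ∃ φ : PowerSeries k ≃ₐ[k] PowerSeries k,
      φ X = C (2⁻¹ : k) * (X + C (coeff 1 (σ X)) * σ X) ∧
      ∀ f, φ.symm (σ (φ f)) = rescale (coeff 1 (σ X)) f := by
  set ξ := coeff 1 (σ X) with hξ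
  have h0 : constantCoeff (σ X) = 0 := by
    by_contra h
    have hu : IsUnit (σ X) := isUnit_iff_constantCoeff.2 (isUnit_iff_ne_zero.2 h)
    have := hu.map σ.symm
    rw [σ.symm_apply_apply] at this
    simpa [isUnit_iff_constantCoeff] using this
  have hσf : ∀ f, σ f = subst (σ X) f := algHom_eq_subst σ.toAlgHom h0
  have hσC : ∀ c : k, σ (C c) = C c := fun c => σ.commutes c
  obtain ⟨q, hq⟩ : (X : PowerSeries k) ∣ σ X := X_dvd_iff.2 h0
  have hξ2 : ξ ^ 2 = 1 := by
    have h1 : coeff 0 q = ξ := by rw [hξ, hq, coeff_succ_X_mul]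
    have h3 := congrArg σ hq
    rw [map_mul, hσ, hq] at h3
    have hq0 : constantCoeff (σ q) = ξ := by
      obtain ⟨g, hg⟩ : (X : PowerSeries k) ∣ q - C ξ := X_dvd_iff.2 (by simp [← h1])
      rw [eq_add_of_sub_eq hg, map_add, map_mul, hσC, hq]
      simp
    have h4 := congrArg (coeff 1) h3
    rw [mul_assoc, coeff_one_X, coeff_succ_X_mul, coeff_zero_eq_constantCoeff, map_mul, hq0,
      ← coeff_zero_eq_constantCoeff, h1] at h4
    rw [sq]; exact h4.symm
  set t := C (2⁻¹ : k) * (X + C ξ * σ X) with ht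
  have ht0 : constantCoeff t = 0 := by simp [ht, h0]
  have ht1 : coeff 1 t = 1 := by
    rw [ht, coeff_C_mul, map_add, coeff_one_X, coeff_C_mul, ← hξ, ← sq, hξ2]
    field_simp
    norm_num
  haveI : Invertible (coeff 1 t) := invertibleOfNonzero (by rw [ht1]; exact one_ne_zero)
  have hst : HasSubst t := HasSubst.of_constantCoeff_zero' ht0
  have hsu : HasSubst t.substInv := HasSubst.substInv t
  have hext : ∀ τ₁ τ₂ : PowerSeries k →ₐ[k] PowerSeries k, constantCoeff (τ₁ X) = 0 → τ₁ X = τ₂ X → τ₁ = τ₂ :=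
    fun τ₁ τ₂ h e => AlgHom.ext fun f => by
      rw [algHom_eq_subst τ₁ h f, algHom_eq_subst τ₂ (e ▸ h) f, e]
  have h1 : substAlgHom hst (substAlgHom hsu (X : PowerSeries k)) = X := by
    rw [substAlgHom_X, coe_substAlgHom, subst_substInv_left t ht0]
  have h2' : substAlgHom hsu (substAlgHom hst (X : PowerSeries k)) = X := by
    rw [substAlgHom_X, coe_substAlgHom, subst_substInv_right t ht0]
  let φ : PowerSeries k ≃ₐ[k] PowerSeries k := AlgEquiv.ofAlgHom (substAlgHom hst) (substAlgHom hsu)
    (hext _ _ (by rw [AlgHom.comp_apply, h1, constantCoeff_X]) (by rw [AlgHom.comp_apply, h1]; rfl))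
    (hext _ _ (by rw [AlgHom.comp_apply, h2', constantCoeff_X]) (by rw [AlgHom.comp_apply, h2']; rfl))
  have hφX : φ X = t := substAlgHom_X hst
  have hσt : σ t = C ξ * t := by
    rw [ht, map_mul, map_add, map_mul, hσC, hσC, hσ]
    have : (C ξ : PowerSeries k) * C ξ = 1 := by rw [← map_mul, ← sq, hξ2, map_one]
    linear_combination -(C (2⁻¹ : k) * σ X) * this
  refine ⟨hξ2, φ, hφX, fun f => ?_⟩
  have hξX : HasSubst (ξ • X : PowerSeries k) := HasSubst.smul_X' ξ
  have hcomp : (σ.toAlgHom.comp φ.toAlgHom) = φ.toAlgHom.comp (substAlgHom hξX) := hext _ _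
    (by show constantCoeff (σ (φ X)) = 0; rw [hφX, hσt]; simp [ht0])
    (by show σ (φ X) = φ (substAlgHom hξX X); rw [substAlgHom_X, map_smul, hφX, hσt, smul_eq_C_mul])
  rw [AlgEquiv.symm_apply_eq, rescale_eq_subst, ← coe_substAlgHom hξX]
  exact congrArg (fun F => F f) hcomp

end

end Groth.Agent.H4Easy
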