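import Mathlib
import Groth.Agent.H4Easy.Batch59

/-! Mittag-Leffler multiplication systems, constructible sets of Jacobson spaces, weakly contractible objects -/

set_option autoImplicit false
set_option linter.style.haveILetI false

open CategoryTheory CategoryTheory.Limits Opposite Topology

universe v u

namespace Groth.Agent.H4Easy


section
variable {V : Type u} [Category.{v} V] [Abelian V] {B : V}

theorem imageSubobject_eq_of_epi {X : V} (B' : Subobject B) (g : X ⟶ (B' : V)) [Epi g] (f : X ⟶ B) (hf : g ≫ B'.arrow = f) :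
    imageSubobject f = B' := by
  have hle := imageSubobject_le f g hf
  refine le_antisymm hle ?_
  have h : factorThruImageSubobject f ≫ Subobject.ofLE _ _ hle = g := by
    rw [← cancel_mono B'.arrow, Category.assoc, Subobject.ofLE_arrow, imageSubobject_arrow_comp, hf]
  haveI : Epi (Subobject.ofLE _ _ hle) := epi_of_epi_fac h
  haveI : IsIso (Subobject.ofLE _ _ hle) := isIso_of_mono_of_epi _
  exact Subobject.le_of_comm (inv (Subobject.ofLE _ _ hle)) (by rw [IsIso.inv_comp_eq, Subobject.ofLE_arrow])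

theorem mittagLeffler_iff (B : V) :
    ((∀ n : ℕ, 0 < n → ∃ m : ℕ, 0 < m ∧ n ∣ m ∧ ∀ m' : ℕ, 0 < m' → m ∣ m' →
        imageSubobject ((m' / n) • 𝟙 B) = imageSubobject ((m / n) • 𝟙 B)) ↔
      ∃ B' : Subobject B, (∀ k : ℕ, 0 < k → Epi (k • 𝟙 (B' : V))) ∧ ∃ M : ℕ, 0 < M ∧ M • 𝟙 (cokernel B'.arrow) = 0) ∧
    (∀ B' : Subobject B, (∀ k : ℕ, 0 < k → Epi (k • 𝟙 (B' : V))) → (∃ M : ℕ, 0 < M ∧ M • 𝟙 (cokernel B'.arrow) = 0) →
      ∀ D : Subobject B, (∀ k : ℕ, 0 < k → Epi (k • 𝟙 (D : V))) → D ≤ B') := by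
  refine ⟨⟨fun h => ?_, ?_⟩, ?_⟩
  · obtain ⟨m, hm, -, hm'⟩ := h 1 one_pos
    simp only [Nat.div_one] at hm'
    let B' := imageSubobject (m • 𝟙 B)
    let p : B ⟶ (B' : V) := factorThruImageSubobject (m • 𝟙 B)
    have hp : p ≫ B'.arrow = m • 𝟙 B := imageSubobject_arrow_comp _
    refine ⟨B', fun k hk => ?_, m, hm, ?_⟩
    · have h1 : (k • p) ≫ B'.arrow = (m * k) • 𝟙 B := by rw [Preadditive.nsmul_comp, hp, ← mul_smul, mul_comm]
      have hle := imageSubobject_le ((m * k) • 𝟙 B) (k • p) h1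
      haveI : IsIso (Subobject.ofLE _ _ hle) :=
        ⟨Subobject.ofLE _ _ (hm' (m * k) (Nat.mul_pos hm hk) (dvd_mul_right m k)).ge, by simp, by simp⟩
      haveI : Epi (k • p) := by
        rw [show k • p = factorThruImageSubobject ((m * k) • 𝟙 B) ≫ Subobject.ofLE _ _ hle by
          rw [← cancel_mono B'.arrow, Category.assoc, Subobject.ofLE_arrow, imageSubobject_arrow_comp, h1]]
        infer_instance
      exact epi_of_epi_fac (show p ≫ (k • 𝟙 (B' : V)) = k • p by rw [Preadditive.comp_nsmul, Category.comp_id])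
    · rw [← cancel_epi (cokernel.π B'.arrow), Preadditive.comp_nsmul, Category.comp_id, comp_zero]
      calc m • cokernel.π B'.arrow = (m • 𝟙 B) ≫ cokernel.π B'.arrow := by rw [Preadditive.nsmul_comp, Category.id_comp]
        _ = 0 := by rw [← hp, Category.assoc, cokernel.condition, comp_zero]
  · rintro ⟨B', hdiv, M, hM, hMc⟩ n hn
    have h0 : (M • 𝟙 B) ≫ cokernel.π B'.arrow = 0 := by
      calc (M • 𝟙 B) ≫ cokernel.π B'.arrow = cokernel.π B'.arrow ≫ (M • 𝟙 (cokernel B'.arrow)) := by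
            rw [Preadditive.nsmul_comp, Category.id_comp, Preadditive.comp_nsmul, Category.comp_id]
        _ = 0 := by rw [hMc, comp_zero]
    let g : B ⟶ (B' : V) := Abelian.monoLift B'.arrow _ h0
    have hg : g ≫ B'.arrow = M • 𝟙 B := Abelian.monoLift_comp _ _ _
    haveI : Epi g := by
      haveI := hdiv M hM
      refine epi_of_epi_fac (f := B'.arrow) (h := M • 𝟙 (B' : V)) ?_
      rw [← cancel_mono B'.arrow, Category.assoc, hg, Preadditive.comp_nsmul, Category.comp_id, Preadditive.nsmul_comp,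
        Category.id_comp]
    have key : ∀ k, 0 < k → imageSubobject ((k * M) • 𝟙 B) = B' := fun k hk => by
      haveI : Epi (k • g) := by
        rw [show k • g = g ≫ (k • 𝟙 (B' : V)) by rw [Preadditive.comp_nsmul, Category.comp_id]]
        haveI := hdiv k hk
        infer_instance
      exact imageSubobject_eq_of_epi B' (k • g) _ (by rw [Preadditive.nsmul_comp, hg, mul_smul])
    refine ⟨n * M, Nat.mul_pos hn hM, dvd_mul_right _ _, ?_⟩
    rintro _ hm' ⟨k, rfl⟩
    have hk : 0 < k := Nat.pos_of_mul_pos_left hm'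
    rw [show n * M * k / n = k * M by rw [mul_assoc, Nat.mul_div_cancel_left _ hn, mul_comm],
      show n * M / n = 1 * M by rw [Nat.mul_div_cancel_left _ hn, one_mul], key k hk, key 1 one_pos]
  · rintro B' - ⟨M, hM, hMc⟩ D hD
    haveI := hD M hM
    have h0 : D.arrow ≫ cokernel.π B'.arrow = 0 := by
      rw [← cancel_epi (M • 𝟙 (D : V)), comp_zero, Preadditive.nsmul_comp, Category.id_comp]
      calc M • (D.arrow ≫ cokernel.π B'.arrow) = (D.arrow ≫ cokernel.π B'.arrow) ≫ (M • 𝟙 _) := by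
            rw [Preadditive.comp_nsmul, Category.comp_id]
        _ = 0 := by rw [hMc, comp_zero]
    exact Subobject.le_of_comm _ (Abelian.monoLift_comp _ _ h0)

end

section
variable {X : Type u} [TopologicalSpace X] [JacobsonSpace X]

local notation "ι" => (Subtype.val : closedPoints X → X)

theorem constructible_subset_iff {E E' : Set X} (hE : IsConstructible E) (hE' : IsConstructible E') :
    ι ⁻¹' E ⊆ ι ⁻¹' E' ↔ E ⊆ E' := by
  classical
  refine ⟨fun h => ?_, Set.preimage_mono⟩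
  by_contra hne
  obtain ⟨x, hxE, hxE'⟩ := Set.not_subset.1 hne
  obtain ⟨𝒰, h𝒰, hdet⟩ := Groth.Agent.H4Easy.exists_opens_determining (hE.inter hE'.compl)
  let Z : Set X := (⋂ U ∈ 𝒰.filter (x ∈ ·), U) ∩ ⋂ U ∈ 𝒰.filter (x ∉ ·), Uᶜ
  have hlc : IsLocallyClosed Z := ⟨_, _, isOpen_biInter_finset fun U hU => (h𝒰 U (Finset.mem_filter.1 hU).1).1,
    isClosed_biInter fun U hU => (h𝒰 U (Finset.mem_filter.1 hU).1).1.isClosed_compl, rfl⟩
  have hxZ : x ∈ Z := ⟨Set.mem_iInter₂.2 fun U hU => (Finset.mem_filter.1 hU).2,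
    Set.mem_iInter₂.2 fun U hU => (Finset.mem_filter.1 hU).2⟩
  obtain ⟨y, hy, hy'⟩ := nonempty_inter_closedPoints ⟨x, hxZ⟩ hlc
  have := (hdet x y fun U hU => ⟨fun hx => Set.mem_iInter₂.1 hy.1 U (Finset.mem_filter.2 ⟨hU, hx⟩),
    fun hyU => by_contra fun hx => Set.mem_iInter₂.1 hy.2 U (Finset.mem_filter.2 ⟨hU, hx⟩) hyU⟩).1 ⟨hxE, hxE'⟩
  exact this.2 (h (show (⟨y, hy'⟩ : closedPoints X) ∈ ι ⁻¹' E from this.1))

theorem open_subset_of_preimage {U W : Set X} (hU : IsOpen U) (hW : IsOpen W) (h : ι ⁻¹' U ⊆ ι ⁻¹' W) : U ⊆ W := by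
  by_contra hne
  obtain ⟨x, hx, hx'⟩ := Set.not_subset.1 hne
  obtain ⟨y, hy, hy'⟩ := nonempty_inter_closedPoints (Z := U ∩ Wᶜ) ⟨x, hx, hx'⟩ ⟨U, Wᶜ, hU, hW.isClosed_compl, rfl⟩
  exact hy.2 (h (show (⟨y, hy'⟩ : closedPoints X) ∈ ι ⁻¹' U from hy.1))

theorem isCompact_iff_preimage {U : Set X} (hU : IsOpen U) : IsCompact U ↔ IsCompact (ι ⁻¹' U) := by
  constructor
  · intro h
    refine isCompact_of_finite_subcover fun {κ} W hW hcov => ?_
    choose W' hW' hWW using fun k => isOpen_induced_iff.1 (hW k)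
    obtain ⟨s, hs⟩ := h.elim_finite_subcover W' hW' (open_subset_of_preimage hU (isOpen_iUnion hW') (by
      intro y hy
      obtain ⟨k, hk⟩ := Set.mem_iUnion.1 (hcov hy)
      exact Set.mem_iUnion.2 ⟨k, show y ∈ ι ⁻¹' W' k by rw [hWW]; exact hk⟩))
    refine ⟨s, fun y hy => ?_⟩
    obtain ⟨k, hk, hk'⟩ := Set.mem_iUnion₂.1 (hs hy)
    exact Set.mem_iUnion₂.2 ⟨k, hk, by rw [← hWW]; exact hk'⟩
  · intro h
    refine isCompact_of_finite_subcover fun {κ} W hW hcov => ?_
    obtain ⟨s, hs⟩ := h.elim_finite_subcover (fun k => ι ⁻¹' W k) (fun k => (hW k).preimage continuous_subtype_val)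
      (fun y hy => by simpa using hcov hy)
    refine ⟨s, open_subset_of_preimage hU (isOpen_biUnion fun k _ => hW k) fun y hy => ?_⟩
    simpa using hs hy

theorem isRetrocompact_iff_preimage {U : Set X} (hU : IsOpen U) : IsRetrocompact U ↔ IsRetrocompact (ι ⁻¹' U) := by
  constructor
  · intro h K hK hKo
    obtain ⟨W, hW, rfl⟩ := isOpen_induced_iff.1 hKo
    rw [← Set.preimage_inter]
    exact (isCompact_iff_preimage (hU.inter hW)).1 (h ((isCompact_iff_preimage hW).2 hK) hW)
  · intro h K hK hKo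
    exact (isCompact_iff_preimage (hU.inter hKo)).2 (h ((isCompact_iff_preimage hKo).1 hK) (hKo.preimage continuous_subtype_val))

theorem closedPoints_correspondence :
    (∀ U : Set X, IsOpen U → (IsCompact U ↔ IsCompact (ι ⁻¹' U)) ∧ (IsRetrocompact U ↔ IsRetrocompact (ι ⁻¹' U))) ∧
      (∀ E : Set X, IsConstructible E → IsConstructible (ι ⁻¹' E)) ∧
      (∀ E E' : Set X, IsConstructible E → IsConstructible E' → (ι ⁻¹' E ⊆ ι ⁻¹' E' ↔ E ⊆ E')) ∧
      (∀ F : Set (closedPoints X), IsConstructible F → ∃ E : Set X, IsConstructible E ∧ ι ⁻¹' E = F) := by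
  refine ⟨fun U hU => ⟨isCompact_iff_preimage hU, isRetrocompact_iff_preimage hU⟩, fun E hE => ?_,
    fun E E' => constructible_subset_iff, fun F hF => ?_⟩
  · induction hE using IsConstructible.empty_union_induction with
    | open_retrocompact U h₁ h₂ => exact ((isRetrocompact_iff_preimage h₁).1 h₂).isConstructible (h₁.preimage continuous_subtype_val)
    | union s _ t _ hs ht => exact hs.union ht
    | compl s _ hs => exact hs.compl
  · induction hF using IsConstructible.empty_union_induction with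
    | open_retrocompact U h₁ h₂ =>
      obtain ⟨W, hW, rfl⟩ := isOpen_induced_iff.1 h₁
      exact ⟨W, ((isRetrocompact_iff_preimage hW).2 h₂).isConstructible hW, rfl⟩
    | union s _ t _ hs ht =>
      obtain ⟨a, ha, rfl⟩ := hs
      obtain ⟨b, hb, rfl⟩ := ht
      exact ⟨a ∪ b, ha.union hb, rfl⟩
    | compl s _ hs =>
      obtain ⟨a, ha, rfl⟩ := hs
      exact ⟨aᶜ, ha.compl, rfl⟩

end

section
variable {C : Type u} [SmallCategory C] (J : GrothendieckTopology C) (U : C)

theorem weaklyContractible_tfae :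
    (∀ S : Sieve U, S ∈ J U → IsSplitEpi ((presheafToSheaf J (Type u)).map
        (Sigma.desc (fun i : (Σ V : C, {f : V ⟶ U // S f}) => yoneda.map i.2.1) :
          (∐ fun i : (Σ V : C, {f : V ⟶ U // S f}) => yoneda.obj i.1) ⟶ yoneda.obj U))) ↔
      ∀ (F G : Sheaf J (Type u)) (φ : F ⟶ G), Epi φ → Function.Surjective (φ.hom.app (op U)) := by
  let adj := sheafificationAdjunction J (Type u)
  constructor
  · intro h F G φ hφ s
    haveI : Sheaf.IsLocallySurjective φ := (Sheaf.isLocallySurjective_iff_epi' _ φ).2 hφ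
    let S : Sieve U := Presheaf.imageSieve φ.hom s
    have hS : S ∈ J U := Presheaf.imageSieve_mem J φ.hom s
    obtain ⟨⟨sec⟩⟩ := h S hS
    let lift : (∐ fun i : (Σ V : C, {f : V ⟶ U // S f}) => yoneda.obj i.1) ⟶ F.obj :=
      Sigma.desc fun i => yonedaEquiv.symm i.2.2.choose
    let sh : yoneda.obj U ⟶ G.obj := yonedaEquiv.symm s
    have hl : lift ≫ φ.hom = (Sigma.desc (fun i : (Σ V : C, {f : V ⟶ U // S f}) => yoneda.map i.2.1)) ≫ sh := by
      refine Sigma.hom_ext _ _ fun i => ?_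
      simp only [lift, Sigma.ι_desc_assoc]
      apply yonedaEquiv.injective
      rw [← yonedaEquiv_naturality, yonedaEquiv_comp]
      simp only [sh, Equiv.apply_symm_apply]
      exact i.2.2.choose_spec
    let g : yoneda.obj U ⟶ F.obj :=
      adj.homEquiv _ _ (sec.section_ ≫ (adj.homEquiv _ _).symm lift)
    refine ⟨yonedaEquiv g, ?_⟩
    have hg : g ≫ φ.hom = sh := by
      show adj.homEquiv _ _ (sec.section_ ≫ (adj.homEquiv _ _).symm lift) ≫ (sheafToPresheaf J (Type u)).map φ = sh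
      rw [← Adjunction.homEquiv_naturality_right, Category.assoc, ← Adjunction.homEquiv_naturality_right_symm]
      show adj.homEquiv _ _ (sec.section_ ≫ (adj.homEquiv _ _).symm (lift ≫ φ.hom)) = sh
      rw [hl, Adjunction.homEquiv_naturality_left_symm, ← Category.assoc]
      exact (congrArg (fun q => adj.homEquiv _ _ (q ≫ _)) sec.id).trans (by rw [Category.id_comp, Equiv.apply_symm_apply])
    rw [← yonedaEquiv_comp, hg]
    exact yonedaEquiv.apply_symm_apply s
  · intro h S hS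
    set d := (Sigma.desc (fun i : (Σ V : C, {f : V ⟶ U // S f}) => yoneda.map i.2.1) :
          (∐ fun i : (Σ V : C, {f : V ⟶ U // S f}) => yoneda.obj i.1) ⟶ yoneda.obj U) with hd
    haveI : Presheaf.IsLocallySurjective J d := ⟨fun {W} x => by
      refine J.superset_covering ?_ (J.pullback_stable (show W ⟶ U from x) hS)
      intro Z k hk
      refine ⟨((Sigma.ι (fun i : (Σ V : C, {f : V ⟶ U // S f}) => yoneda.obj i.1) ⟨Z, k ≫ x, hk⟩).app (op Z)) (𝟙 Z), ?_⟩
      rw [← ConcreteCategory.comp_apply, ← NatTrans.comp_app, hd, Sigma.ι_desc]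
      exact Category.id_comp _⟩
    haveI : Sheaf.IsLocallySurjective ((presheafToSheaf J (Type u)).map d) :=
      (Presheaf.isLocallySurjective_presheafToSheaf_map_iff J d).2 inferInstance
    obtain ⟨s, hs⟩ := h _ _ ((presheafToSheaf J (Type u)).map d) ((Sheaf.isLocallySurjective_iff_epi' _ _).1 inferInstance)
      (yonedaEquiv (adj.unit.app (yoneda.obj U)))
    refine ⟨⟨⟨(adj.homEquiv _ _).symm (yonedaEquiv.symm s), ?_⟩⟩⟩
    rw [← Adjunction.homEquiv_naturality_right_symm]
    apply (adj.homEquiv _ _).injective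
    rw [Equiv.apply_symm_apply, Adjunction.homEquiv_id]
    apply yonedaEquiv.injective
    refine Eq.trans ?_ hs
    show yonedaEquiv (yonedaEquiv.symm s ≫ ((presheafToSheaf J (Type u)).map d).hom) = _
    rw [yonedaEquiv_comp, Equiv.apply_symm_apply]

end

end Groth.Agent.H4Easy
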