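import Mathlib
import Groth.Agent.GeomRedPull.Basic

/-! multiplicities of components under field extension are powers of the exponential characteristic -/

set_option autoImplicit false
set_option linter.style.haveILetI false

open TensorProduct

universe u

namespace Groth.Agent.H4Easy


theorem length_localization_eq_pow {B A : Type u} [CommRing B] [IsReduced B] [CommRing A]
    [Algebra B A] {ι : Type u} [Fintype ι] (b : Module.Basis ι B A) {p m : ℕ} (hp : p.Prime ∨ p = 1)
    (hι : Fintype.card ι = p ^ m) (hpow : ∀ a : A, ∃ N : ℕ, a ^ (p ^ N) ∈ (algebraMap B A).range)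
    (q : Ideal A) [q.IsPrime] (hq : q ∈ minimalPrimes A) :
    ∃ n : ℕ, Module.length (Localization.AtPrime q) (Localization.AtPrime q) = (p ^ n : ℕ) := by
  classical
  have hppos : 0 < p := by rcases hp with h | h <;> [exact h.pos; omega]
  haveI : Nonempty ι := Fintype.card_pos_iff.1 (hι ▸ pow_pos hppos m)
  haveI : Module.Free B A := Module.Free.of_basis b
  haveI : Module.Finite B A := Module.Finite.of_basis b
  have hinj : Function.Injective (algebraMap B A) := by
    intro x y hxy
    obtain ⟨i⟩ := ‹Nonempty ι›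
    have h : x • b i = y • b i := by rw [Algebra.smul_def, Algebra.smul_def, hxy]
    simpa using congrArg (fun z => b.repr z i) h
  let q₀ : Ideal B := q.under B
  have hmem : ∀ a, a ∉ q → ∃ N : ℕ, ∃ c, c ∉ q₀ ∧ algebraMap B A c = a ^ (p ^ N) := by
    intro a ha
    obtain ⟨N, c, hc⟩ := hpow a
    exact ⟨N, c, fun hc' => ha (Ideal.IsPrime.mem_of_pow_mem ‹_› _
      (show a ^ (p ^ N) ∈ q from hc ▸ (hc' : algebraMap B A c ∈ q))), hc⟩
  have hmin : ∀ P : Ideal B, P.IsPrime → P ≤ q₀ → P = q₀ := by
    intro P hP hle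
    obtain ⟨Q, -, hQ, hQP⟩ := Ideal.exists_ideal_over_prime_of_isIntegral P (⊥ : Ideal A)
      (by rw [Ideal.comap_bot_of_injective _ hinj]; exact bot_le)
    have hQq : Q ≤ q := by
      intro a ha
      by_contra hn
      obtain ⟨N, c, hc, hca⟩ := hmem a hn
      have : c ∈ P := hQP ▸ (show algebraMap B A c ∈ Q from
        hca ▸ Ideal.pow_mem_of_mem Q ha _ (pow_pos hppos N))
      exact hc (hle this)
    have : Q = q := le_antisymm hQq (hq.2 ⟨hQ, bot_le⟩ hQq)
    rw [← hQP, this]
  let F := Localization.AtPrime q₀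
  let T := Localization.AtPrime q
  have hF : IsLocalRing.maximalIdeal F = ⊥ := by
    refine eq_bot_iff.2 fun x hx => ?_
    haveI : IsReduced F := inferInstance
    refine (Submodule.mem_bot _).2 (IsReduced.eq_zero x ?_)
    rw [← mem_nilradical, nilradical_eq_sInf, Ideal.mem_sInf]
    intro P hP
    haveI : P.IsPrime := hP
    have h1 : P.under B = q₀ := by
      refine hmin _ inferInstance fun c hc => ?_
      by_contra hn
      exact (inferInstance : P.IsPrime).ne_top (Ideal.eq_top_of_isUnit_mem _ hc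
        (IsLocalization.map_units F (⟨c, hn⟩ : q₀.primeCompl)))
    rw [← IsLocalization.map_under q₀.primeCompl F P, h1,
      Localization.AtPrime.map_eq_maximalIdeal]
    exact hx
  letI : Field F := (IsLocalRing.isField_iff_maximalIdeal_eq.2 hF).toField
  let M := Algebra.algebraMapSubmonoid A q₀.primeCompl
  have hM : M ≤ q.primeCompl := by
    rintro _ ⟨c, hc, rfl⟩
    exact hc
  haveI : IsLocalization.AtPrime (Localization M) q :=
    IsLocalization.of_le M q.primeCompl hM fun a ha => by
      obtain ⟨N, c, hc, hca⟩ := hmem a ha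
      have h : IsUnit (algebraMap A (Localization M) (a ^ (p ^ N))) :=
        IsLocalization.map_units (Localization M) (⟨_, ⟨c, hc, hca⟩⟩ : M)
      rw [map_pow, isUnit_pow_iff (pow_pos hppos N).ne'] at h
      exact h
  haveI : IsLocalization M T :=
    IsLocalization.isLocalization_of_algEquiv M (IsLocalization.algEquiv q.primeCompl (Localization M) T)
  letI : Algebra F T := (Localization.localRingHom q₀ q (algebraMap B A) rfl).toAlgebra
  haveI : IsScalarTower B F T := IsScalarTower.of_algebraMap_eq fun c =>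
    (Localization.localRingHom_to_map q₀ q (algebraMap B A) rfl c).symm
  haveI : IsLocalHom (algebraMap F T) :=
    inferInstanceAs (IsLocalHom (Localization.localRingHom q₀ q (algebraMap B A) rfl))
  let bT : Module.Basis ι F T := b.localizationLocalization F q₀.primeCompl T
  haveI : Module.Finite F T := Module.Finite.of_basis bT
  have hlen : Module.length F T = ((p ^ m : ℕ) : ℕ∞) := by
    rw [Module.length_eq_finrank, Module.finrank_eq_card_basis bT, hι]
  have key := IsLocalRing.length_restrictScalars F T T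
  rw [hlen] at key
  generalize Module.length T T = x at key ⊢
  generalize Module.length (IsLocalRing.ResidueField F) (IsLocalRing.ResidueField T) = y at key
  have h0 : p ^ m ≠ 0 := (pow_pos hppos m).ne'
  cases x with
  | top =>
    rcases eq_or_ne y 0 with rfl | hy
    · simp at key
      omega
    · rw [ENat.top_mul hy] at key
      exact absurd key (ENat.natCast_ne_top _)
  | coe a =>
    cases y with
    | top =>
      rcases eq_or_ne (a : ℕ∞) 0 with ha | ha
      · rw [ha, zero_mul] at key
        exact absurd (by exact_mod_cast key) h0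
      · rw [ENat.mul_top ha] at key
        exact absurd key (ENat.natCast_ne_top _)
    | coe c =>
      have hkey : p ^ m = a * c := by exact_mod_cast key
      rcases hp with hp | rfl
      · obtain ⟨n, -, hn⟩ := (Nat.dvd_prime_pow hp).1 (show a ∣ p ^ m from ⟨c, hkey⟩)
        exact ⟨n, by rw [hn]⟩
      · refine ⟨0, ?_⟩
        rw [one_pow] at hkey ⊢
        rw [Nat.eq_one_of_mul_eq_one_right hkey.symm]

theorem eq_zero_of_isUnit_mul {R : Type u} [CommRing R] {a b : R} (ha : IsUnit a) (h : a * b = 0) :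
    b = 0 := ha.mul_right_eq_zero.1 h

theorem isReduced_tensor_separable (k F E K : Type u) [Field k] [Field F] [Field E] [Field K]
    [Algebra k F] [Algebra k E] [Algebra F E] [IsScalarTower k F E] [Algebra k K]
    [Module.Finite F E] [Algebra.IsSeparable F E] [IsReduced (F ⊗[k] K)] :
    IsReduced (E ⊗[k] K) := by
  haveI : Algebra.FormallyUnramified F E := Algebra.FormallyUnramified.of_isSeparable F E
  haveI : IsReduced (E ⊗[F] (F ⊗[k] K)) :=
    Groth.Agent.GeomRedPull.isReduced_tensor fun K' _ _ =>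
      haveI : IsReduced (K' ⊗[F] E) := Algebra.FormallyUnramified.isReduced_of_field K' _
      isReduced_of_injective (Algebra.TensorProduct.comm F E K') (AlgEquiv.injective _)
  exact isReduced_of_injective (Algebra.TensorProduct.cancelBaseChange k F E E K).symm (AlgEquiv.injective _)

theorem isReduced_tensor_purelyTranscendental {k L : Type u} [Field k] [Field L] [Algebra k L]
    {ι : Type u} (x : ι → L) (hx : AlgebraicIndependent k x) (K : Type u) [Field K] [Algebra k K] :
    IsReduced (K ⊗[k] ↥(IntermediateField.adjoin k (Set.range x))) := by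
  let F₀ := IntermediateField.adjoin k (Set.range x)
  let φ : MvPolynomial ι k →ₐ[k] F₀ :=
    MvPolynomial.aeval fun i => ⟨x i, IntermediateField.subset_adjoin k _ ⟨i, rfl⟩⟩
  have hval : F₀.val.comp φ = MvPolynomial.aeval x := MvPolynomial.algHom_ext fun i => by simp [φ]
  have hφ : Function.Injective φ := fun a b h => hx (by rw [← hval]; exact congrArg F₀.val h)
  let Φ := Algebra.TensorProduct.map (AlgHom.id k K) φ
  have hΦ : Function.Injective Φ :=
    Module.Flat.lTensor_preserves_injective_linearMap φ.toLinearMap hφ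
  haveI : IsReduced (K ⊗[k] MvPolynomial ι k) :=
    isReduced_of_injective (MvPolynomial.algebraTensorAlgEquiv k K) (AlgEquiv.injective _)
  have hden : ∀ z : K ⊗[k] F₀, ∃ s : MvPolynomial ι k, s ≠ 0 ∧
      ∃ z₀, (1 : K) ⊗ₜ[k] φ s * z = Φ z₀ := by
    intro z
    induction z with
    | zero => exact ⟨1, one_ne_zero, 0, by rw [mul_zero, map_zero]⟩
    | tmul a l =>
      obtain ⟨r, s, hrs⟩ := (IntermediateField.mem_adjoin_range_iff k x l.1).1 l.2
      by_cases hs : s = 0
      · refine ⟨1, one_ne_zero, 0, ?_⟩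
        have : l = 0 := Subtype.ext (by rw [hrs, hs, map_zero, div_zero]; rfl)
        rw [this, tmul_zero, mul_zero, map_zero]
      · refine ⟨s, hs, a ⊗ₜ r, ?_⟩
        have hs' : MvPolynomial.aeval x s ≠ 0 := fun h => hs (hx (h.trans (map_zero _).symm))
        have hl : φ s * l = φ r := Subtype.ext (by
          show F₀.val (φ s) * l.1 = F₀.val (φ r)
          rw [← AlgHom.comp_apply, ← AlgHom.comp_apply, hval, hrs, mul_div_cancel₀ _ hs'])
        rw [Algebra.TensorProduct.tmul_mul_tmul, one_mul, hl]
        rfl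
    | add u v hu hv =>
      obtain ⟨s, hs, u₀, hu₀⟩ := hu
      obtain ⟨t, ht, v₀, hv₀⟩ := hv
      refine ⟨s * t, mul_ne_zero hs ht, (1 : K) ⊗ₜ t * u₀ + (1 : K) ⊗ₜ s * v₀, ?_⟩
      have e : ∀ w, Φ ((1 : K) ⊗ₜ w) = (1 : K) ⊗ₜ φ w := fun w => rfl
      have e2 : (1 : K) ⊗ₜ[k] φ (s * t) = (1 : K) ⊗ₜ φ s * (1 : K) ⊗ₜ φ t := by
        rw [Algebra.TensorProduct.tmul_mul_tmul, one_mul, map_mul]
      rw [map_add, map_mul Φ, map_mul Φ, e, e, e2, ← hu₀, ← hv₀]
      ring
  refine ⟨fun z hz => ?_⟩
  obtain ⟨s, hs, z₀, hz₀⟩ := hden z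
  have h0 : z₀ = 0 := IsReduced.eq_zero _ ((IsNilpotent.map_iff hΦ).1
    (hz₀ ▸ (Commute.all ((1 : K) ⊗ₜ[k] φ s) z).isNilpotent_mul_left hz))
  rw [h0, map_zero] at hz₀
  have hu : IsUnit ((1 : K) ⊗ₜ[k] φ s) := by
    have := (isUnit_iff_ne_zero.2 fun h => hs (hφ (h.trans (map_zero φ).symm))).map
      (Algebra.TensorProduct.includeRight : F₀ →ₐ[k] K ⊗[k] F₀)
    exact this
  exact eq_zero_of_isUnit_mul (R := K ⊗[k] F₀) hu hz₀

theorem length_tensor_eq_pow {k K L : Type u} [Field k] [Field K] [Field L] [Algebra k K]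
    [Algebra k L] (hL : (⊤ : IntermediateField k L).FG) (p : ℕ) [ExpChar k p]
    (q : Ideal (K ⊗[k] L)) [q.IsPrime] (hq : q ∈ minimalPrimes (K ⊗[k] L)) :
    ∃ n : ℕ, Module.length (Localization.AtPrime q) (Localization.AtPrime q) = (p ^ n : ℕ) := by
  classical
  have hp : p.Prime ∨ p = 1 := expChar_is_prime_or_one k p
  obtain ⟨ι, x, hx⟩ := exists_isTranscendenceBasis' k L
  let F₀ := IntermediateField.adjoin k (Set.range x)
  haveI : Algebra.IsAlgebraic F₀ L := hx.isAlgebraic_field
  haveI : FiniteDimensional F₀ L := by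
    obtain ⟨t, ht⟩ := hL
    have htop : IntermediateField.adjoin F₀ (t : Set L) = ⊤ := by
      apply IntermediateField.restrictScalars_injective k
      rw [IntermediateField.restrictScalars_top, eq_top_iff, ← ht, IntermediateField.adjoin_le_iff]
      intro y hy
      exact IntermediateField.subset_adjoin F₀ _ hy
    haveI : FiniteDimensional F₀ (IntermediateField.adjoin F₀ (t : Set L)) :=
      IntermediateField.finiteDimensional_adjoin fun y _ => (Algebra.IsAlgebraic.isAlgebraic y).isIntegral
    rw [htop] at this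
    exact Module.Finite.equiv IntermediateField.topEquiv.toLinearEquiv
  let Ls := separableClosure F₀ L
  haveI : ExpChar F₀ p := expChar_of_injective_algebraMap (algebraMap k F₀).injective p
  haveI : ExpChar Ls p := expChar_of_injective_algebraMap (algebraMap F₀ Ls).injective p
  haveI : IsReduced (K ⊗[k] F₀) := isReduced_tensor_purelyTranscendental x hx.1 K
  haveI : IsReduced (F₀ ⊗[k] K) :=
    isReduced_of_injective (Algebra.TensorProduct.comm k F₀ K) (AlgEquiv.injective _)
  haveI : IsScalarTower k Ls L := IsScalarTower.of_algebraMap_eq fun _ => rfl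
  haveI : IsScalarTower k F₀ Ls := IsScalarTower.of_algebraMap_eq fun _ => rfl
  haveI : IsReduced (Ls ⊗[k] K) := isReduced_tensor_separable k F₀ Ls K
  obtain ⟨m, hm⟩ := IsPurelyInseparable.finrank_eq_pow Ls L p
  let b := Module.finBasisOfFinrankEq Ls L hm
  let φ : Ls ⊗[k] K →ₐ[k] K ⊗[k] L :=
    (Algebra.TensorProduct.comm k L K).toAlgHom.comp
      (Algebra.TensorProduct.map (Ls.val.restrictScalars k) (AlgHom.id k K))
  letI : Algebra (Ls ⊗[k] K) (K ⊗[k] L) := φ.toRingHom.toAlgebra
  have hφ : ∀ (l : Ls) (a : K), φ (l ⊗ₜ a) = a ⊗ₜ (l : L) := fun l a => rfl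
  have hsmul : ∀ (β : Ls ⊗[k] K) (z : K ⊗[k] L), β • z = φ β * z := fun β z => rfl
  let c : ULift.{u} (Fin (p ^ m)) → (K ⊗[k] L) →ₗ[k] Ls ⊗[k] K := fun i =>
    (TensorProduct.comm k K Ls).toLinearMap ∘ₗ
      LinearMap.lTensor K ((b.coord i.down).restrictScalars k)
  have hc : ∀ i a l, c i (a ⊗ₜ l) = (b.coord i.down l) ⊗ₜ a := fun i a l => rfl
  let Ψ : (ULift.{u} (Fin (p ^ m)) → Ls ⊗[k] K) →ₗ[Ls ⊗[k] K] K ⊗[k] L :=
    Fintype.linearCombination _ fun i => (1 : K) ⊗ₜ[k] b i.down
  have hΨ : ∀ f, Ψ f = ∑ i, φ (f i) * (1 : K) ⊗ₜ[k] b i.down := fun f => by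
    simp [Ψ, Fintype.linearCombination_apply, hsmul]
  have hcmul : ∀ i j (β : Ls ⊗[k] K),
      c i (φ β * (1 : K) ⊗ₜ[k] b j.down) = if j = i then β else 0 := by
    intro i j β
    induction β with
    | zero => simp
    | add u v hu hv => rw [map_add, add_mul, map_add, hu, hv]; split_ifs <;> simp
    | tmul l a =>
      rw [hφ, Algebra.TensorProduct.tmul_mul_tmul, mul_one, hc]
      have : b.coord i.down ((l : L) * b j.down) = if j = i then l else 0 := by
        rw [show (l : L) * b j.down = l • b j.down from rfl, map_smul, Module.Basis.coord_apply,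
          Module.Basis.repr_self, smul_eq_mul]
        rcases eq_or_ne j i with rfl | hne
        · rw [Finsupp.single_eq_same, mul_one, if_pos rfl]
        · rw [Finsupp.single_eq_of_ne fun h => hne (ULift.ext _ _ h.symm), mul_zero, if_neg hne]
      rw [this]
      split_ifs <;> simp
  have hΨb : Function.Bijective Ψ := by
    refine ⟨fun f g hfg => funext fun i => ?_, fun z => ⟨fun i => c i z, ?_⟩⟩
    · have key : ∀ f, c i (Ψ f) = f i := fun f => by
        rw [hΨ, map_sum, Finset.sum_congr rfl fun j _ => hcmul i j (f j)]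
        simp
      rw [← key f, hfg, key g]
    · induction z with
      | zero => simp [hΨ]
      | add u v hu hv =>
        rw [show (fun i => c i (u + v)) = (fun i => c i u) + fun i => c i v from
          funext fun i => map_add _ _ _, map_add, hu, hv]
      | tmul a l =>
        simp only [hΨ, hc, hφ, Algebra.TensorProduct.tmul_mul_tmul, mul_one]
        rw [← TensorProduct.tmul_sum]
        congr 1
        conv_rhs => rw [← b.sum_repr l]
        rw [← Equiv.ulift.sum_comp fun i => b.repr l i • b i]
        rfl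
  let bA : Module.Basis (ULift.{u} (Fin (p ^ m))) (Ls ⊗[k] K) (K ⊗[k] L) :=
    Module.Basis.ofEquivFun (LinearEquiv.ofBijective Ψ hΨb).symm
  refine length_localization_eq_pow bA (m := m) hp (by simp) (fun z => ?_) q hq
  haveI : ExpChar (K ⊗[k] L) p := expChar_of_injective_algebraMap (algebraMap k (K ⊗[k] L)).injective p
  induction z with
  | zero => exact ⟨0, by simpa using zero_mem (algebraMap (Ls ⊗[k] K) (K ⊗[k] L)).range⟩
  | tmul a l =>
    obtain ⟨N, l', hl⟩ := IsPurelyInseparable.pow_mem Ls p l
    refine ⟨N, l' ⊗ₜ (a ^ (p ^ N)), ?_⟩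
    show φ _ = _
    rw [hφ, Algebra.TensorProduct.tmul_pow, ← hl]
    rfl
  | add u v hu hv =>
    obtain ⟨N, hN⟩ := hu
    obtain ⟨N', hN'⟩ := hv
    refine ⟨N + N', ?_⟩
    rw [add_pow_expChar_pow, pow_add]
    refine add_mem ?_ ?_
    · rw [pow_mul]; exact pow_mem hN _
    · rw [mul_comm, pow_mul]; exact pow_mem hN' _

end Groth.Agent.H4Easy
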