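import Mathlib
import Groth.Agent.H4Easy.Batch30

/-! algebraic Poincare lemma for polynomial rings in characteristic zero -/

set_option autoImplicit false
set_option linter.style.haveILetI false

open ExteriorAlgebra CliffordAlgebra
open Groth.Agent

universe u v

namespace Groth.Agent.H4Easy


noncomputable section

section Contract
variable {A : Type u} [CommRing A] {M : Type v} [AddCommGroup M] [Module A M] (φ : Module.Dual A M)

/-- contraction on the exterior algebra -/
def extContr : ExteriorAlgebra A M →ₗ[A] ExteriorAlgebra A M := contractLeft φ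

theorem extContr_algebraMap (a : A) : extContr φ (algebraMap A _ a) = 0 :=
  contractLeft_algebraMap (0 : QuadraticForm A M) φ a

theorem extContr_ι (m : M) : extContr φ (ExteriorAlgebra.ι A m) = algebraMap A _ (φ m) :=
  contractLeft_ι (0 : QuadraticForm A M) φ m

theorem extContr_mul (x y : ExteriorAlgebra A M) :
    extContr φ (x * y) = extContr φ x * y + H4Easy.extEps x * extContr φ y := by
  induction x using ExteriorAlgebra.induction generalizing y with
  | algebraMap r =>
    rw [← Algebra.smul_def, map_smul, extContr_algebraMap, zero_mul, zero_add, AlgHom.commutes,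
      ← Algebra.smul_def]
  | ι m =>
    rw [extContr_ι, H4Easy.extEps_ι, neg_mul, ← sub_eq_add_neg, ← Algebra.smul_def]
    exact contractLeft_ι_mul φ m y
  | mul a b ha hb =>
    rw [mul_assoc, ha, hb, ha, map_mul]
    simp only [mul_add, add_mul, mul_assoc, add_assoc]
  | add a b ha hb => rw [add_mul, map_add, map_add, ha, hb, map_add]; simp only [add_mul]; abel

theorem extContr_extEps (x : ExteriorAlgebra A M) :
    extContr φ (H4Easy.extEps x) = -H4Easy.extEps (extContr φ x) := by
  induction x using ExteriorAlgebra.induction with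
  | algebraMap r => rw [AlgHom.commutes, extContr_algebraMap, map_zero, neg_zero]
  | ι m => rw [H4Easy.extEps_ι, map_neg, extContr_ι, AlgHom.commutes]
  | mul a b ha hb =>
    rw [map_mul, extContr_mul, extContr_mul, ha, hb, map_add, map_mul, map_mul, neg_mul, mul_neg,
      neg_add]
  | add a b ha hb => rw [map_add, map_add, ha, hb, map_add, map_add, neg_add]

theorem extContr_mem {p : ℕ} {x : ExteriorAlgebra A M} (hx : x ∈ exteriorPower A (p + 1) M) :
    extContr φ x ∈ exteriorPower A p M := by
  induction p generalizing x with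
  | zero =>
    rw [ExteriorAlgebra.exteriorPower, pow_one] at hx
    obtain ⟨m, rfl⟩ := hx
    rw [extContr_ι, ExteriorAlgebra.exteriorPower, pow_zero]
    exact Submodule.algebraMap_mem _
  | succ p ih =>
    rw [ExteriorAlgebra.exteriorPower, pow_succ'] at hx
    induction hx using Submodule.mul_induction_on' with
    | mem_mul_mem a ha b hb =>
      obtain ⟨m, rfl⟩ := ha
      rw [extContr_mul, extContr_ι, H4Easy.extEps_ι, neg_mul, ← Algebra.smul_def]
      refine add_mem (Submodule.smul_mem _ _ hb) (neg_mem ?_)
      rw [ExteriorAlgebra.exteriorPower, pow_succ']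
      exact Submodule.mul_mem_mul ⟨m, rfl⟩ (ih hb)
    | add a _ b _ ha hb => rw [map_add]; exact add_mem ha hb

end Contract

section Euler
variable (k : Type u) [Field k] (n : ℕ)

local notation "P" => MvPolynomial (Fin n) k
local notation "W" => KaehlerDifferential k (MvPolynomial (Fin n) k)
local notation "E" => ExteriorAlgebra (MvPolynomial (Fin n) k) (KaehlerDifferential k (MvPolynomial (Fin n) k))

/-- the Euler derivation -/
def eulerDer : Derivation k P P := MvPolynomial.mkDerivation k fun i => MvPolynomial.X i

theorem coeff_eulerDer (f : P) (m : Fin n →₀ ℕ) :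
    MvPolynomial.coeff m (eulerDer k n f) = (m.degree : k) * MvPolynomial.coeff m f := by
  induction f using MvPolynomial.induction_on generalizing m with
  | C c =>
    rw [eulerDer, MvPolynomial.derivation_C, MvPolynomial.coeff_zero, MvPolynomial.coeff_C]
    split_ifs with h
    · subst h; simp
    · simp
  | add a b ha hb => rw [map_add, MvPolynomial.coeff_add, MvPolynomial.coeff_add, ha, hb, mul_add]
  | mul_X a i ha =>
    rw [Derivation.leibniz, show eulerDer k n (MvPolynomial.X i) = MvPolynomial.X i from
      MvPolynomial.mkDerivation_X k _ i, smul_eq_mul, smul_eq_mul, mul_comm (MvPolynomial.X i),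
      MvPolynomial.coeff_add, MvPolynomial.coeff_mul_X', MvPolynomial.coeff_mul_X']
    split_ifs with h
    · rw [ha]
      have h1 : m - Finsupp.single i 1 + Finsupp.single i 1 = m := by
        refine Finsupp.ext fun j => ?_
        simp only [Finsupp.add_apply, Finsupp.tsub_apply, Finsupp.single_apply]
        have := Finsupp.mem_support_iff.mp h
        split_ifs with hj
        · subst hj; omega
        · omega
      have h2 := congrArg Finsupp.degree h1
      rw [map_add, Finsupp.degree_single] at h2
      rw [← h2]
      push_cast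
      ring
    · simp

/-- the Euler form -/
def eulerForm : Module.Dual P W := (eulerDer k n).liftKaehlerDifferential

/-- the Lie derivative along the Euler field -/
def eulerLie : E →ₗ[k] E :=
  (H4Easy.dR k P) ∘ₗ ((extContr (eulerForm k n)).restrictScalars k) +
    ((extContr (eulerForm k n)).restrictScalars k) ∘ₗ (H4Easy.dR k P)

theorem eulerLie_apply (x : E) : eulerLie k n x =
    H4Easy.dR k P (extContr (eulerForm k n) x) + extContr (eulerForm k n) (H4Easy.dR k P x) := rfl

theorem eulerLie_mul (x y : E) : eulerLie k n (x * y) = eulerLie k n x * y + x * eulerLie k n y := by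
  simp only [eulerLie_apply, extContr_mul, H4Easy.dR_mul, map_add, H4Easy.dR_extEps, extContr_extEps,
    H4Easy.extEps_extEps, neg_mul, mul_add, add_mul]
  abel

theorem eulerLie_algebraMap (f : P) :
    eulerLie k n (algebraMap P E f) = algebraMap P E (eulerDer k n f) := by
  rw [eulerLie_apply, extContr_algebraMap, map_zero, zero_add, H4Easy.dR_algebraMap, extContr_ι,
    eulerForm, Derivation.liftKaehlerDifferential_comp_D]

theorem eulerLie_ι_D (i : Fin n) :
    eulerLie k n (ExteriorAlgebra.ι P (KaehlerDifferential.D k P (MvPolynomial.X i))) =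
      ExteriorAlgebra.ι P (KaehlerDifferential.D k P (MvPolynomial.X i)) := by
  rw [eulerLie_apply, H4Easy.dR_ι_D, map_zero, add_zero, extContr_ι, eulerForm,
    Derivation.liftKaehlerDifferential_comp_D, H4Easy.dR_algebraMap,
    show eulerDer k n (MvPolynomial.X i) = MvPolynomial.X i from MvPolynomial.mkDerivation_X k _ i]

/-- sums of eigenvectors of weight at least p -/
def weightGe (p : ℕ) : Submodule k E :=
  Submodule.span k {x | ∃ w : ℕ, p ≤ w ∧ eulerLie k n x = (w : k) • x}

theorem weightGe_mul {p q : ℕ} {x y : E} (hx : x ∈ weightGe k n p) (hy : y ∈ weightGe k n q) :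
    x * y ∈ weightGe k n (p + q) := by
  induction hx using Submodule.span_induction with
  | mem x hx =>
    induction hy using Submodule.span_induction with
    | mem y hy =>
      obtain ⟨a, ha, hax⟩ := hx
      obtain ⟨b, hb, hby⟩ := hy
      refine Submodule.subset_span ⟨a + b, by omega, ?_⟩
      rw [eulerLie_mul, hax, hby, smul_mul_assoc, mul_smul_comm, ← add_smul, Nat.cast_add]
    | zero => rw [mul_zero]; exact zero_mem _
    | add a b _ _ ha hb => rw [mul_add]; exact add_mem ha hb
    | smul c a _ ha => rw [mul_smul_comm]; exact Submodule.smul_mem _ _ ha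
  | zero => rw [zero_mul]; exact zero_mem _
  | add a b _ _ ha hb => rw [add_mul]; exact add_mem ha hb
  | smul c a _ ha => rw [smul_mul_assoc]; exact Submodule.smul_mem _ _ ha

theorem algebraMap_mem_weightGe (f : P) : algebraMap P E f ∈ weightGe k n 0 := by
  induction f using MvPolynomial.induction_on' with
  | monomial m c =>
    refine Submodule.subset_span ⟨m.degree, Nat.zero_le _, ?_⟩
    rw [eulerLie_algebraMap]
    have : eulerDer k n (MvPolynomial.monomial m c) = (m.degree : k) • MvPolynomial.monomial m c := by
      ext m'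
      rw [coeff_eulerDer, MvPolynomial.coeff_smul, MvPolynomial.coeff_monomial, smul_eq_mul]
      split_ifs with h
      · rw [h]
      · simp
    rw [this, ← algebraMap_smul P ((m.degree : k)), smul_eq_mul, map_mul, ← Algebra.smul_def,
      algebraMap_smul]
  | add a b ha hb => rw [map_add]; exact add_mem ha hb

theorem exteriorPower_le_weightGe (p : ℕ) (x : E) (hx : x ∈ exteriorPower P p W) :
    x ∈ weightGe k n p := by
  induction hx using Submodule.pow_induction_on_left' with
  | algebraMap r => exact algebraMap_mem_weightGe k n r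
  | add x y i _ _ hx hy => exact add_mem hx hy
  | mem_mul m hm i x _ hx =>
    obtain ⟨m, rfl⟩ := hm
    rw [Nat.succ_eq_add_one, add_comm i 1]
    refine weightGe_mul k n ?_ hx
    have hm : m ∈ Submodule.span P (Set.range fun i => KaehlerDifferential.D k P (MvPolynomial.X i)) := by
      have := (KaehlerDifferential.mvPolynomialBasis k (Fin n)).span_eq
      rw [show Set.range (KaehlerDifferential.mvPolynomialBasis k (Fin n)) =
        Set.range (fun i => KaehlerDifferential.D k P (MvPolynomial.X i)) from
        congrArg Set.range (funext fun i => KaehlerDifferential.mvPolynomialBasis_apply k (Fin n) i)] at this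
      rw [this]; trivial
    induction hm using Submodule.span_induction with
    | mem m hm =>
      obtain ⟨i, rfl⟩ := hm
      exact Submodule.subset_span ⟨1, le_rfl, by rw [eulerLie_ι_D, Nat.cast_one, one_smul]⟩
    | zero => rw [map_zero]; exact zero_mem _
    | add a b _ _ ha hb => rw [map_add]; exact add_mem ha hb
    | smul c a _ ha =>
      rw [map_smul, Algebra.smul_def]
      simpa using weightGe_mul k n (algebraMap_mem_weightGe k n c) ha

variable [CharZero k]

theorem exists_eulerLie_preimage {p : ℕ} {x : E} (hx : x ∈ exteriorPower P (p + 1) W) :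
    ∃ g : Polynomial k, eulerLie k n ((Polynomial.aeval (eulerLie k n)) g x) = x := by
  have key : ∃ f : Polynomial k, f.coeff 0 ≠ 0 ∧ Polynomial.aeval (eulerLie k n) f x = 0 := by
    have h := exteriorPower_le_weightGe k n (p + 1) x hx
    clear hx
    induction h using Submodule.span_induction with
    | mem x hx =>
      obtain ⟨w, hw, hwx⟩ := hx
      refine ⟨Polynomial.X - Polynomial.C (w : k), ?_, ?_⟩
      · simp only [Polynomial.coeff_sub, Polynomial.coeff_X_zero, Polynomial.coeff_C_zero, zero_sub,
          ne_eq, neg_eq_zero, Nat.cast_eq_zero]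
        omega
      · simp [hwx, Module.algebraMap_end_apply, ← Nat.cast_smul_eq_nsmul k]
    | zero => exact ⟨1, by simp, by simp⟩
    | add a b _ _ ha hb =>
      obtain ⟨f, hf, hfa⟩ := ha
      obtain ⟨g, hg, hgb⟩ := hb
      refine ⟨f * g, by rw [Polynomial.mul_coeff_zero]; exact mul_ne_zero hf hg, ?_⟩
      rw [map_add]
      conv_lhs => arg 1; rw [mul_comm f g]
      rw [map_mul, map_mul, Module.End.mul_apply, Module.End.mul_apply, hfa, hgb, map_zero, map_zero,
        add_zero]
    | smul c a _ ha =>
      obtain ⟨f, hf, hfa⟩ := ha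
      exact ⟨f, hf, by rw [map_smul, hfa, smul_zero]⟩
  obtain ⟨f, hf, hfx⟩ := key
  refine ⟨Polynomial.C (-(f.coeff 0)⁻¹) * f.divX, ?_⟩
  have h1 : eulerLie k n (Polynomial.aeval (eulerLie k n) f.divX x) + f.coeff 0 • x = 0 := by
    rw [← hfx]
    have e := congrArg (fun g => Polynomial.aeval (eulerLie k n) g x) (Polynomial.X_mul_divX_add f)
    simp only [map_add, map_mul, Polynomial.aeval_X, Polynomial.aeval_C, LinearMap.add_apply,
      Module.End.mul_apply, Module.algebraMap_end_apply] at e
    exact e
  rw [map_mul, Polynomial.aeval_C, Module.End.mul_apply, Algebra.algebraMap_eq_smul_one,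
    LinearMap.smul_apply, Module.End.one_apply, map_smul, eq_neg_of_add_eq_zero_left h1, smul_neg,
    ← neg_smul, neg_neg, smul_smul, inv_mul_cancel₀ hf, one_smul]

theorem dR_comm_eulerLie (g : Polynomial k) (x : E) :
    H4Easy.dR k P (Polynomial.aeval (eulerLie k n) g x) =
      Polynomial.aeval (eulerLie k n) g (H4Easy.dR k P x) := by
  induction g using Polynomial.induction_on generalizing x with
  | C a => simp [Algebra.algebraMap_eq_smul_one]
  | add a b ha hb => simp only [map_add, LinearMap.add_apply, ha, hb]
  | monomial i a ih =>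
    have hL : ∀ y, H4Easy.dR k P (eulerLie k n y) = eulerLie k n (H4Easy.dR k P y) := fun y => by
      rw [eulerLie_apply, eulerLie_apply, map_add, H4Easy.dR_dR, H4Easy.dR_dR, map_zero, zero_add,
        add_zero]
    rw [pow_succ, ← mul_assoc, map_mul, Polynomial.aeval_X, Module.End.mul_apply, Module.End.mul_apply,
      ih, hL]

theorem eulerLie_mem {p : ℕ} {x : E} (hx : x ∈ exteriorPower P (p + 1) W) :
    eulerLie k n x ∈ exteriorPower P (p + 1) W :=
  add_mem (H4Easy.dR_mem k P (extContr_mem _ hx)) (extContr_mem _ (H4Easy.dR_mem k P hx))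

theorem aeval_eulerLie_mem (g : Polynomial k) {p : ℕ} {x : E}
    (hx : x ∈ exteriorPower P (p + 1) W) :
    Polynomial.aeval (eulerLie k n) g x ∈ exteriorPower P (p + 1) W := by
  induction g using Polynomial.induction_on generalizing x with
  | C a =>
    rw [Polynomial.aeval_C, Algebra.algebraMap_eq_smul_one, LinearMap.smul_apply, Module.End.one_apply]
    exact Submodule.smul_of_tower_mem _ a hx
  | add a b ha hb => rw [map_add, LinearMap.add_apply]; exact add_mem (ha hx) (hb hx)
  | monomial i a ih =>
    rw [pow_succ, ← mul_assoc, map_mul, Polynomial.aeval_X, Module.End.mul_apply]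
    exact ih (eulerLie_mem k n hx)

theorem deRham_exact (d : E →ₗ[k] E)
    (h0 : ∀ a : P, d (algebraMap P E a) = ExteriorAlgebra.ι P (KaehlerDifferential.D k P a))
    (hdeg : ∀ (p : ℕ) (ω : E), ω ∈ exteriorPower P p W → d ω ∈ exteriorPower P (p + 1) W)
    (hder : ∀ (p : ℕ) (ω η : E), ω ∈ exteriorPower P p W →
      d (ω * η) = d ω * η + (-1) ^ p * ω * d η)
    (hdd : ∀ ω, d (d ω) = 0) :
    (∀ a : P, d (algebraMap P E a) = 0 → ∃ c : k, a = MvPolynomial.C c) ∧
      ∀ (p : ℕ) (ω : E), ω ∈ exteriorPower P (p + 1) W → d ω = 0 →
        ∃ θ ∈ exteriorPower P p W, d θ = ω := by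
  obtain rfl : d = H4Easy.dR k P :=
    (H4Easy.existsUnique_deRham k P).unique ⟨h0, hdeg, hder, hdd⟩
      ⟨H4Easy.dR_algebraMap k P, fun p x hx => H4Easy.dR_mem k P hx, fun p x y hx => by
        rw [H4Easy.dR_mul, H4Easy.extEps_of_mem hx], H4Easy.dR_dR k P⟩
  refine ⟨fun a ha => ⟨MvPolynomial.coeff 0 a, ?_⟩, fun p ω hω hd => ?_⟩
  · have he : eulerDer k n a = 0 := by
      have := eulerLie_algebraMap k n a
      rw [eulerLie_apply, extContr_algebraMap, map_zero, zero_add, ha, map_zero] at this
      exact (ExteriorAlgebra.algebraMap_eq_zero_iff _ _).mp this.symm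
    ext m
    rw [MvPolynomial.coeff_C]
    split_ifs with h
    · rw [h]
    · have h1 := coeff_eulerDer k n a m
      rw [he, MvPolynomial.coeff_zero, eq_comm, mul_eq_zero, Nat.cast_eq_zero] at h1
      exact h1.resolve_left fun h2 => h ((Finsupp.degree_eq_zero_iff m).mp h2).symm
  · obtain ⟨g, hg⟩ := exists_eulerLie_preimage k n hω
    refine ⟨extContr (eulerForm k n) (Polynomial.aeval (eulerLie k n) g ω),
      extContr_mem _ (aeval_eulerLie_mem k n g hω), ?_⟩
    conv_rhs => rw [← hg]
    rw [eulerLie_apply, dR_comm_eulerLie, hd, map_zero, map_zero, add_zero]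

end Euler

end

end Groth.Agent.H4Easy
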