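import Mathlib
import Groth.Prelude.Def_Disp2

/-! existence and uniqueness of the operator V-sharp of a 3n-display -/

set_option autoImplicit false
set_option linter.style.haveILetI false

open TensorProduct

universe u v w

namespace Groth.Agent.H4Easy


section
variable {A : Type u} {B : Type u} [CommRing A] [CommRing B] (g : A →+* B)
variable (P : Type v) [AddCommGroup P] [Module A P]

/-- `BC g P` is the base change of `P` along `g`. -/
theorem bc_finite_projective_rank [Module.Finite A P] [Module.Projective A P] :
    Module.Finite B (Dieu.BC g P) ∧ Module.Projective B (Dieu.BC g P) ∧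
      ∀ p : PrimeSpectrum B, Module.rankAtStalk (Dieu.BC g P) p = Module.rankAtStalk P (p.comap g) := by
  letI : Algebra A B := g.toAlgebra
  let e₀ : Dieu.Res g ≃ₗ[A] B :=
    { toFun := Dieu.Res.val, invFun := Dieu.Res.mk g, map_add' := fun _ _ => rfl,
      map_smul' := fun _ _ => rfl }
  let e₁ : Dieu.BC g P ≃+ B ⊗[A] P := (TensorProduct.congr e₀ (LinearEquiv.refl A P)).toAddEquiv
  have he₁ : ∀ b x, e₁ (Dieu.BC.tmul g b x) = b ⊗ₜ[A] x := fun b x => rfl
  let e : Dieu.BC g P ≃ₗ[B] B ⊗[A] P :=
    { e₁ with
      map_smul' := fun c z => by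
        show e₁ (c • z) = c • e₁ z
        induction z using Dieu.BC.induction_on g with
        | zero => rw [smul_zero, map_zero, smul_zero]
        | tmul b x => rw [Dieu.BC.smul_tmul, he₁, he₁, TensorProduct.smul_tmul', smul_eq_mul]
        | add z₁ z₂ h₁ h₂ => rw [smul_add, map_add, map_add, h₁, h₂, smul_add] }
  refine ⟨Module.Finite.equiv e.symm, Module.Projective.of_equiv e.symm, fun p => ?_⟩
  rw [Module.rankAtStalk_eq_of_equiv e, Module.rankAtStalk_baseChange]
  rfl

end

theorem injective_of_surjective_of_rank_eq {B : Type u} [CommRing B] {M : Type v} {N : Type w}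
    [AddCommGroup M] [Module B M] [Module.Finite B M] [Module.Projective B M] [AddCommGroup N]
    [Module B N] [Module.Finite B N] [Module.Projective B N] (f : M →ₗ[B] N)
    (hf : Function.Surjective f) (hr : ∀ p : PrimeSpectrum B, Module.rankAtStalk M p = Module.rankAtStalk N p) :
    Function.Injective f := by
  obtain ⟨s, hs⟩ := Module.projective_lifting_property f LinearMap.id hf
  let r : M →ₗ[B] LinearMap.ker f := (LinearMap.id - s ∘ₗ f).codRestrict _ fun x => by
    rw [LinearMap.mem_ker, LinearMap.sub_apply, LinearMap.id_apply, map_sub, LinearMap.comp_apply,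
      ← LinearMap.comp_apply f s, hs, LinearMap.id_apply, sub_self]
  have hr1 : ∀ k : LinearMap.ker f, r k = k := fun k => Subtype.ext (by
    show (k : M) - s (f k) = k
    rw [LinearMap.mem_ker.1 k.2, map_zero, sub_zero])
  have hrc : r ∘ₗ (LinearMap.ker f).subtype = LinearMap.id := LinearMap.ext hr1
  haveI : Module.Projective B (LinearMap.ker f) := Module.Projective.of_split _ r hrc
  haveI : Module.Finite B (LinearMap.ker f) := Module.Finite.of_surjective r fun k => ⟨k, hr1 k⟩
  let e : (LinearMap.ker f × N) ≃ₗ[B] M :=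
    LinearEquiv.ofLinear ((LinearMap.ker f).subtype.coprod s) (r.prod f)
      (LinearMap.ext fun x => by simp [r])
      (by
        refine LinearMap.ext fun ⟨k, y⟩ => ?_
        have hfs : f (s y) = y := congrArg (fun φ => φ y) hs
        refine Prod.ext ?_ ?_
        · apply Subtype.ext
          show ((k : M) + s y) - s (f ((k : M) + s y)) = k
          rw [map_add, LinearMap.mem_ker.1 k.2, zero_add, hfs, add_sub_cancel_right]
        · show f ((k : M) + s y) = y
          rw [map_add, LinearMap.mem_ker.1 k.2, zero_add, hfs])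
  have h0 : Module.rankAtStalk (R := B) (LinearMap.ker f) = 0 := by
    funext p
    have h1 := congrFun (Module.rankAtStalk_eq_of_equiv e) p
    rw [Module.rankAtStalk_prod, Pi.add_apply, ← hr p] at h1
    rw [Pi.zero_apply]
    omega
  haveI := Module.rankAtStalk_eq_zero_iff_subsingleton.1 h0
  rw [← LinearMap.ker_eq_bot]
  exact Submodule.subsingleton_iff_eq_bot.1 inferInstance

section
variable {p : ℕ} [Fact p.Prime] {R : Type u} [CommRing R]

theorem witt_coeff_eq_zero_of_eq_pow (hp : IsNilpotent (p : R)) :
    ∀ (n k : ℕ) (y : WittVector p R), 1 ≤ k → y = (p : WittVector p R) ^ k * y ^ 3 → y.coeff n = 0 := by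
  have h0 : ∀ (k : ℕ) (y : WittVector p R), 1 ≤ k → y = (p : WittVector p R) ^ k * y ^ 3 →
      y.coeff 0 = 0 := by
    intro k y hk hy
    have h := congrArg (WittVector.constantCoeff) hy
    rw [map_mul, map_pow, map_pow, map_natCast] at h
    have hnil : IsNilpotent ((p : R) ^ k * WittVector.constantCoeff y ^ 2) :=
      (Commute.all _ _).isNilpotent_mul_right (hp.pow_of_pos (by omega))
    refine (hnil.isUnit_one_sub.mul_right_eq_zero).1 ?_
    show (1 - (p : R) ^ k * WittVector.constantCoeff y ^ 2) * WittVector.constantCoeff y = 0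
    linear_combination h
  intro n
  induction n with
  | zero => exact h0
  | succ n ih =>
    intro k y hk hy
    have hz : y = WittVector.verschiebung (y.shift 1) := by
      simpa using WittVector.eq_iterate_verschiebung (n := 1) fun i hi => by
        obtain rfl : i = 0 := by omega
        exact h0 k y hk hy
    set z := y.shift 1
    rw [hz, WittVector.verschiebung_coeff_succ]
    refine ih (k + 2) z (by omega) ?_
    apply WittVector.verschiebung_injective
    have hnat : ∀ (m : ℕ) (x : WittVector p R),
        WittVector.verschiebung ((m : WittVector p R) * x) = (m : WittVector p R) * WittVector.verschiebung x := by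
      intro m x
      rw [← nsmul_eq_mul, map_nsmul, nsmul_eq_mul]
    have h2 : WittVector.verschiebung z * WittVector.verschiebung z =
        WittVector.verschiebung (z * (z * (p : WittVector p R))) := by
      rw [← WittVector.verschiebung_mul_frobenius, WittVector.frobenius_verschiebung]
    have h3 : WittVector.verschiebung z ^ 3 = WittVector.verschiebung (z ^ 3 * (p : WittVector p R) ^ 2) := by
      rw [pow_succ, pow_two, h2, ← WittVector.verschiebung_mul_frobenius,
        WittVector.frobenius_verschiebung]
      congr 1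
      ring
    rw [hz, h3] at hy
    rw [← Nat.cast_pow, ← hnat, Nat.cast_pow] at hy
    refine hy.trans (congrArg _ ?_)
    ring

theorem witt_frobenius_idempotent (hp : IsNilpotent (p : R)) {e : WittVector p R} (he : IsIdempotentElem e) :
    WittVector.frobenius e = e := by
  have hσ : IsIdempotentElem (WittVector.frobenius e) := he.map _
  have h0 : (WittVector.frobenius e).coeff 0 = e.coeff 0 := by
    have hf : IsIdempotentElem ((WittVector.frobenius e).coeff 0) := hσ.map WittVector.constantCoeff
    have he0 : IsIdempotentElem (e.coeff 0) := he.map WittVector.constantCoeff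
    refine eq_of_isNilpotent_sub_of_isIdempotentElem_of_commute hf he0 ?_ (Commute.all _ _)
    have h := WittVector.ghostComponent_frobenius 0 e
    rw [WittVector.ghostComponent_apply, WittVector.ghostComponent_apply, wittPolynomial_zero,
      wittPolynomial_one] at h
    simp only [MvPolynomial.aeval_X, map_add, map_mul, map_pow, map_natCast] at h
    rw [he0.pow_eq (Fact.out (p := p.Prime)).ne_zero] at h
    rw [h, add_sub_cancel_right]
    exact (Commute.all _ _).isNilpotent_mul_right hp
  set d := WittVector.frobenius e - e with hd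
  have hd0 : d.coeff 0 = 0 := by
    show WittVector.constantCoeff d = 0
    rw [hd, map_sub]
    exact sub_eq_zero.2 h0
  have hd3 : d = d ^ 3 := by
    have e1 : WittVector.frobenius e * WittVector.frobenius e = WittVector.frobenius e := hσ.eq
    have e2 : e * e = e := he.eq
    rw [hd]
    linear_combination -(WittVector.frobenius e - 3 * e + 1) * e1 + (1 - 3 * WittVector.frobenius e + e) * e2
  have hz : d = WittVector.verschiebung (d.shift 1) := by
    simpa using WittVector.eq_iterate_verschiebung (n := 1) fun i hi => by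
      obtain rfl : i = 0 := by omega
      exact hd0
  generalize hzz : d.shift 1 = z at hz
  have hz' : z = (p : WittVector p R) ^ 2 * z ^ 3 := by
    apply WittVector.verschiebung_injective
    have h2 : WittVector.verschiebung z * WittVector.verschiebung z =
        WittVector.verschiebung (z * (z * (p : WittVector p R))) := by
      rw [← WittVector.verschiebung_mul_frobenius, WittVector.frobenius_verschiebung]
    rw [hz, pow_succ, pow_two, h2, ← WittVector.verschiebung_mul_frobenius,
      WittVector.frobenius_verschiebung] at hd3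
    refine hd3.trans (congrArg _ ?_)
    ring
  have hz0 : z = 0 := WittVector.ext fun n => by
    rw [witt_coeff_eq_zero_of_eq_pow hp n 2 _ (by norm_num) hz', WittVector.zero_coeff]
  rw [← sub_eq_zero, ← hd, hz, hz0, map_zero]

theorem rankAtStalk_comap_frobenius (hp : IsNilpotent (p : R)) (P : Type v) [AddCommGroup P]
    [Module (WittVector p R) P] [Module.Finite (WittVector p R) P] [Module.Projective (WittVector p R) P]
    (x : PrimeSpectrum (WittVector p R)) :
    Module.rankAtStalk P (x.comap WittVector.frobenius) = Module.rankAtStalk P x := by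
  haveI : Module.FinitePresentation (WittVector p R) P := Module.finitePresentation_of_projective _ _
  haveI : Module.Flat (WittVector p R) P := Module.Flat.of_projective
  have hc : IsClopen {y : PrimeSpectrum (WittVector p R) |
      Module.rankAtStalk P y = Module.rankAtStalk P x} :=
    (Module.isLocallyConstant_rankAtStalk (M := P)).isClopen_fiber _
  obtain ⟨e, he, hs⟩ := PrimeSpectrum.isClopen_iff.1 hc
  have hx : x ∈ (PrimeSpectrum.basicOpen e : Set (PrimeSpectrum (WittVector p R))) :=
    hs ▸ (rfl : Module.rankAtStalk P x = Module.rankAtStalk P x)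
  have : x.comap WittVector.frobenius ∈
      (PrimeSpectrum.basicOpen e : Set (PrimeSpectrum (WittVector p R))) := by
    show WittVector.frobenius e ∉ x.asIdeal
    rw [witt_frobenius_idempotent hp he]
    exact hx
  rw [← hs] at this
  exact this

theorem existsUnique_vSharp (hp : IsNilpotent (p : R)) {P : Type v} [AddCommGroup P]
    [Module (WittVector p R) P] (D : W4c1extbt610.Display3n p R P) :
    ∃! Vs : P →ₗ[WittVector p R] Dieu.BC (WittVector.frobenius : WittVector p R →+* WittVector p R) P,
      Dieu.IsVSharp D Vs := by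
  haveI := D.finite
  haveI := D.projective
  set σ : WittVector p R →+* WittVector p R := WittVector.frobenius with hσ
  obtain ⟨L, T, hLT, hQ⟩ := D.exists_normal
  haveI : Module.Projective (WittVector p R) L :=
    Module.Projective.of_split L.subtype (L.projectionOnto T hLT)
      (LinearMap.ext fun l => Submodule.projectionOnto_apply_left hLT l)
  haveI : Module.Projective (WittVector p R) T :=
    Module.Projective.of_split T.subtype (T.projectionOnto L hLT.symm)
      (LinearMap.ext fun l => Submodule.projectionOnto_apply_left hLT.symm l)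
  haveI : Module.Finite (WittVector p R) L := Module.Finite.of_surjective (L.projectionOnto T hLT)
    fun l => ⟨l, Submodule.projectionOnto_apply_left hLT l⟩
  haveI : Module.Finite (WittVector p R) T := Module.Finite.of_surjective (T.projectionOnto L hLT.symm)
    fun l => ⟨l, Submodule.projectionOnto_apply_left hLT.symm l⟩
  obtain ⟨hLf, hLp, hLr⟩ := bc_finite_projective_rank σ L
  obtain ⟨hTf, hTp, hTr⟩ := bc_finite_projective_rank σ T
  haveI : Module.Flat (WittVector p R) L := Module.Flat.of_projective
  haveI : Module.Flat (WittVector p R) T := Module.Flat.of_projective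
  haveI : Module.Flat (WittVector p R) P := Module.Flat.of_projective
  haveI : Module.Flat (WittVector p R) (Dieu.BC σ L) := @Module.Flat.of_projective _ _ _ _ _ hLp
  haveI : Module.Flat (WittVector p R) (Dieu.BC σ T) := @Module.Flat.of_projective _ _ _ _ _ hTp
  have hLQ : L ≤ D.Q := hQ ▸ le_sup_left
  let Φ : (Dieu.BC σ L × Dieu.BC σ T) →ₗ[WittVector p R] P :=
    (Dieu.BC.lift σ (D.Vinv.comp (Submodule.inclusion hLQ))).coprod
      (Dieu.BC.lift σ (D.F.comp T.subtype))
  let Ψ : (Dieu.BC σ L × Dieu.BC σ T) →ₗ[WittVector p R] Dieu.BC σ P :=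
    (Dieu.BC.map σ L.subtype).coprod ((p : WittVector p R) • Dieu.BC.map σ T.subtype)
  have hΦ1 : ∀ l : L, Φ (Dieu.BC.tmul σ 1 l, 0) = D.Vinv ⟨l, hLQ l.2⟩ := fun l => by
    simp [Φ]
    rfl
  have hΦ2 : ∀ t : T, Φ (0, Dieu.BC.tmul σ 1 t) = D.F t := fun t => by
    simp [Φ]
  have hFl : ∀ l : L, D.F l = (p : WittVector p R) • D.Vinv ⟨l, hLQ l.2⟩ := by
    intro l
    have h := D.Vinv_verschiebung_smul 1 l
    rw [one_smul] at h
    rw [← h, show (⟨WittVector.verschiebung (1 : WittVector p R) • (l : P), _⟩ : D.Q) =
      WittVector.verschiebung (1 : WittVector p R) • ⟨l, hLQ l.2⟩ from rfl, map_smulₛₗ,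
      WittVector.frobenius_verschiebung, one_mul]
  let K : Submodule (WittVector p R) P :=
    { carrier := {y | ∃ hy : y ∈ D.Q, ∃ z, Φ z = D.Vinv ⟨y, hy⟩ ∧ Ψ z = Dieu.BC.tmul σ 1 y}
      zero_mem' := ⟨zero_mem _, 0, by rw [map_zero]; exact (map_zero D.Vinv).symm,
        by rw [map_zero, Dieu.BC.tmul_zero]⟩
      add_mem' := fun {a b} ha hb => by
        obtain ⟨hy, z, h1, h2⟩ := ha
        obtain ⟨hy', z', h1', h2'⟩ := hb
        refine ⟨add_mem hy hy', z + z', ?_, ?_⟩
        · rw [map_add, h1, h1', ← map_add]
          rfl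
        · rw [map_add, h2, h2', Dieu.BC.tmul_add]
      smul_mem' := fun a y hy => by
        obtain ⟨hy, z, h1, h2⟩ := hy
        refine ⟨Submodule.smul_mem _ a hy, σ a • z, ?_, ?_⟩
        · rw [map_smul, h1, ← map_smulₛₗ D.Vinv]
          rfl
        · rw [map_smul, h2, Dieu.BC.smul_tmul, mul_one, Dieu.BC.tmul_apply_eq] }
  have hQK : D.Q ≤ K := by
    rw [hQ]
    refine sup_le (fun l hl => ?_) (Submodule.smul_le.2 fun a ha t ht => ?_)
    · exact ⟨hLQ hl, (Dieu.BC.tmul σ 1 (⟨l, hl⟩ : L), 0), hΦ1 ⟨l, hl⟩, by simp [Ψ]⟩
    · have hV : ∀ (w : WittVector p R) (s : T), WittVector.verschiebung w • (s : P) ∈ K := by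
        intro w s
        refine ⟨D.IV_smul_le (Submodule.smul_mem_smul (W4c1extbt610.verschiebung_mem_IV p R w)
          Submodule.mem_top), w • (0, Dieu.BC.tmul σ 1 s), ?_, ?_⟩
        · rw [map_smul, hΦ2]
          exact (D.Vinv_verschiebung_smul w s).symm
        · rw [map_smul, ← Dieu.BC.tmul_apply_eq, show σ (WittVector.verschiebung w) = w * p from
            WittVector.frobenius_verschiebung w]
          simp [Ψ]
      have : W4c1extbt610.IV p R ≤ K.comap (LinearMap.toSpanSingleton (WittVector p R) P t) := by
        rw [W4c1extbt610.IV, Ideal.span, Submodule.span_le]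
        rintro _ ⟨w, rfl⟩
        exact hV w ⟨t, ht⟩
      exact this ha
  have hsurj : Function.Surjective Φ := by
    rw [← LinearMap.range_eq_top, eq_top_iff, ← D.span_range_Vinv, Submodule.span_le]
    rintro _ ⟨⟨y, hy⟩, rfl⟩
    obtain ⟨_, z, h1, -⟩ := hQK hy
    exact ⟨z, h1⟩
  have hrank : ∀ x : PrimeSpectrum (WittVector p R), Module.rankAtStalk (Dieu.BC σ L × Dieu.BC σ T) x = Module.rankAtStalk P x := by
    intro x
    rw [Module.rankAtStalk_prod, Pi.add_apply, hLr, hTr, ← Pi.add_apply (Module.rankAtStalk (R := WittVector p R) L),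
      ← Module.rankAtStalk_prod, Module.rankAtStalk_eq_of_equiv (L.prodEquivOfIsCompl T hLT),
      rankAtStalk_comap_frobenius hp P x]
  let e := LinearEquiv.ofBijective Φ ⟨injective_of_surjective_of_rank_eq Φ hsurj hrank, hsurj⟩
  let Vs : P →ₗ[WittVector p R] Dieu.BC σ P := Ψ ∘ₗ e.symm.toLinearMap
  have hVs : ∀ z, Vs (Φ z) = Ψ z := fun z => by
    show Ψ (e.symm (e z)) = Ψ z
    rw [LinearEquiv.symm_apply_apply]
  have hV1 : ∀ y : D.Q, Vs (D.Vinv y) = Dieu.BC.tmul σ 1 (y : P) := by
    intro y
    obtain ⟨_, z, h1, h2⟩ := hQK y.2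
    rw [← h1, hVs, h2]
  have hF : ∀ x, Vs (D.F x) = (p : WittVector p R) • Dieu.BC.tmul σ 1 x := by
    intro x
    obtain ⟨⟨l, t⟩, rfl⟩ := (L.prodEquivOfIsCompl T hLT).surjective x
    rw [Submodule.coe_prodEquivOfIsCompl', map_add, map_add, hFl, map_smul, hV1, ← hΦ2, hVs,
      Dieu.BC.tmul_add, smul_add]
    simp [Ψ]
  refine ⟨Vs, ⟨fun w x => ?_, fun w y => ?_⟩, fun Vs' hVs' => ?_⟩
  · rw [map_smul, hF, smul_comm, ← Dieu.BC.tmul_eq_smul_tmul_one]
  · rw [map_smul, hV1, ← Dieu.BC.tmul_eq_smul_tmul_one]
  · refine LinearMap.ext_on D.span_range_Vinv ?_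
    rintro _ ⟨y, rfl⟩
    have := hVs'.app_smul_Vinv 1 y
    rw [one_smul] at this
    rw [this, hV1]

end

end Groth.Agent.H4Easy
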