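import Mathlib
import Groth.Prelude.Def_Disp2
import Groth.Agent.H4Easy.Batch42

/-! iterates of V-sharp: rebracketing, truncation vanishing, and displays under base change -/

set_option autoImplicit false
set_option linter.style.haveILetI false

open TensorProduct WittVector

universe u v

namespace Groth.Agent.H4Easy


section
variable {p : ℕ} [Fact p.Prime] {R : Type u} [CommRing R] {P : Type v} [AddCommGroup P]
  [Module (WittVector p R) P]

theorem span_verschiebung_sup_le_comap_frobenius :
    (W4c1extbt610.IV p R ⊔ Ideal.span {(p : WittVector p R)}).map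
      (WittVector.frobenius : WittVector p R →+* WittVector p R) ≤ Ideal.span {(p : WittVector p R)} := by
  rw [Ideal.map_le_iff_le_comap, sup_le_iff, W4c1extbt610.IV, Ideal.span_le, Ideal.span_le]
  refine ⟨?_, ?_⟩
  · rintro _ ⟨w, rfl⟩
    rw [SetLike.mem_coe, Ideal.mem_comap, WittVector.frobenius_verschiebung]
    exact Ideal.mul_mem_left _ _ (Ideal.mem_span_singleton_self _)
  · rintro _ rfl
    rw [SetLike.mem_coe, Ideal.mem_comap, map_natCast]
    exact Ideal.mem_span_singleton_self _

theorem natCast_pow_mem_ker_truncate (hp : IsNilpotent (p : R)) (n : ℕ) :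
    ∃ m : ℕ, (p : WittVector p R) ^ m ∈ RingHom.ker (WittVector.truncate (p := p) (R := R) n) := by
  obtain ⟨e, he⟩ := hp
  have key : ∀ j, ∃ (m : ℕ) (z : WittVector p R), (p : WittVector p R) ^ m = (⇑verschiebung)^[j] z := by
    intro j
    induction j with
    | zero => exact ⟨0, 1, by simp⟩
    | succ j ih =>
      obtain ⟨m, z, hz⟩ := ih
      have h0 : ((p : WittVector p R) ^ e).coeff 0 = 0 := by
        show WittVector.constantCoeff ((p : WittVector p R) ^ e) = 0
        rw [map_pow, map_natCast, he]
      have hy : (p : WittVector p R) ^ e = verschiebung (((p : WittVector p R) ^ e).shift 1) := by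
        simpa using WittVector.eq_iterate_verschiebung (n := 1) fun i hi => by
          obtain rfl : i = 0 := by omega
          exact h0
      generalize ((p : WittVector p R) ^ e).shift 1 = y at hy
      refine ⟨m + e, frobenius z * y, ?_⟩
      have hmul : ∀ (i : ℕ) (a : WittVector p R),
          (⇑verschiebung)^[i] a * (p : WittVector p R) ^ e = (⇑verschiebung)^[i] (a * (p : WittVector p R) ^ e) := by
        intro i
        induction i with
        | zero => intro a; rfl
        | succ i ihi =>
          intro a
          rw [Function.iterate_succ_apply', Function.iterate_succ_apply',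
            ← WittVector.verschiebung_mul_frobenius, map_pow, map_natCast]
          exact congrArg _ (by
            have h := ihi a
            exact h)
      rw [pow_add, hz, hmul, Function.iterate_succ_apply]
      congr 1
      conv_lhs => rw [hy]
      rw [mul_comm, ← WittVector.verschiebung_mul_frobenius, mul_comm]
  obtain ⟨m, z, hz⟩ := key n
  refine ⟨m, ?_⟩
  rw [WittVector.mem_ker_truncate]
  intro i hi
  rw [hz]
  clear hz
  induction n generalizing i z with
  | zero => omega
  | succ n ih =>
    rw [Function.iterate_succ_apply']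
    cases i with
    | zero => exact verschiebung_coeff_zero _
    | succ i => rw [verschiebung_coeff_succ]; exact ih z i (by omega)

variable (Vs : P →ₗ[WittVector p R] Dieu.BC (frobenius : WittVector p R →+* WittVector p R) P)

/-- The bracketing map `u ⊗ y ↦ u • σ^(a+1)(V^{(b+1)#} y)`. -/
noncomputable def bracketMap (a b : ℕ) :
    Dieu.BC ((frobenius : WittVector p R →+* WittVector p R) ^ (a + 1)) P →ₗ[WittVector p R]
      Dieu.BC ((frobenius : WittVector p R →+* WittVector p R) ^ (b + (a + 1) + 1)) P :=
  Dieu.BC.lift _
    ((Dieu.BC.castHom (show ((frobenius : WittVector p R →+* WittVector p R) ^ (a + 1)).comp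
        ((frobenius : WittVector p R →+* WittVector p R) ^ (b + 1)) =
          (frobenius : WittVector p R →+* WittVector p R) ^ (b + (a + 1) + 1) by
        refine RingHom.ext fun r => ?_
        simp only [RingHom.comp_apply, RingHom.coe_pow, ← Function.iterate_add_apply]
        rw [show a + 1 + (b + 1) = b + (a + 1) + 1 by omega])).comp
      ((Dieu.BC.push ((frobenius : WittVector p R →+* WittVector p R) ^ (b + 1))
        ((frobenius : WittVector p R →+* WittVector p R) ^ (a + 1))).comp (Dieu.vSharpPow Vs b)))

theorem bracketMap_vSharpPow (a b : ℕ) (x : P) :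
    bracketMap Vs a b (Dieu.vSharpPow Vs a x) = Dieu.vSharpPow Vs (b + (a + 1)) x := by
  induction a generalizing x with
  | zero =>
    rw [Dieu.vSharpPow_zero_apply]
    show _ = Dieu.vSharpPow Vs (b + 1) x
    rw [Dieu.vSharpPow_succ_apply]
    generalize Vs x = z
    induction z using Dieu.BC.induction_on with
    | zero => simp only [map_zero]
    | add u v hu hv => simp only [map_add, hu, hv]
    | tmul w y =>
      rw [Dieu.BC.castHom_tmul, bracketMap, Dieu.BC.lift_tmul, Dieu.BC.map_tmul, Dieu.BC.lift_tmul,
        LinearMap.comp_apply, LinearMap.comp_apply, map_smul]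
      generalize Dieu.vSharpPow Vs b y = z'
      congr 1
  | succ a ih =>
    show _ = Dieu.vSharpPow Vs ((b + (a + 1)) + 1) x
    rw [Dieu.vSharpPow_succ_apply, Dieu.vSharpPow_succ_apply]
    generalize Vs x = z
    induction z using Dieu.BC.induction_on with
    | zero => simp only [map_zero]
    | add u v hu hv => simp only [map_add, hu, hv]
    | tmul w x' =>
      rw [Dieu.BC.map_tmul, Dieu.BC.map_tmul, Dieu.BC.lift_tmul, Dieu.BC.lift_tmul, ← ih x', map_smul,
        map_smul, map_smul]
      congr 1
      generalize Dieu.vSharpPow Vs a x' = z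
      induction z using Dieu.BC.induction_on with
      | zero => simp only [map_zero]
      | add u v hu hv => simp only [map_add, hu, hv]
      | tmul u y =>
        simp only [bracketMap, Dieu.BC.push_tmul, Dieu.BC.castHom_tmul, Dieu.BC.lift_tmul,
          LinearMap.comp_apply, map_smul, map_smulₛₗ, RingHom.id_apply]
        congr 1
        generalize Dieu.vSharpPow Vs b y = z'
        induction z' using Dieu.BC.induction_on with
        | zero => simp only [map_zero]
        | add u v hu hv => simp only [map_add, hu, hv]
        | tmul v t =>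
          simp only [Dieu.BC.push_tmul, Dieu.BC.castHom_tmul, RingHom.coe_pow]
          rw [Function.iterate_succ_apply']
          rfl

theorem vSharpPow_mem_mul {a b : ℕ} {I J : Ideal (WittVector p R)}
    (ha : ∀ x : P, Dieu.vSharpPow Vs a x ∈ I • (⊤ : Submodule (WittVector p R)
      (Dieu.BC ((frobenius : WittVector p R →+* WittVector p R) ^ (a + 1)) P)))
    (hb : ∀ x : P, Dieu.vSharpPow Vs b x ∈ J • (⊤ : Submodule (WittVector p R)
      (Dieu.BC ((frobenius : WittVector p R →+* WittVector p R) ^ (b + 1)) P))) (x : P) :
    Dieu.vSharpPow Vs (b + (a + 1)) x ∈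
      (I * J.map ((frobenius : WittVector p R →+* WittVector p R) ^ (a + 1))) •
        (⊤ : Submodule (WittVector p R)
          (Dieu.BC ((frobenius : WittVector p R →+* WittVector p R) ^ (b + (a + 1) + 1)) P)) := by
  rw [← bracketMap_vSharpPow]
  refine Submodule.smul_induction_on (ha x) (fun r hr z _ => ?_)
    (fun u v hu hv => by rw [map_add]; exact add_mem hu hv)
  rw [map_smul, Submodule.mul_smul]
  refine Submodule.smul_mem_smul hr ?_
  induction z using Dieu.BC.induction_on with
  | zero => rw [map_zero]; exact zero_mem _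
  | add u v hu hv => rw [map_add]; exact add_mem (hu Submodule.mem_top) (hv Submodule.mem_top)
  | tmul u y =>
    rw [bracketMap, Dieu.BC.lift_tmul]
    refine Submodule.smul_mem _ u ?_
    simp only [LinearMap.comp_apply]
    refine Submodule.smul_induction_on (hb y) (fun s hs t _ => ?_) (fun u v hu hv => ?_)
    · rw [map_smulₛₗ, map_smul]
      exact Submodule.smul_mem_smul (Ideal.mem_map_of_mem _ hs) Submodule.mem_top
    · simp only [map_add]
      exact add_mem hu hv

theorem vSharpPow_truncate (hp : IsNilpotent (p : R)) (hnil : Dieu.IsVNilpotent Vs) (n : ℕ) :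
    ∃ N : ℕ, ∀ x : P, Dieu.vSharpPow Vs N x ∈ (RingHom.ker (WittVector.truncate (p := p) (R := R) n)) •
      (⊤ : Submodule (WittVector p R)
        (Dieu.BC ((frobenius : WittVector p R →+* WittVector p R) ^ (N + 1)) P)) := by
  obtain ⟨N₀, hN₀⟩ := hnil
  have hσp : ∀ (j : ℕ) (k : ℕ), (Ideal.span {(p : WittVector p R)} ^ k).map
      ((frobenius : WittVector p R →+* WittVector p R) ^ j) ≤ Ideal.span {(p : WittVector p R)} ^ k := by
    intro j k
    rw [Ideal.span_singleton_pow, Ideal.map_span, Set.image_singleton, map_pow, map_natCast]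
  have h1 : (W4c1extbt610.IV p R ⊔ Ideal.span {(p : WittVector p R)}).map
      ((frobenius : WittVector p R →+* WittVector p R) ^ (N₀ + 1)) ≤ Ideal.span {(p : WittVector p R)} := by
    rw [show (frobenius : WittVector p R →+* WittVector p R) ^ (N₀ + 1) =
      ((frobenius : WittVector p R →+* WittVector p R) ^ N₀).comp frobenius from pow_succ _ _,
      ← Ideal.map_map]
    refine (Ideal.map_mono span_verschiebung_sup_le_comap_frobenius).trans ?_
    simpa using hσp N₀ 1
  have hk : ∀ k : ℕ, ∃ N, ∀ x : P, Dieu.vSharpPow Vs N x ∈ (Ideal.span {(p : WittVector p R)} ^ (k + 1)) •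
      (⊤ : Submodule (WittVector p R)
        (Dieu.BC ((frobenius : WittVector p R →+* WittVector p R) ^ (N + 1)) P)) := by
    intro k
    induction k with
    | zero =>
      refine ⟨N₀ + (N₀ + 1), fun x => ?_⟩
      have hh := vSharpPow_mem_mul Vs (a := N₀) (b := N₀) hN₀ hN₀ x
      rw [show Ideal.span {(p : WittVector p R)} ^ (0 + 1) = Ideal.span {(p : WittVector p R)} from pow_one _]
      have hle : (W4c1extbt610.IV p R ⊔ Ideal.span {(p : WittVector p R)}) *
          (W4c1extbt610.IV p R ⊔ Ideal.span {(p : WittVector p R)}).map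
            ((frobenius : WittVector p R →+* WittVector p R) ^ (N₀ + 1)) ≤ Ideal.span {(p : WittVector p R)} :=
        le_trans Ideal.mul_le_right h1
      exact Submodule.smul_mono_left hle hh
    | succ k ih =>
      obtain ⟨N, hN⟩ := ih
      refine ⟨N + ((N₀ + (N₀ + 1)) + 1), fun x => ?_⟩
      have ha : ∀ x : P, Dieu.vSharpPow Vs (N₀ + (N₀ + 1)) x ∈ (Ideal.span {(p : WittVector p R)}) •
          (⊤ : Submodule (WittVector p R)
            (Dieu.BC ((frobenius : WittVector p R →+* WittVector p R) ^ (N₀ + (N₀ + 1) + 1)) P)) := fun x => by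
        have hh := vSharpPow_mem_mul Vs (a := N₀) (b := N₀) hN₀ hN₀ x
        have hle : (W4c1extbt610.IV p R ⊔ Ideal.span {(p : WittVector p R)}) *
          (W4c1extbt610.IV p R ⊔ Ideal.span {(p : WittVector p R)}).map
            ((frobenius : WittVector p R →+* WittVector p R) ^ (N₀ + 1)) ≤ Ideal.span {(p : WittVector p R)} :=
        le_trans Ideal.mul_le_right h1
        exact Submodule.smul_mono_left hle hh
      have hh := vSharpPow_mem_mul Vs (a := N₀ + (N₀ + 1)) (b := N) ha hN x
      refine Submodule.smul_mono_left ?_ hh
      rw [pow_succ' _ (k + 1)]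
      exact Ideal.mul_mono le_rfl (hσp _ _)
  obtain ⟨m, hm⟩ := natCast_pow_mem_ker_truncate hp n
  obtain ⟨N, hN⟩ := hk m
  refine ⟨N, fun x => Submodule.smul_mono_left ?_ (hN x)⟩
  rw [Ideal.span_singleton_pow, Ideal.span_singleton_le_iff_mem, pow_succ]
  exact Ideal.mul_mem_right _ _ hm

end

section
variable {p : ℕ} [Fact p.Prime] {S R : Type u} [CommRing S] [CommRing R] {P : Type v} [AddCommGroup P]
  [Module (WittVector p S) P] (f : S →+* R)

theorem map_frobenius' (g : S →+* R) (x : WittVector p S) :
    WittVector.map g (frobenius x) = frobenius (WittVector.map g x) := by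
  ext n
  rw [WittVector.map_coeff, WittVector.coeff_frobenius, WittVector.coeff_frobenius,
    MvPolynomial.aeval_def, MvPolynomial.aeval_def, MvPolynomial.eval₂_comp_left]
  congr 1
  · exact RingHom.ext_int _ _

/-- The additive map underlying `twistBC`. -/
noncomputable def twistBCAdd (n : ℕ) :
    Dieu.BC ((frobenius : WittVector p S →+* WittVector p S) ^ n) P →+
      Dieu.BC ((frobenius : WittVector p R →+* WittVector p R) ^ n)
        (Dieu.BC (WittVector.map f : WittVector p S →+* WittVector p R) P) :=
  TensorProduct.liftAddHom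
    (AddMonoidHom.mk' (fun t : Dieu.Res ((frobenius : WittVector p S →+* WittVector p S) ^ n) =>
      AddMonoidHom.mk' (fun x : P => Dieu.BC.tmul ((frobenius : WittVector p R →+* WittVector p R) ^ n)
          ((WittVector.map f : WittVector p S →+* WittVector p R) t.val) (Dieu.BC.ι (WittVector.map f : WittVector p S →+* WittVector p R) P x))
        fun x y => by rw [map_add, Dieu.BC.tmul_add])
      fun s t => AddMonoidHom.ext fun x => by
        show Dieu.BC.tmul _ (WittVector.map f (s + t).val) _ = Dieu.BC.tmul _ _ _ + Dieu.BC.tmul _ _ _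
        rw [Dieu.Res.val_add, map_add, Dieu.BC.add_tmul])
    (fun r t x => by
      show Dieu.BC.tmul _ (WittVector.map f (r • t).val) _ =
        Dieu.BC.tmul _ ((WittVector.map f : WittVector p S →+* WittVector p R) t.val) (Dieu.BC.ι (WittVector.map f) P (r • x))
      have hc : WittVector.map f (((frobenius : WittVector p S →+* WittVector p S) ^ n) r) =
          ((frobenius : WittVector p R →+* WittVector p R) ^ n) (WittVector.map f r) := by
        rw [RingHom.coe_pow, RingHom.coe_pow]
        clear t x
        induction n with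
        | zero => rfl
        | succ n ih =>
          rw [Function.iterate_succ_apply', Function.iterate_succ_apply', ← ih]
          exact map_frobenius' _ _
      rw [Dieu.Res.val_smul, map_mul, hc, mul_comm, Dieu.BC.tmul_mul_apply, map_smulₛₗ])

/-- The comparison map `w ⊗ x ↦ W(f) w ⊗ (1 ⊗ x)` of the twists. -/
noncomputable def twistBC (n : ℕ) :
    Dieu.BC ((frobenius : WittVector p S →+* WittVector p S) ^ n) P →ₛₗ[(WittVector.map f : WittVector p S →+* WittVector p R)]
      Dieu.BC ((frobenius : WittVector p R →+* WittVector p R) ^ n)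
        (Dieu.BC (WittVector.map f : WittVector p S →+* WittVector p R) P) where
  toFun := twistBCAdd f n
  map_add' x y := map_add _ x y
  map_smul' c z := by
    induction z using Dieu.BC.induction_on with
    | zero => rw [smul_zero, map_zero, smul_zero]
    | add u v hu hv => rw [smul_add, map_add, hu, hv, map_add, smul_add]
    | tmul b x =>
      rw [Dieu.BC.smul_tmul]
      show Dieu.BC.tmul _ (WittVector.map f (c * b)) _ =
        (WittVector.map f c : WittVector p R) • Dieu.BC.tmul _ (WittVector.map f b) _
      rw [Dieu.BC.smul_tmul, map_mul]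

theorem twistBC_tmul (n : ℕ) (w : WittVector p S) (x : P) :
    twistBC f n (Dieu.BC.tmul _ w x) =
      Dieu.BC.tmul ((frobenius : WittVector p R →+* WittVector p R) ^ n) (WittVector.map f w)
        (Dieu.BC.tmul (WittVector.map f) 1 x) := rfl

theorem isDisplay_baseChange (hp : IsNilpotent (p : S)) {D : W4c1extbt610.Display3n p S P}
    (hD : Dieu.IsDisplay D)
    {DR : W4c1extbt610.Display3n p R (Dieu.BC (WittVector.map f : WittVector p S →+* WittVector p R) P)}
    (hDR : Dieu.IsDispBaseChange f D DR) : Dieu.IsDisplay DR := by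
  have hpR : IsNilpotent (p : R) := by
    have := hp.map f
    rwa [map_natCast] at this
  obtain ⟨Vs, hVs, N, hN⟩ := hD
  obtain ⟨W, hW, -⟩ := Groth.Agent.H4Easy.existsUnique_vSharp hpR DR
  refine ⟨W, hW, N, ?_⟩
  have h1 : ∀ x : P, Dieu.BC.castHom (pow_one (frobenius : WittVector p R →+* WittVector p R)).symm
      (W (Dieu.BC.tmul (WittVector.map f) 1 x)) =
      twistBC f 1 (Dieu.BC.castHom (pow_one (frobenius : WittVector p S →+* WittVector p S)).symm (Vs x)) := by
    intro x
    have hx : x ∈ Submodule.span (WittVector p S) (Set.range D.Vinv) := D.span_range_Vinv ▸ Submodule.mem_top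
    induction hx using Submodule.span_induction with
    | mem y hy =>
      obtain ⟨q, rfl⟩ := hy
      have hmem : Dieu.BC.tmul (WittVector.map f : WittVector p S →+* WittVector p R) 1 (q : P) ∈ DR.Q := by
        rw [hDR.Q_eq, LinearMap.mem_ker, Dieu.bcQuotMap_tmul,
          show D.Q.mkQ (q : P) = 0 from (Submodule.Quotient.mk_eq_zero _).2 q.2, Dieu.BC.tmul_zero]
      have e1 := hDR.Vinv_tmul 1 q hmem
      rw [map_one] at e1
      have e2 := hW.app_smul_Vinv 1 ⟨_, hmem⟩
      rw [one_smul, e1] at e2
      have e3 := hVs.app_smul_Vinv 1 q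
      rw [one_smul] at e3
      rw [e2, e3, Dieu.BC.castHom_tmul, Dieu.BC.castHom_tmul, twistBC_tmul, map_one]
    | zero => simp only [Dieu.BC.tmul_zero, map_zero]
    | add a b _ _ ha hb => simp only [Dieu.BC.tmul_add, map_add, ha, hb]
    | smul r a _ ha =>
      rw [← Dieu.BC.tmul_apply_eq, Dieu.BC.tmul_eq_smul_tmul_one, map_smul, map_smul, ha, map_smul,
        map_smul, map_smulₛₗ]
  have key : ∀ (n : ℕ) (x : P), Dieu.vSharpPow W n (Dieu.BC.tmul (WittVector.map f) 1 x) =
      twistBC f (n + 1) (Dieu.vSharpPow Vs n x) := by
    intro n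
    induction n with
    | zero => intro x; rw [Dieu.vSharpPow_zero_apply, Dieu.vSharpPow_zero_apply]; exact h1 x
    | succ n ih =>
      intro x
      rw [Dieu.vSharpPow_succ_apply, Dieu.vSharpPow_succ_apply]
      have h2 := h1 x
      generalize W (Dieu.BC.tmul (WittVector.map f) 1 x) = z at h2 ⊢
      generalize Vs x = y at h2 ⊢
      have hz : z = Dieu.BC.castHom (pow_one (frobenius : WittVector p R →+* WittVector p R))
          (twistBC f 1 (Dieu.BC.castHom (pow_one (frobenius : WittVector p S →+* WittVector p S)).symm y)) := by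
        rw [← h2]
        clear h2
        induction z using Dieu.BC.induction_on with
        | zero => simp only [map_zero]
        | add u v hu hv => simp only [map_add, ← hu, ← hv]
        | tmul w t => rw [Dieu.BC.castHom_tmul, Dieu.BC.castHom_tmul]
      rw [hz]
      clear h2 hz
      induction y using Dieu.BC.induction_on with
      | zero => simp only [map_zero]
      | add u v hu hv => simp only [map_add, hu, hv]
      | tmul w x' =>
        rw [Dieu.BC.castHom_tmul, twistBC_tmul, Dieu.BC.castHom_tmul, Dieu.BC.map_tmul, Dieu.BC.map_tmul,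
          Dieu.BC.lift_tmul, Dieu.BC.lift_tmul, ih, map_smul, map_smul, map_smulₛₗ]
        congr 1
        generalize Dieu.vSharpPow Vs n x' = z'
        induction z' using Dieu.BC.induction_on with
        | zero => simp only [map_zero]
        | add u v hu hv => simp only [map_add, hu, hv]
        | tmul u t =>
          rw [twistBC_tmul, Dieu.BC.push_tmul, Dieu.BC.castHom_tmul, Dieu.BC.push_tmul,
            Dieu.BC.castHom_tmul, twistBC_tmul]
          exact congrArg (fun a => Dieu.BC.tmul _ a _) (map_frobenius' _ _).symm
  intro z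
  induction z using Dieu.BC.induction_on with
  | zero => rw [map_zero]; exact zero_mem _
  | add u v hu hv => rw [map_add]; exact add_mem hu hv
  | tmul b x =>
    rw [Dieu.BC.tmul_eq_smul_tmul_one, map_smul, key]
    refine Submodule.smul_mem _ b ?_
    refine Submodule.smul_induction_on (hN x) (fun r hr t _ => ?_)
      (fun u v hu hv => by rw [map_add]; exact add_mem hu hv)
    rw [map_smulₛₗ]
    refine Submodule.smul_mem_smul ?_ Submodule.mem_top
    have hle : (W4c1extbt610.IV p S ⊔ Ideal.span {(p : WittVector p S)}).map (WittVector.map f) ≤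
        W4c1extbt610.IV p R ⊔ Ideal.span {(p : WittVector p R)} := by
      rw [Ideal.map_sup, W4c1extbt610.IV, Ideal.map_span, Ideal.map_span, Set.image_singleton, map_natCast]
      refine sup_le_sup (Ideal.span_le.2 ?_) le_rfl
      rintro _ ⟨_, ⟨w, rfl⟩, rfl⟩
      rw [WittVector.map_verschiebung]
      exact W4c1extbt610.verschiebung_mem_IV p R _
    exact hle (Ideal.mem_map_of_mem _ hr)

end

end Groth.Agent.H4Easy
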