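import Mathlib
import Groth.Prelude.Def_Disp2
import Groth.Agent.H4Easy.Batch42
import Groth.Agent.H4Easy.Batch43

/-! Existence and uniqueness of base change of 3n-displays. -/

set_option autoImplicit false
set_option linter.style.haveILetI false

open TensorProduct WittVector

universe u v

namespace Groth.Agent.H4Easy


section
variable {p : ℕ} [Fact p.Prime] {S R : Type u} [CommRing S] [CommRing R] {P : Type v} [AddCommGroup P]
  [Module (WittVector p S) P] (f : S →+* R)

theorem display3n_ext {D D' : W4c1extbt610.Display3n p S P} (hQ : D.Q = D'.Q) (hF : D.F = D'.F)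
    (hV : ∀ (y : P) (h : y ∈ D.Q) (h' : y ∈ D'.Q), D.Vinv ⟨y, h⟩ = D'.Vinv ⟨y, h'⟩) : D = D' := by
  obtain ⟨Q, F, V, a, b, c, d, e, g⟩ := D
  obtain ⟨Q', F', V', a', b', c', d', e', g'⟩ := D'
  dsimp only at hQ hF hV
  subst hQ hF
  obtain rfl : V = V' := LinearMap.ext fun y => hV y.1 y.2 y.2
  rfl

/-- `w ⊗ x ↦ σ w ⊗ ψ x` for a Frobenius-semilinear `ψ`. -/
noncomputable def twMapAdd (ψ : P →ₛₗ[(frobenius : WittVector p S →+* WittVector p S)] P) :
    Dieu.BC (WittVector.map f : WittVector p S →+* WittVector p R) P →+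
      Dieu.BC (WittVector.map f : WittVector p S →+* WittVector p R) P :=
  TensorProduct.liftAddHom
    (AddMonoidHom.mk' (fun t : Dieu.Res (WittVector.map f : WittVector p S →+* WittVector p R) =>
      AddMonoidHom.mk' (fun x : P =>
          Dieu.BC.tmul (WittVector.map f : WittVector p S →+* WittVector p R) (frobenius t.val) (ψ x))
        fun x y => by rw [map_add, Dieu.BC.tmul_add])
      fun s t => AddMonoidHom.ext fun x => by
        show Dieu.BC.tmul _ (frobenius (s + t).val) _ = Dieu.BC.tmul _ _ _ + Dieu.BC.tmul _ _ _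
        rw [Dieu.Res.val_add, map_add, Dieu.BC.add_tmul])
    fun r t x => by
      show Dieu.BC.tmul _ (frobenius (r • t).val) _ = Dieu.BC.tmul _ (frobenius t.val) (ψ (r • x))
      rw [Dieu.Res.val_smul, map_mul, ← Groth.Agent.H4Easy.map_frobenius', mul_comm,
        Dieu.BC.tmul_mul_apply, map_smulₛₗ]

/-- The semilinear map underlying `twMapAdd`. -/
noncomputable def twMap (ψ : P →ₛₗ[(frobenius : WittVector p S →+* WittVector p S)] P) :
    Dieu.BC (WittVector.map f : WittVector p S →+* WittVector p R) P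
      →ₛₗ[(frobenius : WittVector p R →+* WittVector p R)]
        Dieu.BC (WittVector.map f : WittVector p S →+* WittVector p R) P where
  toFun := twMapAdd f ψ
  map_add' x y := map_add _ x y
  map_smul' c z := by
    induction z using Dieu.BC.induction_on with
    | zero => rw [smul_zero, map_zero, smul_zero]
    | add u v hu hv => rw [smul_add, map_add, hu, hv, map_add, smul_add]
    | tmul b x =>
      rw [Dieu.BC.smul_tmul]
      show Dieu.BC.tmul _ (frobenius (c * b)) _ = frobenius c • Dieu.BC.tmul _ (frobenius b) _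
      rw [Dieu.BC.smul_tmul, map_mul]

theorem twMap_tmul (ψ : P →ₛₗ[(frobenius : WittVector p S →+* WittVector p S)] P) (w : WittVector p R) (x : P) :
    twMap f ψ (Dieu.BC.tmul _ w x) = Dieu.BC.tmul (WittVector.map f) (frobenius w) (ψ x) := rfl

theorem verschiebung_shift_of_coeff_zero {c : WittVector p R} (h : c.coeff 0 = 0) :
    verschiebung (c.shift 1) = c := by
  simpa using (WittVector.eq_iterate_verschiebung (n := 1) fun i hi => by
    obtain rfl : i = 0 := by omega
    exact h).symm

theorem constantCoeff_map_of_mem_IV {a : WittVector p S} (ha : a ∈ W4c1extbt610.IV p S) :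
    a.coeff 0 = 0 := by
  show a ∈ RingHom.ker (WittVector.constantCoeff (p := p) (R := S))
  refine Ideal.span_le.2 ?_ ha
  rintro _ ⟨w, rfl⟩
  exact verschiebung_coeff_zero w

theorem existsUnique_dispBaseChange (D : W4c1extbt610.Display3n p S P) :
    ∃! DR : W4c1extbt610.Display3n p R (Dieu.BC (WittVector.map f : WittVector p S →+* WittVector p R) P),
      Dieu.IsDispBaseChange f D DR := by
  classical
  haveI := D.finite
  haveI := D.projective
  set g : WittVector p S →+* WittVector p R := WittVector.map f with hg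
  obtain ⟨L, T, hLT, hQ⟩ := D.exists_normal
  have hLQ : L ≤ D.Q := hQ ▸ le_sup_left
  let prL : P →ₗ[WittVector p S] L := L.projectionOnto T hLT
  let prT : P →ₗ[WittVector p S] T := T.projectionOnto L hLT.symm
  haveI : Module.Projective (WittVector p S) T :=
    Module.Projective.of_split T.subtype prT
      (LinearMap.ext fun l => Submodule.projectionOnto_apply_left hLT.symm l)
  haveI : Module.Finite (WittVector p S) T := Module.Finite.of_surjective prT
    fun l => ⟨l, Submodule.projectionOnto_apply_left hLT.symm l⟩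
  obtain ⟨n, π, hπ⟩ := Module.Finite.exists_fin' (WittVector p S) T
  obtain ⟨ι, hι⟩ := Module.projective_lifting_property π LinearMap.id hπ
  let fc : Fin n → (P →ₗ[WittVector p S] WittVector p S) := fun i => (LinearMap.proj i) ∘ₗ ι ∘ₗ prT
  let ev : Fin n → P := fun i => (π (Pi.single i 1) : P)
  have hsplit : ∀ x : P, (prL x : P) + (prT x : P) = x := fun x =>
    Submodule.projection_add_projection_eq_self hLT x
  have hTdec : ∀ t : T, (t : P) = ∑ i, ι t i • ev i := fun t => by
    have h1 : π (ι t) = t := congrArg (fun φ => φ t) hι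
    conv_lhs => rw [← h1, pi_eq_sum_univ' (ι t)]
    rw [map_sum, AddSubmonoidClass.coe_finsetSum]
    exact Finset.sum_congr rfl fun i _ => by rw [map_smul, Submodule.coe_smul]
  have hdec : ∀ x : P, x = (prL x : P) + ∑ i, fc i x • ev i := fun x => by
    conv_lhs => rw [← hsplit x, hTdec (prT x)]
    rfl
  have hfQ : ∀ q ∈ D.Q, ∀ i, (fc i q).coeff 0 = 0 := by
    intro q hq i
    rw [hQ] at hq
    obtain ⟨l, hl, z, hz, rfl⟩ := Submodule.mem_sup.1 hq
    have h0 : prT l = 0 := Submodule.projectionOnto_apply_right hLT.symm ⟨l, hl⟩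
    have : fc i (l + z) = fc i z := by rw [map_add]; simp [fc, h0]
    rw [this]
    refine constantCoeff_map_of_mem_IV ?_
    refine Submodule.smul_induction_on hz (fun a ha t _ => ?_) (fun u v hu hv => ?_)
    · rw [map_smul]
      exact Ideal.mul_mem_right _ _ ha
    · rw [map_add]; exact add_mem hu hv
  let Λ : P →ₗ[WittVector p S] P := L.subtype ∘ₗ prL
  let ψ₁ : P →ₛₗ[(frobenius : WittVector p S →+* WittVector p S)] P :=
    D.Vinv.comp ((Submodule.inclusion hLQ).comp prL)
  have hFl : ∀ q : D.Q, D.F q = (p : WittVector p S) • D.Vinv q := by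
    intro q
    have h := D.Vinv_verschiebung_smul 1 (q : P)
    rw [one_smul] at h
    rw [← h, show (⟨verschiebung (1 : WittVector p S) • (q : P), _⟩ : D.Q) =
      verschiebung (1 : WittVector p S) • q from rfl, map_smulₛₗ, frobenius_verschiebung, one_mul]
  have hFdec : ∀ x : P, D.F x = (p : WittVector p S) • ψ₁ x + ∑ i, frobenius (fc i x) • D.F (ev i) :=
    fun x => by
      conv_lhs => rw [hdec x]
      rw [map_add, map_sum]
      congr 1
      · exact hFl ⟨_, hLQ (prL x).2⟩
      · exact Finset.sum_congr rfl fun i _ => map_smulₛₗ _ _ _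
  have hVdec : ∀ q : D.Q, D.Vinv q = ψ₁ q + ∑ i, (fc i q).shift 1 • D.F (ev i) := by
    intro q
    have hq : q = Submodule.inclusion hLQ (prL q) +
        ∑ i, (⟨verschiebung ((fc i q).shift 1) • ev i, D.IV_smul_le (Submodule.smul_mem_smul
          (W4c1extbt610.verschiebung_mem_IV p S _) Submodule.mem_top)⟩ : D.Q) := by
      apply Subtype.ext
      rw [Submodule.coe_add, AddSubmonoidClass.coe_finsetSum]
      refine (hdec q).trans (congrArg₂ (· + ·) rfl (Finset.sum_congr rfl fun i _ => ?_))
      exact (congrArg (· • ev i) (verschiebung_shift_of_coeff_zero (hfQ q q.2 i))).symm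
    conv_lhs => rw [hq]
    rw [map_add, map_sum]
    exact congrArg₂ (· + ·) rfl (Finset.sum_congr rfl fun i _ => D.Vinv_verschiebung_smul _ _)
  let c : Fin n → (Dieu.BC g P →ₗ[WittVector p R] WittVector p R) :=
    fun i => Dieu.BC.lift g ((Dieu.semilinearOfRingHom g).comp (fc i))
  have hc : ∀ i w x, c i (Dieu.BC.tmul g w x) = w * g (fc i x) := fun i w x => Dieu.BC.lift_tmul _ _ _ _
  have hRdec : ∀ z, z = Dieu.BC.map g Λ z + ∑ i, c i z • Dieu.BC.tmul g 1 (ev i) := by
    intro z
    induction z using Dieu.BC.induction_on with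
    | zero => simp
    | add u v hu hv =>
      simp only [map_add, add_smul, Finset.sum_add_distrib]
      conv_lhs => rw [hu, hv]
      abel
    | tmul w x =>
      rw [Dieu.BC.map_tmul]
      conv_lhs => rw [hdec x, Dieu.BC.tmul_add]
      congr 1
      simp only [hc, Dieu.BC.smul_tmul, mul_one, Dieu.BC.tmul_mul_apply]
      exact map_sum (AddMonoidHom.mk' (fun y => Dieu.BC.tmul g w y) fun a b => Dieu.BC.tmul_add _ _ _ _) _ _
  have hkerc : ∀ z, z ∈ LinearMap.ker (Dieu.bcQuotMap f D.Q) → ∀ i, (c i z).coeff 0 = 0 := by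
    intro z hz i
    let φ₀ : (P ⧸ D.Q) →+ R := QuotientAddGroup.lift D.Q.toAddSubgroup
      (((WittVector.constantCoeff (p := p) (R := R)).comp g).toAddMonoidHom.comp (fc i).toAddMonoidHom)
      (fun q hq => by
        show constantCoeff (g (fc i q)) = 0
        show (g (fc i q)).coeff 0 = 0
        rw [hg, WittVector.map_coeff, hfQ q hq i, map_zero])
    let φ : (P ⧸ D.Q) →ₛₗ[(WittVector.constantCoeff (p := p) (R := R)).comp g] R :=
      { φ₀ with
        map_smul' := fun a x => by
          obtain ⟨x, rfl⟩ := Submodule.Quotient.mk_surjective D.Q x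
          show constantCoeff (g (fc i (a • x))) = constantCoeff (g a) • constantCoeff (g (fc i x))
          rw [map_smul, smul_eq_mul, smul_eq_mul, map_mul, map_mul] }
    have key : ∀ z, (c i z).coeff 0 = Dieu.BC.lift _ φ (Dieu.bcQuotMap f D.Q z) := by
      intro z
      induction z using Dieu.BC.induction_on with
      | zero => simp
      | add u v hu hv =>
        rw [map_add, map_add, map_add, ← hu, ← hv]
        exact map_add (WittVector.constantCoeff (p := p) (R := R)) _ _
      | tmul w x =>
        rw [hc, Dieu.bcQuotMap_tmul, Dieu.BC.lift_tmul, smul_eq_mul]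
        exact map_mul (WittVector.constantCoeff (p := p) (R := R)) _ _
    rw [key, LinearMap.mem_ker.1 hz, map_zero]
  have hQmem : ∀ (w : WittVector p R) (y : P), y ∈ D.Q →
      Dieu.BC.tmul g w y ∈ LinearMap.ker (Dieu.bcQuotMap f D.Q) := fun w y hy => by
    rw [LinearMap.mem_ker, Dieu.bcQuotMap_tmul,
      show D.Q.mkQ y = 0 from (Submodule.Quotient.mk_eq_zero _).2 hy, Dieu.BC.tmul_zero]
  have hVmem : ∀ (w : WittVector p R) (z : Dieu.BC g P),
      verschiebung w • z ∈ LinearMap.ker (Dieu.bcQuotMap f D.Q) := fun w z => by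
    rw [LinearMap.mem_ker, map_smulₛₗ, show constantCoeff (verschiebung w) = (0 : R) from verschiebung_coeff_zero w,
      zero_smul]
  let QR : Submodule (WittVector p R) (Dieu.BC g P) := LinearMap.ker (Dieu.bcQuotMap f D.Q)
  have hshift : ∀ z : QR, ∀ i, verschiebung ((c i (z : Dieu.BC g P)).shift 1) = c i z := fun z i =>
    verschiebung_shift_of_coeff_zero (hkerc z z.2 i)
  let VR : QR →ₛₗ[(frobenius : WittVector p R →+* WittVector p R)] Dieu.BC g P :=
    { toFun := fun z => twMap f ψ₁ z + ∑ i, (c i (z : Dieu.BC g P)).shift 1 • Dieu.BC.tmul g 1 (D.F (ev i))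
      map_add' := fun x y => by
        have h : ∀ i, (c i ((x + y : QR) : Dieu.BC g P)).shift 1 = (c i x).shift 1 + (c i y).shift 1 :=
          fun i => verschiebung_injective _ _ (by rw [hshift, map_add, hshift, hshift, ← map_add]; rfl)
        simp only [h]
        simp only [add_smul, Finset.sum_add_distrib, Submodule.coe_add, map_add]
        abel
      map_smul' := fun a x => by
        have h : ∀ i, (c i ((a • x : QR) : Dieu.BC g P)).shift 1 = frobenius a * (c i x).shift 1 :=
          fun i => verschiebung_injective _ _ (by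
            rw [hshift, mul_comm, verschiebung_mul_frobenius, hshift, mul_comm]
            exact map_smul (c i) a (x : Dieu.BC g P))
        simp only [h]
        simp only [Submodule.coe_smul, map_smulₛₗ, smul_add, Finset.smul_sum, mul_smul] }
  have hVR1 : ∀ (w : WittVector p R) (y : D.Q) (h : Dieu.BC.tmul g w (y : P) ∈ QR),
      VR ⟨_, h⟩ = Dieu.BC.tmul g (frobenius w) (D.Vinv y) := by
    intro w y h
    show twMap f ψ₁ (Dieu.BC.tmul g w (y : P)) + ∑ i, _ = _
    have hs : ∀ i, (c i (Dieu.BC.tmul g w (y : P))).shift 1 = frobenius w * g ((fc i y).shift 1) := by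
      intro i
      apply verschiebung_injective
      rw [hshift ⟨_, h⟩, mul_comm, verschiebung_mul_frobenius, hc, hg, ← map_verschiebung,
        verschiebung_shift_of_coeff_zero (hfQ y y.2 i), mul_comm]
    simp only [hs]
    rw [twMap_tmul, hVdec y, Dieu.BC.tmul_add]
    congr 1
    rw [show Dieu.BC.tmul g (frobenius w) (∑ i, (fc i y).shift 1 • D.F (ev i)) =
        ∑ i, Dieu.BC.tmul g (frobenius w) ((fc i y).shift 1 • D.F (ev i)) from
      map_sum (AddMonoidHom.mk' (fun z => Dieu.BC.tmul g (frobenius w) z) fun a b => Dieu.BC.tmul_add _ _ _ _) _ _]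
    exact Finset.sum_congr rfl fun i _ => by
      rw [Dieu.BC.smul_tmul, mul_one, Dieu.BC.tmul_mul_apply]
  have hVR2 : ∀ (w : WittVector p R) (z : Dieu.BC g P),
      VR ⟨_, hVmem w z⟩ = w • twMap f D.F z := by
    intro w z
    show twMap f ψ₁ (verschiebung w • z) + ∑ i, _ = _
    have hs : ∀ i, (c i (verschiebung w • z)).shift 1 = w * frobenius (c i z) := by
      intro i
      apply verschiebung_injective
      rw [hshift ⟨_, hVmem w z⟩, verschiebung_mul_frobenius, map_smul, smul_eq_mul]
    simp only [hs]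
    rw [map_smulₛₗ, frobenius_verschiebung]
    clear hs
    induction z using Dieu.BC.induction_on with
    | zero => simp
    | add u v hu hv =>
      simp only [map_add, mul_add, add_smul, Finset.sum_add_distrib, smul_add] at hu hv ⊢
      rw [← hu, ← hv]
      abel
    | tmul b x =>
      rw [twMap_tmul, twMap_tmul, hFdec x, Dieu.BC.tmul_add, smul_add]
      congr 1
      · rw [← Dieu.BC.tmul_mul_apply, map_natCast, Dieu.BC.smul_tmul, Dieu.BC.smul_tmul]
        congr 1
        ring
      · rw [show Dieu.BC.tmul g (frobenius b) (∑ i, frobenius (fc i x) • D.F (ev i)) =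
            ∑ i, Dieu.BC.tmul g (frobenius b) (frobenius (fc i x) • D.F (ev i)) from
          map_sum (AddMonoidHom.mk' (fun z => Dieu.BC.tmul g (frobenius b) z) fun a b => Dieu.BC.tmul_add _ _ _ _) _ _,
          Finset.smul_sum]
        exact Finset.sum_congr rfl fun i _ => by
          rw [← Dieu.BC.tmul_mul_apply, Dieu.BC.smul_tmul, Dieu.BC.smul_tmul, mul_one, hc, map_mul,
            show g (frobenius (fc i x)) = frobenius (g (fc i x)) from Groth.Agent.H4Easy.map_frobenius' f _]
  obtain ⟨hfin, hproj, -⟩ := Groth.Agent.H4Easy.bc_finite_projective_rank g P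
  have hΛ : ∀ z, Dieu.BC.map g Λ z ∈ QR := by
    intro z
    induction z using Dieu.BC.induction_on with
    | zero => rw [map_zero]; exact zero_mem _
    | add u v hu hv => rw [map_add]; exact add_mem hu hv
    | tmul w x => rw [Dieu.BC.map_tmul]; exact hQmem w _ (hLQ (prL x).2)
  let Θ : P →ₗ[WittVector p S] P := T.subtype ∘ₗ prT
  have hΘsum : ∀ z, Dieu.BC.map g Λ z + Dieu.BC.map g Θ z = z := by
    intro z
    induction z using Dieu.BC.induction_on with
    | zero => simp
    | add u v hu hv =>
      conv_rhs => rw [← hu, ← hv]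
      simp only [map_add]
      abel
    | tmul w x =>
      rw [Dieu.BC.map_tmul, Dieu.BC.map_tmul, ← Dieu.BC.tmul_add]
      exact congrArg _ (hsplit x)
  have hΛΘ : ∀ z, Dieu.BC.map g Λ (Dieu.BC.map g Θ z) = 0 := by
    intro z
    induction z using Dieu.BC.induction_on with
    | zero => simp
    | add u v hu hv => rw [map_add, map_add, hu, hv, add_zero]
    | tmul w x =>
      rw [Dieu.BC.map_tmul, Dieu.BC.map_tmul,
        show Λ (Θ x) = 0 from congrArg Subtype.val (Submodule.projectionOnto_apply_right hLT (prT x)),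
        Dieu.BC.tmul_zero]
  have hΛΛ : ∀ z, Dieu.BC.map g Λ (Dieu.BC.map g Λ z) = Dieu.BC.map g Λ z := by
    intro z
    induction z using Dieu.BC.induction_on with
    | zero => simp
    | add u v hu hv => rw [map_add, map_add, hu, hv]
    | tmul w x =>
      rw [Dieu.BC.map_tmul, Dieu.BC.map_tmul,
        show Λ (Λ x) = Λ x from congrArg Subtype.val (Submodule.projectionOnto_apply_left hLT (prL x))]
  let DR : W4c1extbt610.Display3n p R (Dieu.BC g P) :=
    { Q := QR
      F := twMap f D.F
      Vinv := VR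
      finite := hfin
      projective := hproj
      IV_smul_le := Submodule.smul_le.2 fun a ha z _ => by
        rw [← verschiebung_shift_of_coeff_zero (constantCoeff_map_of_mem_IV ha)]
        exact hVmem _ z
      exists_normal := by
        refine ⟨LinearMap.range (Dieu.BC.map g Λ), LinearMap.range (Dieu.BC.map g Θ), ⟨?_, ?_⟩, ?_⟩
        · rw [Submodule.disjoint_def]
          rintro _ ⟨a, rfl⟩ ⟨b, hb⟩
          rw [← hΛΛ a, ← hb, hΛΘ]
        · rw [codisjoint_iff, eq_top_iff]
          intro z _
          exact Submodule.mem_sup.2 ⟨_, ⟨z, rfl⟩, _, ⟨z, rfl⟩, hΘsum z⟩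
        · refine le_antisymm (fun z hz => ?_) (sup_le ?_ ?_)
          · rw [hRdec z]
            refine Submodule.add_mem_sup ⟨z, rfl⟩ (Submodule.sum_mem _ fun i _ => ?_)
            rw [← hshift ⟨z, hz⟩ i]
            refine Submodule.smul_mem_smul (W4c1extbt610.verschiebung_mem_IV p R _)
              ⟨Dieu.BC.tmul g 1 (ev i), ?_⟩
            rw [Dieu.BC.map_tmul]
            exact congrArg _ (congrArg Subtype.val
              (Submodule.projectionOnto_apply_left hLT.symm (π (Pi.single i 1))))
          · rintro _ ⟨a, rfl⟩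
            exact hΛ a
          · refine Submodule.smul_le.2 fun a ha z _ => ?_
            rw [← verschiebung_shift_of_coeff_zero (constantCoeff_map_of_mem_IV ha)]
            exact hVmem _ z
      span_range_Vinv := by
        rw [eq_top_iff]
        intro z _
        induction z using Dieu.BC.induction_on with
        | zero => exact zero_mem _
        | add u v hu hv => exact add_mem (hu Submodule.mem_top) (hv Submodule.mem_top)
        | tmul w x =>
          rw [Dieu.BC.tmul_eq_smul_tmul_one]
          refine Submodule.smul_mem _ w ?_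
          have hx : x ∈ Submodule.span (WittVector p S) (Set.range D.Vinv) :=
            D.span_range_Vinv ▸ Submodule.mem_top
          induction hx using Submodule.span_induction with
          | mem y hy =>
            obtain ⟨q, rfl⟩ := hy
            refine Submodule.subset_span ⟨⟨_, hQmem 1 _ q.2⟩, ?_⟩
            rw [hVR1 1 q (hQmem 1 _ q.2), map_one]
          | zero => rw [Dieu.BC.tmul_zero]; exact zero_mem _
          | add a b _ _ ha hb => rw [Dieu.BC.tmul_add]; exact add_mem (ha Submodule.mem_top) (hb Submodule.mem_top)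
          | smul r a _ ha =>
            rw [← Dieu.BC.tmul_apply_eq, Dieu.BC.tmul_eq_smul_tmul_one]
            exact Submodule.smul_mem _ _ (ha Submodule.mem_top)
      Vinv_verschiebung_smul := hVR2 }
  refine ⟨DR, ⟨rfl, fun w x => twMap_tmul f D.F w x, hVR1, fun w x h => ?_⟩, fun D' hD' => ?_⟩
  · have e : (⟨_, h⟩ : QR) = ⟨_, hVmem w (Dieu.BC.tmul g 1 x)⟩ :=
      Subtype.ext (Dieu.BC.tmul_eq_smul_tmul_one g _ x)
    show VR ⟨_, h⟩ = _
    rw [e, hVR2, twMap_tmul, map_one, Dieu.BC.smul_tmul, mul_one]
  · have hF : ∀ z, D'.F z = twMap f D.F z := by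
      intro z
      induction z using Dieu.BC.induction_on with
      | zero => simp
      | add u v hu hv => rw [map_add, map_add, hu, hv]
      | tmul w x => rw [hD'.F_tmul, twMap_tmul]
    refine display3n_ext hD'.Q_eq (LinearMap.ext hF) fun z hz hz' => ?_
    have hmem : ∀ y, y ∈ QR → y ∈ D'.Q := fun y hy => hD'.Q_eq.symm ▸ hy
    have hpart : ∀ y, D'.Vinv ⟨_, hmem _ (hΛ y)⟩ = VR ⟨_, hΛ y⟩ := by
      intro y
      induction y using Dieu.BC.induction_on with
      | zero =>
        rw [show (⟨_, hmem _ (hΛ 0)⟩ : D'.Q) = 0 from Subtype.ext (map_zero _),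
          show (⟨_, hΛ 0⟩ : QR) = 0 from Subtype.ext (map_zero _), map_zero, map_zero]
      | add u v hu hv =>
        rw [show (⟨_, hmem _ (hΛ (u + v))⟩ : D'.Q) = ⟨_, hmem _ (hΛ u)⟩ + ⟨_, hmem _ (hΛ v)⟩ from
            Subtype.ext (map_add _ _ _),
          show (⟨_, hΛ (u + v)⟩ : QR) = ⟨_, hΛ u⟩ + ⟨_, hΛ v⟩ from Subtype.ext (map_add _ _ _),
          map_add, map_add, hu, hv]
      | tmul w x =>
        have h0 := hQmem w _ (hLQ (prL x).2)
        rw [show (⟨_, hmem _ (hΛ (Dieu.BC.tmul g w x))⟩ : D'.Q) = ⟨_, hmem _ h0⟩ from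
            Subtype.ext (Dieu.BC.map_tmul g Λ w x),
          show (⟨_, hΛ (Dieu.BC.tmul g w x)⟩ : QR) = ⟨_, h0⟩ from Subtype.ext (Dieu.BC.map_tmul g Λ w x)]
        exact (hD'.Vinv_tmul w ⟨_, hLQ (prL x).2⟩ (hmem _ h0)).trans (hVR1 w ⟨_, hLQ (prL x).2⟩ h0).symm
    have hzR : z ∈ QR := hz'
    have key : (⟨z, hzR⟩ : QR) = ⟨_, hΛ z⟩ +
        ∑ i, (⟨_, hVmem ((c i z).shift 1) (Dieu.BC.tmul g 1 (ev i))⟩ : QR) := by
      apply Subtype.ext
      rw [Submodule.coe_add, AddSubmonoidClass.coe_finsetSum]
      refine (hRdec z).trans (congrArg₂ (· + ·) rfl (Finset.sum_congr rfl fun i _ => ?_))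
      show _ = verschiebung ((c i z).shift 1) • Dieu.BC.tmul g 1 (ev i)
      rw [hshift ⟨z, hzR⟩ i]
    have key' : (⟨z, hz⟩ : D'.Q) = ⟨_, hmem _ (hΛ z)⟩ +
        ∑ i, (⟨_, hmem _ (hVmem ((c i z).shift 1) (Dieu.BC.tmul g 1 (ev i)))⟩ : D'.Q) := by
      apply Subtype.ext
      rw [Submodule.coe_add, AddSubmonoidClass.coe_finsetSum]
      have := congrArg Subtype.val key
      rw [Submodule.coe_add, AddSubmonoidClass.coe_finsetSum] at this
      exact this
    show D'.Vinv ⟨z, hz⟩ = VR ⟨z, hzR⟩
    rw [key, key', map_add, map_add, map_sum, map_sum, hpart]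
    refine congrArg₂ (· + ·) rfl (Finset.sum_congr rfl fun i _ => ?_)
    rw [hVR2, ← hF]
    exact D'.Vinv_verschiebung_smul _ _

end

end Groth.Agent.H4Easy
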