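import Mathlib
import Groth.Prelude.Def_CAlgX

/-!
# Short algebraic statements: nilpotent flatness criterion, universally injective descent, Kummer algebras
-/

set_option autoImplicit false
set_option linter.style.haveILetI false

open TensorProduct

universe u v w

namespace Groth.Agent.H4Easy

theorem integral_iff_torsion (R : Type u) [CommRing R] [Nontrivial R] (M : Type v) [CommGroup M] :
    Algebra.IsIntegral R (MonoidAlgebra R M) ↔ IsMulTorsion M := by
  constructor
  · intro h m
    by_contra hm
    obtain ⟨P, hP, h0⟩ := h.isIntegral (MonoidAlgebra.of R M m)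
    have hinj : Function.Injective fun i : ℕ => m ^ i := injective_pow_iff_not_isOfFinOrder.2 hm
    rw [← Polynomial.aeval_def, Polynomial.aeval_eq_sum_range] at h0
    have h1 := congrArg (fun f : MonoidAlgebra R M => f.coeff (m ^ P.natDegree)) h0
    simp [MonoidAlgebra.single_pow, MonoidAlgebra.smul_single] at h1
    rw [Finset.sum_eq_single P.natDegree (fun b _ hb => by rw [Finsupp.single_eq_of_ne]; exact fun e => hb (hinj e).symm)
      (fun hn => absurd (Finset.self_mem_range_succ _) hn), Finsupp.single_eq_same, hP.coeff_natDegree] at h1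
    exact one_ne_zero h1
  · intro h
    refine ⟨fun x => ?_⟩
    induction x using MonoidAlgebra.induction_on with
    | of m =>
      obtain ⟨n, hn, hmn⟩ := (h m).exists_pow_eq_one
      refine IsIntegral.of_pow hn ?_
      rw [← map_pow, hmn, map_one]
      exact isIntegral_one
    | add x y hx hy => exact hx.add hy
    | smul r x hx => exact hx.smul r

theorem eq_zero_of_fibres (R : Type u) [CommRing R] [IsReduced R] [IsNoetherianRing R]
    (M : Type u) [AddCommGroup M] [Module R M] [Module.IsTorsionFree R M]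
    (t : M) (ht : ∀ p : PrimeSpectrum R, (1 : p.asIdeal.ResidueField) ⊗ₜ[R] t = (0 : p.asIdeal.ResidueField ⊗[R] M)) :
    t = 0 := by
  let I : Ideal R := LinearMap.ker (LinearMap.toSpanSingleton R M t)
  have hI : ∀ p ∈ minimalPrimes R, ¬ I ≤ p := by
    intro p hp hle
    haveI := hp.1.1
    have hbij : Function.Bijective (algebraMap (Localization.AtPrime p) p.ResidueField) := by
      refine ⟨(injective_iff_map_eq_zero _).2 fun x hx => IsNilpotent.eq_zero (nilpotent_iff_mem_prime.2 fun Q hQ => ?_),
        Ideal.Quotient.mk_surjective⟩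
      haveI := IsLocalization.subsingleton_primeSpectrum_of_mem_minimalPrimes p hp (Localization.AtPrime p)
      have hx' : x ∈ IsLocalRing.maximalIdeal (Localization.AtPrime p) := Ideal.Quotient.eq_zero_iff_mem.1 hx
      have e0 : IsLocalRing.maximalIdeal (Localization.AtPrime p) = Q := congrArg PrimeSpectrum.asIdeal (Subsingleton.elim
        (⟨IsLocalRing.maximalIdeal _, inferInstance⟩ : PrimeSpectrum (Localization.AtPrime p)) ⟨Q, hQ⟩)
      exact e0 ▸ hx'
    let e : Localization.AtPrime p ≃ₗ[R] p.ResidueField :=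
      LinearEquiv.ofBijective (IsScalarTower.toAlgHom R (Localization.AtPrime p) p.ResidueField).toLinearMap hbij
    have h1 : (1 : Localization.AtPrime p) ⊗ₜ[R] t = 0 := by
      apply (e.rTensor M).injective
      rw [map_zero]
      refine Eq.trans ?_ (ht ⟨p, hp.1.1⟩)
      exact congrArg (· ⊗ₜ[R] t) (map_one (algebraMap (Localization.AtPrime p) p.ResidueField))
    have h2 := congrArg ((LocalizedModule.equivTensorProduct p.primeCompl M).symm) h1
    rw [map_zero, LocalizedModule.equivTensorProduct_symm_apply_tmul_one] at h2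
    rw [← LocalizedModule.zero_mk (1 : p.primeCompl), LocalizedModule.mk_eq] at h2
    obtain ⟨s, hs⟩ := h2
    exact s.2 (hle (by simpa [I, Submonoid.smul_def] using hs))
  obtain ⟨x, hxI, hx⟩ : ∃ x ∈ I, ∀ p ∈ minimalPrimes R, x ∉ p := by
    by_contra hcon
    push Not at hcon
    obtain ⟨p, hp, hle⟩ := (Ideal.subset_union_prime_finite (f := id) (minimalPrimes.finite_of_isNoetherianRing R) ⊥ ⊥
      fun p hp _ _ => hp.1.1).1 (show (I : Set R) ⊆ ⋃ p ∈ minimalPrimes R, (id p : Set R) from fun x hx => by
        obtain ⟨p, hp, hxp⟩ := hcon x hx; exact Set.mem_biUnion hp hxp)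
    exact hI p hp hle
  have hreg : IsRegular x := isRegular_iff_mem_nonZeroDivisors.2 (mem_nonZeroDivisors_iff_right.2 fun y hy => by
    refine IsNilpotent.eq_zero (nilpotent_iff_mem_prime.2 fun J hJ => ?_)
    obtain ⟨p, hp, hle⟩ := Ideal.exists_minimalPrimes_le (I := (⊥ : Ideal R)) (J := J) bot_le
    refine hle ((hp.1.1.mem_or_mem (show y * x ∈ p by rw [hy]; exact zero_mem _)).resolve_right (hx p hp)))
  exact Module.IsTorsionFree.isSMulRegular hreg (show x • t = x • 0 by simpa [I] using hxI)

theorem unipotent_fixed (K : Type u) (V : Type v) (G : Type w) [Field K] [CharZero K]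
    [AddCommGroup V] [Module K V] [Group G] (ρ : G →* (V ≃ₗ[K] V))
    (hunip : ∀ g : G, IsNilpotent (((ρ g : V ≃ₗ[K] V) : Module.End K V) - 1))
    (H : Subgroup G) [H.FiniteIndex] (v : V) (hv : ∀ h ∈ H, ρ h v = v) (g : G) :
    ρ g v = v := by
  obtain ⟨k, hk0, -, hk⟩ := Subgroup.exists_pow_mem_of_index_ne_zero Subgroup.FiniteIndex.index_ne_zero (H := H) g
  set f : Module.End K V := ((ρ g : V ≃ₗ[K] V) : Module.End K V) with hf
  have hpow : ∀ i : ℕ, (f ^ i) v = ρ (g ^ i) v := fun i => by
    induction i with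
    | zero => simp
    | succ i ih => rw [pow_succ', Module.End.mul_apply, ih, pow_succ' g, map_mul]; rfl
  have hS : IsUnit (∑ i ∈ Finset.range k, f ^ i) := by
    have h1 : ∀ i : ℕ, ∃ h : Module.End K V, f ^ i - 1 = h * (f - 1) ∧ Commute h (f - 1) := fun i =>
      ⟨∑ j ∈ Finset.range i, f ^ j, (geom_sum_mul f i).symm,
        (Commute.sum_left _ _ _ fun j _ => ((Commute.refl f).pow_left j).sub_right (Commute.one_right _))⟩
    choose h h1 h2 using h1
    have h3 : ∑ i ∈ Finset.range k, f ^ i = (k : Module.End K V) + (∑ i ∈ Finset.range k, h i) * (f - 1) := by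
      rw [Finset.sum_mul, ← Finset.sum_congr rfl (fun i _ => h1 i), Finset.sum_sub_distrib]
      simp
    have hc : Commute (∑ i ∈ Finset.range k, h i) (f - 1) := Commute.sum_left _ _ _ fun i _ => h2 i
    rw [h3]
    rw [add_comm]
    refine (hc.isNilpotent_mul_left (hunip g)).isUnit_add_right_of_commute ?_ ((Nat.cast_commute k _).symm)
    have hk' : IsUnit ((k : K)) := isUnit_iff_ne_zero.2 (Nat.cast_ne_zero.2 (Nat.pos_iff_ne_zero.1 hk0))
    simpa using hk'.map (algebraMap K (Module.End K V))
  have h4 := congrArg (fun F : Module.End K V => F v) (mul_geom_sum f k)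
  have h5 : (∑ i ∈ Finset.range k, f ^ i) ((f - 1) v) = 0 := by
    rw [← Module.End.mul_apply, geom_sum_mul, LinearMap.sub_apply, hpow, hv _ hk, Module.End.one_apply, sub_self]
  have h6 : (f - 1) v = 0 := ((Module.End.isUnit_iff _).1 hS).1 (h5.trans (map_zero _).symm)
  simpa [hf, sub_eq_zero] using h6

theorem unit_of_unit_mod (p : ℕ) [Fact p.Prime] (m : ℕ)
    (P : Type u) [CommRing P] [IsAdicComplete (Ideal.span {(p : P)}) P]
    (I J : Ideal P) (hJ : DividedPowers J)
    (hpow : ∀ x ∈ I, x ^ (p ^ m) ∈ J)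
    (u : P) (hu : IsUnit (Ideal.Quotient.mk I u)) : IsUnit u := by
  obtain ⟨v', hv'⟩ := hu.exists_right_inv
  obtain ⟨v, rfl⟩ := Ideal.Quotient.mk_surjective v'
  have hx : u * v - 1 ∈ I := by rw [← Ideal.Quotient.eq_zero_iff_mem, map_sub, map_mul, hv', map_one, sub_self]
  have hp : ∀ y ∈ J, y ^ p ∈ Ideal.jacobson (⊥ : Ideal P) := fun y hy => by
    rw [← hJ.factorial_mul_dpow_eq_pow (n := p) hy]
    refine Ideal.mul_mem_right _ _ (IsAdicComplete.le_jacobson_bot (Ideal.span {(p : P)}) ?_)
    rw [Ideal.mem_span_singleton]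
    exact Nat.cast_dvd_cast (Nat.dvd_factorial (Fact.out : p.Prime).pos le_rfl)
  have h1 : u * v - 1 ∈ Ideal.jacobson (⊥ : Ideal P) := by
    rw [Ideal.mem_jacobson_bot] at *
    intro y
    have h2 := hp _ (hpow _ (Ideal.mul_mem_right y _ hx))
    rw [← pow_mul] at h2
    by_contra hc
    obtain ⟨M, hM, hmem⟩ := exists_max_ideal_of_mem_nonunits hc
    haveI := hM
    have h3 : (u * v - 1) * y ∈ M := hM.isPrime.mem_of_pow_mem _ ((sInf_le ⟨bot_le, hM⟩ : Ideal.jacobson ⊥ ≤ M) h2)
    exact hM.ne_top ((Ideal.eq_top_iff_one _).2 (by simpa using sub_mem hmem h3))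
  have h7 := Ideal.mem_jacobson_bot.1 h1 1
  rw [mul_one, sub_add_cancel] at h7
  exact isUnit_of_mul_isUnit_left h7

open Polynomial in
theorem mu_split (R : Type u) [CommRing R] (n : ℕ) (hn : IsUnit (n : R)) (ζ : R) (hζ : ζ ^ n = 1)
    (hprim : ∀ i : ℕ, 0 < i → i < n → IsUnit (1 - ζ ^ i)) :
    Function.Surjective (AlgHom.pi (fun i : Fin n => Polynomial.aeval (R := R) (ζ ^ (i : ℕ)))) ∧
      RingHom.ker (AlgHom.pi (fun i : Fin n => Polynomial.aeval (R := R) (ζ ^ (i : ℕ)))) =
        Ideal.span {(X ^ n - 1 : R[X])} := by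
  rcases subsingleton_or_nontrivial R with h | h
  · refine ⟨fun y => ⟨0, Subsingleton.elim _ _⟩, Subsingleton.elim _ _⟩
  have hn0 : n ≠ 0 := fun h0 => not_isUnit_zero (M₀ := R) (by simpa [h0] using hn)
  have hz : IsUnit ζ := IsUnit.of_pow_eq_one hζ hn0
  let a : Fin n → R := fun i => ζ ^ (i : ℕ)
  have hd : ∀ i j : Fin n, i ≠ j → IsUnit (a i - a j) := by
    have hlt : ∀ i j : Fin n, (i : ℕ) < j → IsUnit (a i - a j) := fun i j hij => by
      have : a i - a j = ζ ^ (i : ℕ) * (1 - ζ ^ ((j : ℕ) - i)) := by
        simp only [a]; rw [mul_sub, mul_one, ← pow_add, Nat.add_sub_cancel' hij.le]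
      rw [this]
      exact (hz.pow _).mul (hprim _ (Nat.sub_pos_of_lt hij) (lt_of_le_of_lt (Nat.sub_le _ _) j.2))
    intro i j hij
    rcases lt_or_gt_of_ne (Fin.val_ne_of_ne hij) with h | h
    · exact hlt i j h
    · rw [← neg_sub]; exact (hlt j i h).neg
  have happ : ∀ (P : R[X]) (i : Fin n), AlgHom.pi (fun i : Fin n => Polynomial.aeval (R := R) (ζ ^ (i : ℕ))) P i = P.eval (a i) :=
    fun P i => by simp [a, Polynomial.coe_aeval_eq_eval]
  have hvan : ∀ P : R[X], (∀ i, P.eval (a i) = 0) → (∏ i : Fin n, (X - C (a i))) ∣ P := fun P hP =>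
    Finset.prod_dvd_of_coprime (fun i _ j _ hij => isCoprime_X_sub_C_of_isUnit_sub (hd i j hij))
      fun i _ => dvd_iff_isRoot.2 (hP i)
  have hprod : ∏ i : Fin n, (X - C (a i)) = X ^ n - C (1 : R) := by
    refine (eq_of_monic_of_dvd_of_natDegree_le (monic_prod_X_sub_C _ _) (monic_X_pow_sub_C 1 hn0) (hvan _ fun i => ?_) ?_).symm
    · rw [eval_sub, eval_X_pow, eval_C, sub_eq_zero]
      simp only [a]
      rw [← pow_mul, mul_comm, pow_mul, hζ, one_pow]
    · rw [natDegree_X_pow_sub_C, natDegree_finsetProd_X_sub_C_eq_card, Finset.card_univ, Fintype.card_fin]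
  constructor
  · intro y
    refine ⟨∑ i, C (y i * Ring.inverse (∏ j ∈ Finset.univ.erase i, (a i - a j))) * ∏ j ∈ Finset.univ.erase i, (X - C (a j)), ?_⟩
    funext k
    rw [happ, eval_finsetSum, Finset.sum_eq_single k]
    · rw [eval_mul, eval_C, eval_prod]
      simp only [eval_sub, eval_X, eval_C]
      rw [mul_assoc, Ring.inverse_mul_cancel, mul_one]
      exact IsUnit.prod_iff.2 fun j hj => hd k j (Finset.ne_of_mem_erase hj).symm
    · intro i _ hik
      rw [eval_mul, eval_prod]
      exact mul_eq_zero_of_right _ (Finset.prod_eq_zero (Finset.mem_erase.2 ⟨Ne.symm hik, Finset.mem_univ k⟩) (by simp))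
    · simp
  · ext P
    rw [RingHom.mem_ker, Ideal.mem_span_singleton, ← map_one C, ← hprod]
    constructor
    · intro hP
      exact hvan P fun i => by rw [← happ, hP]; rfl
    · rintro ⟨Q, rfl⟩
      funext i
      rw [happ, eval_mul, eval_prod, Finset.prod_eq_zero (Finset.mem_univ i) (by simp)]
      simp

theorem trace_deriv {K : Type u} [Field K] {O : Type v} [CommRing O] [Algebra K O] (δ : Derivation K O O)
    {E : Type w} [AddCommGroup E] [Module O E] [Module K E] [IsScalarTower K O E]
    [Module.Free O E] [Module.Finite O E]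
    (δE : E →ₗ[K] E) (hδE : ∀ (a : O) (e : E), δE (a • e) = δ a • e + a • δE e)
    (φ ψ : E →ₗ[O] E) (hψ : ∀ e : E, ψ e = δE (φ e) - φ (δE e)) :
    LinearMap.trace O E ψ = δ (LinearMap.trace O E φ) := by
  rcases subsingleton_or_nontrivial O with h | h
  · exact Subsingleton.elim _ _
  classical
  let b := Module.Free.chooseBasis O E
  let P := LinearMap.toMatrix b b φ
  let N : Matrix _ _ O := Matrix.of fun j i => b.repr (δE (b i)) j
  have hP : ∀ i, φ (b i) = ∑ j, P j i • b j := fun i => by
    conv_lhs => rw [← b.sum_repr (φ (b i))]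
    simp [P, LinearMap.toMatrix_apply]
  have hN : ∀ i, δE (b i) = ∑ j, N j i • b j := fun i => (b.sum_repr (δE (b i))).symm
  have key : LinearMap.toMatrix b b ψ = P.map δ + N * P - P * N := by
    ext j i
    rw [LinearMap.toMatrix_apply, hψ, hP, hN, map_sum, map_sum]
    simp only [hδE, map_smul, hP, hN, Finset.sum_add_distrib, map_sum, map_add, map_sub,
      Module.Basis.repr_self, Finsupp.coe_add, Finsupp.coe_sub, Finsupp.coe_smul, Finsupp.coe_finset_sum, Pi.add_apply, Pi.sub_apply,
      Finset.sum_apply, Pi.smul_apply, Finsupp.single_apply, smul_eq_mul, Matrix.add_apply, Matrix.sub_apply, Matrix.map_apply,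
      Matrix.mul_apply, mul_ite, mul_one, mul_zero, Finset.sum_ite_eq', Finset.mem_univ, if_true]
    simp [mul_comm]
  rw [LinearMap.trace_eq_matrix_trace O b, LinearMap.trace_eq_matrix_trace O b, key, Matrix.trace_sub, Matrix.trace_add,
    Matrix.trace_mul_comm N P, add_sub_cancel_right]
  simp [Matrix.trace, P, map_sum]

theorem det_deriv {K : Type u} [Field K] {O : Type v} [CommRing O] [Algebra K O]
    {E : Type w} [AddCommGroup E] [Module O E] [Module K E]
    (δE : E →ₗ[K] E) {n : ℕ} (b : Module.Basis (Fin n) O E) (N : Matrix (Fin n) (Fin n) O)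
    (hN : ∀ i : Fin n, δE (b i) = ∑ j : Fin n, N j i • b j) :
    ∑ i : Fin n, exteriorPower.ιMulti O n (Function.update (⇑b) i (δE (b i))) =
      N.trace • exteriorPower.ιMulti O n ⇑b := by
  rw [Matrix.trace, Finset.sum_smul]
  refine Finset.sum_congr rfl fun i _ => ?_
  rw [hN, AlternatingMap.map_update_sum, Finset.sum_eq_single i]
  · rw [AlternatingMap.map_update_smul, Function.update_eq_self]; rfl
  · intro j _ hj
    rw [AlternatingMap.map_update_smul, AlternatingMap.map_update_self _ _ hj.symm, smul_zero]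
  · simp

theorem univInj_baseChange (A A' : Type u) [CommRing A] [CommRing A']
    [Algebra A A'] [Module.FaithfullyFlat A A'] {M N : Type u} [AddCommGroup M] [Module A M]
    [AddCommGroup N] [Module A N] (f : M →ₗ[A] N) :
    CAlgX.UniversallyInjective A f ↔ CAlgX.UniversallyInjective A' (f.baseChange A') := by
  constructor
  · intro h Q _ _
    rw [← LinearMap.lTensor_inj_iff_rTensor_inj]
    letI : Module A Q := Module.compHom Q (algebraMap A A')
    haveI : IsScalarTower A A' Q := IsScalarTower.of_algebraMap_smul fun _ _ => rfl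
    let eM := AlgebraTensorModule.cancelBaseChange A A' A' Q M
    let eN := AlgebraTensorModule.cancelBaseChange A A' A' Q N
    have hc : ∀ z, eN ((f.baseChange A').lTensor Q z) = f.lTensor Q (eM z) := fun z => by
      induction z with
      | zero => simp
      | tmul q w =>
        induction w with
        | zero => simp
        | tmul c m => simp [eM, eN]
        | add x y hx hy => simp only [tmul_add, map_add, hx, hy]
      | add x y hx hy => simp only [map_add, hx, hy]
    intro x y hxy
    apply eM.injective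
    apply (LinearMap.lTensor_inj_iff_rTensor_inj _ _).2 (h Q)
    rw [← hc, ← hc, hxy]
  · intro h Q _ _
    rw [← LinearMap.lTensor_inj_iff_rTensor_inj]
    refine (Module.FaithfullyFlat.lTensor_injective_iff_injective A A' _).1 ?_
    have h1 := (LinearMap.lTensor_inj_iff_rTensor_inj _ _).2 (h (A' ⊗[A] Q))
    let eM := AlgebraTensorModule.cancelBaseChange A A' A' (A' ⊗[A] Q) M
    let eN := AlgebraTensorModule.cancelBaseChange A A' A' (A' ⊗[A] Q) N
    have hc : ∀ z, (TensorProduct.assoc A A' Q N) (eN ((f.baseChange A').lTensor (A' ⊗[A] Q) z)) =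
        (f.lTensor Q).lTensor A' ((TensorProduct.assoc A A' Q M) (eM z)) := fun z => by
      induction z with
      | zero => simp
      | tmul q w =>
        induction w with
        | zero => simp
        | tmul c m =>
          induction q with
          | zero => simp
          | tmul a q => simp [eM, eN, smul_tmul']
          | add x y hx hy => simp only [add_tmul, map_add, hx, hy]
        | add x y hx hy => simp only [tmul_add, map_add, hx, hy]
      | add x y hx hy => simp only [map_add, hx, hy]
    intro x y hxy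
    obtain ⟨x', rfl⟩ := (eM.toEquiv.trans (TensorProduct.assoc A A' Q M).toEquiv).surjective x
    obtain ⟨y', rfl⟩ := (eM.toEquiv.trans (TensorProduct.assoc A A' Q M).toEquiv).surjective y
    have := (hc x').trans (hxy.trans (hc y').symm)
    exact congrArg _ (h1 (eN.injective ((TensorProduct.assoc A A' Q N).injective this)))

theorem prufer_loc (R : Type u) [CommRing R] [IsDomain R]
    (hR : ∀ (p : Ideal R) [p.IsPrime], ValuationRing (Localization.AtPrime p))
    (S : Submonoid R) (B : Type u) [CommRing B] [IsDomain B] [Algebra R B] [IsLocalization S B]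
    (I : Ideal R) [I.IsPrime] :
    (∀ (q : Ideal B) [q.IsPrime], ValuationRing (Localization.AtPrime q)) ∧
      (∀ (q : Ideal (R ⧸ I)) [q.IsPrime], ValuationRing (Localization.AtPrime q)) := by
  constructor
  · intro q _
    haveI := hR (q.comap (algebraMap R B))
    haveI : IsLocalization.AtPrime (Localization.AtPrime q) (q.comap (algebraMap R B)) :=
      IsLocalization.isLocalization_isLocalization_atPrime_isLocalization S (Localization.AtPrime q) q
    let e := IsLocalization.algEquiv (q.comap (algebraMap R B)).primeCompl (Localization.AtPrime (q.comap (algebraMap R B))) (Localization.AtPrime q)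
    haveI := Function.Surjective.preValuationRing e.toRingEquiv.toMulEquiv.toMulHom e.surjective
    exact ⟨⟩
  · intro q _
    haveI := hR (q.comap (Ideal.Quotient.mk I))
    haveI := Function.Surjective.preValuationRing (MonoidHom.toMulHom (Localization.localRingHom (q.comap (Ideal.Quotient.mk I)) q (Ideal.Quotient.mk I) rfl).toMonoidHom)
      ((RingHom.surjectiveOnStalks_of_surjective Ideal.Quotient.mk_surjective).localRingHom_surjective _ q rfl)
    exact ⟨⟩

open MvPolynomial in
theorem pinch_jac (K : Type u) [Field K] [NeZero (2 : K)] (n : ℕ) :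
    letI u : MvPolynomial (Fin (n + 3)) K := MvPolynomial.X 0
    letI v : MvPolynomial (Fin (n + 3)) K := MvPolynomial.X 1
    letI w : MvPolynomial (Fin (n + 3)) K := MvPolynomial.X 2
    letI Jac : Ideal (MvPolynomial (Fin (n + 3)) K) :=
      Ideal.span {u ^ 2 - v ^ 2 * w, 2 * u, -(2 * v * w), -(v ^ 2)}
    Ideal.span {u, v} = Jac ⊔ Ideal.span {v} ∧ Jac.colon (Ideal.span {v}) = Ideal.span {u, v, w} := by
  let u : MvPolynomial (Fin (n + 3)) K := X 0
  let v : MvPolynomial (Fin (n + 3)) K := X 1
  let w : MvPolynomial (Fin (n + 3)) K := X 2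
  let J : Ideal (MvPolynomial (Fin (n + 3)) K) := Ideal.span {u ^ 2 - v ^ 2 * w, 2 * u, -(2 * v * w), -(v ^ 2)}
  change Ideal.span {u, v} = J ⊔ Ideal.span {v} ∧ J.colon (Ideal.span {v}) = Ideal.span {u, v, w}
  have h2 : (C (2⁻¹ : K) : MvPolynomial (Fin (n + 3)) K) * 2 = 1 := by
    rw [show (2 : MvPolynomial (Fin (n + 3)) K) = C 2 from (map_ofNat C 2).symm, ← C_mul,
      inv_mul_cancel₀ (NeZero.ne (2 : K)), C_1]
  have hu : u ∈ J := by
    have := J.mul_mem_left (C (2⁻¹ : K)) (Ideal.subset_span (by simp) : 2 * u ∈ J)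
    rwa [← mul_assoc, h2, one_mul] at this
  have hvw : v * w ∈ J := by
    have := J.mul_mem_left (C (2⁻¹ : K)) (J.neg_mem (Ideal.subset_span (by simp) : -(2 * v * w) ∈ J))
    rwa [neg_neg, mul_assoc, ← mul_assoc, h2, one_mul] at this
  have hvv : v * v ∈ J := by
    have := J.neg_mem (Ideal.subset_span (by simp) : -(v ^ 2) ∈ J)
    rwa [neg_neg, pow_two] at this
  constructor
  · refine le_antisymm (Ideal.span_le.2 ?_) (sup_le (Ideal.span_le.2 ?_) (Ideal.span_mono (by simp)))
    · rintro x (rfl | rfl)
      · exact Submodule.mem_sup_left hu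
      · exact Submodule.mem_sup_right (Ideal.subset_span rfl)
    · have hu' : u ∈ Ideal.span {u, v} := Ideal.subset_span (by simp)
      have hv' : v ∈ Ideal.span {u, v} := Ideal.subset_span (by simp)
      rintro x (rfl | rfl | rfl | rfl)
      · exact sub_mem (Ideal.pow_mem_of_mem _ hu' _ two_pos) (Ideal.mul_mem_right _ _ (Ideal.pow_mem_of_mem _ hv' _ two_pos))
      · exact Ideal.mul_mem_left _ _ hu'
      · exact neg_mem (Ideal.mul_mem_right _ _ (Ideal.mul_mem_left _ _ hv'))
      · exact neg_mem (Ideal.pow_mem_of_mem _ hv' _ two_pos)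
  · let S : Set (Fin (n + 3)) := {0, 1, 2}
    refine le_antisymm (fun f hf => ?_) (Ideal.span_le.2 ?_)
    · let g0 : Fin (n + 3) → MvPolynomial (Fin (n + 3)) K := fun i => if (i : ℕ) < 3 then 0 else X i
      let φ0 : MvPolynomial (Fin (n + 3)) K →ₐ[K] MvPolynomial (Fin (n + 3)) K := aeval g0
      let g : Fin (n + 3) → DualNumber (MvPolynomial (Fin (n + 3)) K) := fun i =>
        if i = 1 then DualNumber.eps else TrivSqZeroExt.inl (g0 i)
      let φ : MvPolynomial (Fin (n + 3)) K →ₐ[K] DualNumber (MvPolynomial (Fin (n + 3)) K) := aeval g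
      have hv0 : φ v = DualNumber.eps := by simp [φ, g, v]
      have hu0 : φ u = 0 := by
        simp [φ, g, g0, u]
      have hw0 : φ w = 0 := by
        have e : ((2 : Fin (n + 3)) : ℕ) = 2 := Nat.mod_eq_of_lt (show 2 < n + 3 by omega)
        have e' : (2 : Fin (n + 3)) ≠ 1 := fun h => by
          have h' := congrArg Fin.val h
          rw [e, Fin.val_one] at h'
          omega
        simp only [φ, g, g0, w, aeval_X, if_neg e', e]
        simp
      have hJ : ∀ x ∈ J, φ x = 0 := fun x hx => by
        have : J ≤ RingHom.ker φ := Ideal.span_le.2 (by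
          rintro y (rfl | rfl | rfl | rfl) <;>
            simp [RingHom.mem_ker, hu0, hv0, hw0, pow_two, DualNumber.eps_mul_eps])
        exact this hx
      have h1 := hJ _ (Submodule.mem_colon.1 hf v (Ideal.subset_span rfl))
      rw [smul_eq_mul, map_mul, hv0] at h1
      have hfst : ∀ x, TrivSqZeroExt.fst (φ x) = φ0 x := fun x => by
        have he : ((TrivSqZeroExt.fstHom K (MvPolynomial (Fin (n + 3)) K) (MvPolynomial (Fin (n + 3)) K)).comp φ) = φ0 := by
          refine algHom_ext fun i => ?_
          by_cases hi : i = 1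
          · subst hi; simp [φ, φ0, g, g0]
          · simp [φ, φ0, g, hi]
        exact congrArg (fun t : MvPolynomial (Fin (n + 3)) K →ₐ[K] _ => t x) he
      have h3 : φ0 f = 0 := by
        have := congrArg TrivSqZeroExt.snd h1
        rw [TrivSqZeroExt.snd_mul, DualNumber.fst_eps, DualNumber.snd_eps] at this
        simpa [hfst] using this
      have h4 : ∀ x, x - φ0 x ∈ Ideal.span {u, v, w} := fun x => by
        induction x using MvPolynomial.induction_on with
        | C a => simp [φ0]
        | add p q hp hq => rw [map_add, add_sub_add_comm]; exact add_mem hp hq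
        | mul_X p i hp =>
          rw [map_mul, show p * X i - φ0 p * φ0 (X i) = (p - φ0 p) * X i + φ0 p * (X i - φ0 (X i)) by ring]
          refine add_mem (Ideal.mul_mem_right _ _ hp) (Ideal.mul_mem_left _ _ ?_)
          have : φ0 (X i) = g0 i := aeval_X _ _
          rw [this]
          simp only [g0]
          by_cases hi : (i : ℕ) < 3
          · rw [if_pos hi, sub_zero]
            have : i = 0 ∨ i = 1 ∨ i = 2 := by
              have e : ((2 : Fin (n + 3)) : ℕ) = 2 := Nat.mod_eq_of_lt (show 2 < n + 3 by omega)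
              rcases (by omega : (i : ℕ) = 0 ∨ (i : ℕ) = 1 ∨ (i : ℕ) = 2) with h | h | h
              · exact Or.inl (Fin.ext h)
              · exact Or.inr (Or.inl (Fin.ext h))
              · exact Or.inr (Or.inr (Fin.ext (h.trans e.symm)))
            rcases this with rfl | rfl | rfl <;> exact Ideal.subset_span (by simp [u, v, w])
          · simp [if_neg hi]
      simpa [h3] using h4 f
    · rintro x (rfl | rfl | rfl) <;> refine Submodule.mem_colon.2 fun y hy => ?_ <;>
        obtain ⟨c, rfl⟩ := Ideal.mem_span_singleton'.1 hy <;> rw [smul_eq_mul]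
      · exact Ideal.mul_mem_right _ _ hu
      · rw [mul_left_comm]; exact Ideal.mul_mem_left _ _ hvv
      · rw [mul_left_comm, mul_comm w]; exact Ideal.mul_mem_left _ _ hvw

theorem rTensor_injective_killed {A : Type u} [CommRing A] (J : Ideal A) (M : Type v) [AddCommGroup M] [Module A M]
    (h : Module.Flat (A ⧸ J) ((A ⧸ J) ⊗[A] M)) {V W : Type u} [AddCommGroup V] [Module A V] [AddCommGroup W] [Module A W]
    (i : V →ₗ[A] W) (hi : Function.Injective i) (hW : ∀ a ∈ J, ∀ x : W, a • x = 0) :
    Function.Injective (i.rTensor M) := by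
  have tW : Module.IsTorsionBySet A W (J : Set A) := fun x a => hW a a.2 x
  have tV : Module.IsTorsionBySet A V (J : Set A) := fun x a => hi (by rw [map_smul, map_zero]; exact hW a a.2 _)
  letI : Module (A ⧸ J) V := tV.module
  letI : Module (A ⧸ J) W := tW.module
  haveI : IsScalarTower A (A ⧸ J) V := tV.isScalarTower
  haveI : IsScalarTower A (A ⧸ J) W := tW.isScalarTower
  let i' : V →ₗ[A ⧸ J] W := i.extendScalarsOfSurjective Ideal.Quotient.mk_surjective
  let eV := AlgebraTensorModule.cancelBaseChange A (A ⧸ J) (A ⧸ J) V M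
  let eW := AlgebraTensorModule.cancelBaseChange A (A ⧸ J) (A ⧸ J) W M
  have hc : ∀ z, eW (i'.rTensor ((A ⧸ J) ⊗[A] M) z) = i.rTensor M (eV z) := fun z => by
    induction z with
    | zero => simp
    | tmul x w =>
      induction w with
      | zero => simp
      | tmul c m =>
        obtain ⟨a, rfl⟩ := Ideal.Quotient.mk_surjective c
        simp [eV, eW, i', ← Ideal.Quotient.algebraMap_eq, algebraMap_smul]
      | add x y hx hy => simp only [tmul_add, map_add, hx, hy]
    | add x y hx hy => simp only [map_add, hx, hy]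
  intro a b hab
  obtain ⟨a, rfl⟩ := eV.surjective a
  obtain ⟨b, rfl⟩ := eV.surjective b
  rw [← hc, ← hc] at hab
  haveI := h
  exact congrArg _ (Module.Flat.rTensor_preserves_injective_linearMap i' hi (eW.injective hab))

theorem rTensor_injective_coker_killed {A : Type u} [CommRing A] (J : Ideal A) (M : Type v) [AddCommGroup M] [Module A M]
    (h : Module.Flat (A ⧸ J) ((A ⧸ J) ⊗[A] M)) (hJ : Function.Injective (J.subtype.rTensor M))
    {X Y : Type u} [AddCommGroup X] [Module A X] [AddCommGroup Y] [Module A Y]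
    (i : X →ₗ[A] Y) (hi : Function.Injective i) (hY : ∀ a ∈ J, ∀ y : Y, a • y ∈ LinearMap.range i) :
    Function.Injective (i.rTensor M) := by
  classical
  let π : (Y →₀ A) →ₗ[A] Y := Finsupp.linearCombination A id
  have hπ : Function.Surjective π := Finsupp.linearCombination_id_surjective A Y
  let X' : Submodule A (Y →₀ A) := (LinearMap.range i).comap π
  letI hXg : AddCommGroup ↥X' := Submodule.addCommGroup X'
  let p : X' →ₗ[A] X := (LinearEquiv.ofInjective i hi).symm.toLinearMap ∘ₗ π.restrict (fun x hx => hx)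
  have hp : ∀ x : X', i (p x) = π x := fun x => by
    change (LinearEquiv.ofInjective i hi ((LinearEquiv.ofInjective i hi).symm _) : Y) = _
    rw [LinearEquiv.apply_symm_apply]; rfl
  have hps : Function.Surjective p := fun x => by
    obtain ⟨f, hf⟩ := hπ (i x)
    exact ⟨⟨f, show π f ∈ LinearMap.range i from hf ▸ ⟨x, rfl⟩⟩, hi (by rw [hp]; exact hf)⟩
  let ε : (Y →₀ J) →ₗ[A] (Y →₀ A) := Finsupp.mapRange.linearMap J.subtype
  have hε : Function.Injective (ε.rTensor M) := by
    have hc : ∀ z, TensorProduct.finsuppLeft A A A M Y (ε.rTensor M z) =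
        Finsupp.mapRange.linearMap (J.subtype.rTensor M) (TensorProduct.finsuppLeft A A J M Y z) := fun z => by
      induction z with
      | zero => simp
      | tmul f m => ext y; simp [ε, TensorProduct.finsuppLeft_apply_tmul_apply]
      | add x y hx hy => simp only [map_add, hx, hy]
    intro a b hab
    have h1 := (hc a).symm.trans ((congrArg _ hab).trans (hc b))
    exact (TensorProduct.finsuppLeft A A J M Y).injective (Finsupp.mapRange_injective _ (map_zero _) hJ h1)
  have hεX : ∀ f, ε f ∈ X' := fun f => by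
    change π (ε f) ∈ LinearMap.range i
    rw [Finsupp.linearCombination_apply]
    exact Submodule.sum_mem _ fun y hy => by simpa [ε] using hY _ (f y).2 y
  let e : (Y →₀ J) →ₗ[A] X' := ε.codRestrict X' hεX
  let q : (X' ⧸ LinearMap.range e) →ₗ[A] ((Y →₀ A) ⧸ LinearMap.range ε) :=
    (LinearMap.range e).mapQ (LinearMap.range ε) X'.subtype (by rintro _ ⟨f, rfl⟩; exact ⟨f, rfl⟩)
  have hq : Function.Injective q := by
    rw [injective_iff_map_eq_zero]
    intro x hx
    obtain ⟨x, rfl⟩ := Submodule.mkQ_surjective _ x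
    obtain ⟨f, hf⟩ := (Submodule.Quotient.mk_eq_zero _).1 hx
    exact (Submodule.Quotient.mk_eq_zero _).2 ⟨f, Subtype.ext hf⟩
  have hX' : Function.Injective (X'.subtype.rTensor M) := by
    rw [injective_iff_map_eq_zero]
    intro z hz
    have h1 : (LinearMap.range e).mkQ.rTensor M z = 0 := by
      apply rTensor_injective_killed J M h q hq
      · intro a ha x
        obtain ⟨x, rfl⟩ := Submodule.mkQ_surjective _ x
        rw [← map_smul, Submodule.mkQ_apply, Submodule.Quotient.mk_eq_zero]
        exact ⟨Finsupp.mapRange (fun c : A => (⟨a * c, J.mul_mem_right c ha⟩ : J)) (by ext; simp) x, by ext; simp [ε]⟩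
      · rw [map_zero, ← LinearMap.rTensor_comp_apply, show q.comp (LinearMap.range e).mkQ = (LinearMap.range ε).mkQ.comp X'.subtype from rfl,
          LinearMap.rTensor_comp_apply, hz, map_zero]
    obtain ⟨t, rfl⟩ := (rTensor_exact M (LinearMap.exact_map_mkQ_range e) (Submodule.mkQ_surjective _) z).1 h1
    rw [← LinearMap.rTensor_comp_apply, show X'.subtype.comp e = ε from rfl] at hz
    rw [hε (hz.trans (map_zero _).symm), map_zero]
  rw [injective_iff_map_eq_zero]
  intro z hz
  obtain ⟨z', rfl⟩ := LinearMap.rTensor_surjective M hps z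
  rw [← LinearMap.rTensor_comp_apply, show i.comp p = π.comp X'.subtype from LinearMap.ext hp, LinearMap.rTensor_comp_apply] at hz
  letI hKg : AddCommGroup ↥(LinearMap.ker π) := Submodule.addCommGroup (LinearMap.ker π)
  have hex : Function.Exact (LinearMap.ker π).subtype π := LinearMap.exact_subtype_ker_map π
  obtain ⟨t, ht⟩ := (rTensor_exact M hex hπ _).1 hz
  have hle : LinearMap.ker π ≤ X' := fun x hx => show π x ∈ LinearMap.range i by rw [LinearMap.mem_ker.1 hx]; exact zero_mem _
  rw [show (LinearMap.ker π).subtype = X'.subtype.comp (Submodule.inclusion hle) from rfl, LinearMap.rTensor_comp_apply] at ht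
  rw [← hX' ht, ← LinearMap.rTensor_comp_apply]
  have : p.comp (Submodule.inclusion hle) = 0 := LinearMap.ext fun x => hi (by
    rw [LinearMap.comp_apply, hp]; simpa using LinearMap.mem_ker.1 x.2)
  rw [this, LinearMap.rTensor_zero]; rfl

theorem flat_iff_nilpotent (A : Type u) [CommRing A]
    (I : Ideal A) (hI : IsNilpotent I) (M : Type v) [AddCommGroup M] [Module A M] :
    Module.Flat A M ↔ Module.Flat (A ⧸ I) ((A ⧸ I) ⊗[A] M) ∧
      Function.Injective (LinearMap.rTensor M (Submodule.subtype I)) := by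
  refine ⟨fun h => ⟨inferInstance, Module.Flat.rTensor_preserves_injective_linearMap _ Subtype.val_injective⟩,
    fun ⟨h, hJ⟩ => ?_⟩
  rw [Module.Flat.iff_rTensor_injective']
  intro 𝔞
  obtain ⟨n, hn⟩ := hI
  suffices H : ∀ k : ℕ, Function.Injective ((Submodule.subtype (𝔞 ⊔ I ^ k : Ideal A)).rTensor M) by
    have := H n
    rwa [hn, Submodule.zero_eq_bot, sup_bot_eq] at this
  intro k
  induction k with
  | zero =>
    have : Function.Bijective (Submodule.subtype (𝔞 ⊔ I ^ 0 : Ideal A)) :=
      ⟨Subtype.val_injective, fun a => ⟨⟨a, by simp⟩, rfl⟩⟩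
    exact ((LinearEquiv.ofBijective _ this).rTensor M).injective
  | succ k ih =>
    have hle : 𝔞 ⊔ I ^ (k + 1) ≤ 𝔞 ⊔ I ^ k := sup_le_sup_left (Ideal.pow_le_pow_right (Nat.le_succ k)) _
    rw [show Submodule.subtype (𝔞 ⊔ I ^ (k + 1) : Ideal A) = (Submodule.subtype (𝔞 ⊔ I ^ k : Ideal A)).comp (Submodule.inclusion hle) from rfl,
      LinearMap.rTensor_comp]
    refine ih.comp (rTensor_injective_coker_killed I M h hJ _ (Submodule.inclusion_injective hle) fun a ha y => ?_)
    refine ⟨⟨a * y, ?_⟩, rfl⟩
    obtain ⟨b, hb, c, hc, hbc⟩ := Submodule.mem_sup.1 y.2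
    rw [← hbc, mul_add, pow_succ']
    exact add_mem (Submodule.mem_sup_left (𝔞.mul_mem_left a hb)) (Submodule.mem_sup_right (Ideal.mul_mem_mul ha hc))

end Groth.Agent.H4Easy
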