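import Mathlib

/-! Elementary milestones, batch 12: residue-free linear systems on the marked line, the trisecant of a rational quintic. -/

set_option autoImplicit false
set_option linter.style.haveILetI false

open Polynomial

universe u v w

namespace Groth.Agent.H4Easy


/-- `D'`-twisted derivative attached to the denominator `X ^ a * (X - 1) ^ b`. -/
noncomputable def twistT (k : Type*) [Field k] (a b : ℕ) : k[X] →ₗ[k] k[X] where
  toFun G := X * (X - 1) * derivative G - (C (a : k) * (X - 1) + C (b : k) * X) * G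
  map_add' G H := by simp only [derivative_add]; ring
  map_smul' c G := by simp only [derivative_C_mul, smul_eq_C_mul, RingHom.id_apply]; ring

theorem twistT_apply (k : Type*) [Field k] (a b : ℕ) (G : k[X]) :
    twistT k a b G = X * (X - 1) * derivative G - (C (a : k) * (X - 1) + C (b : k) * X) * G := rfl

theorem twistT_powX (k : Type*) [Field k] (a b m : ℕ) :
    twistT k a b (X ^ m) = C ((m : k) - a - b) * X ^ (m + 1) + C ((a : k) - m) * X ^ m := by
  rcases m with _ | m
  · simp [twistT_apply, C_sub]; ring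
  · simp [twistT_apply, derivative_X_pow, C_sub]; ring

theorem twistT_powX1 (k : Type*) [Field k] (a b m : ℕ) :
    twistT k a b ((X - 1) ^ m) = C ((m : k) - a - b) * (X - 1) ^ (m + 1) + C ((m : k) - b) * (X - 1) ^ m := by
  rcases m with _ | m
  · simp [twistT_apply, C_sub]; ring
  · simp [twistT_apply, derivative_pow, C_sub]; ring

theorem twistT_den (k : Type*) [Field k] (a b : ℕ) : twistT k a b (X ^ a * (X - 1) ^ b) = 0 := by
  rcases a with _ | a <;> rcases b with _ | b <;>
    simp [twistT_apply, derivative_mul, derivative_pow] <;> ring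

theorem twist_span_le (k : Type*) [Field k] [CharZero k] (a b : ℕ) (P : k[X]) (n : ℕ)
    (S : Submodule k k[X]) (g : ℕ → k[X]) (hg : ∀ m, g m = P ^ m)
    (hS : ∀ m, a + 1 ≤ m → m ≤ n → g m ∈ S) (f : k[X]) (hP : P.natDegree = 1) (hPm : P.Monic) (hdvd : P ^ (a + 1) ∣ f)
    (hf : f.natDegree ≤ n) : f ∈ S := by
  induction h : f.natDegree using Nat.strong_induction_on generalizing f with
  | _ d ih =>
    by_cases hf0 : f = 0
    · simp [hf0]
    have hd : a + 1 ≤ d := by
      have := natDegree_le_of_dvd hdvd hf0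
      simpa [natDegree_pow, hP, h] using this
    let f' := f - C f.leadingCoeff * P ^ d
    have hPd : (P ^ d).natDegree = d := by simp [natDegree_pow, hP]
    have hmem : C f.leadingCoeff * P ^ d ∈ S := by
      rw [← smul_eq_C_mul, ← hg]; exact S.smul_mem _ (hS d hd (h ▸ hf))
    have hdvd' : P ^ (a + 1) ∣ f' := dvd_sub hdvd (dvd_mul_of_dvd_right (pow_dvd_pow _ hd) _)
    suffices f' ∈ S by simpa [f'] using S.add_mem this hmem
    by_cases hf'0 : f' = 0
    · simp [hf'0]
    have hle : f'.natDegree ≤ d := (natDegree_sub_le _ _).trans (max_le h.le ((natDegree_C_mul_le _ _).trans hPd.le))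
    have hlt : f'.natDegree < d := by
      rcases eq_or_lt_of_le hle with he | hlt
      · exfalso
        apply hf'0
        rw [← leadingCoeff_eq_zero, leadingCoeff, he]
        have hc : (P ^ d).coeff d = 1 := by
          conv_lhs => arg 2; rw [← hPd]
          exact (hPm.pow d).coeff_natDegree
        simp [f', hc, leadingCoeff, h]
      · exact hlt
    exact ih _ hlt f' hdvd' (hle.trans (h ▸ hf)) rfl

theorem linsys_le_twist (k : Type*) [Field k] [CharZero k] (a b : ℕ) (ha : 0 < a) (hb : 0 < b) :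
    ((Ideal.span {(X : k[X]) ^ (a + 1)}).restrictScalars k ⊓ degreeLE k ↑(a + b)) ⊔
      ((Ideal.span {((X : k[X]) - 1) ^ (b + 1)}).restrictScalars k ⊓ degreeLE k ↑(a + b)) ⊔
      Submodule.span k {(X : k[X]) ^ (a + 1) * (X - 1) ^ (b + 1)} ≤
    (degreeLE k ↑(a + b + 1)).map (twistT k a b) := by
  set S := (degreeLE k ↑(a + b + 1)).map (twistT k a b)
  have himg : ∀ G : k[X], G.natDegree ≤ a + b + 1 → twistT k a b G ∈ S := fun G hG =>
    Submodule.mem_map_of_mem (mem_degreeLE.2 (natDegree_le_iff_degree_le.1 hG))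
  have hd1 : ((X : k[X]) - 1).natDegree = 1 := natDegree_X_sub_C 1
  have hX : ∀ m, a + 1 ≤ m → m ≤ a + b → (X : k[X]) ^ m ∈ S := by
    intro m hm
    induction m, hm using Nat.le_induction with
    | base =>
      intro h
      have := himg (X ^ a) (by simp; omega)
      rw [twistT_powX, sub_self, C_0, zero_mul, add_zero, ← smul_eq_C_mul] at this
      exact (S.smul_mem_iff (by simp; omega)).1 this
    | succ m hm ih =>
      intro h
      have := himg (X ^ m) (by simp; omega)
      rw [twistT_powX, ← smul_eq_C_mul, ← smul_eq_C_mul] at this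
      refine (S.smul_mem_iff ?_).1 ((S.add_mem_iff_left (S.smul_mem _ (ih (by omega)))).1 this)
      intro h0
      have : (m : k) = ((a + b : ℕ) : k) := by push_cast; linear_combination h0
      exact absurd (Nat.cast_injective this) (by omega)
  have hX1 : ∀ m, b + 1 ≤ m → m ≤ a + b → ((X : k[X]) - 1) ^ m ∈ S := by
    intro m hm
    induction m, hm using Nat.le_induction with
    | base =>
      intro h
      have := himg ((X - 1) ^ b) (by simp [natDegree_pow, hd1]; omega)
      rw [twistT_powX1, sub_self, C_0, zero_mul, add_zero, ← smul_eq_C_mul] at this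
      refine (S.smul_mem_iff ?_).1 this
      intro h0
      have : (a : k) = 0 := by linear_combination -h0
      exact absurd (by exact_mod_cast this) ha.ne'
    | succ m hm ih =>
      intro h
      have := himg ((X - 1) ^ m) (by simp [natDegree_pow, hd1]; omega)
      rw [twistT_powX1, ← smul_eq_C_mul, ← smul_eq_C_mul] at this
      refine (S.smul_mem_iff ?_).1 ((S.add_mem_iff_left (S.smul_mem _ (ih (by omega)))).1 this)
      intro h0
      have : (m : k) = ((a + b : ℕ) : k) := by push_cast; linear_combination h0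
      exact absurd (Nat.cast_injective this) (by omega)
  have hA : ∀ f : k[X], X ^ (a + 1) ∣ f → f.natDegree ≤ a + b → f ∈ S := fun f h1 h2 =>
    twist_span_le k a b X (a + b) S (X ^ ·) (fun _ => rfl) hX f natDegree_X monic_X h1 h2
  refine sup_le (sup_le ?_ ?_) ?_
  · rintro f ⟨h1, h2⟩
    exact hA f (Ideal.mem_span_singleton.1 h1) (natDegree_le_iff_degree_le.2 (mem_degreeLE.1 h2))
  · rintro f ⟨h1, h2⟩
    exact twist_span_le k b a (X - 1) (a + b) S ((X - 1) ^ ·) (fun _ => rfl) hX1 f (natDegree_X_sub_C 1)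
      (monic_X_sub_C 1) (Ideal.mem_span_singleton.1 h1) (natDegree_le_iff_degree_le.2 (mem_degreeLE.1 h2))
  · rw [Submodule.span_singleton_le_iff_mem]
    set m := a + b + 1 with hm
    set r : k[X] := X ^ (a + 1) * (X - 1) ^ (b + 1) - twistT k a b (X ^ m)
    suffices r ∈ S by simpa [r] using S.add_mem this (himg (X ^ m) (by simp [hm]))
    have he : twistT k a b (X ^ m) = X ^ (m + 1) - C ((b : k) + 1) * X ^ m := by
      rw [twistT_powX, hm]; push_cast
      rw [show (a : k) + b + 1 - a - b = 1 by ring, show (a : k) - (a + b + 1) = -(b + 1) by ring]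
      simp; ring
    refine hA r (dvd_sub (dvd_mul_right _ _) ?_) ?_
    · rw [he]
      exact dvd_sub (pow_dvd_pow _ (by omega)) (dvd_mul_of_dvd_right (pow_dvd_pow _ (by omega)) _)
    · rw [natDegree_le_iff_coeff_eq_zero]
      intro N hN
      have hq : (((X : k[X]) - 1) ^ (b + 1)).natDegree = b + 1 := by simp [natDegree_pow, show ((X : k[X]) - 1).natDegree = 1 from natDegree_X_sub_C 1]
      have hmon : (((X : k[X]) - 1) ^ (b + 1)).Monic := (monic_X_sub_C 1).pow _
      obtain ⟨e, rfl⟩ := Nat.exists_eq_add_of_le' (show a + 1 ≤ N by omega)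
      simp only [r, he, coeff_sub, coeff_C_mul, coeff_X_pow, coeff_X_pow_mul]
      rcases lt_trichotomy e (b + 1) with he1 | rfl | he1
      · have : e = b := by omega
        subst this
        have h3 : (((X : k[X]) - 1) ^ (e + 1)).coeff e = -((e : k) + 1) := by
          rw [sub_eq_add_neg, ← C_1, ← C_neg, coeff_X_add_C_pow]; simp [Nat.choose_succ_self_right]
        rw [h3, if_neg (by omega), if_pos (by omega)]; ring
      · have h3 : (((X : k[X]) - 1) ^ (b + 1)).coeff (b + 1) = 1 := by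
          conv_lhs => arg 2; rw [← hq]
          exact hmon.coeff_natDegree
        rw [h3, if_pos (by omega), if_neg (by omega)]; ring
      · rw [coeff_eq_zero_of_natDegree_lt (by omega), if_neg (by omega), if_neg (by omega)]; ring

theorem twist_root (k : Type*) [Field k] [CharZero k] (a b m : ℕ) (p : k) (hp0 : p ≠ 0) (hp1 : p ≠ 1) (G : k[X])
    (h0 : G.eval p = 0) (h : (X - C p) ^ m ∣ twistT k a b G) : (X - C p) ^ (m + 1) ∣ G := by
  by_cases hG : G = 0
  · simp [hG]
  obtain ⟨R, hR, hnd⟩ := exists_eq_pow_rootMultiplicity_mul_and_not_dvd G hG p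
  have hpos : 0 < G.rootMultiplicity p := (rootMultiplicity_pos hG).2 h0
  obtain ⟨r, hr⟩ := Nat.exists_eq_add_of_lt hpos
  rw [zero_add] at hr
  rw [hr] at hR
  by_contra hcon
  have hlt : r < m := by
    by_contra h'
    exact hcon (hR ▸ dvd_mul_of_dvd_left (pow_dvd_pow _ (by omega)) _)
  have hT : twistT k a b G = (X - C p) ^ r * (C ((r : k) + 1) * (X * (X - 1)) * R +
      (X - C p) * (X * (X - 1) * derivative R - (C (a : k) * (X - 1) + C (b : k) * X) * R)) := by
    rw [twistT_apply, hR, derivative_mul, derivative_X_sub_C_pow]; simp; ring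
  have h' := (pow_dvd_pow (X - C p) hlt).trans h
  rw [hT, pow_succ] at h'
  have h'' := (mul_dvd_mul_iff_left (pow_ne_zero _ (X_sub_C_ne_zero p))).1 h'
  rw [dvd_iff_isRoot, IsRoot.def] at h''
  simp only [eval_add, eval_mul, eval_C, eval_X, eval_sub, eval_one, sub_self, zero_mul, add_zero] at h''
  have hr1 : (r : k) + 1 ≠ 0 := by exact_mod_cast Nat.succ_ne_zero r
  have hRp : R.eval p ≠ 0 := fun h => hnd (dvd_iff_isRoot.2 h)
  exact mul_ne_zero (mul_ne_zero hr1 (mul_ne_zero hp0 (sub_ne_zero.2 hp1))) hRp h''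

theorem twist_root_zero (k : Type*) [Field k] [CharZero k] (a b m : ℕ) (G : k[X])
    (hm : a + 1 ≤ m → X ^ (a + 1) ∣ G) (h : X ^ m ∣ twistT k a b G) : X ^ m ∣ G := by
  induction m with
  | zero => simp
  | succ m ih =>
    rcases eq_or_ne m a with rfl | hma
    · exact hm le_rfl
    obtain ⟨R, rfl⟩ := ih (fun h' => hm (by omega)) ((pow_dvd_pow _ (by omega)).trans h)
    have hT : twistT k a b (X ^ m * R) = X ^ m * (C ((a : k) - m) * R +
        X * ((X - 1) * derivative R + C ((m : k) - a - b) * R)) := by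
      rcases m with _ | m <;> simp [twistT_apply, derivative_X_pow, C_sub] <;> ring
    rw [hT, pow_succ] at h
    have h' := (mul_dvd_mul_iff_left (pow_ne_zero _ X_ne_zero)).1 h
    rw [pow_succ]
    refine mul_dvd_mul_left _ ?_
    rw [X_dvd_iff] at h' ⊢
    simp only [coeff_add, coeff_C_mul, coeff_X_mul_zero, add_zero] at h'
    refine (mul_eq_zero.1 h').resolve_left fun h0 => ?_
    exact absurd (Nat.cast_injective (sub_eq_zero.1 h0)) hma.symm

theorem twist_two_points (k : Type*) [Field k] [CharZero k] (a b i j : ℕ) (hi : 0 < i) (hiab : i ≤ a + b)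
    (hj : i + j = a + b + 2) (p q : k) (hp0 : p ≠ 0) (hp1 : p ≠ 1) (hq0 : q ≠ 0) (hq1 : q ≠ 1)
    (V : Submodule k k[X]) (hV : V ≤ (degreeLE k ↑(a + b + 1)).map (twistT k a b))
    (h1 : 1 ≤ Module.finrank k ↥(V ⊓ (Ideal.span {(X - C p) ^ i * (X - C q) ^ j}).restrictScalars k))
    (h2 : 2 ≤ Module.finrank k ↥(V ⊓ (Ideal.span {(X - C p) ^ (i - 1) * (X - C q) ^ (j - 1)}).restrictScalars k)) :
    False := by
  set W1 := V ⊓ (Ideal.span {(X - C p) ^ i * (X - C q) ^ j}).restrictScalars k with hW1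
  set W2 := V ⊓ (Ideal.span {(X - C p) ^ (i - 1) * (X - C q) ^ (j - 1)}).restrictScalars k with hW2
  obtain ⟨f0, hf0, hf0ne⟩ : ∃ f, f ∈ W1 ∧ f ≠ 0 := (Submodule.ne_bot_iff _).1 fun h => by rw [h] at h1; simp at h1
  obtain ⟨f1, hf1, hf1ne⟩ : ∃ f, f ∈ W2 ∧ f ∉ Submodule.span k {f0} := by
    by_contra hcon
    push Not at hcon
    have := Submodule.finrank_mono (show W2 ≤ Submodule.span k {f0} from hcon)
    rw [finrank_span_singleton hf0ne] at this
    omega
  have key : ∀ m m' : ℕ, ∀ f ∈ V, (X - C p) ^ m * (X - C q) ^ m' ∣ f → ∃ G : k[X], ∃ c : k,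
      G.natDegree ≤ a + b + 1 ∧ twistT k a b G = f ∧ (X - C p) ^ (m + 1) ∣ G ∧
      (X - C q) ^ (m' + 1) ∣ G - C c * (X ^ a * (X - 1) ^ b) := by
    intro m m' f hf hdvd
    obtain ⟨G, hG, rfl⟩ := hV hf
    set D : k[X] := X ^ a * (X - 1) ^ b with hD
    have hDp : D.eval p ≠ 0 := by simp [hD, hp0, sub_ne_zero.2 hp1]
    have hDq : D.eval q ≠ 0 := by simp [hD, hq0, sub_ne_zero.2 hq1]
    have hDT : ∀ c : k, twistT k a b (C c * D) = 0 := fun c => by
      rw [← smul_eq_C_mul, map_smul, hD, twistT_den, smul_zero]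
    have hDd : D.natDegree ≤ a + b + 1 := by
      refine natDegree_mul_le.trans ?_
      simp [natDegree_pow, show ((X : k[X]) - 1).natDegree = 1 from natDegree_X_sub_C 1]
    refine ⟨G - C (G.eval p / D.eval p) * D, G.eval q / D.eval q - G.eval p / D.eval p, ?_, ?_, ?_, ?_⟩
    · exact (natDegree_sub_le _ _).trans (max_le (natDegree_le_iff_degree_le.2 (mem_degreeLE.1 hG))
        ((natDegree_C_mul_le _ _).trans hDd))
    · rw [map_sub, hDT, sub_zero]
    · refine twist_root k a b m p hp0 hp1 _ (by simp [hDp]) ?_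
      rw [map_sub, hDT, sub_zero]
      exact (dvd_mul_right _ _).trans hdvd
    · refine twist_root k a b m' q hq0 hq1 _ ?_ ?_
      · simp; field_simp; ring
      · rw [map_sub, map_sub, hDT, hDT, sub_zero, sub_zero]
        exact (dvd_mul_left _ _).trans hdvd
  have big : ∀ (H : k[X]) (r s : ℕ), a + b + 1 < r + s → p ≠ q → H.natDegree ≤ a + b + 1 →
      (X - C p) ^ r ∣ H → (X - C q) ^ s ∣ H → H = 0 := by
    intro H r s hrs hpq hH hr hs
    by_contra hne
    have := natDegree_le_of_dvd ((isCoprime_X_sub_C_of_isUnit_sub (sub_ne_zero.2 hpq).isUnit).pow.mul_dvd hr hs) hne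
    rw [natDegree_mul (pow_ne_zero _ (X_sub_C_ne_zero p)) (pow_ne_zero _ (X_sub_C_ne_zero q)), natDegree_pow,
      natDegree_pow, natDegree_X_sub_C, natDegree_X_sub_C] at this
    omega
  obtain ⟨G0, c0, hd0, hT0, hp0', hq0'⟩ := key i j f0 hf0.1 (Ideal.mem_span_singleton.1 hf0.2)
  rcases eq_or_ne p q with rfl | hpq
  · obtain ⟨G, c, hd, hT, hpG, -⟩ := key (i + j) 0 f0 hf0.1 (by
      simpa [pow_add] using Ideal.mem_span_singleton.1 hf0.2)
    refine hf0ne ?_
    rw [← hT]
    by_cases hG : G = 0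
    · simp [hG]
    have := natDegree_le_of_dvd hpG hG
    rw [natDegree_pow, natDegree_X_sub_C] at this
    omega
  obtain ⟨G1, c1, hd1, hT1, hp1', hq1'⟩ := key (i - 1) (j - 1) f1 hf1.1 (Ideal.mem_span_singleton.1 hf1.2)
  rw [Nat.sub_add_cancel hi] at hp1'
  rw [Nat.sub_add_cancel (show 1 ≤ j by omega)] at hq1'
  have hH : C c1 * G0 - C c0 * G1 = 0 := by
    refine big _ i j (by omega) hpq ?_ ?_ ?_
    · exact (natDegree_sub_le _ _).trans (max_le ((natDegree_C_mul_le _ _).trans hd0) ((natDegree_C_mul_le _ _).trans hd1))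
    · exact dvd_sub (dvd_mul_of_dvd_right ((pow_dvd_pow _ (by omega)).trans hp0') _) (dvd_mul_of_dvd_right hp1' _)
    · have := dvd_sub (dvd_mul_of_dvd_right ((pow_dvd_pow _ (by omega : j ≤ j + 1)).trans hq0') (C c1))
        (dvd_mul_of_dvd_right hq1' (C c0))
      convert this using 1
      ring
  have hc0 : c0 ≠ 0 := by
    rintro rfl
    refine hf0ne ?_
    rw [← hT0, big G0 (i + 1) (j + 1) (by omega) hpq hd0 hp0' (by simpa using hq0'), map_zero]
  refine hf1ne (Submodule.mem_span_singleton.2 ⟨c1 / c0, ?_⟩)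
  have := congrArg (twistT k a b) hH
  rw [map_sub, ← smul_eq_C_mul, ← smul_eq_C_mul, map_smul, map_smul, hT0, hT1, map_zero, sub_eq_zero] at this
  rw [div_eq_inv_mul, mul_smul, this, inv_smul_smul₀ hc0]

theorem twist_flip_flip (k : Type*) [Field k] (f : k[X]) : (f.comp (1 - X)).comp (1 - X) = f := by
  rw [comp_assoc]; simp

theorem twist_flip (k : Type*) [Field k] (a b : ℕ) (G : k[X]) :
    twistT k b a (G.comp (1 - X)) = -(twistT k a b G).comp (1 - X) := by
  simp [twistT_apply, derivative_comp]; ring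

theorem twist_flip_dvd (k : Type*) [Field k] (m : ℕ) (f : k[X]) (h : (X - 1) ^ m ∣ f) :
    X ^ m ∣ f.comp (1 - X) := by
  obtain ⟨c, rfl⟩ := h
  refine ⟨(-1) ^ m * c.comp (1 - X), ?_⟩
  simp only [mul_comp, pow_comp, sub_comp, X_comp, one_comp]
  rw [show ((1 : k[X]) - X - 1) = -1 * X by ring, mul_pow]; ring

theorem twist_flip_dvd' (k : Type*) [Field k] (m : ℕ) (f : k[X]) (h : X ^ m ∣ f) :
    (X - 1) ^ m ∣ f.comp (1 - X) := by
  obtain ⟨c, rfl⟩ := h
  refine ⟨(-1) ^ m * c.comp (1 - X), ?_⟩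
  simp only [mul_comp, pow_comp, X_comp]
  rw [show ((1 : k[X]) - X) = -1 * (X - 1) by ring, mul_pow]; ring

theorem twist_zero (k : Type*) [Field k] [CharZero k] (a b r s : ℕ) (hrs : a + b + 2 ≤ r + s) (hs : s ≤ b) (G : k[X])
    (hG : G.natDegree ≤ a + b + 1) (hr : X ^ r ∣ twistT k a b G) (hs' : (X - 1) ^ s ∣ twistT k a b G) :
    twistT k a b G = 0 := by
  set D : k[X] := X ^ a * (X - 1) ^ b with hD
  obtain ⟨R, hR⟩ := twist_root_zero k a b a G (fun h => absurd h (by omega)) ((pow_dvd_pow _ (by omega)).trans hr)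
  set c : k := R.eval 0 / (-1) ^ b with hc
  have hT : twistT k a b (G - C c * D) = twistT k a b G := by
    rw [map_sub, ← smul_eq_C_mul, map_smul, hD, twistT_den, smul_zero, sub_zero]
  have h1 : X ^ (a + 1) ∣ G - C c * D := by
    rw [hR, hD, show X ^ a * R - C c * (X ^ a * (X - 1) ^ b) = X ^ a * (R - C c * (X - 1) ^ b) by ring, pow_succ]
    refine mul_dvd_mul_left _ (X_dvd_iff.2 ?_)
    rw [coeff_zero_eq_eval_zero]
    simp [hc]
  have h2 : (X - 1) ^ s ∣ G - C c * D := by
    refine dvd_sub ?_ (dvd_mul_of_dvd_right (dvd_mul_of_dvd_right (pow_dvd_pow _ hs) _) _)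
    have := twist_root_zero k b a s (G.comp (1 - X)) (fun h => absurd h (by omega))
      (by rw [twist_flip, dvd_neg]; exact twist_flip_dvd k s _ hs')
    have := twist_flip_dvd' k s _ this
    rwa [twist_flip_flip] at this
  have h3 : X ^ r ∣ G - C c * D := twist_root_zero k a b r _ (fun _ => h1) (hT ▸ hr)
  rw [← hT]
  by_cases hne : G - C c * D = 0
  · simp [hne]
  exfalso
  have hd : (G - C c * D).natDegree ≤ a + b + 1 := (natDegree_sub_le _ _).trans (max_le hG ((natDegree_C_mul_le _ _).trans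
    (natDegree_mul_le.trans (by simp [natDegree_pow, show ((X : k[X]) - 1).natDegree = 1 from natDegree_X_sub_C 1]))))
  have hcop : IsCoprime (X : k[X]) (X - C 1) := by
    simpa using isCoprime_X_sub_C_of_isUnit_sub (a := (0 : k)) (b := 1) (by simp)
  rw [C_1] at hcop
  have := natDegree_le_of_dvd ((hcop.pow (m := r) (n := s)).mul_dvd h3 h2) hne
  rw [natDegree_mul (pow_ne_zero _ X_ne_zero) (pow_ne_zero _ (by simpa using X_sub_C_ne_zero (1 : k))), natDegree_pow,
    natDegree_pow, natDegree_X, show ((X : k[X]) - 1).natDegree = 1 from natDegree_X_sub_C 1] at this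
  omega

theorem twist_one_marked (k : Type*) [Field k] [CharZero k] (a b i j : ℕ)
    (hj : i + j = a + b + 2) (q : k)
    (V : Submodule k k[X]) (hV : V ≤ (degreeLE k ↑(a + b + 1)).map (twistT k a b))
    (h1 : 1 ≤ Module.finrank k ↥(V ⊓ (Ideal.span {(X : k[X]) ^ i * (X - C q) ^ j}).restrictScalars k)) :
    a + 1 ≤ i := by
  by_contra hcon
  have hia : i ≤ a := by omega
  obtain ⟨f, hf, hfne⟩ : ∃ f, f ∈ V ⊓ (Ideal.span {(X : k[X]) ^ i * (X - C q) ^ j}).restrictScalars k ∧ f ≠ 0 :=
    (Submodule.ne_bot_iff _).1 fun h => by rw [h] at h1; simp at h1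
  obtain ⟨G, hG, rfl⟩ := hV hf.1
  have hGd : G.natDegree ≤ a + b + 1 := natDegree_le_iff_degree_le.2 (mem_degreeLE.1 hG)
  have hdvd := Ideal.mem_span_singleton.1 hf.2
  have hXi : X ^ i ∣ G := twist_root_zero k a b i G (fun h => absurd h (by omega)) ((dvd_mul_right _ _).trans hdvd)
  by_cases hq : q = 0 ∨ q = 1
  · refine hfne ?_
    rcases hq with rfl | rfl
    · rw [C_0, sub_zero, ← pow_add, hj] at hdvd
      exact twist_zero k a b (a + b + 2) 0 le_rfl (by omega) G hGd hdvd (one_dvd _)
    · have h := twist_zero k b a j i (by omega) (by omega) (G.comp (1 - X)) (by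
        refine natDegree_comp_le.trans ?_
        have : ((1 : k[X]) - X).natDegree ≤ 1 := (natDegree_sub_le _ _).trans (by simp)
        calc G.natDegree * ((1 : k[X]) - X).natDegree ≤ G.natDegree * 1 := Nat.mul_le_mul_left _ this
          _ ≤ b + a + 1 := by omega) ?_ ?_
      · rw [twist_flip, neg_eq_zero] at h
        rw [← twist_flip_flip k (twistT k a b G), h, zero_comp]
      · rw [twist_flip, dvd_neg]
        exact twist_flip_dvd k j _ (by simpa using (dvd_mul_left _ _).trans hdvd)
      · rw [twist_flip, dvd_neg]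
        exact twist_flip_dvd' k i _ ((dvd_mul_right _ _).trans hdvd)
  · push Not at hq
    set D : k[X] := X ^ a * (X - 1) ^ b with hD
    have hDq : D.eval q ≠ 0 := by simp [hD, hq.1, sub_ne_zero.2 hq.2]
    set G' := G - C (G.eval q / D.eval q) * D with hG'
    have hT : twistT k a b G' = twistT k a b G := by
      rw [hG', map_sub, ← smul_eq_C_mul, map_smul, hD, twistT_den, smul_zero, sub_zero]
    have h1' : (X - C q) ^ (j + 1) ∣ G' := twist_root k a b j q hq.1 hq.2 _ (by simp [hG', hDq])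
      (hT ▸ (dvd_mul_left _ _).trans hdvd)
    have h2' : X ^ i ∣ G' := dvd_sub hXi (dvd_mul_of_dvd_right (dvd_mul_of_dvd_left (pow_dvd_pow _ hia) _) _)
    refine hfne ?_
    rw [← hT]
    by_cases hne : G' = 0
    · simp [hne]
    have hcop : IsCoprime (X : k[X]) (X - C q) := by
      simpa using isCoprime_X_sub_C_of_isUnit_sub (a := (0 : k)) (b := q) (by simpa using hq.1)
    have := natDegree_le_of_dvd ((hcop.pow (m := i) (n := j + 1)).mul_dvd h2' h1') hne
    have hd : G'.natDegree ≤ a + b + 1 := (natDegree_sub_le _ _).trans (max_le hGd ((natDegree_C_mul_le _ _).trans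
      (natDegree_mul_le.trans (by simp [natDegree_pow, show ((X : k[X]) - 1).natDegree = 1 from natDegree_X_sub_C 1]))))
    rw [natDegree_mul (pow_ne_zero _ X_ne_zero) (pow_ne_zero _ (X_sub_C_ne_zero q)), natDegree_pow, natDegree_pow,
      natDegree_X_sub_C, natDegree_X] at this
    omega

theorem homogeneous_two_finrank (K : Type u) [Field K] (d : ℕ) :
    Module.Finite K (MvPolynomial.homogeneousSubmodule (Fin 2) K d) ∧
      Module.finrank K (MvPolynomial.homogeneousSubmodule (Fin 2) K d) = d + 1 := by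
  classical
  let H := fun d => MvPolynomial.homogeneousSubmodule (Fin 2) K d
  let s : Set (Fin 2 →₀ ℕ) := {e | e.degree = d}
  have e : s ≃ Fin (d + 1) :=
    { toFun := fun x => ⟨x.1 0, by have := x.2; simp [s, Finsupp.degree_eq_sum, Fin.sum_univ_two] at this; omega⟩
      invFun := fun i => ⟨Finsupp.equivFunOnFinite.symm ![(i : ℕ), d - i], by
        simp [s, Finsupp.degree_eq_sum, Fin.sum_univ_two]; omega⟩
      left_inv := fun x => by
        have := x.2; simp [s, Finsupp.degree_eq_sum, Fin.sum_univ_two] at this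
        ext i; fin_cases i <;> simp; omega
      right_inv := fun i => by ext; simp }
  haveI : Fintype s := Fintype.ofEquiv _ e.symm
  have hs : MvPolynomial.restrictSupport K s = H d :=
    (MvPolynomial.homogeneousSubmodule_eq_finsupp_supported (Fin 2) K d).symm
  let β := (MvPolynomial.basisRestrictSupport K s).map (LinearEquiv.ofEq _ _ hs)
  exact ⟨Module.Finite.of_basis β, by rw [Module.finrank_eq_card_basis β, Fintype.card_congr e, Fintype.card_fin]⟩

theorem quintic_secant_unique (K : Type u) [Field K] (V : Submodule K (MvPolynomial (Fin 2) K))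
    (hV : V ≤ MvPolynomial.homogeneousSubmodule (Fin 2) K 5) (hdim : Module.finrank K ↥V = 5)
    (hsep : ∀ e ∈ MvPolynomial.homogeneousSubmodule (Fin 2) K 2, e ≠ 0 → ∀ F ∈ MvPolynomial.homogeneousSubmodule (Fin 2) K 5,
      ∃ v ∈ V, ∃ h ∈ MvPolynomial.homogeneousSubmodule (Fin 2) K 3, F = v + e * h) :
    ∃ g ∈ MvPolynomial.homogeneousSubmodule (Fin 2) K 3, g ≠ 0 ∧
      (∀ h ∈ MvPolynomial.homogeneousSubmodule (Fin 2) K 2, g * h ∈ V) ∧
      ∀ g' ∈ MvPolynomial.homogeneousSubmodule (Fin 2) K 3,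
        (∀ h ∈ MvPolynomial.homogeneousSubmodule (Fin 2) K 2, g' * h ∈ V) → ∃ c : K, g' = c • g := by
  classical
  have hdimH := fun d => homogeneous_two_finrank K d
  let H := fun d => MvPolynomial.homogeneousSubmodule (Fin 2) K d
  obtain ⟨hf2, hd2⟩ := hdimH 2
  obtain ⟨hf3, hd3⟩ := hdimH 3
  obtain ⟨hf5, hd5⟩ := hdimH 5
  let V' : Submodule K (H 5) := V.comap (H 5).subtype
  have hV' : Module.finrank K V' = 5 := by rw [(Submodule.comapSubtypeEquivOfLe hV).finrank_eq, hdim]
  have h5 : Module.finrank K (H 5) = 6 := hd5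
  have hQ : Module.finrank K (H 5 ⧸ V') = 1 := by
    have := Submodule.finrank_quotient_add_finrank V'
    omega
  let ψ : (H 5 ⧸ V') ≃ₗ[K] K := LinearEquiv.ofFinrankEq _ _ (by rw [hQ, Module.finrank_self])
  let β : H 3 →ₗ[K] H 2 →ₗ[K] K :=
    (LinearMap.mk₂ K (fun (g : H 3) (h : H 2) => (⟨(g : MvPolynomial (Fin 2) K) * h, MvPolynomial.IsHomogeneous.mul g.2 h.2⟩ : H 5))
      (fun a b c => Subtype.ext (add_mul _ _ _)) (fun a b c => Subtype.ext (smul_mul_assoc _ _ _))
      (fun a b c => Subtype.ext (mul_add _ _ _)) (fun a b c => Subtype.ext (mul_smul_comm _ _ _))).compr₂ (ψ.toLinearMap ∘ₗ V'.mkQ)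
  have hz : ∀ (g : H 3) (h : H 2), β g h = 0 ↔ (g : MvPolynomial (Fin 2) K) * h ∈ V := fun g h => by
    show ψ (Submodule.Quotient.mk _) = 0 ↔ _
    rw [LinearEquiv.map_eq_zero_iff, Submodule.Quotient.mk_eq_zero]
    rfl
  have hinj : Function.Injective β.flip := by
    rw [injective_iff_map_eq_zero]
    intro e he
    by_contra hne
    have htop : V' = ⊤ := by
      rw [eq_top_iff]
      intro F _
      obtain ⟨v, hv, h, hh, hF⟩ := hsep e e.2 (fun h => hne (Subtype.ext h)) F F.2
      show (F : MvPolynomial (Fin 2) K) ∈ V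
      rw [hF, mul_comm]
      exact V.add_mem hv ((hz ⟨h, hh⟩ e).1 (LinearMap.congr_fun he ⟨h, hh⟩))
    rw [htop, finrank_top, hd5] at hV'
    omega
  have hsurj : Function.Surjective β := LinearMap.flip_injective_iff₁.1 hinj
  have hker : Module.finrank K (LinearMap.ker β) = 1 := by
    have := β.finrank_range_add_finrank_ker
    rw [LinearMap.range_eq_top.2 hsurj, finrank_top, Subspace.dual_finrank_eq, hd2, hd3] at this
    omega
  letI : AddCommGroup (H 3) := inferInstanceAs (AddCommGroup (MvPolynomial.homogeneousSubmodule (Fin 2) K 3))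
  obtain ⟨⟨g, hg⟩, hgne, hspan⟩ := (finrank_eq_one_iff' (K := K) (V := LinearMap.ker β)).1 (by convert hker using 2)
  refine ⟨g, g.2, fun h => hgne (Subtype.ext (Subtype.ext h)), fun h hh => (hz g ⟨h, hh⟩).1 ?_, fun g' hg' hmem => ?_⟩
  · rw [LinearMap.mem_ker.1 hg]; rfl
  · obtain ⟨c, hc⟩ := hspan ⟨⟨g', hg'⟩, LinearMap.mem_ker.2 (LinearMap.ext fun h => (hz _ h).2 (hmem h h.2))⟩
    refine ⟨c, ?_⟩
    have h' := congrArg Subtype.val (congrArg Subtype.val hc)
    exact h'.symm

end Groth.Agent.H4Easy
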