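import Mathlib

/-! Elementary milestones, batch 11: Frobenius kernels, secant varieties, deviations, roots of hypergeometric sums, Mukai's lemma, truncated Dieudonné modules. -/

set_option autoImplicit false
set_option linter.style.haveILetI false

open scoped TensorProduct

universe u v w

namespace Groth.Agent.H4Easy


theorem frobKernel_trivial_iff (k : Type u) [Field k] [IsAlgClosed k] (p : ℕ) [Fact p.Prime] [CharP k p] (A : Type v)
    [CommRing A] [HopfAlgebra k A] [Module.Finite k A] (n : ℕ) (hn : 1 ≤ n) :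
    Ideal.span ((fun f : A => f ^ p ^ n) '' (RingHom.ker (Bialgebra.counitAlgHom k A) : Set A)) =
      RingHom.ker (Bialgebra.counitAlgHom k A) ↔ IsReduced A := by
  set I : Ideal A := RingHom.ker (Bialgebra.counitAlgHom k A)
  haveI : IsArtinianRing A := IsArtinianRing.of_finite k A
  have hp2 : 2 ≤ p ^ n := (Fact.out : p.Prime).two_le.trans (Nat.le_self_pow (by omega) p)
  constructor
  · intro h
    have hle : Ideal.span ((fun f : A => f ^ p ^ n) '' (I : Set A)) ≤ I * I := (Ideal.span_le.2 (by
      rintro _ ⟨f, hf, rfl⟩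
      have := Ideal.pow_le_pow_right hp2 (Ideal.pow_mem_pow hf (p ^ n))
      rwa [pow_two] at this))
    rw [h] at hle
    have hidem : IsIdempotentElem I := le_antisymm Ideal.mul_le_right hle
    obtain ⟨e, he, hIe⟩ := (Ideal.isIdempotentElem_iff_of_fg I (IsNoetherian.noetherian I)).1 hidem
    refine ⟨fun x hx => ?_⟩
    by_contra hx0
    obtain ⟨m, hm, hann⟩ := Ideal.exists_le_maximal (LinearMap.ker (LinearMap.toSpanSingleton A A x))
      (fun htop => hx0 (by simpa using (show (1 : A) ∈ LinearMap.ker (LinearMap.toSpanSingleton A A x) from htop ▸ trivial)))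
    haveI := hm
    letI := Ideal.Quotient.field m
    have hbij : Function.Bijective (algebraMap k (A ⧸ m)) := IsAlgClosed.algebraMap_bijective_of_isIntegral
    let χ : A →ₐ[k] k := (AlgEquiv.ofBijective (Algebra.ofId k (A ⧸ m)) hbij).symm.toAlgHom.comp (Ideal.Quotient.mkₐ k m)
    have hker : ∀ a, χ a = 0 ↔ a ∈ m := fun a => by
      simp [χ, Ideal.Quotient.eq_zero_iff_mem]
    let g : WithConv (A →ₐ[k] k) := WithConv.toConv χ
    let cst : WithConv (A →ₐ[k] k) → WithConv (A →ₐ[k] A) := fun g => WithConv.toConv ((Algebra.ofId k A).comp g.ofConv)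
    let tau : WithConv (A →ₐ[k] k) → (A →ₐ[k] A) := fun g => (WithConv.toConv (AlgHom.id k A) * cst g).ofConv
    have cst_mul : ∀ g h, cst (g * h) = cst g * cst h := fun g h => WithConv.ext (AlgHom.comp_convMul_distrib _ _ _)
    have tau_comp : ∀ g h : WithConv (A →ₐ[k] k), (tau g).comp (tau h) = tau (g * h) := fun g h => by
      show (tau g).comp (WithConv.toConv (AlgHom.id k A) * cst h).ofConv = (WithConv.toConv (AlgHom.id k A) * cst (g * h)).ofConv
      rw [AlgHom.comp_convMul_distrib, cst_mul, ← mul_assoc]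
      congr 2
      exact WithConv.ext (AlgHom.ext fun a => (tau g).commutes _)
    have tau_one : tau 1 = AlgHom.id k A := by
      simp only [tau]
      rw [show cst 1 = 1 from rfl, mul_one, WithConv.ofConv_toConv]
    have comp_tau : ∀ h g : WithConv (A →ₐ[k] k), WithConv.toConv (h.ofConv.comp (tau g)) = h * g := fun h g => by
      refine WithConv.ext ?_
      show h.ofConv.comp (WithConv.toConv (AlgHom.id k A) * cst g).ofConv = _
      rw [AlgHom.comp_convMul_distrib]
      congr 2
      exact WithConv.ext (AlgHom.ext fun a => h.ofConv.commutes _)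
    have hone : (1 : WithConv (A →ₐ[k] k)).ofConv = Bialgebra.counitAlgHom k A := rfl
    have hεg : (Bialgebra.counitAlgHom k A).comp (tau g) = χ := by
      have := congrArg WithConv.ofConv (comp_tau 1 g)
      rw [one_mul, hone] at this
      exact this
    have hinv : ∀ a, tau g⁻¹ (tau g a) = a := fun a => by
      rw [← AlgHom.comp_apply, tau_comp, inv_mul_cancel, tau_one, AlgHom.id_apply]
    have hinv' : ∀ a, tau g (tau g⁻¹ a) = a := fun a => by
      rw [← AlgHom.comp_apply, tau_comp, mul_inv_cancel, tau_one, AlgHom.id_apply]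
    obtain ⟨e', he', hme'⟩ : ∃ e' : A, IsIdempotentElem e' ∧ m = Ideal.span {e'} := by
      refine ⟨tau g⁻¹ e, he.map _, ?_⟩
      ext a
      rw [← hker, ← hεg, AlgHom.comp_apply, ← RingHom.mem_ker (f := Bialgebra.counitAlgHom k A)]
      change tau g a ∈ I ↔ _
      rw [hIe, Ideal.mem_span_singleton, Ideal.mem_span_singleton]
      exact ⟨fun ⟨c, hc⟩ => ⟨tau g⁻¹ c, by rw [← map_mul, ← hc, hinv]⟩,
        fun ⟨c, hc⟩ => ⟨tau g c, by rw [hc, map_mul, hinv']⟩⟩
    have hxm : x ∈ m := by
      obtain ⟨N, hN⟩ := hx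
      exact hm.isPrime.mem_of_pow_mem N (hN ▸ zero_mem m)
    rw [hme', Ideal.mem_span_singleton] at hxm
    obtain ⟨c, rfl⟩ := hxm
    have : (1 - e') ∈ m := hann (by
      rw [LinearMap.mem_ker, LinearMap.toSpanSingleton_apply, smul_eq_mul, ← mul_assoc, sub_mul, one_mul, he'.eq, sub_self, zero_mul])
    have he'm : e' ∈ m := hme' ▸ Ideal.mem_span_singleton_self e'
    exact hm.ne_top ((Ideal.eq_top_iff_one _).2 (sub_add_cancel (1 : A) e' ▸ add_mem this he'm))
  · intro hr
    refine le_antisymm (Ideal.span_le.2 ?_) ?_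
    · rintro _ ⟨f, hf, rfl⟩
      exact Ideal.pow_mem_of_mem _ hf _ (by omega)
    · intro f hf
      haveI := IsArtinianRing.isSemisimpleRing_of_isReduced A
      obtain ⟨e, he, hIe⟩ := IsSemisimpleRing.ideal_eq_span_idempotent I
      have heI : e ∈ I := by rw [hIe]; exact Ideal.mem_span_singleton_self e
      rw [hIe] at hf
      obtain ⟨c, rfl⟩ := Ideal.mem_span_singleton.1 hf
      refine Ideal.mul_mem_right _ _ (Ideal.subset_span ⟨e, heI, ?_⟩)
      exact he.pow_eq (by omega)

theorem secant_exists (K : Type u) [Field K] (n r k : ℕ) (hkn : k ≤ n) (hineq : (r + 1) * (n + 1) ≤ (r + 2) * k)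
    (U : Submodule K (MvPolynomial (Fin 2) K)) (hU : U ≤ MvPolynomial.homogeneousSubmodule (Fin 2) K n)
    (hcodim : Module.finrank K ↥U + (r + 1) = n + 1) :
    ∃ g ∈ MvPolynomial.homogeneousSubmodule (Fin 2) K k, g ≠ 0 ∧
      ∀ h ∈ MvPolynomial.homogeneousSubmodule (Fin 2) K (n - k), g * h ∈ U := by
  classical
  let H := fun d => MvPolynomial.homogeneousSubmodule (Fin 2) K d
  have hdim : ∀ d, Module.Finite K (H d) ∧ Module.finrank K (H d) = d + 1 := by
    intro d
    let s : Set (Fin 2 →₀ ℕ) := {e | e.degree = d}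
    have e : s ≃ Fin (d + 1) :=
      { toFun := fun x => ⟨x.1 0, by have := x.2; simp [s, Finsupp.degree_eq_sum, Fin.sum_univ_two] at this; omega⟩
        invFun := fun i => ⟨Finsupp.equivFunOnFinite.symm ![(i : ℕ), d - i], by
          simp [s, Finsupp.degree_eq_sum, Fin.sum_univ_two]; omega⟩
        left_inv := fun x => by
          have := x.2; simp [s, Finsupp.degree_eq_sum, Fin.sum_univ_two] at this
          ext i; fin_cases i <;> simp; omega
        right_inv := fun i => by ext; simp }
    haveI : Fintype s := Fintype.ofEquiv _ e.symm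
    have hs : MvPolynomial.restrictSupport K s = H d :=
      (MvPolynomial.homogeneousSubmodule_eq_finsupp_supported (Fin 2) K d).symm
    let β := (MvPolynomial.basisRestrictSupport K s).map (LinearEquiv.ofEq _ _ hs)
    exact ⟨Module.Finite.of_basis β, by rw [Module.finrank_eq_card_basis β, Fintype.card_congr e, Fintype.card_fin]⟩
  obtain ⟨hfk, hdk⟩ := hdim k
  obtain ⟨hfl, hdl⟩ := hdim (n - k)
  obtain ⟨hfn, hdn⟩ := hdim n
  let U' : Submodule K (H n) := U.comap (H n).subtype
  let mulH : H k →ₗ[K] (H (n - k) →ₗ[K] H n) :=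
    LinearMap.mk₂ K (fun g h => (⟨(g : MvPolynomial (Fin 2) K) * h, by
        have := MvPolynomial.IsHomogeneous.mul g.2 h.2
        rwa [Nat.add_sub_cancel' hkn] at this⟩ : H n))
      (fun a b c => Subtype.ext (add_mul _ _ _)) (fun a b c => Subtype.ext (smul_mul_assoc _ _ _))
      (fun a b c => Subtype.ext (mul_add _ _ _)) (fun a b c => Subtype.ext (mul_smul_comm _ _ _))
  let Φ : H k →ₗ[K] (H (n - k) →ₗ[K] (H n ⧸ U')) := (LinearMap.llcomp K _ _ _ U'.mkQ).comp mulH
  have hU' : Module.finrank K U' = Module.finrank K U := (Submodule.comapSubtypeEquivOfLe hU).finrank_eq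
  have hquot : Module.finrank K (H n ⧸ U') = r + 1 := by
    have := Submodule.finrank_quotient_add_finrank U'
    omega
  have hker : LinearMap.ker Φ ≠ ⊥ := by
    intro h
    have := LinearMap.finrank_le_finrank_of_injective (LinearMap.ker_eq_bot.1 h)
    rw [Module.finrank_linearMap, hquot, hdl, hdk] at this
    obtain ⟨m, rfl⟩ := Nat.exists_eq_add_of_le hkn
    rw [Nat.add_sub_cancel_left] at this
    nlinarith
  obtain ⟨g, hg, hg0⟩ := Submodule.exists_mem_ne_zero_of_ne_bot hker
  refine ⟨g, g.2, fun h => hg0 (Subtype.ext h), fun h hh => ?_⟩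
  have := LinearMap.congr_fun (LinearMap.mem_ker.1 hg) ⟨h, hh⟩
  exact (Submodule.Quotient.mk_eq_zero U').1 this

theorem deviation_additive {A : Type u} {G : Type v} [AddCommGroup A] [AddCommGroup G] (f : A → G) (n : ℕ) (hn : 1 ≤ n) :
    (∀ x : Fin (n + 1) → A, ∑ I ∈ ((Finset.univ : Finset (Fin (n + 1))).powerset.erase ∅),
        ((-1 : ℤ) ^ (n + 1 + I.card)) • f (∑ i ∈ I, x i) = 0) ↔
      (∀ (j : Fin n) (y : Fin n → A) (a b : A),
        ∑ I ∈ ((Finset.univ : Finset (Fin n)).powerset.erase ∅),
            ((-1 : ℤ) ^ (n + I.card)) • f (∑ i ∈ I, (Function.update y j (a + b)) i) =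
          ∑ I ∈ ((Finset.univ : Finset (Fin n)).powerset.erase ∅),
              ((-1 : ℤ) ^ (n + I.card)) • f (∑ i ∈ I, (Function.update y j a) i) +
            ∑ I ∈ ((Finset.univ : Finset (Fin n)).powerset.erase ∅),
              ((-1 : ℤ) ^ (n + I.card)) • f (∑ i ∈ I, (Function.update y j b) i)) := by
  classical
  let F : ∀ {m : ℕ}, Finset (Fin m) → (Fin m → A) → A → G := fun {m} s z c =>
    ∑ I ∈ s.powerset, ((-1 : ℤ) ^ (s.card + I.card)) • f (c + ∑ i ∈ I, z i)
  have hins : ∀ {m : ℕ} (s : Finset (Fin m)) (j : Fin m) (z : Fin m → A) (c : A), j ∉ s →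
      F (insert j s) z c = F s z (c + z j) - F s z c := by
    intro m s j z c hj
    simp only [F]
    rw [Finset.sum_powerset_insert hj, Finset.card_insert_of_notMem hj, sub_eq_neg_add, ← Finset.sum_neg_distrib]
    refine congrArg₂ _ (Finset.sum_congr rfl fun I _ => ?_) (Finset.sum_congr rfl fun I hI => ?_)
    · rw [add_right_comm, pow_succ, mul_neg_one, neg_smul]
    · have hjI : j ∉ I := fun h => hj (Finset.mem_powerset.1 hI h)
      rw [Finset.card_insert_of_notMem hjI, Finset.sum_insert hjI, add_assoc c,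
        show s.card + 1 + (I.card + 1) = s.card + I.card + 2 by omega, pow_add]
      simp
  have hD : ∀ {m : ℕ} (z : Fin m → A),
      ∑ I ∈ ((Finset.univ : Finset (Fin m)).powerset.erase ∅), ((-1 : ℤ) ^ (m + I.card)) • f (∑ i ∈ I, z i) =
        F Finset.univ z 0 - ((-1 : ℤ) ^ m) • f 0 := by
    intro m z
    simp only [F, Finset.card_univ, Fintype.card_fin, zero_add]
    rw [Finset.sum_erase_eq_sub (Finset.empty_mem_powerset _)]
    simp
  -- reindexing along an embedding
  have hemb : ∀ (z : Fin (n + 1) → A) (c : A) (s : Finset (Fin n)),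
      F (s.map Fin.castSuccEmb) z c = F s (fun i => z i.castSucc) c := by
    intro z c s
    induction s using Finset.induction_on generalizing c with
    | empty => simp [F]
    | insert j s hj ih =>
      rw [Finset.map_insert, hins _ _ _ _ (by simpa using hj), hins _ _ _ _ hj, ih, ih]
      simp
  have key : ∀ (z : Fin (n + 1) → A) (j : Fin n),
      F Finset.univ z 0 = F Finset.univ (Function.update (fun i => z i.castSucc) j (z (Fin.last n) + z j.castSucc)) 0 -
        F Finset.univ (Function.update (fun i => z i.castSucc) j (z (Fin.last n))) 0 -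
        F Finset.univ (fun i => z i.castSucc) 0 := by
    intro z j
    rw [Fin.univ_castSuccEmb, Finset.cons_eq_insert, hins _ _ _ _ (by simp), hemb, hemb]
    have hupd : ∀ (w : A) (c : A), F (Finset.univ.erase j) (Function.update (fun i => z i.castSucc) j w) c =
        F (Finset.univ.erase j) (fun i => z i.castSucc) c := fun w c => by
      simp only [F]
      refine Finset.sum_congr rfl fun I hI => ?_
      congr 3
      refine Finset.sum_congr rfl fun i hi => Function.update_of_ne ?_ _ _
      exact Finset.ne_of_mem_erase (Finset.mem_powerset.1 hI hi)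
    have hsplit : ∀ w c, F Finset.univ w c = F (Finset.univ.erase j) w (c + w j) - F (Finset.univ.erase j) w c := fun w c => by
      conv_lhs => rw [← Finset.insert_erase (Finset.mem_univ j)]
      exact hins _ _ _ _ (Finset.notMem_erase j _)
    simp only [hsplit, hupd, Function.update_self, zero_add]
    abel
  constructor
  · intro h j y a b
    have h1 := h (Fin.snoc (Function.update y j b) a)
    rw [hD, key _ j] at h1
    simp only [Fin.snoc_castSucc, Fin.snoc_last, Function.update_self, Function.update_idem] at h1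
    rw [hD, hD, hD]
    rw [← sub_eq_zero, ← h1, pow_succ, mul_neg_one, neg_smul]
    abel
  · intro h x
    let j : Fin n := ⟨0, by omega⟩
    have h1 := h j (fun i => x i.castSucc) (x (Fin.last n)) (x j.castSucc)
    rw [hD, hD, hD, Function.update_eq_self j (fun i => x i.castSucc)] at h1
    rw [sub_eq_iff_eq_add] at h1
    rw [hD, key x j, h1, pow_succ, mul_neg_one, neg_smul]
    abel

theorem hypergeometric_roots (k : Type*) [Field k] [CharZero k] (i j n : ℕ) (c : k) (hc0 : c ≠ 0) (hc1 : c ≠ 1) :
    Polynomial.rootMultiplicity c (∑ l ∈ Finset.range (n + 1),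
      Polynomial.C (((i.choose l) * (j.choose (n - l)) : ℕ) : k) * Polynomial.X ^ (n - l)) ≤ 1 := by
  classical
  open Polynomial in
  set h := ∑ l ∈ Finset.range (n + 1), C (((i.choose l) * (j.choose (n - l)) : ℕ) : k) * X ^ (n - l) with hh
  have hcoef : ∀ m, h.coeff m = if m ≤ n then ((i.choose (n - m)) * (j.choose m) : k) else 0 := by
    intro m
    simp only [hh, Polynomial.finset_sum_coeff, Polynomial.coeff_C_mul_X_pow]
    split_ifs with hm
    · rw [Finset.sum_eq_single (n - m)]
      · rw [if_pos (by omega), show n - (n - m) = m by omega]; push_cast; ring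
      · intro l hl hne
        rw [if_neg]
        have := Finset.mem_range.1 hl
        omega
      · intro hn
        exact absurd (Finset.mem_range.2 (by omega)) hn
    · refine Finset.sum_eq_zero fun l hl => if_neg (by omega)
  have rec_ : ∀ m : ℕ, ((m : k) + 1) * ((i : k) - n + m + 1) * h.coeff (m + 1) = ((n : k) - m) * ((j : k) - m) * h.coeff m := by
    intro m
    rw [hcoef, hcoef]
    rcases lt_trichotomy m n with hm | rfl | hm
    · obtain ⟨d, rfl⟩ := Nat.exists_eq_add_of_lt hm
      rw [if_pos (by omega), if_pos (by omega), show m + d + 1 - (m + 1) = d by omega, show m + d + 1 - m = d + 1 by omega]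
      have e1 : (j.choose (m + 1) : k) * ((m : k) + 1) = (j.choose m : k) * ((j : k) - m) := by
        rcases le_or_gt m j with h | h
        · have := congrArg (Nat.cast (R := k)) (Nat.choose_succ_right_eq j m)
          push_cast [Nat.cast_sub h] at this
          exact this
        · simp [Nat.choose_eq_zero_of_lt h, Nat.choose_eq_zero_of_lt (h.trans (Nat.lt_succ_self m))]
      have e2 : (i.choose (d + 1) : k) * ((d : k) + 1) = (i.choose d : k) * ((i : k) - d) := by
        rcases le_or_gt d i with h | h
        · have := congrArg (Nat.cast (R := k)) (Nat.choose_succ_right_eq i d)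
          push_cast [Nat.cast_sub h] at this
          exact this
        · simp [Nat.choose_eq_zero_of_lt h, Nat.choose_eq_zero_of_lt (h.trans (Nat.lt_succ_self d))]
      push_cast
      linear_combination ((i : k) - d) * (i.choose d : k) * e1 - ((j.choose m : k) * ((j : k) - m)) * e2
    · rw [if_neg (by omega)]; simp
    · rw [if_neg (by omega), if_neg (by omega)]; simp
  have ode : Polynomial.X * (1 - Polynomial.X) * Polynomial.derivative (Polynomial.derivative h) +
      (Polynomial.C ((1 : k) + i - n) - Polynomial.C ((1 : k) - n - j) * Polynomial.X) * Polynomial.derivative h -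
      Polynomial.C ((n : k) * j) * h = 0 := by
    ext m
    rw [show Polynomial.X * (1 - Polynomial.X) * Polynomial.derivative (Polynomial.derivative h) +
      (Polynomial.C ((1 : k) + i - n) - Polynomial.C ((1 : k) - n - j) * Polynomial.X) * Polynomial.derivative h -
      Polynomial.C ((n : k) * j) * h =
        Polynomial.X * Polynomial.derivative (Polynomial.derivative h) - Polynomial.X * (Polynomial.X * Polynomial.derivative (Polynomial.derivative h)) +
        Polynomial.C ((1 : k) + i - n) * Polynomial.derivative h - Polynomial.C ((1 : k) - n - j) * (Polynomial.X * Polynomial.derivative h) -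
        Polynomial.C ((n : k) * j) * h by ring]
    simp only [Polynomial.coeff_add, Polynomial.coeff_sub, Polynomial.coeff_zero, Polynomial.coeff_C_mul]
    rcases m with _ | _ | m
    · have h0 := rec_ 0
      simp [Polynomial.coeff_derivative] at h0 ⊢
      linear_combination h0
    · have h0 := rec_ 1
      simp [Polynomial.coeff_derivative, Polynomial.coeff_X_mul] at h0 ⊢
      linear_combination h0
    · have h0 := rec_ (m + 2)
      simp [Polynomial.coeff_derivative, Polynomial.coeff_X_mul] at h0 ⊢
      linear_combination h0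
  by_contra hlt
  rw [not_le] at hlt
  have hne : h ≠ 0 := fun h0 => by rw [h0, Polynomial.rootMultiplicity_zero] at hlt; omega
  obtain ⟨u, hu, hndvd⟩ := Polynomial.exists_eq_pow_rootMultiplicity_mul_and_not_dvd h hne c
  obtain ⟨m, hm⟩ := Nat.exists_eq_add_of_le (show 2 ≤ Polynomial.rootMultiplicity c h from hlt)
  rw [hm] at hu
  generalize hA : Polynomial.X - Polynomial.C c = L at hu hndvd
  have hL : L ≠ 0 := hA ▸ Polynomial.X_sub_C_ne_zero c
  have hdL : Polynomial.derivative L = 1 := by rw [← hA]; simp
  have key : L ^ m * (Polynomial.X * (1 - Polynomial.X) * Polynomial.C (((m : k) + 2) * ((m : k) + 1)) * u +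
      L * (Polynomial.X * (1 - Polynomial.X) * (Polynomial.C (2 * ((m : k) + 2)) * Polynomial.derivative u + L * Polynomial.derivative (Polynomial.derivative u)) +
        (Polynomial.C ((1 : k) + i - n) - Polynomial.C ((1 : k) - n - j) * Polynomial.X) * (Polynomial.C ((m : k) + 2) * u + L * Polynomial.derivative u) -
        Polynomial.C ((n : k) * j) * L * u)) = 0 := by
    rw [← ode, hu]
    simp only [Polynomial.derivative_mul, Polynomial.derivative_add, Polynomial.derivative_pow, hdL, Polynomial.derivative_one,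
      Polynomial.derivative_C, mul_one, mul_zero, zero_mul, add_zero, map_add, map_mul, map_ofNat, Polynomial.C_eq_natCast,
      map_one]
    push_cast
    rw [show 2 + m - 1 = m + 1 by omega, show m + 1 - 1 = m by omega]
    simp only [Nat.cast_add, Nat.cast_one, Nat.cast_ofNat, Polynomial.derivative_add, Polynomial.derivative_natCast, Polynomial.derivative_ofNat, add_zero, mul_zero, zero_mul]
    ring
  have h2 := congrArg (Polynomial.eval c) ((mul_eq_zero.1 key).resolve_left (pow_ne_zero m hL))
  have hLc : L.eval c = 0 := by rw [← hA]; simp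
  simp [hLc] at h2
  have hm2 : (m : k) + 2 ≠ 0 := by exact_mod_cast Nat.succ_ne_zero (m + 1)
  have hm1 : (m : k) + 1 ≠ 0 := by exact_mod_cast Nat.succ_ne_zero m
  rcases h2 with ((h2 | h2) | h2 | h2) | h2
  · exact hc0 h2
  · exact hc1 (sub_eq_zero.1 h2).symm
  · exact hm2 h2
  · exact hm1 h2
  · exact hndvd (hA ▸ Polynomial.dvd_iff_isRoot.2 h2)

theorem mukai_sign (x n r d χ p q s : ℤ) (hn : 0 < n) (hr : 2 ≤ r) (hd : 0 < d) (hχ : χ < 0) (hp : 0 ≤ p)
    (hodge : 4 * n * p * q ≤ x * x) (hs : s = d * x - r * q - χ * p) (hs1 : 1 ≤ |s|) (hs2 : |s| ≤ 2)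
    (hexc : ¬ (d = 1 ∧ χ = -1 ∧ x = 1 ∧ p * q = 0)) (hr2 : r = 2 → ¬ (p = 0 ∧ x = 0)) :
    (0 ≤ 2 * n * d * p - r * x ↔ 0 ≤ χ * x - 2 * n * d * q) := by
  obtain ⟨c, hc, rfl⟩ : ∃ c : ℤ, 0 < c ∧ χ = -c := ⟨-χ, by omega, by ring⟩
  obtain ⟨hslo, hshi⟩ := abs_le.1 hs2
  have hs0 : s ≠ 0 := fun h => by rw [h] at hs1; simp at hs1
  have hndp : 0 ≤ 2 * n * d * p := by positivity
  constructor
  · intro hA
    by_contra hB
    rw [not_le] at hB
    rcases lt_trichotomy x 0 with hx | rfl | hx
    · have hq : 0 < q := by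
        by_contra hq'
        nlinarith [mul_nonpos_of_nonneg_of_nonpos (show 0 ≤ 2 * n * d by positivity) (not_lt.1 hq'), mul_pos hc (neg_pos.2 hx)]
      rcases eq_or_lt_of_le hp with rfl | hp'
      · nlinarith
      · have h1 : c * (-x) < 2 * n * d * q := by linarith
        have h2 : (c * (-x)) * (c * (-x)) < (2 * n * d * q) * (2 * n * d * q) :=
          mul_self_lt_mul_self (by nlinarith) h1
        have h3 : p * c ^ 2 < n * d ^ 2 * q := by
          by_contra h
          rw [not_lt] at h
          nlinarith [mul_le_mul_of_nonneg_left hodge (sq_nonneg c), mul_le_mul_of_nonneg_left h (show 0 ≤ 4 * n * q by positivity)]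
        have h4 : (2 * p * c) * (2 * p * c) < (d * -x) * (d * -x) := by
          nlinarith [mul_lt_mul_of_pos_left h3 (show 0 < 4 * p by linarith), mul_le_mul_of_nonneg_left hodge (sq_nonneg d)]
        have h5 : 2 * p * c < d * -x := by nlinarith [mul_pos hd (neg_pos.2 hx), mul_pos hp' hc]
        nlinarith [mul_le_mul hr hq (by norm_num) (by linarith), mul_pos hp' hc]
    · have hq : 0 < q := by
        by_contra hq'
        nlinarith [mul_nonpos_of_nonneg_of_nonpos (show 0 ≤ 2 * n * d by positivity) (not_lt.1 hq')]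
      rcases eq_or_lt_of_le hp with rfl | hp'
      · have : r = 2 := by nlinarith
        exact hr2 this ⟨rfl, rfl⟩
      · nlinarith [mul_pos (mul_pos hn hp') hq]
    · rcases lt_trichotomy q 0 with hq | rfl | hq
      · nlinarith [mul_pos hd hx, mul_le_mul hr (show 1 ≤ -q by omega) (by norm_num) (by linarith)]
      · have h1 : d * x + c * p ≤ 2 := by linarith
        have hdx : 1 ≤ d * x := mul_pos hd hx
        have hp1 : 1 ≤ p := by
          by_contra hp'
          have : p = 0 := by omega
          subst this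
          nlinarith
        have hcp : 1 ≤ c * p := mul_pos hc hp1
        have hdx1 : d * x = 1 := by omega
        have hcp1 : c * p = 1 := by omega
        obtain ⟨rfl, rfl⟩ : d = 1 ∧ x = 1 := by
          constructor <;> nlinarith
        have : c = 1 := by nlinarith
        exact hexc ⟨rfl, by omega, rfl, by ring⟩
      · have h1 : r * x * x ≤ 2 * n * d * p * x := by nlinarith
        have h2 : 4 * n * p * q * r ≤ 2 * n * d * p * x := by nlinarith
        rcases eq_or_lt_of_le hp with rfl | hp'
        · nlinarith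
        · have h3 : 2 * (r * q) ≤ d * x := by
            by_contra h
            rw [not_le] at h
            nlinarith [mul_lt_mul_of_pos_left h (show 0 < 2 * n * p by positivity)]
          nlinarith [mul_le_mul hr hq (by norm_num) (by linarith), mul_pos hp' hc]
  · intro hB
    by_contra hA
    rw [not_le] at hA
    have hx : 0 < x := by nlinarith
    have hq : q < 0 := by
      by_contra hq'
      nlinarith [mul_nonneg (show 0 ≤ 2 * n * d by positivity) (not_lt.1 hq'), mul_pos hc hx]
    nlinarith [mul_pos hd hx, mul_le_mul hr (show 1 ≤ -q by omega) (by norm_num) (by linarith), mul_nonneg hc.le hp]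

theorem truncated_dieudonne (p : ℕ) [Fact p.Prime] (k : Type u) [CommRing k] [CharP k p] [PerfectRing k p] (n : ℕ)
    (hn : 2 ≤ n) (M : Type v) [AddCommGroup M] [Module (WittVector p k) M]
    [Module (WittVector p k ⧸ Ideal.span {(p : WittVector p k) ^ n}) M]
    [IsScalarTower (WittVector p k) (WittVector p k ⧸ Ideal.span {(p : WittVector p k) ^ n}) M]
    [Module.Projective (WittVector p k ⧸ Ideal.span {(p : WittVector p k) ^ n}) M]
    {σ τ : WittVector p k →+* WittVector p k}
    (F : M →ₛₗ[σ] M) (V : M →ₛₗ[τ] M) (hFV : ∀ m : M, F (V m) = (p : WittVector p k) • m)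
    (hVF : ∀ m : M, V (F m) = (p : WittVector p k) • m) :
    (Ideal.span {(p : WittVector p k)} • (⊤ : Submodule (WittVector p k) M)).comap F =
      Submodule.span (WittVector p k) (Set.range V) ⊔ Ideal.span {(p : WittVector p k)} • (⊤ : Submodule (WittVector p k) M) := by
  set W := WittVector p k
  set Wn := W ⧸ Ideal.span {(p : W) ^ n}
  have hmem : ∀ z : M, z ∈ Ideal.span {(p : W)} • (⊤ : Submodule W M) ↔ ∃ y, (p : W) • y = z := fun z => by
    rw [Submodule.ideal_span_singleton_smul]
    exact ⟨fun ⟨y, _, hy⟩ => ⟨y, hy⟩, fun ⟨y, hy⟩ => ⟨y, trivial, hy⟩⟩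
  have htor : ∀ z : M, (p : W) • z = 0 → ∃ y, (p : W) • y = z := by
    obtain ⟨s, hs⟩ := (Module.projective_def (R := Wn) (P := M)).1 inferInstance
    have hcoef : ∀ c : Wn, (p : Wn) * c = 0 → (p : Wn) ∣ c := by
      intro c hc
      obtain ⟨w, rfl⟩ := Ideal.Quotient.mk_surjective c
      rw [← map_natCast (Ideal.Quotient.mk _), ← map_mul, Ideal.Quotient.eq_zero_iff_mem, Ideal.mem_span_singleton] at hc
      obtain ⟨a, ha⟩ := hc
      obtain ⟨m, rfl⟩ := Nat.exists_eq_add_of_le hn
      have : w = (p : W) * ((p : W) ^ m * a) := sub_eq_zero.1 (WittVector.eq_zero_of_p_mul_eq_zero _ (by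
        linear_combination ha))
      rw [this, map_mul, map_natCast]
      exact dvd_mul_right _ _
    intro z hz
    have h1 : ∀ i, (p : Wn) * s z i = 0 := fun i => by
      have : (p : Wn) • z = 0 := by rw [Nat.cast_smul_eq_nsmul, ← Nat.cast_smul_eq_nsmul W]; exact hz
      have := congrArg (fun v => (s v) i) this
      simpa using this
    choose c hc using fun i => hcoef _ (h1 i)
    refine ⟨∑ i ∈ (s z).support, c i • i, ?_⟩
    conv_rhs => rw [← hs z, Finsupp.linearCombination_apply, Finsupp.sum]
    rw [Finset.smul_sum]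
    refine Finset.sum_congr rfl fun i _ => ?_
    rw [hc i, mul_smul, Nat.cast_smul_eq_nsmul, Nat.cast_smul_eq_nsmul]
    rfl
  apply le_antisymm
  · intro m hm
    obtain ⟨y, hy⟩ := (hmem _).1 hm
    have h0 : F (m - V y) = 0 := by rw [map_sub, hFV, hy, sub_self]
    have h1 : (p : W) • (m - V y) = 0 := by rw [← hVF, h0, map_zero]
    exact Submodule.mem_sup.2 ⟨V y, Submodule.subset_span ⟨y, rfl⟩, m - V y, (hmem _).2 (htor _ h1), add_sub_cancel _ _⟩
  · refine sup_le (Submodule.span_le.2 ?_) fun z hz => ?_
    · rintro _ ⟨y, rfl⟩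
      exact (hmem _).2 ⟨y, (hFV y).symm⟩
    · obtain ⟨y, rfl⟩ := (hmem _).1 hz
      rw [Submodule.mem_comap, map_smulₛₗ, map_natCast]
      exact (hmem _).2 ⟨F y, rfl⟩

end Groth.Agent.H4Easy
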