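import Groth.Prelude.Def_W4c3cyccovratcurvTree
import Mathlib

/-! Elementary milestones, batch 13: any two marked linear trees are joined by conic deformations. -/

set_option autoImplicit false
set_option linter.style.haveILetI false

open W4c3cyccovratcurv

universe u v w

namespace Groth.Agent.H4Easy


/-- Transfer every edge and mark at `w` to the neighbouring vertex `c`. -/
def movedGraph {n : ℕ} (G : SimpleGraph (Fin n)) (c w : Fin n) : SimpleGraph (Fin n) :=
  SimpleGraph.fromRel fun a b => (a = c ∧ b = w) ∨ (a ≠ w ∧ b ≠ w ∧ (G.Adj a b ∨ (a = c ∧ G.Adj w b)))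

theorem movedGraph_isTree {n : ℕ} (G : SimpleGraph (Fin n)) (hG : G.IsTree) (c w : Fin n) (h : G.Adj c w) :
    (movedGraph G c w).IsTree := by
  classical
  let f : Fin n → Fin n := fun v => if v = w then c else v
  have hf : ∀ v, f v ≠ w := fun v => by
    by_cases hv : v = w <;> simp [f, hv, h.ne]
  have hadj : ∀ a b, G.Adj a b → f a = f b ∨ (movedGraph G c w).Adj (f a) (f b) := by
    intro a b hab
    by_cases hfab : f a = f b
    · exact Or.inl hfab
    refine Or.inr ((SimpleGraph.fromRel_adj _ _ _).2 ⟨hfab, ?_⟩)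
    by_cases ha : a = w
    · subst ha
      have hb : b ≠ a := hab.ne'
      exact Or.inl (Or.inr ⟨hf a, hf b, Or.inr ⟨by simp [f], by simpa [f, hb] using hab⟩⟩)
    · by_cases hb : b = w
      · subst hb
        exact Or.inr (Or.inr ⟨hf b, hf a, Or.inr ⟨by simp [f], by simpa [f, ha] using hab.symm⟩⟩)
      · exact Or.inl (Or.inr ⟨hf a, hf b, Or.inl (by simpa [f, ha, hb] using hab)⟩)
  have hcw : (movedGraph G c w).Adj c w := (SimpleGraph.fromRel_adj _ _ _).2 ⟨h.ne, Or.inl (Or.inl ⟨rfl, rfl⟩)⟩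
  have hreach : ∀ a b, G.Reachable a b → (movedGraph G c w).Reachable (f a) (f b) := by
    intro a b hab
    obtain ⟨p⟩ := hab
    induction p with
    | nil => exact SimpleGraph.Reachable.refl _
    | cons hxy _ ih =>
      rcases hadj _ _ hxy with he | he
      · rw [he]; exact ih
      · exact he.reachable.trans ih
  have hto : ∀ v, (movedGraph G c w).Reachable v c := by
    intro v
    by_cases hv : v = w
    · subst hv; exact hcw.symm.reachable
    · have := hreach v c (hG.1.preconnected v c)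
      simpa [f, hv, h.ne] using this
  have hconn : (movedGraph G c w).Connected :=
    { preconnected := fun a b => (hto a).trans (hto b).symm
      nonempty := ⟨c⟩ }
  refine SimpleGraph.isTree_iff_connected_and_card.2 ⟨hconn, le_antisymm ?_ hconn.card_vert_le_card_edgeSet_add_one⟩
  rw [← (SimpleGraph.isTree_iff_connected_and_card.1 hG).2]
  refine Nat.add_le_add_right ?_ 1
  let g : G.edgeSet → Sym2 (Fin n) := fun e => if e.1 = s(c, w) then s(c, w) else Sym2.map f e.1
  have hsub : (movedGraph G c w).edgeSet ⊆ Set.range g := by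
    intro e
    induction e using Sym2.ind with
    | _ a b =>
      intro he
      rw [SimpleGraph.mem_edgeSet, movedGraph, SimpleGraph.fromRel_adj] at he
      obtain ⟨hne, he⟩ := he
      suffices key : ∀ a b, a ≠ b → ((a = c ∧ b = w) ∨ (a ≠ w ∧ b ≠ w ∧ (G.Adj a b ∨ (a = c ∧ G.Adj w b)))) →
          s(a, b) ∈ Set.range g by
        rcases he with he | he
        · exact key a b hne he
        · exact Sym2.eq_swap ▸ key b a hne.symm he
      intro a b hne
      rintro (⟨rfl, rfl⟩ | ⟨ha, hb, hab | ⟨rfl, hab⟩⟩)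
      · exact ⟨⟨s(a, b), h⟩, by simp [g]⟩
      · refine ⟨⟨s(a, b), hab⟩, ?_⟩
        have : s(a, b) ≠ s(c, w) := by
          simp only [ne_eq, Sym2.eq_iff, not_or, not_and]
          exact ⟨fun _ => hb, fun h' => absurd h' ha⟩
        simp [g, this, f, ha, hb]
      · refine ⟨⟨s(w, b), hab⟩, ?_⟩
        have : s(w, b) ≠ s(a, w) := by
          simp only [ne_eq, Sym2.eq_iff, not_or, not_and]
          exact ⟨fun h' => absurd h' ha.symm, fun _ h' => hne h'.symm⟩
        simp [g, this, f, hb]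
  calc Nat.card (movedGraph G c w).edgeSet ≤ Nat.card (Set.range g) :=
        Nat.card_mono (Set.finite_range g) hsub
    _ ≤ Nat.card G.edgeSet := Finite.card_range_le g

/-- The marked tree obtained by transferring everything at `w` to the neighbour `c`. -/
def movedTree {k : ℕ} (T : MarkedTree k) (c w : Fin T.n) (h : T.graph.Adj c w) : MarkedTree k where
  n := T.n
  graph := movedGraph T.graph c w
  isTree := movedGraph_isTree T.graph T.isTree c w h
  mark i := if T.mark i = w then c else T.mark i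

theorem conicAdj_moved {k : ℕ} (T : MarkedTree k) (c w : Fin T.n) (h : T.graph.Adj c w) :
    ConicAdj T (movedTree T c w h) := by
  have hcw : (movedTree T c w h).graph.Adj c w :=
    (SimpleGraph.fromRel_adj _ _ _).2 ⟨h.ne, Or.inl (Or.inl ⟨rfl, rfl⟩)⟩
  refine ⟨c, w, c, w, h, hcw, { toEquiv := Equiv.refl _, map_rel_iff' := ?_ }, rfl, fun i => ?_⟩
  · rintro ⟨a, ha⟩ ⟨b, hb⟩
    show (contract (movedTree T c w h).graph c w).Adj ⟨a, ha⟩ ⟨b, hb⟩ ↔ (contract T.graph c w).Adj ⟨a, ha⟩ ⟨b, hb⟩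
    have hnw : ∀ x, x ≠ w → ((movedGraph T.graph c w).Adj w x → x = c) := by
      intro x hx hwx
      obtain ⟨-, h1 | h1⟩ := (SimpleGraph.fromRel_adj _ _ _).1 hwx
      · rcases h1 with ⟨h1, -⟩ | ⟨h1, -⟩
        · exact absurd h1.symm h.ne
        · exact absurd rfl h1
      · rcases h1 with ⟨h1, -⟩ | ⟨-, h1, -⟩
        · exact h1
        · exact absurd rfl h1
    simp only [contract, movedTree, SimpleGraph.fromRel_adj, ne_eq, Subtype.mk.injEq]
    constructor
    · rintro ⟨hne, (hab | ⟨hac, hab⟩) | (hab | ⟨hac, hab⟩)⟩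
      · obtain ⟨-, hab⟩ := (SimpleGraph.fromRel_adj _ _ _).1 hab
        refine ⟨hne, ?_⟩
        tauto
      · exact absurd (hac.trans (hnw b hb hab).symm) hne
      · obtain ⟨-, hab⟩ := (SimpleGraph.fromRel_adj _ _ _).1 hab
        refine ⟨hne, ?_⟩
        tauto
      · exact absurd ((hnw a ha hab).trans hac.symm) hne
    · rintro ⟨hne, hab⟩
      refine ⟨hne, Or.inl (Or.inl ((SimpleGraph.fromRel_adj _ _ _).2 ⟨hne, ?_⟩))⟩
      rcases hab with (hab | ⟨hac, hab⟩) | (hab | ⟨hac, hab⟩) <;> tauto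
  · apply Subtype.ext
    simp only [contractMark, movedTree]
    split_ifs <;> simp_all [h.ne] <;> rfl

theorem tree_to_star {k : ℕ} (N : ℕ) : ∀ (T : MarkedTree k) (c : Fin T.n),
    Nat.card {v : Fin T.n // v ≠ c ∧ ¬ T.graph.Adj c v} + Nat.card {i : Fin k // T.mark i ≠ c} = N →
    ∃ (S : MarkedTree k) (c' : Fin S.n), S.n = T.n ∧ Relation.ReflTransGen ConicAdj T S ∧
      Relation.ReflTransGen ConicAdj S T ∧ (∀ a b, S.graph.Adj a b ↔ a ≠ b ∧ (a = c' ∨ b = c')) ∧ ∀ i, S.mark i = c' := by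
  classical
  induction N using Nat.strong_induction_on with
  | _ N ih =>
    intro T c hN
    by_cases hcase : ∃ w, T.graph.Adj c w ∧ ((∃ x, x ≠ c ∧ T.graph.Adj w x) ∨ ∃ i, T.mark i = w)
    · obtain ⟨w, hw, hx⟩ := hcase
      have hA : ∀ v : Fin T.n, (movedTree T c w hw).graph.Adj c v ↔ c ≠ v ∧ (T.graph.Adj c v ∨ T.graph.Adj w v) := by
        intro v
        show (movedGraph T.graph c w).Adj c v ↔ _
        rw [movedGraph, SimpleGraph.fromRel_adj]
        constructor
        · rintro ⟨hne, (⟨-, rfl⟩ | ⟨-, -, h | ⟨-, h⟩⟩) | (⟨rfl, h⟩ | ⟨-, -, h | ⟨h, -⟩⟩)⟩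
          · exact ⟨hne, Or.inl hw⟩
          · exact ⟨hne, Or.inl h⟩
          · exact ⟨hne, Or.inr h⟩
          · exact absurd rfl hne
          · exact ⟨hne, Or.inl h.symm⟩
          · exact absurd h.symm hne
        · rintro ⟨hne, h⟩
          refine ⟨hne, Or.inl ?_⟩
          by_cases hvw : v = w
          · exact Or.inl ⟨rfl, hvw⟩
          · exact Or.inr ⟨hw.ne, hvw, h.imp id fun h => ⟨rfl, h⟩⟩
      let s1 : Set (Fin T.n) := {v | v ≠ c ∧ ¬ T.graph.Adj c v}
      let s2 : Set (Fin T.n) := {v | v ≠ c ∧ ¬ (movedTree T c w hw).graph.Adj c v}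
      let m1 : Set (Fin k) := {i | T.mark i ≠ c}
      let m2 : Set (Fin k) := {i | (movedTree T c w hw).mark i ≠ c}
      have hs : s2 ⊆ s1 := fun v hv => ⟨hv.1, fun h => hv.2 ((hA v).2 ⟨h.ne, Or.inl h⟩)⟩
      have hm : m2 ⊆ m1 := fun i hi hi' => hi (by simp only [movedTree, hi']; split_ifs <;> rfl)
      have hlt : s2.ncard + m2.ncard < s1.ncard + m1.ncard := by
        rcases hx with ⟨x, hxc, hwx⟩ | ⟨i, hi⟩
        · refine Nat.add_lt_add_of_lt_of_le (Set.ncard_lt_ncard ((Set.ssubset_iff_of_subset hs).2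
            ⟨x, ⟨hxc, fun hcx => ?_⟩, fun hx2 => hx2.2 ((hA x).2 ⟨hxc.symm, Or.inr hwx⟩)⟩)) (Set.ncard_le_ncard hm)
          -- a triangle in a tree
          have hp : (SimpleGraph.Walk.cons hw (SimpleGraph.Walk.cons hwx .nil)).IsPath := by
            simp [hw.ne, hxc.symm, hwx.ne]
          have hq : (SimpleGraph.Walk.cons hcx .nil).IsPath := by simp [hxc.symm]
          have := congrArg SimpleGraph.Walk.length (ExistsUnique.unique (T.isTree.existsUnique_path c x) hp hq)
          simp at this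
        · refine Nat.add_lt_add_of_le_of_lt (Set.ncard_le_ncard hs) (Set.ncard_lt_ncard ((Set.ssubset_iff_of_subset hm).2
            ⟨i, fun h => hw.ne (h.symm.trans hi), fun h => h (by simp [movedTree, hi])⟩))
      obtain ⟨S, c', hn, h1, h2, h3, h4⟩ := ih _ (hN ▸ hlt) (movedTree T c w hw) c rfl
      have hsymm : ∀ A B : MarkedTree k, ConicAdj A B → ConicAdj B A := by
        rintro A B ⟨u₁, w₁, u₂, w₂, e₁, e₂, φ, hφ, hm⟩
        exact ⟨u₂, w₂, u₁, w₁, e₂, e₁, φ.symm, by rw [← hφ]; simp, fun i => by rw [← hm i]; simp⟩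
      exact ⟨S, c', hn, Relation.ReflTransGen.head (conicAdj_moved T c w hw) h1,
        Relation.ReflTransGen.tail h2 (hsymm _ _ (conicAdj_moved T c w hw)), h3, h4⟩
    · push Not at hcase
      have hall : ∀ v, v = c ∨ T.graph.Adj c v := by
        have : ∀ a b, T.graph.Reachable a b → (a = c ∨ T.graph.Adj c a) → (b = c ∨ T.graph.Adj c b) := by
          intro a b hab
          obtain ⟨p⟩ := hab
          induction p with
          | nil => exact id
          | cons hxy _ ih' =>
            rintro (rfl | ha)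
            · exact ih' (Or.inr hxy)
            · refine ih' (Or.inl ?_)
              by_contra hne
              exact (hcase _ ha).1 _ hne hxy
        exact fun v => this c v (T.isTree.1.preconnected c v) (Or.inl rfl)
      refine ⟨T, c, rfl, Relation.ReflTransGen.refl, Relation.ReflTransGen.refl, fun a b => ⟨fun hab => ⟨hab.ne, ?_⟩, ?_⟩, fun i => ?_⟩
      · rcases hall a with ha | ha
        · exact Or.inl ha
        · right
          by_contra hb
          exact (hcase a ha).1 b hb hab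
      · rintro ⟨hne, rfl | rfl⟩
        · exact (hall b).resolve_left hne.symm
        · exact ((hall a).resolve_left hne).symm
      · rcases hall (T.mark i) with h | h
        · exact h
        · exact absurd rfl ((hcase _ h).2 i)

theorem conic_chain {k : ℕ} (T₁ T₂ : MarkedTree k) (h : T₁.n = T₂.n) : Relation.ReflTransGen ConicAdj T₁ T₂ := by
  obtain ⟨a⟩ := T₁.isTree.1.nonempty
  obtain ⟨b⟩ := T₂.isTree.1.nonempty
  obtain ⟨S₁, c₁, hn₁, h11, -, hS₁, hm₁⟩ := tree_to_star _ T₁ a rfl
  obtain ⟨S₂, c₂, hn₂, -, h22, hS₂, hm₂⟩ := tree_to_star _ T₂ b rfl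
  refine h11.trans (Relation.ReflTransGen.trans ?_ h22)
  by_cases h1 : ∃ w, w ≠ c₁
  · obtain ⟨w, hw⟩ := h1
    let e0 : Fin S₁.n ≃ Fin S₂.n := finCongr (hn₁.trans (h.trans hn₂.symm))
    let e : Fin S₁.n ≃ Fin S₂.n := e0.trans (Equiv.swap (e0 c₁) c₂)
    have hec : e c₁ = c₂ := Equiv.swap_apply_left _ _
    have hadj : ∀ x y, S₂.graph.Adj (e x) (e y) ↔ S₁.graph.Adj x y := fun x y => by
      rw [hS₁, hS₂, ← hec]; simp [e.injective.eq_iff]
    have e1 : S₁.graph.Adj c₁ w := (hS₁ _ _).2 ⟨hw.symm, Or.inl rfl⟩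
    have e2 : S₂.graph.Adj c₂ (e w) := hec ▸ (hadj _ _).2 e1
    refine Relation.ReflTransGen.single ⟨c₁, w, c₂, e w, e1, e2,
      { toEquiv := e.subtypeEquiv (fun v => e.injective.ne_iff.symm), map_rel_iff' := ?_ },
      Subtype.ext hec, fun i => Subtype.ext ?_⟩
    · rintro ⟨x, hx⟩ ⟨y, hy⟩
      simp [contract, hadj, ← hec, e.injective.eq_iff]
    · show e (contractMark S₁.mark c₁ w e1.ne i : {v // v ≠ w}).1 = _
      simp [contractMark, hm₁, hm₂, hw.symm, e2.ne, hec]
  · push Not at h1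
    obtain ⟨n₁, G₁, t₁, m₁⟩ := S₁
    obtain ⟨n₂, G₂, t₂, m₂⟩ := S₂
    obtain rfl : n₁ = n₂ := hn₁.trans (h.trans hn₂.symm)
    obtain rfl : G₁ = G₂ := by
      ext x y
      have : x = y := (h1 x).trans (h1 y).symm
      subst this
      simp
    obtain rfl : m₁ = m₂ := funext fun i => (h1 (m₁ i)).trans (h1 (m₂ i)).symm
    exact Relation.ReflTransGen.refl

end Groth.Agent.H4Easy
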