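import Mathlib

/-! Elementary milestones, batch 15: the combinatorial lemma on weighted chains for Chow stability of curves. -/

set_option autoImplicit false
set_option linter.style.haveILetI false

open Finset

universe u v w

namespace Groth.Agent.H4Easy


/-- The chain sum. -/
def gsum (C R : ℕ → ℝ) (μ : ℕ) : ℝ := ∑ j ∈ range μ, (C (j + 1) - C j) * (R j + R (j + 1))

theorem gsum_mono (D R : ℕ → ℝ) (μ : ℕ) (h0 : D 0 = 0) (hμ : D μ = 0) (hD : ∀ j, j ≤ μ → D j ≤ 0)
    (hR : ∀ j, j < μ → R (j + 1) ≤ R j) : gsum D R μ ≤ 0 := by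
  have key : ∀ m, m < μ → gsum D R (m + 1) ≤ D (m + 1) * (R m + R (m + 1)) := by
    intro m
    induction m with
    | zero => intro _; simp [gsum, h0]
    | succ m ih =>
      intro hm
      have := ih (by omega)
      rw [gsum, sum_range_succ]
      rw [gsum] at this
      nlinarith [hD (m + 1) (by omega), hR m (by omega), hR (m + 1) hm]
  rcases μ with _ | μ
  · simp [gsum]
  · have := key μ (by omega)
    rw [hμ, zero_mul] at this
    exact this

theorem hinge_decomp (C R : ℕ → ℝ) (μ : ℕ) (hC : ∀ j, j < μ → C j < C (j + 1)) (h0 : C 0 = 0)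
    (s : ℕ → ℝ) (hs : ∀ j, j < μ → s j * (C (j + 1) - C j) = R (j + 1) - R j) (hsμ : s μ = 0) :
    gsum C R μ = 2 * C μ * R μ + ∑ j ∈ range μ, (s (j + 1) - s j) * (C (j + 1) * C (j + 1)) ∧
    ∀ m, m < μ → ∀ x, C m ≤ x → x ≤ C (m + 1) →
      R μ + ∑ j ∈ range μ, (s (j + 1) - s j) * max 0 (C (j + 1) - x) = R m + s m * (x - C m) := by
  constructor
  · have key : ∀ l, l ≤ μ → ∑ j ∈ range l, (s (j + 1) - s j) * (C (j + 1) * C (j + 1)) =
        gsum C R l - 2 * C l * R l + s l * (C l * C l) := by
      intro l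
      induction l with
      | zero => intro _; simp [gsum, h0]
      | succ l ih =>
        intro hl
        rw [sum_range_succ, ih (by omega), gsum, gsum, sum_range_succ]
        linear_combination (-(C (l + 1)) - C l) * hs l hl
    rw [key μ le_rfl, hsμ]; ring
  · intro m hm x hx1 hx2
    have hmono : ∀ i l, i ≤ l → l ≤ μ → C i ≤ C l := by
      intro i l hil
      induction l, hil using Nat.le_induction with
      | base => intro _; rfl
      | succ l _ ih => intro hl; exact (ih (by omega)).trans (hC l hl).le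
    have key : ∀ l, m ≤ l → l ≤ μ → ∑ j ∈ range l, (s (j + 1) - s j) * max 0 (C (j + 1) - x) =
        s l * (C l - x) - R l + R m + s m * (x - C m) := by
      intro l hl
      induction l, hl using Nat.le_induction with
      | base =>
        intro _
        rw [sum_eq_zero fun j hj => by
          rw [mem_range] at hj
          rw [max_eq_left (by linarith [hmono (j + 1) m hj hm.le]), mul_zero]]
        ring
      | succ l hml ih =>
        intro hl
        rw [sum_range_succ, ih (by omega), max_eq_right (by linarith [hmono (m + 1) (l + 1) (by omega) hl])]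
        linear_combination (-1 : ℝ) * hs l hl
    rw [key μ hm.le le_rfl, hsμ]; ring

theorem hinge_bound (a g c : ℕ) (hg : 1 ≤ g) (ha : g ≤ a) (hc0 : 0 < c) (hc : c ≤ a + 2 * g) :
    ((a + g + 1 : ℕ) : ℝ) * ((c : ℝ) * c) <
      2 * ((a + 2 * g : ℕ) : ℝ) * ∑ i ∈ range (a + g + 1), max 0 ((c : ℝ) - (if i ≤ a then (i : ℝ) else (i : ℝ) + g)) := by
  have tri : ∀ m : ℕ, 2 * ∑ i ∈ range (m + 1), ((c : ℝ) - i) = (m + 1) * (2 * c - m) := by
    intro m
    induction m with
    | zero => simp
    | succ m ih => rw [sum_range_succ, mul_add, ih]; push_cast; ring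
  set f : ℕ → ℝ := fun i => max 0 ((c : ℝ) - (if i ≤ a then (i : ℝ) else (i : ℝ) + g))
  have hf : ∀ i, 0 ≤ f i := fun i => le_max_left _ _
  have hg' : (1 : ℝ) ≤ g := by exact_mod_cast hg
  have ha' : (g : ℝ) ≤ a := by exact_mod_cast ha
  have hc0' : (1 : ℝ) ≤ c := by exact_mod_cast hc0
  rcases le_or_gt c (a + 1) with h | h
  · obtain ⟨c', rfl⟩ : ∃ c', c = c' + 1 := ⟨c - 1, by omega⟩
    have h1 : ∑ i ∈ range (c' + 1), (((c' + 1 : ℕ) : ℝ) - i) ≤ ∑ i ∈ range (a + g + 1), f i := by
      refine le_trans (le_of_eq (sum_congr rfl fun i hi => ?_)) (sum_le_sum_of_subset_of_nonneg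
        (range_mono (by omega)) fun i _ _ => hf i)
      rw [mem_range] at hi
      simp only [f, if_pos (show i ≤ a by omega)]
      rw [max_eq_right]
      simp only [sub_nonneg, Nat.cast_le]; omega
    have h2 := tri c'
    push_cast at h1 h2 hc0' ⊢
    nlinarith
  · rcases le_or_gt c (a + g + 1) with h' | h'
    · have h1 : ∑ i ∈ range (a + 1), ((c : ℝ) - i) ≤ ∑ i ∈ range (a + g + 1), f i := by
        refine le_trans (le_of_eq (sum_congr rfl fun i hi => ?_)) (sum_le_sum_of_subset_of_nonneg
          (range_mono (by omega)) fun i _ _ => hf i)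
        rw [mem_range] at hi
        simp only [f, if_pos (show i ≤ a by omega)]
        rw [max_eq_right]
        simp only [sub_nonneg, Nat.cast_le]; omega
      have h2 := tri a
      have hl : (a : ℝ) + 1 ≤ c := by exact_mod_cast h.le
      have hu : (c : ℝ) ≤ a + g + 1 := by exact_mod_cast h'
      have key : ((a : ℝ) + g + 1) * (c * c) < (a + 2 * g) * ((a + 1) * (2 * c - a)) := by
        set N : ℝ := (a : ℝ) + g + 1 with hN
        set M : ℝ := (a : ℝ) + 2 * g with hM
        have fl : N * ((a + 1) * (a + 1)) < M * ((a + 1) * (2 * (a + 1) - a)) := by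
          have : N * (a + 1) < M * (2 * ((a : ℝ) + 1) - a) := by rw [hN, hM]; nlinarith
          nlinarith
        have fu : N * (N * N) < M * ((a + 1) * (2 * N - a)) := by
          rw [hN, hM]
          nlinarith [mul_nonneg (sub_nonneg.2 hg') (sub_nonneg.2 ha'), mul_nonneg (mul_nonneg (sub_nonneg.2 hg') (sub_nonneg.2 ha')) (show (0 : ℝ) ≤ g by linarith)]
        by_contra hcon
        rw [not_lt] at hcon
        have id1 : (g : ℝ) * (N * (c * c) - M * ((a + 1) * (2 * c - a))) =
            (N - c) * (N * ((a + 1) * (a + 1)) - M * ((a + 1) * (2 * (a + 1) - a))) +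
            (c - (a + 1)) * (N * (N * N) - M * ((a + 1) * (2 * N - a))) - g * N * ((c - (a + 1)) * (N - c)) := by
          rw [hN]; ring
        have hN0 : 0 ≤ (g : ℝ) * N := by rw [hN]; positivity
        have p1 := mul_nonneg hN0 (mul_nonneg (sub_nonneg.2 hl) (sub_nonneg.2 hu))
        have p2 := mul_nonneg (show (0 : ℝ) ≤ g by linarith) (sub_nonneg.2 hcon)
        rcases eq_or_lt_of_le hl with h5 | h5
        · rw [← h5] at hcon; linarith
        · nlinarith [mul_pos (sub_pos.2 h5) (sub_pos.2 fu), mul_nonneg (sub_nonneg.2 hu) (sub_pos.2 fl).le]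
      push_cast
      calc _ < ((a : ℝ) + 2 * g) * ((a + 1) * (2 * c - a)) := key
        _ ≤ _ := by rw [← h2]; nlinarith
    · obtain ⟨t, rfl⟩ : ∃ t, c = a + g + 1 + t := ⟨c - (a + g + 1), by omega⟩
      have h1 : ∀ t' ≤ t + 1, ∑ i ∈ range (a + 1 + t'), f i ≥
          ∑ i ∈ range (a + 1 + t'), (((a + g + 1 + t : ℕ) : ℝ) - i) - t' * g := by
        intro t'
        induction t' with
        | zero =>
          intro _
          simp only [Nat.cast_zero, zero_mul, sub_zero, add_zero]
          refine sum_le_sum fun i hi => ?_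
          rw [mem_range] at hi
          simp only [f, if_pos (show i ≤ a by omega)]
          exact le_max_right _ _
        | succ t' ih =>
          intro ht
          rw [show a + 1 + (t' + 1) = a + 1 + t' + 1 from rfl, sum_range_succ, sum_range_succ]
          have := ih (by omega)
          have hfi : (((a + g + 1 + t : ℕ) : ℝ) - (a + 1 + t' : ℕ)) - g ≤ f (a + 1 + t') := by
            simp only [f, if_neg (show ¬ a + 1 + t' ≤ a by omega)]
            exact le_trans (by linarith) (le_max_right _ _)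
          push_cast at this hfi ⊢
          linarith
      have h1' := h1 t (by omega)
      have h2 := tri (a + t)
      rw [show a + t + 1 = a + 1 + t by ring] at h2
      have h3 : ∑ i ∈ range (a + 1 + t), f i ≤ ∑ i ∈ range (a + g + 1), f i :=
        sum_le_sum_of_subset_of_nonneg (range_mono (by omega)) fun i _ _ => hf i
      have ht : (t : ℝ) + 1 ≤ g := by exact_mod_cast (show t + 1 ≤ g by omega)
      push_cast at h1' h2 h3 ⊢
      have key : ((a : ℝ) + g + 1) * ((a + g + 1 + t) * (a + g + 1 + t)) <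
          (a + 2 * g) * ((a + t + 1) * (2 * (a + g + 1 + t) - (a + t)) - 2 * t * g) := by
        nlinarith [mul_nonneg (sub_nonneg.2 ht) (sub_nonneg.2 ha'), mul_nonneg (sub_nonneg.2 ht) (sub_nonneg.2 hg'),
          mul_nonneg (sub_nonneg.2 hg') (sub_nonneg.2 ha'), (Nat.cast_nonneg t : (0 : ℝ) ≤ t)]
      refine key.trans_le ?_
      nlinarith

theorem gsum_insert (C R : ℕ → ℝ) (j t : ℕ) (cv rv : ℝ) :
    gsum (fun l => if l ≤ j then C l else if l = j + 1 then cv else C (l - 1))
        (fun l => if l ≤ j then R l else if l = j + 1 then rv else R (l - 1)) (j + 1 + t + 1) =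
      gsum C R (j + 1 + t) - (C (j + 1) - C j) * (R j + R (j + 1)) + (cv - C j) * (R j + rv) +
        (C (j + 1) - cv) * (rv + R (j + 1)) := by
  induction t with
  | zero =>
    rw [add_zero, gsum, gsum, sum_range_succ, sum_range_succ, sum_range_succ (n := j)]
    have : ∀ l ∈ range j, ((if l + 1 ≤ j then C (l + 1) else if l + 1 = j + 1 then cv else C (l + 1 - 1)) -
        (if l ≤ j then C l else if l = j + 1 then cv else C (l - 1))) *
        ((if l ≤ j then R l else if l = j + 1 then rv else R (l - 1)) +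
          (if l + 1 ≤ j then R (l + 1) else if l + 1 = j + 1 then rv else R (l + 1 - 1))) =
        (C (l + 1) - C l) * (R l + R (l + 1)) := by
      intro l hl
      rw [mem_range] at hl
      rw [if_pos (show l + 1 ≤ j by omega), if_pos (show l ≤ j by omega), if_pos (show l ≤ j by omega),
        if_pos (show l + 1 ≤ j by omega)]
    rw [sum_congr rfl this]
    simp only [le_refl, if_true, show ¬ j + 1 ≤ j by omega, if_false, show ¬ j + 1 + 1 ≤ j by omega,
      show j + 1 + 1 ≠ j + 1 by omega, show j + 1 + 1 - 1 = j + 1 by omega]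
    ring
  | succ t ih =>
    rw [show j + 1 + (t + 1) + 1 = (j + 1 + t + 1) + 1 by ring, show j + 1 + (t + 1) = (j + 1 + t) + 1 by ring,
      show ∀ (C R : ℕ → ℝ) m, gsum C R (m + 1) = gsum C R m + (C (m + 1) - C m) * (R m + R (m + 1)) from
        fun C R m => sum_range_succ _ _, ih,
      show ∀ (C R : ℕ → ℝ) m, gsum C R (m + 1) = gsum C R m + (C (m + 1) - C m) * (R m + R (m + 1)) from
        fun C R m => sum_range_succ _ _]
    simp only [show ¬ j + 1 + t + 1 ≤ j by omega, show ¬ j + 1 + t + 1 + 1 ≤ j by omega,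
      show j + 1 + t + 1 ≠ j + 1 by omega, show j + 1 + t + 1 + 1 ≠ j + 1 by omega, if_false,
      show j + 1 + t + 1 + 1 - 1 = j + 1 + t + 1 by omega, show j + 1 + t + 1 - 1 = j + 1 + t by omega]
    ring

theorem chain_negative (a g : ℕ) (hg : 1 ≤ g) (ha : g ≤ a) (r : ℕ → ℝ)
    (hr : ∀ i, i < a + g → r (i + 1) ≤ r i) (hsum : ∑ i ∈ range (a + g + 1), r i = 0)
    (hr0 : ∃ i ≤ a + g, r i ≠ 0) :
    ∃ μ : ℕ, ∃ c : ℕ → ℕ, c 0 = 0 ∧ c μ = a + g ∧ (∀ j, j < μ → c j < c (j + 1)) ∧
      gsum (fun j => if c j ≤ a then (c j : ℝ) else (c j : ℝ) + g) (fun j => r (c j)) μ < 0 := by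
  set n := a + g with hn
  set E : ℕ → ℝ := fun i => if i ≤ a then (i : ℝ) else (i : ℝ) + g with hE
  have hEmono : ∀ i l, i < l → E i < E l := by
    intro i l h
    have : (i : ℝ) < l := by exact_mod_cast h
    simp only [hE]
    split_ifs <;> linarith [(Nat.cast_nonneg g : (0 : ℝ) ≤ g)]
  let K := { p : (μ : Fin (n + 1)) × (Fin (n + 1) → Fin (n + 1)) //
    (p.2 0 : ℕ) = 0 ∧ (p.2 p.1 : ℕ) = n ∧ ∀ i j : Fin (n + 1), i < j → j ≤ p.1 → p.2 i < p.2 j }
  let ofP : ((μ : Fin (n + 1)) × (Fin (n + 1) → Fin (n + 1))) → ℕ → ℕ := fun p j =>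
    if h : j < n + 1 then (p.2 ⟨j, h⟩ : ℕ) else 0
  let val : K → ℝ := fun p => gsum (fun j => E (ofP p.1 j)) (fun j => r (ofP p.1 j)) p.1.1
  haveI : Nonempty K := ⟨⟨⟨Fin.last n, id⟩, rfl, rfl, fun i j h _ => h⟩⟩
  haveI : Finite K := Subtype.finite
  obtain ⟨p, hp⟩ := Finite.exists_min val
  set μ : ℕ := (p.1.1 : ℕ) with hμ
  set c := ofP p.1 with hc
  have hμn : μ < n + 1 := p.1.1.2
  have hcv : ∀ j (h : j < n + 1), c j = (p.1.2 ⟨j, h⟩ : ℕ) := fun j h => dif_pos h
  have hc0 : c 0 = 0 := by rw [hcv 0 (by omega)]; exact p.2.1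
  have hcn : c μ = n := by rw [hcv μ hμn]; exact p.2.2.1
  have hlt : ∀ i j, i < j → j ≤ μ → c i < c j := by
    intro i j h h'
    rw [hcv i (by omega), hcv j (by omega)]
    exact p.2.2.2 ⟨i, _⟩ ⟨j, _⟩ h h'
  refine ⟨μ, c, hc0, hcn, fun j hj => hlt j (j + 1) (by omega) hj, ?_⟩
  have hmin : ∀ μ' (c' : ℕ → ℕ), c' 0 = 0 → c' μ' = n → (∀ i j, i < j → j ≤ μ' → c' i < c' j) →
      gsum (fun j => E (c j)) (fun j => r (c j)) μ ≤ gsum (fun j => E (c' j)) (fun j => r (c' j)) μ' := by
    intro μ' c' h0 hn' hlt'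
    have hge : ∀ i, i ≤ μ' → i ≤ c' i := by
      intro i hi
      induction i with
      | zero => omega
      | succ i ih => have := hlt' i (i + 1) (by omega) hi; have := ih (by omega); omega
    have hμ' : μ' < n + 1 := by have := hge μ' le_rfl; omega
    have hle : ∀ i, i ≤ μ' → c' i < n + 1 := by
      intro i hi
      rcases eq_or_lt_of_le hi with h | h
      · subst h; omega
      · have := hlt' i μ' h le_rfl; omega
    let q : (μ : Fin (n + 1)) × (Fin (n + 1) → Fin (n + 1)) :=
      ⟨⟨μ', hμ'⟩, fun i => if h : (i : ℕ) ≤ μ' then ⟨c' i, hle i h⟩ else 0⟩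
    have hq : ∀ i, i ≤ μ' → ofP q i = c' i := fun i hi => by
      simp only [ofP, q]; rw [dif_pos (by omega), dif_pos hi]
    have hqm : (q.2 0 : ℕ) = 0 ∧ (q.2 q.1 : ℕ) = n ∧ ∀ i j : Fin (n + 1), i < j → j ≤ q.1 → q.2 i < q.2 j := by
      refine ⟨by simp [q, h0], by simp [q, hn'], fun i j h h' => ?_⟩
      have h1 : (j : ℕ) ≤ μ' := h'
      have h2 : (i : ℕ) ≤ μ' := le_trans (le_of_lt h) h1
      simp only [q, dif_pos h1, dif_pos h2]
      exact hlt' i j h h1
    refine (hp ⟨q, hqm⟩).trans (le_of_eq ?_)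
    show gsum _ _ μ' = _
    refine sum_congr rfl fun i hi => ?_
    rw [mem_range] at hi
    simp only [hq i (by omega), hq (i + 1) (by omega)]
  set C : ℕ → ℝ := fun j => E (c j)
  set R : ℕ → ℝ := fun j => r (c j)
  have hCmono : ∀ j, j < μ → C j < C (j + 1) := fun j hj => hEmono _ _ (hlt j (j + 1) (by omega) hj)
  -- nothing can be inserted
  have hins : ∀ j, j < μ → ∀ i, c j < i → i < c (j + 1) →
      (C (j + 1) - E i) * R j + (E i - C j) * R (j + 1) ≤ r i * (C (j + 1) - C j) := by
    intro j hj i h1 h2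
    obtain ⟨t, ht⟩ : ∃ t, μ = j + 1 + t := ⟨μ - (j + 1), by omega⟩
    let c' : ℕ → ℕ := fun l => if l ≤ j then c l else if l = j + 1 then i else c (l - 1)
    have := hmin (μ + 1) c' (by simp [c', hc0]) (by simp [c', show ¬ μ + 1 ≤ j by omega, show μ ≠ j by omega, hcn]) (by
      intro x y hxy hy
      simp only [c']
      split_ifs <;> first
        | omega
        | exact hlt _ _ (by omega) (by omega)
        | (subst_vars; rcases eq_or_lt_of_le (show x ≤ j by omega) with h | h
           · subst h; exact h1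
           · exact (hlt _ _ h (by omega)).trans h1)
        | (subst_vars; rcases eq_or_lt_of_le (show j + 1 ≤ y - 1 by omega) with h | h
           · rw [← h]; exact h2
           · exact h2.trans (hlt _ _ h (by omega))))
    have e : gsum (fun l => E (c' l)) (fun l => r (c' l)) (μ + 1) =
        gsum (fun l => if l ≤ j then C l else if l = j + 1 then E i else C (l - 1))
          (fun l => if l ≤ j then R l else if l = j + 1 then r i else R (l - 1)) (j + 1 + t + 1) := by
      have hCi : (fun l => E (c' l)) = (fun l => if l ≤ j then C l else if l = j + 1 then E i else C (l - 1)) :=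
        funext fun l => by simp only [c', C]; split_ifs <;> rfl
      have hRi : (fun l => r (c' l)) = (fun l => if l ≤ j then R l else if l = j + 1 then r i else R (l - 1)) :=
        funext fun l => by simp only [c', R]; split_ifs <;> rfl
      rw [hCi, hRi, ← ht]
    rw [e, gsum_insert, ← ht] at this
    linarith
  -- nothing can be removed
  have hdel : ∀ j, j + 1 < μ →
      R (j + 1) * (C (j + 2) - C j) ≤ (C (j + 2) - C (j + 1)) * R j + (C (j + 1) - C j) * R (j + 2) := by
    intro j hj
    obtain ⟨t, ht⟩ : ∃ t, μ = j + 1 + t + 1 := ⟨μ - (j + 2), by omega⟩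
    let c' : ℕ → ℕ := fun l => if l ≤ j then c l else c (l + 1)
    have := hmin (μ - 1) c' (by simp [c', hc0])
      (by simp [c', show ¬ μ - 1 ≤ j by omega, show μ - 1 + 1 = μ by omega, hcn]) (by
      intro x y hxy hy
      simp only [c']
      split_ifs <;> first | omega | exact hlt _ _ (by omega) (by omega))
    set C' : ℕ → ℝ := fun l => if l ≤ j then C l else C (l + 1)
    set R' : ℕ → ℝ := fun l => if l ≤ j then R l else R (l + 1)
    have hC' : (fun l => E (c' l)) = C' := funext fun l => by simp only [c', C, C']; split_ifs <;> rfl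
    have hR' : (fun l => r (c' l)) = R' := funext fun l => by simp only [c', R, R']; split_ifs <;> rfl
    have e : gsum C R μ = gsum (fun l => if l ≤ j then C' l else if l = j + 1 then C (j + 1) else C' (l - 1))
        (fun l => if l ≤ j then R' l else if l = j + 1 then R (j + 1) else R' (l - 1)) (j + 1 + t + 1) := by
      rw [← ht]
      have : ∀ (F : ℕ → ℝ) l, F l = if l ≤ j then (if l ≤ j then F l else F (l + 1)) else if l = j + 1 then F (j + 1)
          else (if l - 1 ≤ j then F (l - 1) else F (l - 1 + 1)) := by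
        intro F l
        split_ifs <;> (congr 1; try omega)
      congr 1 <;> funext l
      · exact this C l
      · exact this R l
    rw [e, gsum_insert, hC', hR', show μ - 1 = j + 1 + t by omega] at this
    simp only [C', R', le_refl, if_true, show ¬ j + 1 ≤ j by omega, if_false, show j + 1 + 1 = j + 2 from rfl] at this
    linarith
  -- slopes
  let s : ℕ → ℝ := fun j => if j < μ then (R (j + 1) - R j) / (C (j + 1) - C j) else 0
  have hs : ∀ j, j < μ → s j * (C (j + 1) - C j) = R (j + 1) - R j := fun j hj => by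
    simp only [s, if_pos hj]
    rw [div_mul_cancel₀ _ (by linarith [hCmono j hj])]
  have hRdec : ∀ j, j < μ → R (j + 1) ≤ R j := by
    intro j hj
    have anti : ∀ x y, x ≤ y → y ≤ n → r y ≤ r x := by
      intro x y hxy
      induction y, hxy using Nat.le_induction with
      | base => intro _; rfl
      | succ y _ ih => intro hy; exact (hr y hy).trans (ih (by omega))
    have hle : c (j + 1) ≤ n := by
      rcases eq_or_lt_of_le (show j + 1 ≤ μ from hj) with h | h
      · rw [h, hcn]
      · have := hlt _ _ h le_rfl; omega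
    exact anti _ _ (hlt j (j + 1) (by omega) hj).le hle
  have hβ : ∀ j, j < μ → 0 ≤ s (j + 1) - s j := by
    intro j hj
    have h0 := hCmono j hj
    by_cases hj' : j + 1 < μ
    · have h1 := hCmono (j + 1) hj'
      have := hdel j hj'
      simp only [s, if_pos hj, if_pos hj', show j + 1 + 1 = j + 2 from rfl] at h1 ⊢
      rw [sub_nonneg, div_le_div_iff₀ (by linarith) (by linarith)]
      linarith
    · simp only [s, if_pos hj, if_neg hj', zero_sub, neg_nonneg]
      exact div_nonpos_of_nonpos_of_nonneg (by linarith [hRdec j hj]) (by linarith)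
  have hC0 : C 0 = 0 := by simp [C, hc0, hE]
  obtain ⟨hT, hψ⟩ := hinge_decomp C R μ hCmono hC0 s hs (by simp [s])
  have hμpos : 0 < μ := by
    by_contra h
    rw [show μ = 0 by omega, hc0] at hcn
    omega
  have hbelow : ∀ i ∈ range (n + 1), R μ + ∑ j ∈ range μ, (s (j + 1) - s j) * max 0 (C (j + 1) - E i) ≤ r i := by
    intro i hi
    rw [mem_range] at hi
    obtain ⟨m, hm, hm1, hm2⟩ : ∃ m, m < μ ∧ c m ≤ i ∧ i ≤ c (m + 1) := by
      have hex : ∃ l, l < μ ∧ i ≤ c (l + 1) := ⟨μ - 1, by omega, by rw [show μ - 1 + 1 = μ by omega, hcn]; omega⟩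
      refine ⟨Nat.find hex, (Nat.find_spec hex).1, ?_, (Nat.find_spec hex).2⟩
      rcases h : Nat.find hex with _ | l
      · rw [hc0]; omega
      · by_contra hcon
        have h1 := (Nat.find_spec hex).1
        exact Nat.find_min hex (show l < Nat.find hex by omega) ⟨by omega, by omega⟩
    have hE' : ∀ x y, x ≤ y → E x ≤ E y := fun x y h =>
      (eq_or_lt_of_le h).elim (fun h => by rw [h]) fun h => (hEmono _ _ h).le
    rw [hψ m hm (E i) (hE' _ _ hm1) (hE' _ _ hm2)]
    rcases eq_or_lt_of_le hm1 with h | h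
    · subst h; simp [C, R]
    rcases eq_or_lt_of_le hm2 with h' | h'
    · subst h'
      show R m + s m * (C (m + 1) - C m) ≤ R (m + 1)
      rw [hs m hm]; simp
    have := hins m hm i h h'
    have h0 := hCmono m hm
    by_contra hcon
    rw [not_le] at hcon
    have h4 := mul_lt_mul_of_pos_right hcon (sub_pos.2 h0)
    have h5 := hs m hm
    have h6 : (R m + s m * (E i - C m)) * (C (m + 1) - C m) =
        (C (m + 1) - E i) * R m + (E i - C m) * R (m + 1) := by linear_combination (E i - C m) * h5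
    linarith
  have hsum' : ((n : ℝ) + 1) * R μ + ∑ j ∈ range μ, (s (j + 1) - s j) * ∑ i ∈ range (n + 1), max 0 (C (j + 1) - E i) ≤ 0 := by
    refine le_trans (le_of_eq ?_) ((sum_le_sum hbelow).trans hsum.le)
    rw [sum_add_distrib, sum_const, card_range, nsmul_eq_mul, sum_comm]
    push_cast
    congr 1
    exact sum_congr rfl fun j _ => mul_sum _ _ _
  have hCμ : C μ = (a : ℝ) + 2 * g := by
    show E (c μ) = _
    rw [hcn]
    simp [hE, hn, show g ≠ 0 by omega]; ring
  have hb : ∀ j, j < μ → ((n : ℝ) + 1) * (C (j + 1) * C (j + 1)) <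
      2 * ((a : ℝ) + 2 * g) * ∑ i ∈ range (n + 1), max 0 (C (j + 1) - E i) := by
    intro j hj
    have hcj : c (j + 1) ≤ n := by
      rcases eq_or_lt_of_le (show j + 1 ≤ μ from hj) with h | h
      · rw [h, hcn]
      · have := hlt _ _ h le_rfl; omega
    have hpos := hlt 0 (j + 1) (by omega) hj
    have := hinge_bound a g (if c (j + 1) ≤ a then c (j + 1) else c (j + 1) + g) hg ha
      (by split_ifs <;> omega) (by split_ifs <;> omega)
    push_cast at this
    have e : C (j + 1) = if c (j + 1) ≤ a then (c (j + 1) : ℝ) else (c (j + 1) : ℝ) + g := rfl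
    rw [e]
    simpa [hn, hE] using this
  show gsum C R μ < 0
  rw [hT, hCμ]
  by_cases hflat : ∀ j ∈ range μ, s (j + 1) - s j = 0
  · rw [sum_eq_zero fun j hj => by rw [hflat j hj, zero_mul], add_zero]
    rw [sum_eq_zero fun j hj => by rw [hflat j hj, zero_mul], add_zero] at hsum'
    have hn1 : (0 : ℝ) < (n : ℝ) + 1 := by positivity
    have hpos : (0 : ℝ) < (a : ℝ) + 2 * g := by
      have : (1 : ℝ) ≤ g := by exact_mod_cast hg
      positivity
    rcases lt_or_eq_of_le (nonpos_of_mul_nonpos_right hsum' hn1) with h | h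
    · exact mul_neg_of_pos_of_neg (by positivity) h
    · exfalso
      obtain ⟨i, hi, hne⟩ := hr0
      have hnn : ∀ l ∈ range (n + 1), 0 ≤ r l := fun l hl => by
        have := hbelow l hl
        rw [sum_eq_zero fun j hj => by rw [hflat j hj, zero_mul], h, add_zero] at this
        exact this
      exact hne ((sum_eq_zero_iff_of_nonneg hnn).1 hsum i (mem_range.2 (by omega)))
  · push Not at hflat
    obtain ⟨j0, hj0, hne⟩ := hflat
    have hstrict : ((n : ℝ) + 1) * ∑ j ∈ range μ, (s (j + 1) - s j) * (C (j + 1) * C (j + 1)) <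
        2 * ((a : ℝ) + 2 * g) * ∑ j ∈ range μ, (s (j + 1) - s j) * ∑ i ∈ range (n + 1), max 0 (C (j + 1) - E i) := by
      rw [mul_sum, mul_sum]
      refine sum_lt_sum (fun j hj => ?_) ⟨j0, hj0, ?_⟩
      · rw [mem_range] at hj
        have := mul_le_mul_of_nonneg_left (hb j hj).le (hβ j hj)
        linarith
      · have := mul_lt_mul_of_pos_left (hb j0 (mem_range.1 hj0)) (lt_of_le_of_ne (hβ j0 (mem_range.1 hj0)) (Ne.symm hne))
        linarith
    have hpos : (0 : ℝ) ≤ 2 * ((a : ℝ) + 2 * g) := by positivity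
    have h3 := mul_nonpos_of_nonneg_of_nonpos hpos hsum'
    by_contra hcon
    rw [not_lt] at hcon
    have := mul_nonneg (show (0 : ℝ) ≤ (n : ℝ) + 1 by positivity) hcon
    nlinarith

theorem gieseker_chain (n g : ℕ) (hg : 1 ≤ g) (hn : 2 * g ≤ n) (e : Fin (n + 1) → ℕ) (he0 : e 0 = 0)
    (hen : e (Fin.last n) = n + g) (hle : ∀ i : Fin (n + 1), (i : ℕ) ≤ n - g → e i ≤ (i : ℕ))
    (hle' : ∀ i : Fin (n + 1), e i ≤ (i : ℕ) + g) (r : Fin (n + 1) → ℝ) (hanti : Antitone r)
    (hsum : ∑ i, r i = 0) (hr : r ≠ 0) :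
    ∃ (μ : ℕ) (c : Fin (μ + 1) → Fin (n + 1)), StrictMono c ∧ c 0 = 0 ∧ c (Fin.last μ) = Fin.last n ∧
      ∑ j : Fin μ, ((e (c j.succ) : ℝ) - (e (c j.castSucc) : ℝ)) * (r (c j.succ) + r (c j.castSucc)) < 0 := by
  obtain ⟨a, rfl⟩ : ∃ a, n = a + g := ⟨n - g, by omega⟩
  have ha : g ≤ a := by omega
  let R : ℕ → ℝ := fun i => if h : i < a + g + 1 then r ⟨i, h⟩ else 0
  have hR : ∀ i : Fin (a + g + 1), R i = r i := fun i => dif_pos i.2
  obtain ⟨μ, c, h0, hμ, hlt, hneg⟩ := chain_negative a g hg ha R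
    (fun i hi => by simp only [R, show i < a + g + 1 by omega, show i + 1 < a + g + 1 by omega, dite_true]
                    exact hanti (Fin.mk_le_mk.2 (by omega)))
    (by rw [← Fin.sum_univ_eq_sum_range, ← hsum]; exact sum_congr rfl fun i _ => hR i)
    (by
      obtain ⟨i, hi⟩ := Function.ne_iff.1 hr
      exact ⟨i, Fin.is_le i, by rw [hR]; exact hi⟩)
  have hmono : ∀ i j, i < j → j ≤ μ → c i < c j := by
    intro i j hij
    induction j, hij using Nat.le_induction with
    | base => intro h; exact hlt i h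
    | succ j _ ih => intro h; exact (ih (by omega)).trans (hlt j h)
  have hcn : ∀ i, i ≤ μ → c i < a + g + 1 := by
    intro i hi
    rcases eq_or_lt_of_le hi with h | h
    · subst h; omega
    · have := hmono i μ h le_rfl; omega
  let c' : Fin (μ + 1) → Fin (a + g + 1) := fun i => ⟨c i, hcn i (by omega)⟩
  refine ⟨μ, c', fun i j h => hmono i j h (by omega), Fin.ext h0, Fin.ext hμ, lt_of_le_of_lt ?_ hneg⟩
  let D : ℕ → ℝ := fun j => (if h : c j < a + g + 1 then ((e ⟨c j, h⟩ : ℕ) : ℝ) else 0) -
    (if c j ≤ a then (c j : ℝ) else (c j : ℝ) + g)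
  have key := gsum_mono D (fun j => R (c j)) μ
    (by simp [D, h0, he0])
    (by
      simp only [D, hμ, dif_pos (show a + g < a + g + 1 by omega), if_neg (show ¬ a + g ≤ a by omega)]
      rw [show (⟨a + g, by omega⟩ : Fin (a + g + 1)) = Fin.last (a + g) from rfl, hen]
      push_cast; ring)
    (fun j hj => by
      simp only [D, dif_pos (hcn j hj), sub_nonpos]
      split_ifs with h
      · exact_mod_cast hle ⟨c j, hcn j hj⟩ (by simp; omega)
      · exact_mod_cast hle' ⟨c j, hcn j hj⟩)
    (fun j hj => by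
      simp only [R, dif_pos (hcn j (by omega)), dif_pos (hcn (j + 1) hj)]
      exact hanti (Fin.mk_le_mk.2 (hlt j hj).le))
  rw [← sub_nonpos]
  refine le_trans (le_of_eq ?_) key
  rw [gsum, gsum, ← Fin.sum_univ_eq_sum_range, ← Fin.sum_univ_eq_sum_range, ← sum_sub_distrib]
  refine sum_congr rfl fun j _ => ?_
  have hj := j.2
  simp only [D, R, dif_pos (hcn (j : ℕ) (by omega)), dif_pos (hcn ((j : ℕ) + 1) (by omega)), c', Fin.val_succ, Fin.val_castSucc]
  ring

end Groth.Agent.H4Easy
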