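import Mathlib

/-! Elementary milestones, batch 16: the gcd of the orders of symplectic groups over finite prime fields. -/

set_option autoImplicit false
set_option linter.style.haveILetI false

open Finset

universe u v w

namespace Groth.Agent.H4Easy


theorem prod_pow_sub_one_val (p g ℓ : ℕ) [Fact p.Prime] (hℓ : 1 < ℓ) :
    padicValNat p (∏ a ∈ Icc 1 g, (ℓ ^ (2 * a) - 1)) = ∑ a ∈ Icc 1 g, padicValNat p (ℓ ^ (2 * a) - 1) := by
  induction g with
  | zero => simp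
  | succ g ih =>
    have h0 : ∀ a ∈ Icc 1 g, ℓ ^ (2 * a) - 1 ≠ 0 := fun a ha => by
      have := Nat.one_lt_pow (show 2 * a ≠ 0 by simp at ha; omega) hℓ; omega
    have h1 : ℓ ^ (2 * (g + 1)) - 1 ≠ 0 := by
      have := Nat.one_lt_pow (show 2 * (g + 1) ≠ 0 by omega) hℓ; omega
    rw [prod_Icc_succ_top (by omega), padicValNat.mul (prod_ne_zero_iff.2 h0) h1, ih, sum_Icc_succ_top (by omega)]

theorem ssred_odd_sum (p g : ℕ) [Fact p.Prime] (hp2 : p ≠ 2) (ℓ : ℕ) (hℓ : 1 < ℓ) (hpl : ¬ p ∣ ℓ) :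
    2 * g / (p - 1) + ∑ i ∈ Icc 1 (2 * g / (p - 1)), padicValNat p i ≤
      ∑ a ∈ Icc 1 g, padicValNat p (ℓ ^ (2 * a) - 1) ∧
    ((∀ m, p ∣ ℓ ^ m - 1 → p - 1 ∣ m) → padicValNat p (ℓ ^ (p - 1) - 1) = 1 →
      ∑ a ∈ Icc 1 g, padicValNat p (ℓ ^ (2 * a) - 1) =
        2 * g / (p - 1) + ∑ i ∈ Icc 1 (2 * g / (p - 1)), padicValNat p i) := by
  have hp : p.Prime := Fact.out
  have hodd := hp.odd_of_ne_two hp2
  have h3 : 2 < p := lt_of_le_of_ne hp.two_le (Ne.symm hp2)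
  obtain ⟨q, hq⟩ : ∃ q, p - 1 = 2 * q := by
    obtain ⟨t, rfl⟩ := hodd
    exact ⟨t, by omega⟩
  have hfer : p ∣ ℓ ^ (p - 1) - 1 := by
    have := Nat.ModEq.pow_totient (n := p) ((hp.coprime_iff_not_dvd.2 hpl).symm)
    rw [Nat.totient_prime hp] at this
    exact (Nat.modEq_iff_dvd' (Nat.one_le_pow _ _ (by omega))).1 this.symm
  have hx1 : 1 < ℓ ^ (p - 1) := Nat.one_lt_pow (by omega) hℓ
  have hv1 : 1 ≤ padicValNat p (ℓ ^ (p - 1) - 1) := one_le_padicValNat_of_dvd (by omega) hfer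
  have hterm : ∀ i, i ≠ 0 → padicValNat p (ℓ ^ ((p - 1) * i) - 1) = padicValNat p (ℓ ^ (p - 1) - 1) + padicValNat p i := by
    intro i hi
    have h := padicValNat.pow_sub_pow (y := 1) hodd hx1 hfer (fun h => hpl (hp.dvd_of_dvd_pow h)) hi
    rwa [one_pow, ← pow_mul] at h
  have himg : (Icc 1 g).filter (fun a => p - 1 ∣ 2 * a) = (Icc 1 (2 * g / (p - 1))).image (fun i => q * i) := by
    ext a
    simp only [mem_filter, mem_Icc, mem_image]
    constructor
    · rintro ⟨⟨ha1, ha2⟩, i, hi⟩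
      refine ⟨i, ⟨?_, ?_⟩, ?_⟩
      · rcases Nat.eq_zero_or_pos i with h | h
        · subst h; simp at hi; omega
        · exact h
      · rw [Nat.le_div_iff_mul_le (by omega), mul_comm, ← hi]; omega
      · rw [hq, mul_assoc] at hi; omega
    · rintro ⟨i, ⟨hi1, hi2⟩, rfl⟩
      rw [Nat.le_div_iff_mul_le (by omega), mul_comm, hq, mul_assoc] at hi2
      have : 0 < q * i := Nat.mul_pos (by omega) hi1
      exact ⟨⟨this, by omega⟩, i, by rw [hq]; ring⟩
  have hsplit : ∑ a ∈ (Icc 1 g).filter (fun a => p - 1 ∣ 2 * a), padicValNat p (ℓ ^ (2 * a) - 1) =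
      2 * g / (p - 1) * padicValNat p (ℓ ^ (p - 1) - 1) + ∑ i ∈ Icc 1 (2 * g / (p - 1)), padicValNat p i := by
    rw [himg, sum_image fun x _ y _ h => Nat.eq_of_mul_eq_mul_left (show 0 < q by omega) h]
    rw [sum_congr rfl fun i hi => by
      rw [← mul_assoc, ← hq, hterm i (by simp at hi; omega)]]
    rw [sum_add_distrib, sum_const, Nat.card_Icc, smul_eq_mul, Nat.add_sub_cancel]
  constructor
  · refine le_trans ?_ (sum_le_sum_of_subset (filter_subset (fun a => p - 1 ∣ 2 * a) (Icc 1 g)))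
    rw [hsplit]
    exact Nat.add_le_add_right (Nat.le_mul_of_pos_right _ hv1) _
  · intro hord hv
    rw [← sum_subset (s₁ := (Icc 1 g).filter fun a => p - 1 ∣ 2 * a) (fun a ha => (mem_filter.1 ha).1) (fun a ha hna =>
      padicValNat.eq_zero_of_not_dvd fun h => hna (mem_filter.2 ⟨ha, hord _ h⟩)), hsplit, hv, mul_one]

theorem exists_prime_primitive (p B : ℕ) [Fact p.Prime] (hp2 : p ≠ 2) :
    ∃ ℓ, B < ℓ ∧ ℓ.Prime ∧ ¬ p ∣ ℓ ∧ (∀ m, p ∣ ℓ ^ m - 1 → p - 1 ∣ m) ∧ padicValNat p (ℓ ^ (p - 1) - 1) = 1 := by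
  have hp : p.Prime := Fact.out
  have hodd := hp.odd_of_ne_two hp2
  haveI : NeZero (p ^ 2) := ⟨pow_ne_zero _ hp.ne_zero⟩
  haveI := ZMod.isCyclic_units_of_prime_pow p hp hp2 2
  obtain ⟨u, hu⟩ := IsCyclic.exists_generator (α := (ZMod (p ^ 2))ˣ)
  have hou : orderOf u = (p - 1) * p := by
    rw [orderOf_eq_card_of_forall_mem_zpowers hu, Nat.card_eq_fintype_card, ZMod.card_units_eq_totient,
      Nat.totient_prime_pow hp two_pos]
    simp [mul_comm]
  obtain ⟨ℓ, hB, hℓ, hℓu⟩ := Nat.forall_exists_prime_gt_and_eq_mod (a := (u : ZMod (p ^ 2))) u.isUnit (max B p)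
  have hpl : ¬ p ∣ ℓ := fun h => by
    have := (Nat.prime_dvd_prime_iff_eq hp hℓ).1 h; omega
  have hone : ∀ m, p ^ 2 ∣ ℓ ^ m - 1 → (p - 1) * p ∣ m := by
    intro m hm
    rw [← hou, orderOf_dvd_iff_pow_eq_one, ← Units.val_inj, Units.val_pow_eq_pow_val, Units.val_one, ← hℓu, ← Nat.cast_pow,
      ← Nat.cast_one (R := ZMod (p ^ 2)), ZMod.natCast_eq_natCast_iff]
    exact ((Nat.modEq_iff_dvd' (Nat.one_le_pow _ _ hℓ.pos)).2 hm).symm
  have hlift : ∀ m, p ∣ ℓ ^ m - 1 → p - 1 ∣ m := by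
    intro m hm
    rcases eq_or_ne m 0 with rfl | hm0
    · simp
    have h1 := Nat.one_lt_pow hm0 hℓ.one_lt
    have hv := padicValNat.pow_sub_pow (y := 1) hodd h1 hm (fun h => hpl (hp.dvd_of_dvd_pow h)) hp.ne_zero
    rw [one_pow, padicValNat_self, ← pow_mul] at hv
    have h2 := one_le_padicValNat_of_dvd (p := p) (by omega) hm
    have h3 : p ^ 2 ∣ ℓ ^ (m * p) - 1 := (padicValNat_dvd_iff_le (by
      have := Nat.one_lt_pow (Nat.mul_ne_zero hm0 hp.ne_zero) hℓ.one_lt; omega)).2 (by omega)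
    exact Nat.dvd_of_mul_dvd_mul_right hp.pos (hone _ h3)
  refine ⟨ℓ, by omega, hℓ, hpl, hlift, le_antisymm ?_ ?_⟩
  · by_contra h
    have hne : ℓ ^ (p - 1) - 1 ≠ 0 := by
      have := Nat.one_lt_pow (show p - 1 ≠ 0 by have := hp.two_le; omega) hℓ.one_lt; omega
    have hd := hone _ ((padicValNat_dvd_iff_le hne).2 (by omega))
    have hle := Nat.le_of_dvd (by have := hp.two_le; omega) hd
    have := hp.two_le
    nlinarith [show 1 ≤ p - 1 by omega]
  · have hfer : p ∣ ℓ ^ (p - 1) - 1 := by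
      have := Nat.ModEq.pow_totient (n := p) ((hp.coprime_iff_not_dvd.2 hpl).symm)
      rw [Nat.totient_prime hp] at this
      exact (Nat.modEq_iff_dvd' (Nat.one_le_pow _ _ hℓ.pos)).1 this.symm
    exact one_le_padicValNat_of_dvd (by
      have := Nat.one_lt_pow (show p - 1 ≠ 0 by have := hp.two_le; omega) hℓ.one_lt; omega) hfer

theorem ssred_two_sum (g ℓ : ℕ) (hℓ : 1 < ℓ) (hodd : ¬ 2 ∣ ℓ) :
    3 * g + padicValNat 2 g.factorial ≤ ∑ a ∈ Icc 1 g, padicValNat 2 (ℓ ^ (2 * a) - 1) ∧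
    (ℓ % 8 = 3 → ∑ a ∈ Icc 1 g, padicValNat 2 (ℓ ^ (2 * a) - 1) = 3 * g + padicValNat 2 g.factorial) := by
  induction g with
  | zero => simp
  | succ g ih =>
    have h2 : padicValNat 2 (2 * (g + 1)) = 1 + padicValNat 2 (g + 1) := by
      rw [padicValNat.mul (by norm_num) (by omega), padicValNat_self]
    have hge := padicValNat.pow_two_sub_one_ge hℓ hodd (show 2 * (g + 1) ≠ 0 by omega) (even_two_mul _)
    have hfac : padicValNat 2 (g + 1).factorial = padicValNat 2 (g + 1) + padicValNat 2 g.factorial := by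
      rw [Nat.factorial_succ, padicValNat.mul (by omega) (Nat.factorial_ne_zero g)]
    rw [sum_Icc_succ_top (by omega), hfac]
    refine ⟨by omega, fun h8 => ?_⟩
    have heq := padicValNat.pow_two_sub_one hℓ hodd (show 2 * (g + 1) ≠ 0 by omega) (even_two_mul _)
    have e1 : padicValNat 2 (ℓ + 1) = 2 := by
      obtain ⟨t, ht⟩ : ∃ t, ℓ + 1 = 2 ^ 2 * (2 * t + 1) := ⟨ℓ / 8, by omega⟩
      rw [ht, padicValNat.mul (by norm_num) (by omega), padicValNat.prime_pow, padicValNat.eq_zero_of_not_dvd (by omega)]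
    have e2 : padicValNat 2 (ℓ - 1) = 1 := by
      obtain ⟨t, ht⟩ : ∃ t, ℓ - 1 = 2 * (2 * t + 1) := ⟨(ℓ - 3) / 4, by omega⟩
      rw [ht, padicValNat.mul (by norm_num) (by omega), padicValNat_self, padicValNat.eq_zero_of_not_dvd (by omega)]
    rw [ih.2 h8]
    omega

theorem ssred_gcd (g B d : ℕ) (hB : 2 * g + 1 ≤ B) :
    (∀ ℓ : ℕ, ℓ.Prime → B < ℓ → d ∣ ∏ a ∈ Icc 1 g, (ℓ ^ (2 * a) - 1)) ↔
      d ∣ 2 ^ (3 * g + padicValNat 2 g.factorial) * ∏ p ∈ (Icc 3 (2 * g + 1)).filter Nat.Prime,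
        p ^ ((2 * g) / (p - 1) + ∑ i ∈ Icc 1 ((2 * g) / (p - 1)), padicValNat p i) := by
  classical
  set e : ℕ → ℕ := fun p => (2 * g) / (p - 1) + ∑ i ∈ Icc 1 ((2 * g) / (p - 1)), padicValNat p i
  set N := 2 ^ (3 * g + padicValNat 2 g.factorial) * ∏ p ∈ (Icc 3 (2 * g + 1)).filter Nat.Prime, p ^ e p with hN
  have hnz : ∀ p ∈ (Icc 3 (2 * g + 1)).filter Nat.Prime, p ^ e p ≠ 0 := fun p hp =>
    pow_ne_zero _ (mem_filter.1 hp).2.ne_zero
  have hN0 : N ≠ 0 := mul_ne_zero (pow_ne_zero _ two_ne_zero) (prod_ne_zero_iff.2 hnz)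
  have hval : ∀ p, p.Prime → padicValNat p N = if p = 2 then 3 * g + padicValNat 2 g.factorial else e p := by
    intro p hp
    rw [← Nat.factorization_def _ hp, hN, Nat.factorization_mul (pow_ne_zero _ two_ne_zero) (prod_ne_zero_iff.2 hnz),
      Nat.factorization_prod hnz]
    simp only [Finsupp.coe_add, Pi.add_apply, Finsupp.coe_finsetSum, Finset.sum_apply, Nat.Prime.factorization_pow Nat.prime_two]
    rw [sum_congr rfl (g := fun q => if q = p then e q else 0) fun q hq => by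
      rw [Nat.Prime.factorization_pow (mem_filter.1 hq).2]; simp [Finsupp.single_apply], sum_ite_eq', Finsupp.single_apply]
    rcases eq_or_ne p 2 with rfl | h2
    · simp
    · rw [if_neg (Ne.symm h2), if_neg h2, zero_add]
      split_ifs with h
      · rfl
      · simp only [mem_filter, mem_Icc, hp, and_true, not_and, not_le] at h
        have : 2 * g + 1 < p := h (by have := hp.two_le; omega)
        have h0 : 2 * g / (p - 1) = 0 := Nat.div_eq_of_lt (by omega)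
        simp [e, h0]
  have hprod : ∀ ℓ : ℕ, 1 < ℓ → ∏ a ∈ Icc 1 g, (ℓ ^ (2 * a) - 1) ≠ 0 := fun ℓ hℓ => prod_ne_zero_iff.2 fun a ha => by
    have := Nat.one_lt_pow (show 2 * a ≠ 0 by simp at ha; omega) hℓ; omega
  constructor
  · intro h
    obtain ⟨ℓ0, hl0, hlp0, -⟩ := exists_prime_primitive (p := 3) B (hp2 := by norm_num)
    have hd0 : d ≠ 0 := fun h0 => hprod ℓ0 hlp0.one_lt (zero_dvd_iff.1 (h0 ▸ h ℓ0 hlp0 hl0))
    rw [← Nat.factorization_le_iff_dvd hd0 hN0]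
    intro p
    by_cases hp : p.Prime
    swap
    · simp [Nat.factorization_eq_zero_of_not_prime _ hp]
    haveI := Fact.mk hp
    obtain ⟨ℓ, hℓB, hℓ, hval'⟩ : ∃ ℓ, B < ℓ ∧ ℓ.Prime ∧
        padicValNat p (∏ a ∈ Icc 1 g, (ℓ ^ (2 * a) - 1)) = padicValNat p N := by
      rw [hval p hp]
      rcases eq_or_ne p 2 with rfl | h2
      · obtain ⟨ℓ, hℓB, hℓ, h3⟩ := Nat.forall_exists_prime_gt_and_eq_mod (a := (3 : ZMod 8)) (by decide) (max B 2)
        have h8 : ℓ % 8 = 3 := by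
          have := congrArg ZMod.val h3
          rw [ZMod.val_natCast] at this
          exact this
        refine ⟨ℓ, by omega, hℓ, ?_⟩
        rw [if_pos rfl, prod_pow_sub_one_val 2 g ℓ hℓ.one_lt]
        exact (ssred_two_sum g ℓ hℓ.one_lt (by omega)).2 h8
      · obtain ⟨ℓ, hℓB, hℓ, hpl, hord, hv⟩ := exists_prime_primitive (p := p) B h2
        refine ⟨ℓ, hℓB, hℓ, ?_⟩
        rw [if_neg h2, prod_pow_sub_one_val p g ℓ hℓ.one_lt]
        exact (ssred_odd_sum p g h2 ℓ hℓ.one_lt hpl).2 hord hv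
    rw [Nat.factorization_def _ hp, Nat.factorization_def _ hp, ← hval']
    exact (padicValNat_dvd_iff_le (hprod ℓ hℓ.one_lt)).1 (pow_padicValNat_dvd.trans (h ℓ hℓ hℓB))
  · intro hd ℓ hℓ hℓB
    refine hd.trans ?_
    rw [← Nat.factorization_le_iff_dvd hN0 (hprod ℓ hℓ.one_lt)]
    intro p
    by_cases hp : p.Prime
    swap
    · simp [Nat.factorization_eq_zero_of_not_prime _ hp]
    haveI := Fact.mk hp
    rw [Nat.factorization_def _ hp, Nat.factorization_def _ hp, hval p hp, prod_pow_sub_one_val p g ℓ hℓ.one_lt]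
    rcases eq_or_ne p 2 with rfl | h2
    · rw [if_pos rfl]
      rcases Nat.eq_zero_or_pos g with rfl | hg
      · simp
      refine (ssred_two_sum g ℓ hℓ.one_lt fun h => ?_).1
      have := (Nat.prime_dvd_prime_iff_eq Nat.prime_two hℓ).1 h; omega
    · rw [if_neg h2]
      by_cases hpl : p ∣ ℓ
      · have hpe := (Nat.prime_dvd_prime_iff_eq hp hℓ).1 hpl
        have h0 : 2 * g / (p - 1) = 0 := Nat.div_eq_of_lt (by omega)
        simp [e, h0]
      · exact (ssred_odd_sum p g h2 ℓ hℓ.one_lt hpl).1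

end Groth.Agent.H4Easy
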