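import Groth.Prelude.Def_StGerb
import Groth.Agent.StkBasic.Transport
import Mathlib

/-! Elementary milestones, batch 17: being a gerbe is invariant under equivalence over the base. -/

set_option autoImplicit false
set_option linter.style.haveILetI false

open CategoryTheory

universe u v w v₂ u₂

namespace Groth.Agent.H4Easy


theorem selfOver_isHomLift_iff {C : Type u} [Category.{v} C] {R S a b : C} (f : R ⟶ S) (g : a ⟶ b) :
    (FibCat.selfOver C).p.IsHomLift f g ↔ ∃ (ha : a = R) (hb : b = S), g = eqToHom ha ≫ f ≫ eqToHom hb.symm := by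
  change (𝟭 C).IsHomLift f g ↔ _
  constructor
  · intro h
    exact ⟨IsHomLift.domain_eq (𝟭 C) f g, IsHomLift.codomain_eq (𝟭 C) f g, IsHomLift.fac' (𝟭 C) f g⟩
  · rintro ⟨rfl, rfl, rfl⟩
    exact IsHomLift.of_fac' (𝟭 C) f _ rfl rfl rfl

theorem eqToHom_conj₄ {C : Type u} [Category.{v} C] {a b c d₁ d₂ x₁ x₂ x₃ g : C} (pA : a = b) (m : b ⟶ c) (p1 : c = d₁)
    (p2 : d₁ = d₂) (p3 : d₂ = g) (q1 : c = x₁) (q2 : x₁ = x₂) (q3 : x₂ = x₃) (q4 : x₃ = g) :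
    eqToHom pA ≫ m ≫ eqToHom p1 ≫ eqToHom p2 ≫ eqToHom p3 =
      eqToHom pA ≫ m ≫ eqToHom q1 ≫ eqToHom q2 ≫ eqToHom q3 ≫ eqToHom q4 := by
  subst pA p1 p2 p3 q1 q2 q3; simp

theorem eqToHom_conj₃ {C : Type u} [Category.{v} C] {a b c c' d e : C} (p : a = b) (f : b ⟶ c) (q₁ : c = c') (q : c' = d) (r : d = e)
    (q' : c = e) : (eqToHom p ≫ (f ≫ eqToHom q₁) ≫ eqToHom q) ≫ eqToHom r = eqToHom p ≫ f ≫ eqToHom q' := by
  subst p q₁ q r; simp

theorem isGerbe_of_equiv {C : Type u} [Category.{v} C] (J : GrothendieckTopology C)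
    {𝒳 𝒴 : BasedCategory.{v, max u v} C} (F : 𝒳 ⥤ᵇ 𝒴) (hF : FibCat.IsEquivOver F)
    (h : Gerb.IsGerbe J 𝒳) : Gerb.IsGerbe J 𝒴 := by
  obtain ⟨hst, hobj, hhom⟩ := h
  refine ⟨Groth.Agent.StkBasic.isStack_of_equiv hF J hst, ?_, ?_⟩
  · intro U
    obtain ⟨R, hR, hx⟩ := hobj U
    refine ⟨R, hR, fun V f hf => ?_⟩
    obtain ⟨x, g, hg⟩ := hx f hf
    obtain ⟨ha, hb, he⟩ := (selfOver_isHomLift_iff (C := C) (a := 𝒳.p.obj x) (b := U) f g).1 hg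
    refine ⟨F.obj x, eqToHom (F.w_obj x) ≫ g, ?_⟩
    exact (selfOver_isHomLift_iff (C := C) (a := 𝒴.p.obj (F.obj x)) (b := U) f (eqToHom (F.w_obj x) ≫ g)).2
      ⟨(F.w_obj x).trans ha, hb, by rw [he]; exact eqToHom_trans_assoc _ _ _⟩
  · obtain ⟨G, -, ⟨ε⟩⟩ := hF
    intro x x' b hb
    have hxx : 𝒳.p.obj (G.obj x) = 𝒴.p.obj x := G.w_obj x
    let b' : 𝒳.p.obj (G.obj x) ⟶ 𝒳.p.obj (G.obj x') := eqToHom hxx ≫ b ≫ eqToHom (G.w_obj x').symm
    obtain ⟨hxx', hxeq, hbe⟩ := (selfOver_isHomLift_iff (C := C) (a := 𝒴.p.obj x) (b := 𝒴.p.obj x') (𝟙 (𝒴.p.obj x)) b).1 hb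
    simp only [Category.id_comp, eqToHom_trans] at hbe
    have hb' : (FibCat.selfOver C).p.IsHomLift (𝟙 (𝒳.p.obj (G.obj x))) b' :=
      (selfOver_isHomLift_iff (C := C) (a := 𝒳.p.obj (G.obj x)) (b := 𝒳.p.obj (G.obj x')) _ b').2
        ⟨rfl, (G.w_obj x').trans (hxeq.trans hxx.symm), by simp only [b', hbe, Category.id_comp, eqToHom_trans]; exact (eqToHom_trans_assoc _ _ _).trans (eqToHom_trans _ _)⟩
    obtain ⟨R, hR, hR'⟩ := hhom (G.obj x) (G.obj x') b' hb'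
    refine ⟨R.pullback (eqToHom hxx.symm), J.pullback_stable _ hR, ?_⟩
    · intro V f hf
      obtain ⟨x₀, φ, ψ, hφ, hψ, heq⟩ := hR' (f ≫ eqToHom hxx.symm) hf
      haveI := hφ
      haveI := hψ
      have h1 : 𝒴.p.IsHomLift (f ≫ eqToHom hxx.symm) (F.map φ) := inferInstance
      have h2 : 𝒴.p.IsHomLift (f ≫ eqToHom hxx.symm) (F.map ψ) := inferInstance
      have e1 : 𝒴.p.IsHomLift (𝟙 (𝒴.p.obj x)) (ε.hom.toNatTrans.app x) := ε.hom.isHomLift rfl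
      have e2 : 𝒴.p.IsHomLift (𝟙 (𝒴.p.obj x')) (ε.hom.toNatTrans.app x') := ε.hom.isHomLift rfl
      have hcd := IsHomLift.fac' 𝒴.p (f ≫ eqToHom hxx.symm) (F.map φ)
      have hcd2 := IsHomLift.fac' 𝒴.p (f ≫ eqToHom hxx.symm) (F.map ψ)
      have e1' := IsHomLift.fac' 𝒴.p (𝟙 (𝒴.p.obj x)) (ε.hom.toNatTrans.app x)
      have e2' := IsHomLift.fac' 𝒴.p (𝟙 (𝒴.p.obj x')) (ε.hom.toNatTrans.app x')
      refine ⟨F.obj x₀, F.map φ ≫ ε.hom.toNatTrans.app x, F.map ψ ≫ ε.hom.toNatTrans.app x', ?_, ?_, ?_⟩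
      · refine IsHomLift.of_fac' 𝒴.p f _ ((F.w_obj x₀).trans (IsHomLift.domain_eq 𝒳.p (f ≫ eqToHom hxx.symm) φ)) rfl ?_
        erw [Functor.map_comp, hcd, e1']
        simp only [Category.id_comp, eqToHom_trans]
        refine (eqToHom_conj₃ _ _ _ _ _ rfl).trans ?_
        simp
      · refine IsHomLift.of_fac' 𝒴.p f _ ((F.w_obj x₀).trans (IsHomLift.domain_eq 𝒳.p (f ≫ eqToHom hxx.symm) ψ)) hxeq ?_
        erw [Functor.map_comp, hcd2, e2']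
        simp only [Category.id_comp, eqToHom_trans]
        exact eqToHom_conj₃ _ _ _ _ _ _
      · show 𝒴.p.map _ ≫ b = 𝒴.p.map _
        have heq' : 𝒳.p.map φ ≫ b' = 𝒳.p.map ψ := heq
        have hφ' := Functor.congr_hom F.w φ
        have hψ' := Functor.congr_hom F.w ψ
        simp only [Functor.comp_map] at hφ' hψ'
        erw [Functor.map_comp, Functor.map_comp, hφ', hψ', e1', e2', ← heq']
        simp only [b', hbe, Category.id_comp, Category.assoc, eqToHom_trans]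
        exact eqToHom_conj₄ _ _ _ _ _ _ _ _ _

end Groth.Agent.H4Easy
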