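import Mathlib

/-! Elementary milestones, batch 18: split filtrations pass to direct factors and finite products. -/

set_option autoImplicit false
set_option linter.style.haveILetI false

open DirectSum

universe u v w

namespace Groth.Agent.H4Easy


theorem split_retract {Γ : Type w} [LinearOrder Γ] [Nonempty Γ] {R : Type u} [CommRing R] {M : Type v} [AddCommGroup M]
    [Module R M] [Module.Finite R M] {N : Type v} [AddCommGroup N] [Module R N] (i : N →ₗ[R] M) (q : M →ₗ[R] N)
    (hqi : ∀ x, q (i x) = x) (F : Γ → Submodule R N) (FM : Γ → Submodule R M) (hi : ∀ γ, ∀ x ∈ F γ, i x ∈ FM γ)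
    (hq : ∀ γ, ∀ x ∈ FM γ, q x ∈ F γ) (G : Γ → Submodule R M) (hG : DirectSum.IsInternal G)
    (hFM : ∀ γ, FM γ = ⨆ η ∈ Set.Ici γ, G η) :
    ∃ G' : Γ → Submodule R N, DirectSum.IsInternal G' ∧ ∀ γ, F γ = ⨆ η ∈ Set.Ici γ, G' η := by
  classical
  let E := LinearEquiv.ofBijective (DirectSum.coeLinearMap G) hG
  let π : Γ → M →ₗ[R] M := fun γ => (G γ).subtype ∘ₗ DirectSum.component R Γ (fun γ => G γ) γ ∘ₗ E.symm.toLinearMap
  have hπmem : ∀ γ x, π γ x ∈ G γ := fun γ x => (E.symm x γ).2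
  have hπG : ∀ γ η x, x ∈ G η → π γ x = if η = γ then x else 0 := by
    intro γ η x hx
    have : E.symm x = DirectSum.lof R Γ (fun γ => G γ) η ⟨x, hx⟩ := by
      rw [LinearEquiv.symm_apply_eq]; simp [E]
    show ((E.symm x γ : G γ) : M) = _
    rw [this]
    split_ifs with h
    · subst h; simp [DirectSum.lof_apply]
    · simp [DirectSum.lof_eq_of, DirectSum.of_eq_of_ne _ _ _ (Ne.symm h)]
  obtain ⟨s, hs⟩ := (Module.Finite.fg_top (R := R) (M := M))
  let S : Finset Γ := s.biUnion fun x => (E.symm x).support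
  have hS : ∀ γ x, γ ∉ S → π γ x = 0 := by
    intro γ x hγ
    suffices (⊤ : Submodule R M) ≤ LinearMap.ker (π γ) from this trivial
    rw [← hs, Submodule.span_le]
    intro y hy
    have : γ ∉ (E.symm y).support := fun h => hγ (Finset.mem_biUnion.2 ⟨y, hy, h⟩)
    rw [DFinsupp.notMem_support_iff] at this
    show ((E.symm y γ : G γ) : M) = 0
    rw [this]; rfl
  have hsum : ∀ x, ∑ γ ∈ S, π γ x = x := by
    intro x
    suffices (⊤ : Submodule R M) ≤ LinearMap.ker (∑ γ ∈ S, π γ - LinearMap.id) by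
      have h := this (Submodule.mem_top (x := x))
      simpa [sub_eq_zero] using h
    rw [← hG.submodule_iSup_eq_top, iSup_le_iff]
    intro η y hy
    simp only [LinearMap.mem_ker, LinearMap.sub_apply, LinearMap.coe_sum, Finset.sum_apply, LinearMap.id_apply, sub_eq_zero]
    simp_rw [fun γ => hπG γ η y hy, Finset.sum_ite_eq]
    split_ifs with h
    · rfl
    · have := hπG η η y hy
      rw [if_pos rfl, hS η y h] at this
      exact this
  have hmemF : ∀ γ x, x ∈ FM γ ↔ ∀ η, η < γ → π η x = 0 := by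
    intro γ x
    rw [hFM]
    refine ⟨fun hx η hη => ?_, fun h => ?_⟩
    · suffices ⨆ η' ∈ Set.Ici γ, G η' ≤ LinearMap.ker (π η) from this hx
      refine iSup₂_le fun η' hη' y hy => ?_
      rw [LinearMap.mem_ker, hπG η η' y hy, if_neg (ne_of_gt (lt_of_lt_of_le hη hη'))]
    · rw [← hsum x]
      refine Submodule.sum_mem _ fun η _ => ?_
      rcases lt_or_ge η γ with hη | hη
      · rw [h η hη]; exact zero_mem _
      · exact Submodule.mem_iSup_of_mem η (Submodule.mem_iSup_of_mem hη (hπmem η x))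
  have hππ : ∀ γ η x, π γ (π η x) = if η = γ then π η x else 0 := fun γ η x => hπG γ η _ (hπmem η x)
  -- the idempotent on each graded piece
  let H : Γ → Submodule R M := fun γ => G γ ⊓ LinearMap.ker (π γ ∘ₗ i ∘ₗ q - LinearMap.id)
  let G' : Γ → Submodule R N := fun γ => (H γ).map q
  have hFMG : ∀ γ g, g ∈ G γ → g ∈ FM γ := fun γ g hg => by
    rw [hmemF]; intro η hη; rw [hπG η γ g hg, if_neg (ne_of_gt hη)]
  have hG'F : ∀ γ y, y ∈ G' γ → y ∈ F γ := by
    rintro γ _ ⟨g, ⟨hg, -⟩, rfl⟩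
    exact hq γ g (hFMG γ g hg)
  have hanti : ∀ γ γ', γ ≤ γ' → FM γ' ≤ FM γ := fun γ γ' h x hx =>
    (hmemF γ x).2 fun η hη => (hmemF γ' x).1 hx η (hη.trans_le h)
  have hFanti : ∀ γ γ', γ ≤ γ' → F γ' ≤ F γ := fun γ γ' h x hx => hqi x ▸ hq γ _ (hanti γ γ' h (hi γ' x hx))
  have hpiece : ∀ γ x, x ∈ F γ → q (π γ (i x)) ∈ G' γ := by
    intro γ x hx
    refine ⟨π γ (i x), ⟨hπmem γ _, ?_⟩, rfl⟩
    show π γ (i (q (π γ (i x)))) - π γ (i x) = 0
    have h1 : i (q (i x - π γ (i x))) ∈ FM γ := hi γ _ (hq γ _ (sub_mem (hi γ x hx) (hFMG γ _ (hπmem γ _))))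
    by_cases hS' : ∃ η ∈ S, γ < η
    · have hne : (S.filter (γ < ·)).Nonempty := let ⟨η, h, h'⟩ := hS'; ⟨η, Finset.mem_filter.2 ⟨h, h'⟩⟩
      set γ' := (S.filter (γ < ·)).min' hne
      have hlt : γ < γ' := (Finset.mem_filter.1 (Finset.min'_mem _ hne)).2
      have h2 : i x - π γ (i x) ∈ FM γ' := by
        rw [hmemF]
        intro η hη
        rcases lt_trichotomy η γ with h | rfl | h
        · rw [map_sub, hππ, if_neg (ne_of_gt h), (hmemF γ (i x)).1 (hi γ x hx) η h, sub_zero]
        · rw [map_sub, hππ, if_pos rfl, sub_self]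
        · rw [map_sub, hππ, if_neg (ne_of_lt h), sub_zero]
          exact hS η _ fun hmem => (not_lt.2 (Finset.min'_le _ η (Finset.mem_filter.2 ⟨hmem, h⟩))) hη
      have h3 := (hmemF γ' _).1 (hi γ' _ (hq γ' _ h2)) γ hlt
      rw [map_sub, map_sub, hqi, map_sub, sub_eq_zero] at h3
      rw [sub_eq_zero, ← h3]
    · push Not at hS'
      have h2 : i x - π γ (i x) = 0 := by
        rw [← hsum (i x - π γ (i x))]
        refine Finset.sum_eq_zero fun η hη => ?_
        rw [map_sub, hππ]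
        rcases lt_or_eq_of_le (hS' η hη) with h | rfl
        · rw [if_neg (ne_of_gt h), (hmemF γ (i x)).1 (hi γ x hx) η h, sub_zero]
        · rw [if_pos rfl, sub_self]
      rw [sub_eq_zero] at h2
      rw [← h2, hqi, sub_eq_zero]
      exact h2.symm
  have hle : ∀ γ, F γ ≤ ⨆ η ∈ Set.Ici γ, G' η := by
    suffices ∀ (n : ℕ) γ, (S.filter (γ < ·)).card = n → F γ ≤ ⨆ η ∈ Set.Ici γ, G' η from fun γ => this _ γ rfl
    intro n
    induction n using Nat.strong_induction_on with
    | _ n ih =>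
      intro γ hn x hx
      have h0 : q (π γ (i x)) ∈ ⨆ η ∈ Set.Ici γ, G' η :=
        Submodule.mem_iSup_of_mem γ (Submodule.mem_iSup_of_mem (le_refl γ) (hpiece γ x hx))
      suffices x - q (π γ (i x)) ∈ ⨆ η ∈ Set.Ici γ, G' η by simpa using add_mem this h0
      rw [show x - q (π γ (i x)) = q (i x - π γ (i x)) by rw [map_sub, hqi]]
      have hlow : ∀ η, η ≤ γ → π η (i x - π γ (i x)) = 0 := by
        intro η hη
        rw [map_sub, hππ]
        rcases lt_or_eq_of_le hη with h | rfl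
        · rw [if_neg (ne_of_gt h), (hmemF γ (i x)).1 (hi γ x hx) η h, sub_zero]
        · rw [if_pos rfl, sub_self]
      by_cases hne : (S.filter (γ < ·)).Nonempty
      · set γ' := (S.filter (γ < ·)).min' hne
        obtain ⟨hγ'S, hlt⟩ := Finset.mem_filter.1 (Finset.min'_mem _ hne)
        have h2 : i x - π γ (i x) ∈ FM γ' := by
          rw [hmemF]
          intro η hη
          rcases le_or_gt η γ with h | h
          · exact hlow η h
          · exact hS η _ fun hmem => (not_lt.2 (Finset.min'_le _ η (Finset.mem_filter.2 ⟨hmem, h⟩))) hη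
        refine (iSup₂_le fun η hη => le_iSup₂_of_le η (le_trans hlt.le hη) le_rfl :
          (⨆ η ∈ Set.Ici γ', G' η) ≤ ⨆ η ∈ Set.Ici γ, G' η) ?_
        refine ih _ ?_ γ' rfl (hq γ' _ h2)
        rw [← hn]
        refine Finset.card_lt_card ((Finset.ssubset_iff_of_subset fun η hη => ?_).2 ⟨γ', ?_, ?_⟩)
        · rw [Finset.mem_filter] at hη ⊢; exact ⟨hη.1, hlt.trans hη.2⟩
        · exact Finset.mem_filter.2 ⟨hγ'S, hlt⟩
        · exact fun h => lt_irrefl _ (Finset.mem_filter.1 h).2
      · have h2 : i x - π γ (i x) = 0 := by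
          rw [← hsum (i x - π γ (i x))]
          refine Finset.sum_eq_zero fun η hη => ?_
          rcases le_or_gt η γ with h | h
          · exact hlow η h
          · exact absurd ⟨η, Finset.mem_filter.2 ⟨hη, h⟩⟩ hne
        rw [h2, map_zero]; exact zero_mem _
  refine ⟨G', ⟨?_, ?_⟩, fun γ => le_antisymm (hle γ) (iSup₂_le fun η hη y hy => hFanti γ η hη (hG'F η y hy))⟩
  · show Function.Injective (DirectSum.coeLinearMap G')
    rw [injective_iff_map_eq_zero]
    intro z hz
    by_contra hne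
    have hsupp : z.support.Nonempty := by
      rw [Finset.nonempty_iff_ne_empty, Ne, DFinsupp.support_eq_empty]; exact hne
    set γ := z.support.min' hsupp
    have hγ := Finset.min'_mem _ hsupp
    obtain ⟨g, ⟨hgG, hgH⟩, hgq⟩ := (z γ).2
    have hgH' : π γ (i (q g)) = g := sub_eq_zero.1 hgH
    have h0 : π γ (i (DirectSum.coeLinearMap G' z)) = 0 := by rw [hz, map_zero, map_zero]
    rw [DirectSum.coeLinearMap_eq_dfinsuppSum, DFinsupp.sum, map_sum, map_sum, Finset.sum_eq_single γ] at h0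
    · rw [← hgq, hgH'] at h0
      subst h0
      exact DFinsupp.mem_support_iff.1 hγ (Subtype.ext (by rw [← hgq, map_zero]; rfl))
    · intro η hη hne'
      have hlt : γ < η := lt_of_le_of_ne (Finset.min'_le _ η hη) hne'.symm
      exact (hmemF η _).1 (hi η _ (hG'F η _ (z η).2)) γ hlt
    · exact fun h => absurd hγ h
  · intro x
    obtain ⟨γ₀, hγ₀⟩ : ∃ γ₀, ∀ η ∈ S, γ₀ ≤ η := by
      by_cases hS0 : S.Nonempty
      · exact ⟨S.min' hS0, fun η hη => Finset.min'_le _ η hη⟩
      · exact ⟨Classical.arbitrary Γ, fun η hη => absurd ⟨η, hη⟩ hS0⟩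
    have hx : x ∈ F γ₀ := hqi x ▸ hq γ₀ _ ((hmemF γ₀ _).2 fun η hη => hS η _ fun h => (not_lt.2 (hγ₀ η h)) hη)
    have hle' : (⨆ η ∈ Set.Ici γ₀, G' η) ≤ LinearMap.range (DirectSum.coeLinearMap G') :=
      iSup₂_le fun η _ y hy => ⟨DirectSum.lof R Γ (fun γ => G' γ) η ⟨y, hy⟩, by simp⟩
    exact hle' (hle γ₀ hx)

theorem split_pi_iff {Γ : Type w} [LinearOrder Γ] [Nonempty Γ] {R : Type u} [CommRing R] {A : Type v} [Fintype A] (M : A → Type v)
    [∀ a, AddCommGroup (M a)] [∀ a, Module R (M a)] [∀ a, Module.Finite R (M a)] (F : ∀ a, Γ → Submodule R (M a)) :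
    (∃ G : Γ → Submodule R (∀ a, M a), DirectSum.IsInternal G ∧ ∀ γ, Submodule.pi Set.univ (fun a => F a γ) = ⨆ η ∈ Set.Ici γ, G η) ↔
      ∀ a, ∃ G : Γ → Submodule R (M a), DirectSum.IsInternal G ∧ ∀ γ, F a γ = ⨆ η ∈ Set.Ici γ, G η := by
  classical
  refine ⟨fun ⟨G, hG, hF⟩ a => split_retract (LinearMap.single R M a) (LinearMap.proj a) (fun x => by simp) (F a)
    (fun γ => Submodule.pi Set.univ fun a => F a γ) (fun γ x hx b _ => ?_) (fun γ x hx => hx a trivial) G hG hF, fun h => ?_⟩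
  · rcases eq_or_ne b a with rfl | hb
    · simpa using hx
    · simp [hb]
  choose G hG hF using h
  let G' : Γ → Submodule R (∀ a, M a) := fun γ => Submodule.pi Set.univ fun a => G a γ
  have hsingle : ∀ a γ y, y ∈ G a γ → LinearMap.single R M a y ∈ G' γ := by
    intro a γ y hy b _
    rcases eq_or_ne b a with rfl | hb
    · simpa using hy
    · simp [hb]
  refine ⟨G', ⟨?_, ?_⟩, fun γ => le_antisymm (fun x hx => ?_) ?_⟩
  · show Function.Injective (DirectSum.coeLinearMap G')
    rw [injective_iff_map_eq_zero]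
    intro z hz
    ext γ a
    let f : ∀ γ, G' γ →ₗ[R] G a γ := fun γ => (LinearMap.proj a).restrict fun x hx => hx a trivial
    have key0 : ∀ w, DirectSum.coeLinearMap (G a) (DirectSum.lmap f w) = (DirectSum.coeLinearMap G' w) a := by
      intro w
      induction w using DirectSum.induction_on with
      | zero => simp
      | of η y =>
        rw [← DirectSum.lof_eq_of R]
        simp [f, DirectSum.lmap_lof]
      | add y y' hy hy' => simp only [map_add, Pi.add_apply, hy, hy']
    have key := key0 z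
    rw [hz] at key
    have h0 : DirectSum.lmap f z = 0 := (hG a).1 (key.trans (map_zero _).symm)
    have := congrArg (fun w => ((w γ : G a γ) : M a)) h0
    simpa [f, DirectSum.lmap_apply] using this
  · intro x
    have htop : (⊤ : Submodule R (∀ a, M a)) ≤ LinearMap.range (DirectSum.coeLinearMap G') := by
      intro x _
      rw [← LinearMap.sum_single_apply (φ := M) x]
      refine Submodule.sum_mem _ fun a _ => ?_
      have h1 : x a ∈ ⨆ γ, G a γ := by rw [(hG a).submodule_iSup_eq_top]; trivial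
      have h2 : (⨆ γ, G a γ).map (LinearMap.single R M a) ≤ LinearMap.range (DirectSum.coeLinearMap G') := by
        rw [Submodule.map_iSup, iSup_le_iff]
        rintro γ _ ⟨y, hy, rfl⟩
        exact ⟨DirectSum.lof R Γ (fun γ => G' γ) γ ⟨_, hsingle a γ y hy⟩, by simp⟩
      exact h2 ⟨x a, h1, rfl⟩
    exact htop trivial
  · rw [← LinearMap.sum_single_apply (φ := M) x]
    refine Submodule.sum_mem _ fun a _ => ?_
    have h1 : x a ∈ ⨆ η ∈ Set.Ici γ, G a η := hF a γ ▸ hx a trivial
    have h2 : (⨆ η ∈ Set.Ici γ, G a η).map (LinearMap.single R M a) ≤ ⨆ η ∈ Set.Ici γ, G' η := by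
      simp only [Submodule.map_iSup]
      refine iSup₂_le fun η hη => ?_
      rintro _ ⟨y, hy, rfl⟩
      exact Submodule.mem_iSup_of_mem η (Submodule.mem_iSup_of_mem hη (hsingle a η y hy))
    exact h2 ⟨x a, h1, rfl⟩
  · refine iSup₂_le fun η hη x hx a _ => ?_
    show x a ∈ F a γ
    rw [hF a γ]
    exact Submodule.mem_iSup_of_mem η (Submodule.mem_iSup_of_mem hη (hx a trivial))

end Groth.Agent.H4Easy
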