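import Groth.Prelude.Def_GrMod3
import Groth.Prelude.Def_Pi1
import Groth.Agent.SyntLib.AbsCI
import Mathlib

/-! Elementary milestones, batch 20: kernels of global sections on Proj, independence of the geometric depth. -/

set_option autoImplicit false
set_option linter.style.haveILetI false

open AlgebraicGeometry
open IsLocalRing RingTheory.Sequence Groth.Agent Groth.Agent.SyntLib

universe u v w

namespace Groth.Agent.H4Easy


theorem alpha_eq_zero_iff {R σ : Type u} [CommRing R] [IsNoetherianRing R] [SetLike σ R] [AddSubgroupClass σ R] (𝒜 : ℕ → σ)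
    [GradedRing 𝒜] {M τ : Type u} [AddCommGroup M] [Module R M] [SetLike τ M] [AddSubgroupClass τ M] (ℳ : ℕ → τ)
    [SetLike.GradedSMul 𝒜 ℳ] [DirectSum.Decomposition ℳ] (i : ℕ) (m : ℳ i) :
    GrMod.alpha 𝒜 ℳ i m = 0 ↔ ∃ k : ℕ, ∀ r : R, r ∈ (HomogeneousIdeal.irrelevant 𝒜).toIdeal ^ k → r • (m : M) = 0 := by
  classical
  let J : Ideal R := LinearMap.ker (LinearMap.toSpanSingleton R M (m : M))
  have hJmem : ∀ r, r ∈ J ↔ r • (m : M) = 0 := fun r => by simp [J]
  have hcomp : ∀ r ∈ J, ∀ j, (DirectSum.decompose 𝒜 r j : R) ∈ J := by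
    intro r hr j
    rw [hJmem] at hr ⊢
    have hmem : ∀ l, (DirectSum.decompose 𝒜 r l : R) • (m : M) ∈ ℳ (l + i) := fun l =>
      SetLike.GradedSMul.smul_mem (A := 𝒜) (B := ℳ) (DirectSum.decompose 𝒜 r l).2 m.2
    have h0 : DirectSum.decompose ℳ (∑ l ∈ (DirectSum.decompose 𝒜 r).support, (DirectSum.decompose 𝒜 r l : R) • (m : M)) (j + i) = 0 := by
      rw [← Finset.sum_smul, DirectSum.sum_support_decompose 𝒜 r, hr, DirectSum.decompose_zero]; rfl
    rw [DirectSum.decompose_sum, DFinsupp.finset_sum_apply, Finset.sum_eq_single j] at h0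
    · have := congrArg (Subtype.val) h0
      rwa [DirectSum.decompose_of_mem_same ℳ (hmem j), ZeroMemClass.coe_zero] at this
    · intro l _ hl
      exact Subtype.ext (DirectSum.decompose_of_mem_ne ℳ (hmem l) (by omega))
    · intro hj
      rw [DFinsupp.notMem_support_iff] at hj
      rw [hj, ZeroMemClass.coe_zero, zero_smul, DirectSum.decompose_zero]; rfl
  have hJhom : J.IsHomogeneous 𝒜 := fun j r hr => hcomp r hr j
  constructor
  · intro h
    have hle : (HomogeneousIdeal.irrelevant 𝒜).toIdeal ≤ J.radical := by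
      rw [hJhom.radical_eq]
      refine le_sInf fun P hP => ?_
      obtain ⟨hPhom, hJP, hPp⟩ := hP
      by_contra hirr
      let x : ProjectiveSpectrum 𝒜 := ⟨⟨P, hPhom⟩, hPp, hirr⟩
      have hx : LocalizedModule.mk (m : M) (1 : x.asHomogeneousIdeal.toIdeal.primeCompl) = 0 :=
        congrArg (fun t : GrMod.sect 𝒜 ℳ (i : ℤ) (Opposite.op ⊤) => ((t.1 ⟨x, trivial⟩ : GrMod.tildeAt 𝒜 ℳ i x) : GrMod.LocMod 𝒜 (M := M) x)) h
      rw [← LocalizedModule.zero_mk (1 : x.asHomogeneousIdeal.toIdeal.primeCompl), LocalizedModule.mk_eq] at hx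
      obtain ⟨s, hs⟩ := hx
      simp only [one_smul, smul_zero] at hs
      exact s.2 (hJP ((hJmem s).2 hs))
    obtain ⟨k, hk⟩ := Ideal.exists_pow_le_of_le_radical_of_fg hle (IsNoetherian.noetherian _)
    exact ⟨k, fun r hr => (hJmem r).1 (hk hr)⟩
  · rintro ⟨k, hk⟩
    refine Subtype.ext (funext fun x => Subtype.ext ?_)
    show LocalizedModule.mk (m : M) 1 = (0 : GrMod.LocMod 𝒜 (M := M) x.1)
    obtain ⟨a, ha, hax⟩ := SetLike.not_le_iff_exists.1 x.1.not_irrelevant_le
    rw [← LocalizedModule.zero_mk (1 : x.1.asHomogeneousIdeal.toIdeal.primeCompl), LocalizedModule.mk_eq]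
    refine ⟨⟨a ^ k, fun h => hax (x.1.isPrime.mem_of_pow_mem k h)⟩, ?_⟩
    simp only [one_smul, smul_zero]
    exact hk _ (Ideal.pow_mem_pow ha k)

theorem spanFinrank_ker_le_of_minimal {R B A : Type u} [CommRing R] [IsRegularLocalRing R] [CommRing B] [IsRegularLocalRing B]
    [CommRing A] [IsLocalRing A] (π : R →+* A) (ρ : B →+* A) (hπ : Function.Surjective π) (hρ : Function.Surjective ρ)
    (hπm : RingHom.ker π ≤ maximalIdeal R ^ 2) (hρm : RingHom.ker ρ ≤ maximalIdeal B ^ 2) :
    (RingHom.ker ρ).spanFinrank ≤ (RingHom.ker π).spanFinrank ∧ ringKrullDim B = ringKrullDim R := by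
  classical
  obtain ⟨gs, hgs, hgspan⟩ := Submodule.FG.exists_span_finset_card_eq_spanFinrank
    (show (RingHom.ker π).FG from IsNoetherian.noetherian _)
  set rs := gs.toList with hrs
  have hker : RingHom.ker π = Ideal.ofList rs := by
    rw [Ideal.ofList, ← hgspan]; congr 1; ext y; simp [rs]
  haveI : IsNoetherianRing A := isNoetherianRing_of_surjective R A π hπ
  obtain ⟨s, hs, hspan⟩ := Submodule.FG.exists_span_finset_card_eq_spanFinrank
    (show (maximalIdeal A).FG from IsNoetherian.noetherian _)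
  let e := s.card
  let x : Fin e → A := fun i => (s.equivFin.symm i : A)
  have hx : Ideal.span (Set.range x) = maximalIdeal A := by
    rw [← hspan]
    congr 1
    ext y
    exact ⟨fun ⟨i, hi⟩ => hi ▸ (s.equivFin.symm i).2, fun hy => ⟨s.equivFin ⟨y, hy⟩, by simp [x]⟩⟩
  choose xR hxR using fun i => hπ (x i)
  choose xB hxB using fun i => hρ (x i)
  obtain ⟨hmR, hdR, hwR⟩ := lift_generators π hπ hπm x hx hs xR hxR
  obtain ⟨hmB, hdB, -⟩ := lift_generators ρ hρ hρm x hx hs xB hxB
  have hH : CAlgX.IsH1Regular xR := KoszulLib.isH1Regular_of_acyclic (KoszulLib.acyclic_of_isWeaklyRegular' hwR)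
  have hmemI : ∀ i : Fin rs.length, rs.get i ∈ Ideal.span (Set.range xR) := fun i => by
    rw [hmR]
    exact le_maximalIdeal (RingHom.ker_ne_top π) (hker ▸ Ideal.subset_span (List.get_mem rs i))
  choose aR haR using fun i => Ideal.mem_span_range_iff_exists_fun.mp (hmemI i)
  choose bB hbB using fun i j => hρ (π (aR i j))
  let sB : Fin rs.length → B := fun i => ∑ j, bB i j * xB j
  have hsJ : ∀ i, sB i ∈ RingHom.ker ρ := fun i => by
    rw [RingHom.mem_ker]
    simp only [sB, map_sum, map_mul, hbB, hxB, ← hxR]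
    rw [show (∑ j, π (aR i j) * π (xR j)) = π (∑ j, aR i j * xR j) by simp, haR]
    exact RingHom.mem_ker.mp (hker ▸ Ideal.subset_span (List.get_mem rs i))
  refine ⟨?_, by rw [hdB, hdR]⟩
  have hlen : rs.length = (RingHom.ker π).spanFinrank := by rw [hrs, Finset.length_toList, hgs]
  suffices hρker : RingHom.ker ρ = Ideal.span (Set.range sB) by
    rw [hρker, ← hlen]
    exact (Submodule.spanFinrank_span_le_ncard_of_finite (Set.finite_range sB)).trans
      ((Finite.card_range_le sB).trans (le_of_eq (Nat.card_fin rs.length)))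
  refine le_antisymm ?_ (Ideal.span_le.mpr (by rintro _ ⟨i, rfl⟩; exact hsJ i))
  refine Submodule.le_of_le_smul_of_le_jacobson_bot (IsNoetherian.noetherian _) (maximalIdeal_le_jacobson _) fun y hy => ?_
  have hym : y ∈ Ideal.span (Set.range xB) := by
    rw [hmB]; exact le_maximalIdeal (RingHom.ker_ne_top ρ) hy
  obtain ⟨b, hb⟩ := Ideal.mem_span_range_iff_exists_fun.mp hym
  choose a ha using fun j => hπ (ρ (b j))
  have hw : (∑ j, a j * xR j) ∈ Ideal.span (Set.range rs.get) := by
    have h1 : (∑ j, a j * xR j) ∈ RingHom.ker π := by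
      rw [RingHom.mem_ker]
      simp only [map_sum, map_mul, ha, hxR, ← hxB]
      rw [show (∑ j, ρ (b j) * ρ (xB j)) = ρ (∑ j, b j * xB j) by simp, hb]
      exact RingHom.mem_ker.mp hy
    rw [hker, Ideal.ofList] at h1
    rw [show Set.range rs.get = {r | r ∈ rs} from Set.range_list_get rs]
    exact h1
  obtain ⟨c, hc⟩ := Ideal.mem_span_range_iff_exists_fun.mp hw
  have hrel : (fun j => a j - ∑ i, c i * aR i j) ∈ KoszulLib.trivRel xR := by
    refine KoszulLib.h1_iff.mp hH _ ?_
    simp only [sub_mul, Finset.sum_sub_distrib, Finset.sum_mul, mul_assoc]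
    rw [Finset.sum_comm]
    simp only [← Finset.mul_sum, haR, hc, sub_self]
  have hrel' := KoszulLib.trivRel_map π hrel
  rw [show π ∘ xR = ρ ∘ xB from funext fun j => (hxR j).trans (hxB j).symm] at hrel'
  obtain ⟨t, ht, hte⟩ := exists_trivRel_lift ρ hρ hrel'
  choose c' hc' using fun i => hρ (π (c i))
  let j₀ : Fin e → B := fun j => b j - (∑ i, c' i * bB i j) - t j
  have hj₀ : ∀ j, j₀ j ∈ RingHom.ker ρ := fun j => by
    rw [RingHom.mem_ker]
    simp only [j₀, map_sub, map_sum, map_mul, hc', hbB, show ρ (t j) = π (a j - ∑ i, c i * aR i j) from congrFun hte j,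
      ha]
    ring
  have ht0 : ∑ j, t j * xB j = 0 := by
    revert ht
    clear hte hj₀ j₀
    generalize t = t'
    intro ht
    induction ht using Submodule.span_induction with
    | mem v hv => obtain ⟨p, q, rfl⟩ := hv; simp [Pi.single_apply, sub_mul, Finset.sum_sub_distrib]; ring
    | zero => simp
    | add u v _ _ hu hv =>
      simp only [Pi.add_apply, add_mul, Finset.sum_add_distrib]
      rw [hu, hv, add_zero]
    | smul r v _ hv =>
      simp only [Pi.smul_apply, smul_eq_mul, mul_assoc, ← Finset.mul_sum]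
      rw [hv, mul_zero]
  have hy' : y = (∑ i, c' i * sB i) + ∑ j, xB j * j₀ j := by
    have hz : ∑ j, xB j * j₀ j = ∑ j, b j * xB j - ∑ i, c' i * sB i - ∑ j, t j * xB j := by
      simp only [j₀, sB, Finset.mul_sum]
      rw [Finset.sum_comm (f := fun i j => c' i * (bB i j * xB j))]
      rw [← Finset.sum_sub_distrib, ← Finset.sum_sub_distrib]
      refine Finset.sum_congr rfl fun j _ => ?_
      simp only [mul_sub, Finset.mul_sum]
      congr 1
      congr 1
      · ring
      · exact Finset.sum_congr rfl fun i _ => by ring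
      · ring
    rw [hz, hb, ht0]
    ring
  rw [hy']
  refine Submodule.add_mem_sup (Ideal.sum_mem _ fun i _ => Ideal.mul_mem_left _ _ (Ideal.subset_span (Set.mem_range_self i)))
    (Submodule.sum_mem _ fun j _ => ?_)
  exact Submodule.smul_mem_smul (hmB ▸ Ideal.subset_span (Set.mem_range_self j)) (hj₀ j)

theorem spanFinrank_ker_quot_succ {R A : Type u} [CommRing R] [IsLocalRing R] [IsNoetherianRing R] [CommRing A] [Nontrivial A]
    (π : R →+* A) {x : R} (hx : x ∈ RingHom.ker π) (hx2 : x ∉ maximalIdeal R ^ 2)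
    (π₁ : R ⧸ Ideal.span {x} →+* A) (hπ₁ : π₁.comp (Ideal.Quotient.mk _) = π) :
    (RingHom.ker π₁).spanFinrank + 1 = (RingHom.ker π).spanFinrank := by
  classical
  set I := RingHom.ker π
  have hI : I ≤ maximalIdeal R := le_maximalIdeal (RingHom.ker_ne_top π)
  set q := Ideal.Quotient.mk (Ideal.span ({x} : Set R))
  have hker1 : RingHom.ker π₁ = I.map q := by
    rw [← Ideal.map_comap_of_surjective q Ideal.Quotient.mk_surjective (RingHom.ker π₁), RingHom.comap_ker, hπ₁]
  refine le_antisymm ?_ ?_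
  · obtain ⟨s, hcard, hspan⟩ := Submodule.FG.exists_span_finset_card_eq_spanFinrank (show I.FG from IsNoetherian.noetherian _)
    have hsm : ∀ i ∈ s, i ∈ I := fun i hi => hspan ▸ Submodule.subset_span hi
    obtain ⟨c, -, hc⟩ := Submodule.mem_span_finset.mp (hspan.symm ▸ hx : x ∈ Submodule.span R (s : Set R))
    obtain ⟨i, hi, hci⟩ : ∃ i ∈ s, IsUnit (c i) := by
      by_contra hall
      push Not at hall
      refine hx2 ?_
      rw [← hc, pow_two]
      exact Ideal.sum_mem _ fun i hi =>
        Ideal.mul_mem_mul ((IsLocalRing.mem_maximalIdeal _).mpr (hall i hi)) (hI (hsm i hi))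
    have hle : I.map q ≤ Ideal.span ((s.erase i).image q : Set (R ⧸ Ideal.span {x})) := by
      rw [← hspan, Ideal.map_span, Ideal.span_le]
      rintro _ ⟨j, hj, rfl⟩
      by_cases hji : j = i
      · subst hji
        have h0 : q (c j * j) = - ∑ l ∈ s.erase j, q (c l * l) := by
          rw [eq_neg_iff_add_eq_zero, ← map_sum, ← map_add, Finset.add_sum_erase s (fun l => c l * l) hj,
            Ideal.Quotient.eq_zero_iff_mem, Ideal.mem_span_singleton]
          exact ⟨1, by simpa using hc⟩
        rw [SetLike.mem_coe, ← Ideal.unit_mul_mem_iff_mem _ (hci.map q), ← map_mul, h0]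
        refine neg_mem (Ideal.sum_mem _ fun l hl => ?_)
        rw [map_mul]
        exact Ideal.mul_mem_left _ _ (Ideal.subset_span (Finset.mem_image_of_mem _ hl))
      · exact Ideal.subset_span (Finset.mem_image_of_mem _ (Finset.mem_erase.mpr ⟨hji, hj⟩))
    have heq : I.map q = Ideal.span ((s.erase i).image q : Set (R ⧸ Ideal.span {x})) := by
      refine le_antisymm hle (Ideal.span_le.mpr ?_)
      simp only [Finset.coe_image]
      rintro _ ⟨j, hj, rfl⟩
      exact Ideal.mem_map_of_mem q (hsm j (Finset.mem_of_mem_erase hj))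
    rw [hker1, heq]
    calc _ ≤ ((s.erase i).image q).card + 1 :=
          Nat.add_le_add_right (Submodule.spanFinrank_span_le_ncard_of_finite (Finset.finite_toSet _) |>.trans
            (Set.ncard_coe_finset _).le) 1
      _ ≤ (s.erase i).card + 1 := Nat.add_le_add_right Finset.card_image_le 1
      _ = _ := by rw [Finset.card_erase_add_one hi, hcard]
  · obtain ⟨s, hcard, hspan⟩ := Submodule.FG.exists_span_finset_card_eq_spanFinrank
      (show (RingHom.ker π₁).FG from IsNoetherian.noetherian _)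
    choose l hl using fun z : R ⧸ Ideal.span {x} => Ideal.Quotient.mk_surjective z
    have hgen : I = Ideal.span ((insert x (s.image l) : Finset R) : Set R) := by
      refine le_antisymm (fun y hy => ?_) (Ideal.span_le.2 ?_)
      · have h1 : q y ∈ Ideal.span (s : Set (R ⧸ Ideal.span {x})) := by
          have : q y ∈ RingHom.ker π₁ := hker1 ▸ Ideal.mem_map_of_mem q hy
          rw [← hspan] at this
          exact this
        have h2 : Ideal.span (s : Set (R ⧸ Ideal.span {x})) = (Ideal.span ((s.image l : Finset R) : Set R)).map q := by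
          rw [Ideal.map_span, Finset.coe_image, Set.image_image]
          simp [q, hl]
        rw [h2, ← Ideal.mem_comap, Ideal.comap_map_of_surjective q Ideal.Quotient.mk_surjective, ← RingHom.ker_eq_comap_bot,
          Ideal.mk_ker, sup_comm, ← Ideal.span_union] at h1
        rwa [Finset.coe_insert, Set.insert_eq]
      · simp only [Finset.coe_insert, Finset.coe_image, Set.insert_subset_iff]
        refine ⟨hx, ?_⟩
        rintro _ ⟨z, hz, rfl⟩
        have hmem : z ∈ RingHom.ker π₁ := hspan ▸ Submodule.subset_span hz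
        show π (l z) = 0
        rw [← hπ₁, RingHom.comp_apply]
        simp only [q, hl]
        exact hmem
    rw [hgen]
    refine (Submodule.spanFinrank_span_le_ncard_of_finite (Finset.finite_toSet _)).trans ?_
    rw [Set.ncard_coe_finset]
    exact (Finset.card_insert_le _ _).trans (Nat.add_le_add_right (Finset.card_image_le.trans hcard.le) 1)

theorem exists_minimal_deficit : ∀ (N : ℕ) {R A : Type u} [CommRing R] [IsRegularLocalRing R] [CommRing A] [IsLocalRing A]
    (π : R →+* A), (maximalIdeal R).spanFinrank ≤ N → Function.Surjective π →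
    ∃ (R' : Type u) (_ : CommRing R') (_ : IsRegularLocalRing R') (π' : R' →+* A),
      Function.Surjective π' ∧ RingHom.ker π' ≤ maximalIdeal R' ^ 2 ∧
        (maximalIdeal R).spanFinrank + (RingHom.ker π').spanFinrank =
          (maximalIdeal R').spanFinrank + (RingHom.ker π).spanFinrank := by
  intro N
  induction N with
  | zero =>
    intro R A _ _ _ _ π hN hπ
    have hm : maximalIdeal R = ⊥ :=
      (Submodule.spanFinrank_eq_zero_iff_eq_bot (IsNoetherian.noetherian _)).1 (Nat.le_zero.1 hN)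
    exact ⟨R, inferInstance, inferInstance, π, hπ,
      ((le_maximalIdeal (RingHom.ker_ne_top π)).trans hm.le).trans bot_le, rfl⟩
  | succ N ih =>
    intro R A _ _ _ _ π hN hπ
    by_cases hle : RingHom.ker π ≤ maximalIdeal R ^ 2
    · exact ⟨R, inferInstance, inferInstance, π, hπ, hle, rfl⟩
    obtain ⟨x, hx, hx2⟩ := SetLike.not_le_iff_exists.mp hle
    have hxm : x ∈ maximalIdeal R := le_maximalIdeal (RingHom.ker_ne_top π) hx
    obtain ⟨hT', hreg⟩ := SerreReg.isRegularLocalRing_quot hxm hx2
    have := hT'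
    have hdrop := SerreReg.spanFinrank_quot_succ_le hxm hx2
    have hdim := ringKrullDim_quotient_span_singleton_succ_eq_ringKrullDim hreg hxm
    rw [← IsRegularLocalRing.spanFinrank_maximalIdeal (R := R),
      ← IsRegularLocalRing.spanFinrank_maximalIdeal (R := R ⧸ Ideal.span {x})] at hdim
    norm_cast at hdim
    let π₁ : R ⧸ Ideal.span {x} →+* A := Ideal.Quotient.lift _ π fun y hy =>
      RingHom.mem_ker.mp ((Ideal.span_singleton_le_iff_mem _).mpr hx hy)
    have hπ₁ : Function.Surjective π₁ := Ideal.Quotient.lift_surjective_of_surjective _ _ hπ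
    have hsucc := spanFinrank_ker_quot_succ π hx hx2 π₁ rfl
    obtain ⟨R', i1, i2, π', h1, h2, h3⟩ := ih π₁ (by omega) hπ₁
    exact ⟨R', i1, i2, π', h1, h2, by omega⟩

theorem deficit_indep {R B A : Type u} [CommRing R] [IsRegularLocalRing R] [CommRing B] [IsRegularLocalRing B]
    [CommRing A] [IsLocalRing A] (π : R →+* A) (ρ : B →+* A) (hπ : Function.Surjective π) (hρ : Function.Surjective ρ)
    (d d' : ℕ) (hd : ringKrullDim R = d) (hd' : ringKrullDim B = d') :
    (d : ℤ) - ((RingHom.ker π).spanFinrank : ℤ) = (d' : ℤ) - ((RingHom.ker ρ).spanFinrank : ℤ) := by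
  rw [← IsRegularLocalRing.spanFinrank_maximalIdeal (R := R)] at hd
  rw [← IsRegularLocalRing.spanFinrank_maximalIdeal (R := B)] at hd'
  norm_cast at hd hd'
  obtain ⟨R', _, _, π', h1, h2, h3⟩ := exists_minimal_deficit _ π le_rfl hπ
  obtain ⟨B', _, _, ρ', h4, h5, h6⟩ := exists_minimal_deficit _ ρ le_rfl hρ
  obtain ⟨hle, hdim⟩ := spanFinrank_ker_le_of_minimal π' ρ' h1 h4 h2 h5
  obtain ⟨hle', -⟩ := spanFinrank_ker_le_of_minimal ρ' π' h4 h1 h5 h2
  rw [← IsRegularLocalRing.spanFinrank_maximalIdeal (R := R'), ← IsRegularLocalRing.spanFinrank_maximalIdeal (R := B')] at hdim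
  norm_cast at hdim
  omega

theorem geometric_depth_le (A : Type u) [CommRing A] [IsLocalRing A] [IsNoetherianRing A] (B : Type u) [CommRing B]
    [IsRegularLocalRing B] (I : Ideal B) (hpres : Nonempty (AdicCompletion (IsLocalRing.maximalIdeal A) A ≃+* B ⧸ I))
    (d e : ℕ) (hd : ringKrullDim A = (d : WithBot ℕ∞)) (he : ringKrullDim B = (e : WithBot ℕ∞)) :
    (e : ℤ) - (I.spanFinrank : ℤ) ≤ (d : ℤ) ∧ ((e : ℤ) - (I.spanFinrank : ℤ) = (d : ℤ) ↔ Pi1.IsCompleteIntersection A) := by
  classical
  obtain ⟨φ⟩ := hpres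
  let A' := AdicCompletion (maximalIdeal A) A
  let π : B →+* A' := φ.symm.toRingHom.comp (Ideal.Quotient.mk I)
  have hπ : Function.Surjective π := φ.symm.surjective.comp Ideal.Quotient.mk_surjective
  have hker : RingHom.ker π = I := (RingHom.ker_comp_of_injective _ φ.symm.injective).trans Ideal.mk_ker
  have hdA : ringKrullDim A' = (d : WithBot ℕ∞) := (AdicBasics.ringKrullDim_completion _).trans hd
  have hne : I ≠ ⊤ := hker ▸ RingHom.ker_ne_top π
  have hle := ringKrullDim_le_ringKrullDim_add_spanFinrank hne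
  rw [he, ← ringKrullDim_eq_of_ringEquiv φ, hdA] at hle
  norm_cast at hle
  have hdefs : ∀ rs : List B, RingHom.ker π = Ideal.ofList rs → I.spanFinrank ≤ rs.length := fun rs h => by
    rw [← hker, h, Ideal.ofList]
    refine (Submodule.spanFinrank_span_le_ncard_of_finite rs.finite_toSet).trans ?_
    rw [show {r | r ∈ rs} = (rs.toFinset : Set B) by ext; simp, Set.ncard_coe_finset]
    exact List.toFinset_card_le rs
  refine ⟨by omega, ⟨fun heq => ?_, ?_⟩⟩
  · obtain ⟨gs, hgs, hgspan⟩ := Submodule.FG.exists_span_finset_card_eq_spanFinrank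
      (show I.FG from IsNoetherian.noetherian _)
    have hnum : NumCI π := by
      refine ⟨gs.toList, ?_, ?_⟩
      · rw [hker, Ideal.ofList, ← hgspan]; congr 1; ext y; simp
      · rw [he, hdA, Finset.length_toList, hgs]; norm_cast; omega
    obtain ⟨rs, hreg, hrs⟩ := (numCI_iff_regular π hπ).1 hnum
    refine ⟨B, inferInstance, inferInstance, rs, fun r hr => le_maximalIdeal (RingHom.ker_ne_top π)
      (hrs ▸ Ideal.subset_span hr), hreg, ⟨φ.trans (Ideal.quotEquivOfEq ?_)⟩⟩
    rw [← hker, hrs]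
  · rintro ⟨C, _, _, cs, -, hreg, ⟨ψ⟩⟩
    let ρ : C →+* A' := ψ.symm.toRingHom.comp (Ideal.Quotient.mk _)
    have hρ : Function.Surjective ρ := ψ.symm.surjective.comp Ideal.Quotient.mk_surjective
    have hρk : RingHom.ker ρ = Ideal.ofList cs := (RingHom.ker_comp_of_injective _ ψ.symm.injective).trans Ideal.mk_ker
    obtain ⟨rs, hrs, hdim⟩ := (numCI_indep ρ π hρ hπ).mp ((numCI_iff_regular ρ hρ).mpr ⟨cs, hreg, hρk⟩)
    rw [he, hdA] at hdim
    norm_cast at hdim
    have := hdefs rs hrs
    omega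

end Groth.Agent.H4Easy
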