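import Mathlib

/-! lim^i vanishes in degrees >= 2 for towers of abelian groups -/

set_option autoImplicit false
set_option linter.style.haveILetI false

open CategoryTheory CategoryTheory.Limits Opposite

universe u

namespace Groth.Agent.H4Easy


variable (I : ℕᵒᵖ ⥤ AddCommGrpCat.{u})

/-- the n-th stage of the tower of partial products -/
def prodStage (n : ℕ) : AddCommGrpCat.{u} :=
  AddCommGrpCat.of (Π m : Fin (n + 1), I.obj (op (m : ℕ)))

def prodTrans (n : ℕ) : prodStage I (n + 1) ⟶ prodStage I n :=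
  AddCommGrpCat.ofHom
    { toFun := fun x m => x m.castSucc
      map_zero' := rfl
      map_add' := fun _ _ => rfl }

def toProdStage (n : ℕ) : I.obj (op n) ⟶ prodStage I n :=
  AddCommGrpCat.ofHom
    { toFun := fun x m => I.map (homOfLE (Nat.lt_succ_iff.mp m.isLt)).op x
      map_zero' := by funext m; simp
      map_add' := fun _ _ => by funext m; simp }

def toProdTower : I ⟶ Functor.ofOpSequence (prodTrans I) :=
  NatTrans.ofOpSequence (toProdStage I) (fun n => by
    rw [Functor.ofOpSequence_map_homOfLE_succ]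
    ext x
    funext m
    change I.map (homOfLE _).op (I.map (homOfLE _).op x) = I.map (homOfLE _).op x
    rw [← ConcreteCategory.comp_apply, ← I.map_comp]
    rfl)

/-- transition maps of an injective tower of abelian groups are surjective -/
theorem tower_surjective_of_injective [Injective I] (n : ℕ) :
    Function.Surjective (I.map (homOfLE (Nat.le_add_right n 1)).op) := by
  have : Mono (toProdTower I) := by
    have : ∀ c, Mono ((toProdTower I).app c) := fun c => by
      rw [AddCommGrpCat.mono_iff_injective]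
      intro x y hxy
      have h2 := congrFun hxy (Fin.last c.unop)
      change I.map (homOfLE _).op x = I.map (homOfLE _).op y at h2
      simpa using h2
    exact NatTrans.mono_of_mono_app _
  let r := Injective.factorThru (𝟙 I) (toProdTower I)
  have hr : toProdTower I ≫ r = 𝟙 I := Injective.comp_factorThru _ _
  intro x
  let s : prodStage I n := toProdStage I n x
  let z : prodStage I (n + 1) := fun m =>
    if h : (m : ℕ) ≤ n then s ⟨m, Nat.lt_succ_of_le h⟩ else 0
  have hz : prodTrans I n z = s := by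
    funext m
    change z m.castSucc = s m
    exact dif_pos (Nat.lt_succ_iff.mp m.isLt)
  refine ⟨r.app (op (n + 1)) z, ?_⟩
  have h1 := ConcreteCategory.congr_hom (r.naturality (homOfLE (Nat.le_add_right n 1)).op) z
  rw [Functor.ofOpSequence_map_homOfLE_succ] at h1
  simp only [ConcreteCategory.comp_apply] at h1
  refine h1.symm.trans ((congrArg (fun w => r.app (op n) w) hz).trans ?_)
  exact ConcreteCategory.congr_hom (congr_app hr (op n)) x

variable {I}

theorem tower_sections_of_succ {F : ℕᵒᵖ ⥤ AddCommGrpCat.{u}} (y : ∀ n : ℕ, F.obj (op n))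
    (hy : ∀ n, F.map (homOfLE (Nat.le_add_right n 1)).op (y (n + 1)) = y n) :
    ∃ t : (lim : (ℕᵒᵖ ⥤ AddCommGrpCat.{u}) ⥤ AddCommGrpCat.{u}).obj F,
      ∀ n, limit.π F (op n) t = y n := by
  have key : ∀ (a b : ℕ) (h : b ≤ a), F.map (homOfLE h).op (y a) = y b := by
    intro a b h
    induction a, h using Nat.le_induction with
    | base =>
      have : (homOfLE (le_refl b)).op = 𝟙 (op b) := rfl
      rw [this]
      simp
    | succ a h ih =>
      have : (homOfLE (h.trans (Nat.le_add_right a 1))).op =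
          (homOfLE (Nat.le_add_right a 1)).op ≫ (homOfLE h).op := rfl
      rw [this, F.map_comp, ConcreteCategory.comp_apply, hy, ih]
  let e := Types.isLimitEquivSections
    (isLimitOfPreserves (forget AddCommGrpCat.{u}) (limit.isLimit F))
  refine ⟨e.symm ⟨fun j => y j.unop, fun {j j'} f => key j.unop j'.unop (leOfHom f.unop)⟩, ?_⟩
  intro n
  exact Types.isLimitEquivSections_symm_apply
    (isLimitOfPreserves (forget AddCommGrpCat.{u}) (limit.isLimit F)) _ (op n)

/-- lim^i vanishes in degrees at least two for towers of abelian groups -/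
theorem isZero_rightDerived_lim_tower [EnoughInjectives (ℕᵒᵖ ⥤ AddCommGrpCat.{u})]
    [(lim : (ℕᵒᵖ ⥤ AddCommGrpCat.{u}) ⥤ AddCommGrpCat.{u}).Additive]
    (A : ℕᵒᵖ ⥤ AddCommGrpCat.{u}) (i : ℕ) (hi : 2 ≤ i) :
    IsZero (((lim : (ℕᵒᵖ ⥤ AddCommGrpCat.{u}) ⥤ AddCommGrpCat.{u}).rightDerived i).obj A) := by
  obtain ⟨k, rfl⟩ : ∃ k, i = k + 2 := ⟨i - 2, by omega⟩
  let R := InjectiveResolution.of A
  refine IsZero.of_iso ?_ (R.isoRightDerivedObj _ (k + 2))
  rw [HomologicalComplex.homologyFunctor_obj, ← HomologicalComplex.exactAt_iff_isZero_homology,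
    HomologicalComplex.exactAt_iff' _ (k + 1) (k + 2) (k + 3) (by simp) (by simp),
    ShortComplex.ab_exact_iff]
  intro x hx
  let C := R.cocomplex
  change (lim : (ℕᵒᵖ ⥤ AddCommGrpCat.{u}) ⥤ AddCommGrpCat.{u}).obj (C.X (k + 2)) at x
  have hx' : (lim.map (C.d (k + 2) (k + 3))) x = 0 := hx
  let c : ∀ n, (C.X (k + 2)).obj (op n) := fun n => limit.π (C.X (k + 2)) (op n) x
  have hc : ∀ n, (C.d (k + 2) (k + 3)).app (op n) (c n) = 0 := by
    intro n
    have := ConcreteCategory.congr_hom (limMap_π (C.d (k + 2) (k + 3)) (op n)) x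
    simp only [ConcreteCategory.comp_apply] at this
    rw [show (C.d (k + 2) (k + 3)).app (op n) (c n) = _ from this.symm]
    change limit.π (C.X (k + 3)) (op n) ((lim.map (C.d (k + 2) (k + 3))) x) = 0
    rw [hx', map_zero]
  have hcc : ∀ n, (C.X (k + 2)).map (homOfLE (Nat.le_add_right n 1)).op (c (n + 1)) = c n :=
    fun n => ConcreteCategory.congr_hom
      (limit.w (C.X (k + 2)) (homOfLE (Nat.le_add_right n 1)).op) x
  have ex : ∀ (j n : ℕ) (a : (C.X (j + 1)).obj (op n)),
      (C.d (j + 1) (j + 2)).app (op n) a = 0 →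
      ∃ b, (C.d j (j + 1)).app (op n) b = a := by
    intro j n a ha
    have h := (R.cocomplex_exactAt_succ j)
    rw [HomologicalComplex.exactAt_iff' _ j (j + 1) (j + 2) (by simp) (by simp)] at h
    have h2 := h.map ((evaluation _ _).obj (op n))
    rw [ShortComplex.ab_exact_iff] at h2
    exact h2 a ha
  have step : ∀ (n : ℕ) (b : {b : (C.X (k + 1)).obj (op n) //
        (C.d (k + 1) (k + 2)).app (op n) b = c n}),
      ∃ b' : {b : (C.X (k + 1)).obj (op (n + 1)) //
        (C.d (k + 1) (k + 2)).app (op (n + 1)) b = c (n + 1)},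
        (C.X (k + 1)).map (homOfLE (Nat.le_add_right n 1)).op b'.1 = b.1 := by
    intro n b
    let f := (homOfLE (Nat.le_add_right n 1)).op
    obtain ⟨b₀, hb₀⟩ := ex (k + 1) (n + 1) (c (n + 1)) (hc (n + 1))
    have hd : (C.d (k + 1) (k + 2)).app (op n) ((C.X (k + 1)).map f b₀ - b.1) = 0 := by
      rw [map_sub, NatTrans.naturality_apply, hb₀, b.2, hcc, sub_self]
    obtain ⟨w, hw⟩ := ex k n _ hd
    have := R.injective k
    obtain ⟨w', hw'⟩ := tower_surjective_of_injective (C.X k) n w
    refine ⟨⟨b₀ - (C.d k (k + 1)).app (op (n + 1)) w', ?_⟩, ?_⟩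
    · rw [map_sub, hb₀, ← ConcreteCategory.comp_apply, ← NatTrans.comp_app,
        HomologicalComplex.d_comp_d]
      simp
    · change (C.X (k + 1)).map f _ = _
      rw [map_sub, ← NatTrans.naturality_apply, hw', hw]
      abel
  have base : Nonempty {b : (C.X (k + 1)).obj (op 0) //
      (C.d (k + 1) (k + 2)).app (op 0) b = c 0} := by
    obtain ⟨b, hb⟩ := ex (k + 1) 0 (c 0) (hc 0)
    exact ⟨⟨b, hb⟩⟩
  choose nxt hnxt using step
  let y : ∀ n, {b : (C.X (k + 1)).obj (op n) // (C.d (k + 1) (k + 2)).app (op n) b = c n} :=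
    fun n => Nat.rec base.some (fun n b => nxt n b) n
  obtain ⟨t, ht⟩ := tower_sections_of_succ (fun n => (y n).1) (fun n => hnxt n (y n))
  refine ⟨t, ?_⟩
  refine Concrete.limit_ext _ _ _ (fun j => ?_)
  obtain ⟨n⟩ := j
  have h1 := ConcreteCategory.congr_hom (limMap_π (C.d (k + 1) (k + 2)) (op n)) t
  simp only [ConcreteCategory.comp_apply] at h1
  refine h1.trans ?_
  rw [ht n]
  exact (y n).2

end Groth.Agent.H4Easy
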