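import Mathlib

/-! split filtrations are determined by their tensor powers -/

set_option autoImplicit false
set_option linter.style.haveILetI false

open DirectSum

universe u v w

namespace Groth.Agent.H4Easy


variable {Γ : Type w} [AddCommGroup Γ] [LinearOrder Γ] [IsOrderedAddMonoid Γ]
  {R : Type u} [CommRing R] {M : Type v} [AddCommGroup M] [Module R M]

omit [LinearOrder Γ] [IsOrderedAddMonoid Γ] in
/-- a product of functionals on a tensor in the k-th step of the tensor power filtration -/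
theorem prod_mem_of_tprod_mem_tensorFilt {k : ℕ} (F : Γ → Submodule R M) (γ : Γ)
    (ψ : Fin k → M →ₗ[R] R) (P : Ideal R)
    (hψ : ∀ c : Fin k → Γ, ∑ i, c i = γ → ∀ z : Fin k → M, (∀ i, z i ∈ F (c i)) →
      ∏ i, ψ i (z i) ∈ P)
    (x : Fin k → M)
    (hx : PiTensorProduct.tprod R x ∈ ⨆ c : {c : Fin k → Γ // ∑ i, c i = γ},
      LinearMap.range (PiTensorProduct.map (R := R) (fun i => (F (c.1 i)).subtype))) :
    ∏ i, ψ i (x i) ∈ P := by
  let L := PiTensorProduct.lift ((MultilinearMap.mkPiAlgebra R (Fin k) R).compLinearMap ψ)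
  have hL : ∀ z : Fin k → M, L (PiTensorProduct.tprod R z) = ∏ i, ψ i (z i) := fun z => by
    simp [L, PiTensorProduct.lift.tprod]
  have hle : (⨆ c : {c : Fin k → Γ // ∑ i, c i = γ},
      LinearMap.range (PiTensorProduct.map (R := R) (fun i => (F (c.1 i)).subtype))) ≤
      Submodule.comap L P := by
    refine iSup_le fun c => ?_
    rintro _ ⟨t, rfl⟩
    induction t using PiTensorProduct.induction_on with
    | smul_tprod r z =>
      rw [Submodule.mem_comap, map_smul, map_smul, PiTensorProduct.map_tprod, hL]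
      exact P.mul_mem_left r (hψ c.1 c.2 _ fun i => (z i).2)
    | add a b ha hb =>
      rw [map_add]
      exact add_mem ha hb
  simpa [hL] using hle hx

omit [AddCommGroup Γ] [IsOrderedAddMonoid Γ] in
theorem exists_finset_internal [Module.Finite R M] (G : Γ → Submodule R M)
    (hG : DirectSum.IsInternal G) : ∃ s : Finset Γ, ∀ γ ∉ s, G γ = ⊥ := by
  obtain ⟨s, hs⟩ := CompleteLattice.IsCompactElement.exists_finset_of_le_iSup _
    ((Submodule.fg_iff_compact ⊤).mp Module.Finite.fg_top) G hG.submodule_iSup_eq_top.ge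
  refine ⟨s, fun γ hγ => ?_⟩
  have hd := hG.submodule_iSupIndep γ
  rw [disjoint_iff] at hd
  rw [← hd, eq_comm, inf_eq_left]
  refine le_trans le_top (hs.trans ?_)
  refine iSup₂_le fun j hj => ?_
  exact le_iSup₂_of_le j (fun h => hγ (h ▸ hj)) le_rfl

theorem le_of_tensorFilt_eq [Module.Finite R M] [Module.Projective R M]
    (F₁ F₂ : Γ → Submodule R M)
    (G₁ : Γ → Submodule R M) (hG₁ : DirectSum.IsInternal G₁)
    (h₁ : ∀ γ, F₁ γ = ⨆ η ∈ Set.Ici γ, G₁ η)
    (G₂ : Γ → Submodule R M) (hG₂ : DirectSum.IsInternal G₂)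
    (h₂ : ∀ γ, F₂ γ = ⨆ η ∈ Set.Ici γ, G₂ η) (m : ℕ)
    (h : ∀ γ : Γ,
      (⨆ c : {c : Fin (m + 1) → Γ // ∑ i, c i = γ},
        LinearMap.range (PiTensorProduct.map (R := R) (fun i => (F₁ (c.1 i)).subtype))) =
      (⨆ c : {c : Fin (m + 1) → Γ // ∑ i, c i = γ},
        LinearMap.range (PiTensorProduct.map (R := R) (fun i => (F₂ (c.1 i)).subtype))))
    (γ : Γ) : F₁ γ ≤ F₂ γ := by
  classical
  have mem1 : ∀ {a b}, a ≤ b → G₁ b ≤ F₁ a := fun hab => by
    rw [h₁]; exact le_iSup₂_of_le _ hab le_rfl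
  have mem2 : ∀ {a b}, a ≤ b → G₂ b ≤ F₂ a := fun hab => by
    rw [h₂]; exact le_iSup₂_of_le _ hab le_rfl
  let e := LinearEquiv.ofBijective (DirectSum.coeLinearMap G₂) hG₂
  let π : Γ → M →ₗ[R] M := fun η =>
    (G₂ η).subtype ∘ₗ DirectSum.component R Γ (fun i => G₂ i) η ∘ₗ e.symm.toLinearMap
  have hπmem : ∀ η z, π η z ∈ G₂ η := fun η z => Subtype.coe_prop _
  have hπne : ∀ η θ, θ ≠ η → G₂ θ ≤ LinearMap.ker (π η) := by
    intro η θ hne z hz
    have : e.symm z = DirectSum.of (fun i => G₂ i) θ ⟨z, hz⟩ := by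
      rw [LinearEquiv.symm_apply_eq]
      exact (DirectSum.coeLinearMap_of G₂ θ ⟨z, hz⟩).symm
    change ((e.symm z) η : M) = 0
    rw [this, DirectSum.of_eq_of_ne _ _ _ hne.symm]
    rfl
  have hπsum : ∀ z, z = ∑ η ∈ (e.symm z).support, π η z := by
    intro z
    conv_lhs => rw [← e.apply_symm_apply z]
    rw [← DirectSum.sum_support_of (e.symm z)]
    rw [map_sum]
    refine Finset.sum_congr (by rw [DirectSum.sum_support_of]) fun η _ => ?_
    exact DirectSum.coeLinearMap_of G₂ η _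
  intro x hx
  rw [hπsum x]
  refine sum_mem fun η _ => ?_
  by_cases hγη : γ ≤ η
  · exact mem2 hγη (hπmem η x)
  push Not at hγη
  suffices π η x = 0 by rw [this]; exact zero_mem _
  -- the annihilator of the component is the unit ideal
  by_contra hne
  obtain ⟨P, hP, hle⟩ : ∃ P : Ideal R, P.IsMaximal ∧
      (Submodule.span R {π η x}).annihilator ≤ P := by
    refine Ideal.exists_le_maximal _ fun htop => hne ?_
    have : (1 : R) ∈ (Submodule.span R {π η x}).annihilator := by rw [htop]; trivial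
    rw [Submodule.mem_annihilator_span_singleton] at this
    simpa using this
  have hkill : ∀ s : R, s • π η x = 0 → s ∈ P := fun s hs =>
    hle ((Submodule.mem_annihilator_span_singleton _ _).mpr hs)
  obtain ⟨s₁, hs₁⟩ := exists_finset_internal G₁ hG₁
  by_cases hzero : ∀ (φ : M →ₗ[R] R) (z : M), φ z ∈ P
  · obtain ⟨sec, hsec⟩ := Module.Projective.out (R := R) (P := M)
    obtain ⟨r, hr1, hr⟩ := Submodule.exists_sub_one_mem_and_smul_eq_zero_of_fg_of_le_smul P
      (⊤ : Submodule R M) Module.Finite.fg_top (by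
        intro z _
        rw [← hsec z, Finsupp.linearCombination_apply]
        exact sum_mem fun i _ => Submodule.smul_mem_smul
          (hzero (Finsupp.lapply i ∘ₗ sec) z) trivial)
    have := hkill r (hr _ trivial)
    exact hP.ne_top ((Ideal.eq_top_iff_one _).mpr (by
      simpa using P.sub_mem this hr1))
  push Not at hzero
  obtain ⟨φ₀, z₀, hz₀⟩ := hzero
  have hex : ∃ δ ∈ s₁, ∃ φ : M →ₗ[R] R, ∃ y ∈ G₁ δ, φ y ∉ P := by
    by_contra hc
    push Not at hc
    refine hz₀ ?_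
    have : (⊤ : Submodule R M) ≤ Submodule.comap φ₀ P := by
      rw [← hG₁.submodule_iSup_eq_top]
      refine iSup_le fun δ => ?_
      by_cases hδ : δ ∈ s₁
      · exact fun y hy => hc δ hδ φ₀ y hy
      · rw [hs₁ δ hδ]; exact bot_le
    exact this trivial
  let S := s₁.filter fun δ => ∃ φ : M →ₗ[R] R, ∃ y ∈ G₁ δ, φ y ∉ P
  have hS : S.Nonempty := by
    obtain ⟨δ, h1, h2⟩ := hex
    exact ⟨δ, Finset.mem_filter.mpr ⟨h1, h2⟩⟩
  let δ := S.max' hS
  obtain ⟨φ, y, hy, hyP⟩ := (Finset.mem_filter.mp (S.max'_mem hS)).2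
  have high : ∀ (ψ : M →ₗ[R] R) (c : Γ), δ < c → F₁ c ≤ Submodule.comap ψ P := by
    intro ψ c hc
    rw [h₁]
    refine iSup₂_le fun θ hθ z hz => ?_
    by_contra hzP
    have hθs : θ ∈ s₁ := by
      by_contra hn
      rw [hs₁ θ hn, Submodule.mem_bot] at hz
      subst hz
      exact hzP (by simp)
    exact absurd (S.le_max' θ (Finset.mem_filter.mpr ⟨hθs, ψ, z, hz, hzP⟩))
      (not_le.mpr (lt_of_lt_of_le hc hθ))
  obtain ⟨δ', hδ'P⟩ : ∃ δ', φ (π δ' y) ∉ P := by
    by_contra hc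
    push Not at hc
    apply hyP
    rw [hπsum y, map_sum]
    exact sum_mem fun i _ => hc i
  have hδ' : δ' ≤ δ := by
    by_contra hlt
    push Not at hlt
    apply hδ'P
    have hmem : PiTensorProduct.tprod R (fun _ : Fin (m + 1) => π δ' y) ∈
        ⨆ c : {c : Fin (m + 1) → Γ // ∑ i, c i = (m + 1) • δ'},
          LinearMap.range (PiTensorProduct.map (R := R) (fun i => (F₁ (c.1 i)).subtype)) := by
      rw [h]
      refine Submodule.mem_iSup_of_mem ⟨fun _ => δ', by simp⟩
        ⟨PiTensorProduct.tprod R (fun _ => ⟨π δ' y, mem2 le_rfl (hπmem δ' y)⟩), ?_⟩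
      rw [PiTensorProduct.map_tprod]
      rfl
    have := prod_mem_of_tprod_mem_tensorFilt F₁ _ (fun _ => φ) P (fun c hc z hz => by
      obtain ⟨i, -, hi⟩ := Finset.exists_le_of_sum_le (s := Finset.univ)
        (Finset.univ_nonempty) (f := fun _ : Fin (m + 1) => δ') (g := c) (by simp [hc])
      exact P.prod_mem (Finset.mem_univ i) (high φ _ (lt_of_lt_of_le hlt hi) (hz i))) _ hmem
    rw [Finset.prod_const] at this
    exact hP.isPrime.mem_of_pow_mem _ this
  have key : ∀ χ : M →ₗ[R] R, χ ((φ (π δ' y)) ^ m • π η x) = 0 := by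
    intro χ
    have hmem : PiTensorProduct.tprod R (Fin.cons x (fun _ : Fin m => y) : Fin (m + 1) → M) ∈
        ⨆ c : {c : Fin (m + 1) → Γ // ∑ i, c i = γ + m • δ},
          LinearMap.range (PiTensorProduct.map (R := R) (fun i => (F₂ (c.1 i)).subtype)) := by
      rw [← h]
      refine Submodule.mem_iSup_of_mem ⟨Fin.cons γ (fun _ => δ), by simp [Fin.sum_univ_succ]⟩
        ⟨PiTensorProduct.tprod R (fun i => ⟨(Fin.cons x (fun _ : Fin m => y) : Fin (m + 1) → M) i,
          ?_⟩), ?_⟩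
      · refine Fin.cases ?_ (fun j => ?_) i
        · simpa using hx
        · simpa using mem1 le_rfl hy
      · rw [PiTensorProduct.map_tprod]
        rfl
    have := prod_mem_of_tprod_mem_tensorFilt F₂ _
      (Fin.cons (χ ∘ₗ π η) (fun _ => φ ∘ₗ π δ')) (⊥ : Ideal R) (fun c hc z hz => by
        have hvan : ∀ a b, a < b → F₂ b ≤ LinearMap.ker (π a) := by
          intro a b hab
          rw [h₂]
          exact iSup₂_le fun θ hθ => hπne a θ (lt_of_lt_of_le hab hθ).ne'
        obtain ⟨i, -, hi⟩ := Finset.exists_lt_of_sum_lt (s := Finset.univ)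
          (f := (Fin.cons η (fun _ => δ') : Fin (m + 1) → Γ)) (g := c) (by
            rw [hc, Fin.sum_univ_succ]
            simp only [Fin.cons_zero, Fin.cons_succ, Finset.sum_const, Finset.card_univ,
              Fintype.card_fin]
            exact add_lt_add_of_lt_of_le hγη (nsmul_le_nsmul_right hδ' m))
        refine Ideal.prod_mem _ (Finset.mem_univ i) ?_
        revert hi
        refine Fin.cases ?_ (fun j => ?_) i
        · intro hi
          simp only [Fin.cons_zero] at hi ⊢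
          simp [LinearMap.mem_ker.mp (hvan _ _ hi (hz 0))]
        · intro hi
          simp only [Fin.cons_succ] at hi ⊢
          simp [LinearMap.mem_ker.mp (hvan _ _ hi (hz j.succ))]) _ hmem
    rw [Ideal.mem_bot, Fin.prod_univ_succ] at this
    simp only [Fin.cons_zero, Fin.cons_succ, Finset.prod_const, Finset.card_univ,
      Fintype.card_fin, LinearMap.comp_apply] at this
    rw [map_smul, smul_eq_mul, mul_comm]
    exact this
  obtain ⟨sec, hsec⟩ := Module.Projective.out (R := R) (P := M)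
  have hzero' : (φ (π δ' y)) ^ m • π η x = 0 := by
    have : sec ((φ (π δ' y)) ^ m • π η x) = 0 := Finsupp.ext fun i =>
      key (Finsupp.lapply i ∘ₗ sec)
    rw [← hsec ((φ (π δ' y)) ^ m • π η x), this, map_zero]
  exact hδ'P (hP.isPrime.mem_of_pow_mem _ (hkill _ hzero'))

theorem filt_eq_of_tensorFilt_eq [Module.Finite R M] [Module.Projective R M]
    (F₁ F₂ : Γ → Submodule R M)
    (h₁ : ∃ G : Γ → Submodule R M, DirectSum.IsInternal G ∧ ∀ γ, F₁ γ = ⨆ η ∈ Set.Ici γ, G η)
    (h₂ : ∃ G : Γ → Submodule R M, DirectSum.IsInternal G ∧ ∀ γ, F₂ γ = ⨆ η ∈ Set.Ici γ, G η)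
    (k : ℕ) (hk : 1 ≤ k)
    (h : ∀ γ : Γ, (⨆ c : {c : Fin k → Γ // ∑ i, c i = γ},
        LinearMap.range (PiTensorProduct.map (R := R) (fun i => (F₁ (c.1 i)).subtype))) =
      (⨆ c : {c : Fin k → Γ // ∑ i, c i = γ},
        LinearMap.range (PiTensorProduct.map (R := R) (fun i => (F₂ (c.1 i)).subtype)))) :
    F₁ = F₂ := by
  obtain ⟨m, rfl⟩ : ∃ m, k = m + 1 := ⟨k - 1, by omega⟩
  obtain ⟨G₁, hG₁, e₁⟩ := h₁
  obtain ⟨G₂, hG₂, e₂⟩ := h₂
  funext γ
  exact le_antisymm (le_of_tensorFilt_eq F₁ F₂ G₁ hG₁ e₁ G₂ hG₂ e₂ m h γ)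
    (le_of_tensorFilt_eq F₂ F₁ G₂ hG₂ e₂ G₁ hG₁ e₁ m (fun γ => (h γ).symm) γ)

end Groth.Agent.H4Easy
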