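import Mathlib
import Groth.Prelude.Def_W4c1extbt610Disp
import Groth.Agent.DispLift.Dieud
import Groth.Agent.Hensel.Smooth

/-! 3n-displays from Dieudonne modules over perfect rings -/

set_option autoImplicit false
set_option linter.style.haveILetI false

open scoped TensorProduct
open Groth.Agent

universe u v

namespace Groth.Agent.H4Easy


theorem witt_p_smul_injective {p : ℕ} [Fact p.Prime] {k : Type u} [CommRing k] [CharP k p]
    [PerfectRing k p] {M : Type v} [AddCommGroup M] [Module (WittVector p k) M]
    [Module.Projective (WittVector p k) M] (m : M) (h : (p : WittVector p k) • m = 0) : m = 0 := by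
  obtain ⟨s, hs⟩ := Module.Projective.out (R := WittVector p k) (P := M)
  have hz : s m = 0 := by
    ext1 i
    have h1 : (p : WittVector p k) * s m i = 0 := by
      rw [← smul_eq_mul, ← Finsupp.smul_apply, ← map_smul, h, map_zero, Finsupp.zero_apply]
    rw [mul_comm, ← WittVector.frobenius_verschiebung] at h1
    have h2 : WittVector.verschiebung (s m i) = 0 :=
      (WittVector.frobenius_bijective p k).injective (by rw [h1, map_zero])
    refine WittVector.ext fun n => ?_
    have h3 := congrArg (fun z : WittVector p k => z.coeff (n + 1)) h2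
    simpa [WittVector.verschiebung_coeff_succ] using h3
  rw [← hs m, hz, map_zero]

theorem dieudonne_normal (p : ℕ) [Fact p.Prime] (k : Type u) [CommRing k] [CharP k p]
    [PerfectRing k p] (M : Type v) [AddCommGroup M] [Module (WittVector p k) M]
    [Module.Finite (WittVector p k) M] [Module.Projective (WittVector p k) M]
    (F : M →ₛₗ[(WittVector.frobenius : WittVector p k →+* WittVector p k)] M)
    (V : M →ₛₗ[((WittVector.frobeniusEquiv p k).symm : WittVector p k →+* WittVector p k)] M)
    (hFV : ∀ m : M, F (V m) = (p : WittVector p k) • m)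
    (hVF : ∀ m : M, V (F m) = (p : WittVector p k) • m) (Q : Submodule (WittVector p k) M)
    (hQ : (Q : Set M) = Set.range V) :
    ∃ L T : Submodule (WittVector p k) M, IsCompl L T ∧
      Q = L ⊔ Ideal.span {(p : WittVector p k)} • T := by
  classical
  set I := Ideal.span {(p : WittVector p k)}
  set N := I • (⊤ : Submodule (WittVector p k) M) with hN
  set U := Submodule.span ((WittVector p k) ⧸ I) (Set.range fun m : M => N.mkQ (V m))
  haveI : Module.Finite ((WittVector p k) ⧸ I) (M ⧸ N) :=
    Module.Finite.of_restrictScalars_finite (WittVector p k) _ _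
  haveI hproj : Module.Projective ((WittVector p k) ⧸ I) ((M ⧸ N) ⧸ U) :=
    DispLift.coker_projective (A := WittVector p k) F V
      (fun x => ⟨x, rfl⟩) (fun x hx => by
        simp only [RingHom.mem_ker, Algebra.algebraMap_self, RingHom.id_apply] at hx
        simp [hx]) hFV hVF
  obtain ⟨n, π₀, hπ₀⟩ := Module.Finite.exists_fin' ((WittVector p k) ⧸ I) ((M ⧸ N) ⧸ U)
  obtain ⟨s₀, hs₀⟩ := Module.projective_lifting_property π₀ LinearMap.id hπ₀
  have hs₀i : Function.Injective s₀ := Function.LeftInverse.injective (LinearMap.congr_fun hs₀)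
  let E := LinearEquiv.ofInjective s₀ hs₀i
  haveI : Module.Projective ((WittVector p k) ⧸ I) (LinearMap.range s₀) :=
    Module.Projective.of_equiv E
  obtain ⟨T, _, _, hTf, hTp, ⟨e⟩⟩ :=
    Hensel.exists_projective_lift (I := I) (LinearMap.range s₀)
  let qT : T →ₗ[WittVector p k] ((M ⧸ N) ⧸ U) :=
    ((e.trans E.symm).restrictScalars (WittVector p k)).toLinearMap ∘ₗ
      TensorProduct.mk (WittVector p k) ((WittVector p k) ⧸ I) T 1
  have hqT : Function.Surjective qT :=
    ((e.trans E.symm).surjective).comp
      (TensorProduct.mk_surjective _ T _ Ideal.Quotient.mk_surjective)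
  have hqTker : ∀ t : T, qT t = 0 → t ∈ I • (⊤ : Submodule (WittVector p k) T) := by
    intro t ht
    have h1 : (1 : (WittVector p k) ⧸ I) ⊗ₜ[WittVector p k] t = 0 :=
      (e.trans E.symm).injective (ht.trans (map_zero _).symm)
    have h2 := congrArg (TensorProduct.quotTensorEquivQuotSMul T I) h1
    rw [← map_one (Ideal.Quotient.mk I), TensorProduct.quotTensorEquivQuotSMul_mk_tmul, one_smul,
      map_zero, Submodule.Quotient.mk_eq_zero] at h2
    exact h2
  let qM : M →ₗ[WittVector p k] ((M ⧸ N) ⧸ U) := (U.mkQ.restrictScalars _) ∘ₗ N.mkQ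
  have hqM : Function.Surjective qM := (U.mkQ_surjective).comp N.mkQ_surjective
  have hqMker : ∀ x : M, qM x = 0 → x ∈ Q := by
    intro x hx
    have hmem : N.mkQ x ∈ U := (Submodule.Quotient.mk_eq_zero U).mp hx
    have h : U.restrictScalars (WittVector p k) =
        (Submodule.span (WittVector p k) (Set.range V)).map N.mkQ := by
      rw [Submodule.map_span, ← Set.range_comp, ← Submodule.restrictScalars_span (WittVector p k)
        ((WittVector p k) ⧸ I) Ideal.Quotient.mk_surjective]
      rfl
    rw [← Submodule.restrictScalars_mem (WittVector p k) U, h, ← Submodule.mem_comap,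
      Submodule.comap_map_mkQ] at hmem
    refine (sup_le ?_ ?_ : N ⊔ Submodule.span (WittVector p k) (Set.range V) ≤ Q) hmem
    · rw [hN]
      refine Submodule.smul_le.mpr fun r hr m _ => ?_
      obtain ⟨c, rfl⟩ := Ideal.mem_span_singleton'.mp hr
      rw [mul_smul]
      refine Q.smul_mem c ?_
      rw [← SetLike.mem_coe, hQ]
      exact ⟨F m, hVF m⟩
    · rw [Submodule.span_le, hQ]
  obtain ⟨π, hπ⟩ := Module.projective_lifting_property qT qM hqT
  have hπs : Function.Surjective π := by
    rw [← LinearMap.range_eq_top, ← top_le_iff]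
    refine Submodule.le_of_le_smul_of_le_jacobson_bot (I := I) Module.Finite.fg_top
      (IsAdicComplete.le_jacobson_bot I) fun t _ => ?_
    obtain ⟨x, hx⟩ := hqM (qT t)
    refine Submodule.mem_sup.mpr ⟨π x, ⟨x, rfl⟩, t - π x, hqTker _ ?_, by abel⟩
    rw [map_sub, ← LinearMap.comp_apply, hπ, hx, sub_self]
  obtain ⟨s, hs⟩ := Module.projective_lifting_property π LinearMap.id hπs
  have hps : ∀ t, π (s t) = t := LinearMap.congr_fun hs
  have hLQ : LinearMap.ker π ≤ Q := fun x hx => hqMker x (by
    rw [← hπ, LinearMap.comp_apply, LinearMap.mem_ker.mp hx, map_zero])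
  have hNQ : N ≤ Q := fun x hx => hqMker x (by
    change U.mkQ (N.mkQ x) = 0
    rw [(Submodule.Quotient.mk_eq_zero N).mpr hx |> fun h : N.mkQ x = 0 => h, map_zero])
  refine ⟨LinearMap.ker π, LinearMap.range s, ?_, le_antisymm ?_ (sup_le hLQ ?_)⟩
  · constructor
    · rw [Submodule.disjoint_def]
      rintro _ hx ⟨t, rfl⟩
      rw [LinearMap.mem_ker, hps] at hx
      rw [hx, map_zero]
    · rw [codisjoint_iff, eq_top_iff]
      exact fun x _ => Submodule.mem_sup.mpr
        ⟨x - s (π x), by simp [hps], s (π x), ⟨_, rfl⟩, sub_add_cancel _ _⟩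
  · intro x hx
    refine Submodule.mem_sup.mpr ⟨x - s (π x), by simp [hps], s (π x), ?_, sub_add_cancel _ _⟩
    have hq0 : qT (π x) = 0 := by
      rw [← LinearMap.comp_apply, hπ]
      rw [← SetLike.mem_coe, hQ] at hx
      obtain ⟨m, rfl⟩ := hx
      exact (Submodule.Quotient.mk_eq_zero U).mpr (Submodule.subset_span ⟨m, rfl⟩)
    have := Submodule.mem_map_of_mem (f := s) (hqTker _ hq0)
    rwa [Submodule.map_smul'', Submodule.map_top] at this
  · exact (Submodule.smul_mono le_rfl le_top).trans hNQ

theorem exists_display_of_dieudonne (p : ℕ) [Fact p.Prime] (k : Type u) [CommRing k] [CharP k p]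
    [PerfectRing k p] (M : Type v) [AddCommGroup M] [Module (WittVector p k) M]
    [Module.Finite (WittVector p k) M] [Module.Projective (WittVector p k) M]
    (F : M →ₛₗ[(WittVector.frobenius : WittVector p k →+* WittVector p k)] M)
    (V : M →ₛₗ[((WittVector.frobeniusEquiv p k).symm : WittVector p k →+* WittVector p k)] M)
    (hFV : ∀ m : M, F (V m) = (p : WittVector p k) • m)
    (hVF : ∀ m : M, V (F m) = (p : WittVector p k) • m) :
    ∃ D : W4c1extbt610.Display3n p k M, D.F = F ∧ (∀ x : M, x ∈ D.Q ↔ x ∈ Set.range V) ∧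
      ∀ (m : M) (h : V m ∈ D.Q), D.Vinv ⟨V m, h⟩ = m := by
  classical
  have Vinj : Function.Injective V := fun a b h => by
    refine sub_eq_zero.mp (witt_p_smul_injective (p := p) (k := k) _ ?_)
    rw [← hFV, map_sub, h, sub_self, map_zero]
  have hσ : ∀ c : WittVector p k,
      ((WittVector.frobeniusEquiv p k).symm : WittVector p k →+* WittVector p k)
        (WittVector.frobenius c) = c := fun c => by
    rw [RingHom.coe_coe, ← WittVector.frobeniusEquiv_apply, RingEquiv.symm_apply_apply]
  let Q : Submodule (WittVector p k) M :=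
    { carrier := Set.range V
      add_mem' := by rintro _ _ ⟨a, rfl⟩ ⟨b, rfl⟩; exact ⟨a + b, map_add _ _ _⟩
      zero_mem' := ⟨0, map_zero _⟩
      smul_mem' := by
        rintro c _ ⟨a, rfl⟩
        exact ⟨WittVector.frobenius c • a, by rw [V.map_smulₛₗ, hσ]⟩ }
  have hIV : W4c1extbt610.IV p k = Ideal.span {(p : WittVector p k)} := by
    have hV : ∀ w : WittVector p k, WittVector.verschiebung w =
        (WittVector.frobeniusEquiv p k).symm w * p := fun w => by
      apply (WittVector.frobenius_bijective p k).injective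
      rw [WittVector.frobenius_verschiebung, map_mul, map_natCast, ← WittVector.frobeniusEquiv_apply,
        RingEquiv.apply_symm_apply]
    refine le_antisymm (Ideal.span_le.mpr ?_) (Ideal.span_le.mpr ?_)
    · rintro _ ⟨w, rfl⟩
      exact Ideal.mem_span_singleton'.mpr ⟨_, (hV w).symm⟩
    · rw [Set.singleton_subset_iff]
      exact Ideal.subset_span ⟨1, by rw [hV, map_one, one_mul]⟩
  let g : Q → M := fun y => y.2.choose
  have hg : ∀ y : Q, V (g y) = y := fun y => y.2.choose_spec
  let Vi : Q →ₛₗ[(WittVector.frobenius : WittVector p k →+* WittVector p k)] M :=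
    { toFun := g
      map_add' := fun a b => Vinj (by rw [map_add, hg, hg, hg]; rfl)
      map_smul' := fun c a => Vinj (by rw [V.map_smulₛₗ, hσ, hg, hg]; rfl) }
  obtain ⟨L, T, hLT, hQ⟩ := dieudonne_normal p k M F V hFV hVF Q rfl
  refine ⟨{ Q := Q, F := F, Vinv := Vi, finite := inferInstance, projective := inferInstance,
            IV_smul_le := ?_, exists_normal := ⟨L, T, hLT, by rw [hIV]; exact hQ⟩,
            span_range_Vinv := ?_, Vinv_verschiebung_smul := ?_ }, rfl, fun x => Iff.rfl, ?_⟩
  · rw [hIV]
    refine Submodule.smul_le.mpr fun r hr m _ => ?_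
    obtain ⟨c, rfl⟩ := Ideal.mem_span_singleton'.mp hr
    rw [mul_smul]
    exact Q.smul_mem c ⟨F m, hVF m⟩
  · rw [eq_top_iff]
    exact fun m _ => Submodule.subset_span ⟨⟨V m, m, rfl⟩, Vinj (hg _)⟩
  · intro w x
    apply Vinj
    refine (hg _).trans ?_
    change WittVector.verschiebung w • x = V (w • F x)
    rw [V.map_smulₛₗ, hVF, ← mul_smul, RingHom.coe_coe]
    congr 1
    apply (WittVector.frobenius_bijective p k).injective
    rw [WittVector.frobenius_verschiebung, map_mul, map_natCast, ← WittVector.frobeniusEquiv_apply,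
      RingEquiv.apply_symm_apply]
  · intro m h
    exact Vinj (hg _)

end Groth.Agent.H4Easy
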