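import Mathlib
import Groth.Prelude.Def_W4c1extbt610Disp
import Groth.Agent.Hensel.Smooth

/-! Witt vectors of p-complete rings are complete along I and p; normal decompositions exist -/

set_option autoImplicit false
set_option linter.style.haveILetI false

open scoped TensorProduct
open Groth.Agent

universe u v

namespace Groth.Agent.H4Easy


variable {p : ℕ} [Fact p.Prime] {R : Type u} [CommRing R]

/-- In a fixed coefficient, large powers of `p` kill Witt vectors of a ring in which `p` is
nilpotent. -/
theorem witt_pow_p_coeff_eq_zero {S : Type u} [CommRing S] {m : ℕ} (hm : (p : S) ^ m = 0) (k : ℕ) :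
    ∃ N : ℕ, ∀ n, N ≤ n → ∀ x : WittVector p S, ∀ i < k,
      ((p : WittVector p S) ^ n * x).coeff i = 0 := by
  suffices h : ∀ x : WittVector p S, ∀ i < k, ((p : WittVector p S) ^ (k * m) * x).coeff i = 0 by
    refine ⟨k * m, fun n hn x i hi => ?_⟩
    rw [← Nat.sub_add_cancel hn, pow_add, mul_comm _ (_ ^ (k * m)), mul_assoc]
    exact h _ i hi
  intro x
  induction k generalizing x with
  | zero => exact fun i hi => absurd hi (Nat.not_lt_zero i)
  | succ k ih =>
    intro i hi
    set y := (p : WittVector p S) ^ (k * m) * x with hy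
    have hv : ∀ j < k, y.coeff j = 0 := ih x
    obtain ⟨z, hz⟩ : ∃ z, y = WittVector.verschiebung^[k] z :=
      ⟨y.shift k, WittVector.eq_iterate_verschiebung hv⟩
    have hps : (p : WittVector p S) ^ m * y =
        WittVector.verschiebung^[k] ((p : WittVector p S) ^ m * z) := by
      rw [hz, ← Nat.cast_pow, ← nsmul_eq_mul, ← nsmul_eq_mul, iterate_map_nsmul]
    have : (p : WittVector p S) ^ ((k + 1) * m) * x = (p : WittVector p S) ^ m * y := by
      rw [hy, ← mul_assoc, ← pow_add]; ring_nf
    rw [this, hps]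
    rcases Nat.lt_succ_iff_lt_or_eq.mp hi with h | rfl
    · exact WittVector.iterate_verschiebung_coeff_eq_zero _ h
    · have := WittVector.iterate_verschiebung_coeff ((p : WittVector p S) ^ m * z) i 0
      rw [zero_add] at this
      rw [this]
      rw [← WittVector.constantCoeff_apply, map_mul, map_pow, map_natCast, hm, zero_mul]

/-- the reduction map on Witt vectors modulo a power of p -/
noncomputable def wittRed (p : ℕ) [Fact p.Prime] (R : Type u) [CommRing R] (m : ℕ) :
    WittVector p R →+* WittVector p (R ⧸ Ideal.span {(p : R)} ^ m) :=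
  WittVector.map (Ideal.Quotient.mk _)

theorem witt_exists_bound (m k : ℕ) : ∃ N : ℕ, ∀ n, N ≤ n →
    ∀ x : WittVector p (R ⧸ Ideal.span {(p : R)} ^ m), ∀ i < k,
      ((p : WittVector p _) ^ n * x).coeff i = 0 := by
  refine witt_pow_p_coeff_eq_zero (m := m) ?_ k
  rw [← map_natCast (Ideal.Quotient.mk (Ideal.span {(p : R)} ^ m)), ← map_pow,
    Ideal.Quotient.eq_zero_iff_mem, Ideal.span_singleton_pow]
  exact Ideal.mem_span_singleton_self _

/-- a p-adic Cauchy sequence of Witt vectors is eventually constant in each coefficient -/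
theorem witt_red_coeff_stable (m k : ℕ) : ∃ N : ℕ, ∀ a b : WittVector p R, ∀ n, N ≤ n →
    a - b ∈ Ideal.span {(p : WittVector p R)} ^ n →
      (wittRed p R m a).coeff k = (wittRed p R m b).coeff k := by
  obtain ⟨N, hN⟩ := witt_exists_bound (p := p) (R := R) m (k + 1)
  refine ⟨N, fun a b n hn h => ?_⟩
  rw [Ideal.span_singleton_pow] at h
  obtain ⟨c, hc⟩ := Ideal.mem_span_singleton'.mp h
  have ha : a = b + (p : WittVector p R) ^ n * c := by rw [mul_comm, hc]; abel
  have hz : ∀ i < k + 1, ((p : WittVector p (R ⧸ Ideal.span {(p : R)} ^ m)) ^ n *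
      wittRed p R m c).coeff i = 0 := hN n hn _
  rw [ha, map_add, map_mul, map_pow, map_natCast]
  have ht : WittVector.truncate (k + 1)
      ((p : WittVector p (R ⧸ Ideal.span {(p : R)} ^ m)) ^ n * wittRed p R m c) = 0 := by
    rw [← RingHom.mem_ker, WittVector.mem_ker_truncate]
    exact hz
  have h2 := congrArg (fun w => TruncatedWittVector.coeff (⟨k, k.lt_succ_self⟩ : Fin (k + 1)) w)
    (map_add (WittVector.truncate (k + 1)) (wittRed p R m b)
      ((p : WittVector p (R ⧸ Ideal.span {(p : R)} ^ m)) ^ n * wittRed p R m c))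
  rw [ht, add_zero] at h2
  rw [WittVector.coeff_truncate, WittVector.coeff_truncate] at h2
  exact h2

theorem witt_eq_of_red [IsHausdorff (Ideal.span {(p : R)}) R] {a b : WittVector p R}
    (h : ∀ m, wittRed p R m a = wittRed p R m b) : a = b := by
  refine WittVector.ext fun k => sub_eq_zero.mp ?_
  refine IsHausdorff.haus' (I := Ideal.span {(p : R)}) _ fun m => ?_
  rw [SModEq.zero, smul_eq_mul, Ideal.mul_top]
  rw [← Ideal.Quotient.eq]
  have := congrArg (fun w => w.coeff k) (h m)
  simpa [wittRed, WittVector.map_coeff] using this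

theorem witt_exists_limit [IsAdicComplete (Ideal.span {(p : R)}) R] (f : ℕ → WittVector p R)
    (hf : ∀ n n', n ≤ n' → f n' - f n ∈ Ideal.span {(p : WittVector p R)} ^ n) :
    ∃ g : WittVector p R, ∀ m k, ∃ N, ∀ n, N ≤ n →
      (wittRed p R m g).coeff k = (wittRed p R m (f n)).coeff k := by
  have hk : ∀ k, ∃ L : R, ∀ m, ∃ N, ∀ n, N ≤ n →
      Ideal.Quotient.mk (Ideal.span {(p : R)} ^ m) L = (wittRed p R m (f n)).coeff k := by
    intro k
    choose N₀ hN₀ using fun m => witt_red_coeff_stable (p := p) (R := R) m k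
    let N : ℕ → ℕ := fun m => (Finset.range (m + 1)).sup N₀
    have hNle : ∀ m, N₀ m ≤ N m := fun m => Finset.le_sup (Finset.self_mem_range_succ m)
    have hNmono : ∀ a b, a ≤ b → N a ≤ N b := fun a b hab =>
      Finset.sup_mono (Finset.range_mono (by omega))
    have hst : ∀ m n, N m ≤ n → Ideal.Quotient.mk (Ideal.span {(p : R)} ^ m) ((f n).coeff k) =
        Ideal.Quotient.mk (Ideal.span {(p : R)} ^ m) ((f (N m)).coeff k) := fun m n hn =>
      hN₀ m (f n) (f (N m)) (N m) (hNle m) (hf _ _ hn)
    obtain ⟨L, hL⟩ := IsPrecomplete.prec' (I := Ideal.span {(p : R)})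
      (fun m => (f (N m)).coeff k) (fun {a b} hab => by
        rw [SModEq.sub_mem, smul_eq_mul, Ideal.mul_top, ← Ideal.Quotient.eq]
        exact (hst a _ (hNmono a b hab)).symm)
    refine ⟨L, fun m => ⟨N m, fun n hn => ?_⟩⟩
    have h1 := hL m
    rw [SModEq.sub_mem, smul_eq_mul, Ideal.mul_top, ← Ideal.Quotient.eq] at h1
    rw [← h1]
    exact (hst m n hn).symm
  choose L hL using hk
  exact ⟨WittVector.mk p L, fun m k => hL k m⟩

theorem witt_isAdicComplete_p [IsAdicComplete (Ideal.span {(p : R)}) R] :
    IsAdicComplete (Ideal.span {(p : WittVector p R)}) (WittVector p R) where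
  haus' x hx := by
    refine witt_eq_of_red fun m => WittVector.ext fun k => ?_
    obtain ⟨N, hN⟩ := witt_red_coeff_stable (p := p) (R := R) m k
    have := hx N
    rw [SModEq.zero, smul_eq_mul, Ideal.mul_top] at this
    exact hN x 0 N le_rfl (by rwa [sub_zero])
  prec' f hf := by
    have hf' : ∀ n n', n ≤ n' → f n' - f n ∈ Ideal.span {(p : WittVector p R)} ^ n :=
      fun n n' h => by
        have := hf h
        rw [SModEq.sub_mem, smul_eq_mul, Ideal.mul_top] at this
        simpa using neg_mem this
    obtain ⟨g, hg⟩ := witt_exists_limit f hf'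
    refine ⟨g, fun n => ?_⟩
    rw [SModEq.sub_mem, smul_eq_mul, Ideal.mul_top, Ideal.span_singleton_pow,
      Ideal.mem_span_singleton']
    have hy : ∀ j, ∃ y, y * (p : WittVector p R) ^ j = f (j + 1) - f j := fun j => by
      have := hf' j (j + 1) (Nat.le_succ j)
      rwa [Ideal.span_singleton_pow, Ideal.mem_span_singleton'] at this
    choose y hy using hy
    let s : ℕ → WittVector p R := fun M =>
      ∑ j ∈ Finset.range M, (p : WittVector p R) ^ j * y (n + j)
    have hs : ∀ M, f (n + M) - f n = (p : WittVector p R) ^ n * s M := by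
      intro M
      induction M with
      | zero => simp [s]
      | succ M ih =>
        simp only [s, Finset.sum_range_succ, mul_add]
        rw [← ih, ← mul_assoc, ← pow_add, mul_comm, hy, ← Nat.add_assoc]
        abel
    obtain ⟨h, hh⟩ := witt_exists_limit s (fun a b hab => by
      simp only [s]
      rw [← Finset.sum_Ico_eq_sub _ hab]
      refine sum_mem fun j hj => Ideal.mul_mem_right _ _ ?_
      rw [Ideal.span_singleton_pow, Ideal.mem_span_singleton]
      exact pow_dvd_pow _ (Finset.mem_Ico.mp hj).1)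
    refine ⟨-h, ?_⟩
    have key : g = f n + (p : WittVector p R) ^ n * h := by
      refine witt_eq_of_red fun m => WittVector.ext fun k => ?_
      obtain ⟨N₁, hN₁⟩ := hg m k
      have hh' : ∀ i, ∃ N, ∀ M, N ≤ M →
          (wittRed p R m h).coeff i = (wittRed p R m (s M)).coeff i := fun i => hh m i
      choose N₂ hN₂ using hh'
      let M := max N₁ ((Finset.range (k + 1)).sup N₂)
      have ht : WittVector.truncate (k + 1) (wittRed p R m h) =
          WittVector.truncate (k + 1) (wittRed p R m (s M)) := by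
        ext i
        simp only [WittVector.coeff_truncate]
        exact hN₂ i M (le_trans (Finset.le_sup (Finset.mem_range.mpr i.2)) (le_max_right _ _))
      rw [hN₁ (n + M) (le_trans (le_max_left _ _) (Nat.le_add_left _ _)),
        show f (n + M) = f n + (p : WittVector p R) ^ n * s M by rw [← hs]; abel]
      have h2 : WittVector.truncate (k + 1) (wittRed p R m (f n + (p : WittVector p R) ^ n * s M)) =
          WittVector.truncate (k + 1) (wittRed p R m (f n + (p : WittVector p R) ^ n * h)) := by
        simp only [map_add, map_mul, ht]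
      have h3 := congrArg
        (fun w => TruncatedWittVector.coeff (⟨k, k.lt_succ_self⟩ : Fin (k + 1)) w) h2
      simpa only [WittVector.coeff_truncate] using h3
    rw [key]
    ring

theorem witt_IV_pow (n : ℕ) (x : WittVector p R) :
    x ∈ W4c1extbt610.IV p R ^ (n + 1) ↔
      ∃ y, x = WittVector.verschiebung ((p : WittVector p R) ^ n * y) := by
  induction n generalizing x with
  | zero =>
    simp only [zero_add, pow_one, pow_zero, one_mul]
    constructor
    · intro h
      induction h using Submodule.span_induction with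
      | mem a ha => obtain ⟨y, rfl⟩ := ha; exact ⟨y, rfl⟩
      | zero => exact ⟨0, (map_zero _).symm⟩
      | add a b _ _ ha hb =>
        obtain ⟨y, rfl⟩ := ha
        obtain ⟨z, rfl⟩ := hb
        exact ⟨y + z, (map_add _ _ _).symm⟩
      | smul c a _ ha =>
        obtain ⟨y, rfl⟩ := ha
        exact ⟨y * WittVector.frobenius c, by
          rw [smul_eq_mul, mul_comm, WittVector.verschiebung_mul_frobenius]⟩
    · rintro ⟨y, rfl⟩
      exact W4c1extbt610.verschiebung_mem_IV p R y
  | succ n ih =>
    constructor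
    · intro h
      rw [pow_succ] at h
      refine Submodule.mul_induction_on h (fun a ha b hb => ?_) ?_
      · obtain ⟨y, rfl⟩ := (ih a).mp ha
        obtain ⟨z, rfl⟩ : ∃ z, b = WittVector.verschiebung z := by
          induction hb using Submodule.span_induction with
          | mem a ha => obtain ⟨y, rfl⟩ := ha; exact ⟨y, rfl⟩
          | zero => exact ⟨0, (map_zero _).symm⟩
          | add a b _ _ ha hb =>
            obtain ⟨y, rfl⟩ := ha
            obtain ⟨z, rfl⟩ := hb
            exact ⟨y + z, (map_add _ _ _).symm⟩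
          | smul c a _ ha =>
            obtain ⟨y, rfl⟩ := ha
            exact ⟨y * WittVector.frobenius c, by
              rw [smul_eq_mul, mul_comm, WittVector.verschiebung_mul_frobenius]⟩
        refine ⟨y * z, ?_⟩
        rw [← WittVector.verschiebung_mul_frobenius, WittVector.frobenius_verschiebung]
        ring_nf
      · rintro a b ⟨y, rfl⟩ ⟨z, rfl⟩
        exact ⟨y + z, by rw [mul_add, map_add]⟩
    · rintro ⟨y, rfl⟩
      have h1 : (p : WittVector p R) ^ (n + 1) * y =
          ((p : WittVector p R) ^ n * y) * WittVector.frobenius (WittVector.verschiebung 1) := by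
        rw [WittVector.frobenius_verschiebung, one_mul]; ring
      rw [h1, WittVector.verschiebung_mul_frobenius, pow_succ]
      exact Ideal.mul_mem_mul ((ih _).mpr ⟨y, rfl⟩) (W4c1extbt610.verschiebung_mem_IV p R 1)

theorem witt_isAdicComplete_IV [IsAdicComplete (Ideal.span {(p : R)}) R] :
    IsAdicComplete (W4c1extbt610.IV p R) (WittVector p R) := by
  have hc := witt_isAdicComplete_p (p := p) (R := R)
  have hinj : Function.Injective (WittVector.verschiebung : WittVector p R → WittVector p R) :=
    fun a b h => WittVector.ext fun k => by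
      have := congrArg (fun w : WittVector p R => w.coeff (k + 1)) h
      simpa [WittVector.verschiebung_coeff_succ] using this
  refine { haus' := ?_, prec' := ?_ }
  · intro x hx
    have h1 : ∀ n, x ∈ W4c1extbt610.IV p R ^ (n + 1) := fun n => by
      have := hx (n + 1)
      rwa [SModEq.zero, smul_eq_mul, Ideal.mul_top] at this
    obtain ⟨y, hy⟩ := (witt_IV_pow 0 x).mp (h1 0)
    rw [pow_zero, one_mul] at hy
    suffices y = 0 by rw [hy, this, map_zero]
    refine IsHausdorff.haus' (I := Ideal.span {(p : WittVector p R)}) y fun n => ?_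
    rw [SModEq.zero, smul_eq_mul, Ideal.mul_top, Ideal.span_singleton_pow, Ideal.mem_span_singleton']
    obtain ⟨z, hz⟩ := (witt_IV_pow n x).mp (h1 n)
    exact ⟨z, by rw [mul_comm]; exact hinj (by rw [← hz, hy])⟩
  · intro f hf
    have hf' : ∀ n n', n ≤ n' → f n - f n' ∈ W4c1extbt610.IV p R ^ n := fun n n' h => by
      have := hf h
      rwa [SModEq.sub_mem, smul_eq_mul, Ideal.mul_top] at this
    have hg : ∀ n, ∃ g, f (n + 1) - f 1 = WittVector.verschiebung g := fun n => by
      obtain ⟨y, hy⟩ := (witt_IV_pow 0 _).mp (hf' 1 (n + 1) (by omega))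
      exact ⟨-y, by rw [map_neg]; rw [pow_zero, one_mul] at hy; rw [← hy]; abel⟩
    choose g hg using hg
    obtain ⟨L, hL⟩ := IsPrecomplete.prec' (I := Ideal.span {(p : WittVector p R)}) g
      (fun {a b} hab => by
        rw [SModEq.sub_mem, smul_eq_mul, Ideal.mul_top, Ideal.span_singleton_pow,
          Ideal.mem_span_singleton']
        obtain ⟨z, hz⟩ := (witt_IV_pow a _).mp (hf' (a + 1) (b + 1) (by omega))
        refine ⟨z, ?_⟩
        rw [mul_comm]
        refine hinj ?_
        rw [← hz, map_sub, ← hg, ← hg]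
        abel)
    refine ⟨f 1 + WittVector.verschiebung L, fun n => ?_⟩
    rw [SModEq.sub_mem, smul_eq_mul, Ideal.mul_top]
    rcases n with _ | n
    · simp
    · refine (witt_IV_pow n _).mpr ?_
      have := hL n
      rw [SModEq.sub_mem, smul_eq_mul, Ideal.mul_top, Ideal.span_singleton_pow,
        Ideal.mem_span_singleton'] at this
      obtain ⟨z, hz⟩ := this
      exact ⟨z, by rw [mul_comm, hz, map_sub, ← hg]; abel⟩

theorem exists_normal_of_complement (p : ℕ) [Fact p.Prime] (R : Type u) [CommRing R]
    [IsAdicComplete (Ideal.span {(p : R)}) R] (P : Type v) [AddCommGroup P]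
    [Module (WittVector p R) P] [Module.Finite (WittVector p R) P]
    [Module.Projective (WittVector p R) P] (Q : Submodule (WittVector p R) P)
    (hQ : ∃ C : Submodule (WittVector p R) P, Q ⊔ C = ⊤ ∧
      Q ⊓ C = W4c1extbt610.IV p R • (⊤ : Submodule (WittVector p R) P)) :
    ∃ L T : Submodule (WittVector p R) P, IsCompl L T ∧ Q = L ⊔ W4c1extbt610.IV p R • T := by
  classical
  obtain ⟨C, hsup, hinf⟩ := hQ
  have := witt_isAdicComplete_IV (p := p) (R := R)
  set I := W4c1extbt610.IV p R
  set N := I • (⊤ : Submodule (WittVector p R) P) with hN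
  haveI : Module.Finite (WittVector p R ⧸ I) (P ⧸ N) :=
    Module.Finite.of_restrictScalars_finite (WittVector p R) _ _
  haveI hPN : Module.Projective (WittVector p R ⧸ I) (P ⧸ N) :=
    Module.Projective.of_equiv
      (LinearEquiv.extendScalarsOfSurjective (R := WittVector p R) (S := WittVector p R ⧸ I)
        Ideal.Quotient.mk_surjective (TensorProduct.quotTensorEquivQuotSMul P I))
  have hNQ : N ≤ Q := hinf ▸ inf_le_left
  have hNC : N ≤ C := hinf ▸ inf_le_right
  have hext : ∀ S : Submodule (WittVector p R) P, ∃ S' : Submodule (WittVector p R ⧸ I) (P ⧸ N),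
      ∀ x : P, N.mkQ x ∈ S' ↔ x ∈ N ⊔ S := fun S => by
    refine ⟨Submodule.span (WittVector p R ⧸ I) (S.map N.mkQ : Set (P ⧸ N)), fun x => ?_⟩
    rw [← Submodule.restrictScalars_mem (WittVector p R), Submodule.restrictScalars_span _ _
      Ideal.Quotient.mk_surjective, Submodule.span_eq, ← Submodule.mem_comap,
      Submodule.comap_map_mkQ]
  obtain ⟨U, hU⟩ := hext Q
  obtain ⟨C', hC'⟩ := hext C
  have hUQ : ∀ x, N.mkQ x ∈ U ↔ x ∈ Q := fun x => by rw [hU, sup_eq_right.mpr hNQ]
  have hCC : ∀ x, N.mkQ x ∈ C' ↔ x ∈ C := fun x => by rw [hC', sup_eq_right.mpr hNC]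
  have hcompl : IsCompl U C' := by
    constructor
    · rw [Submodule.disjoint_def]
      intro z hz hz'
      obtain ⟨x, rfl⟩ := N.mkQ_surjective z
      exact (Submodule.Quotient.mk_eq_zero N).mpr
        (hinf.le ⟨(hUQ x).mp hz, (hCC x).mp hz'⟩)
    · rw [codisjoint_iff, eq_top_iff]
      intro z _
      obtain ⟨x, rfl⟩ := N.mkQ_surjective z
      obtain ⟨a, ha, b, hb, rfl⟩ := Submodule.mem_sup.mp (hsup.ge (Submodule.mem_top (x := x)))
      exact Submodule.mem_sup.mpr ⟨N.mkQ a, (hUQ a).mpr ha, N.mkQ b, (hCC b).mpr hb,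
        (map_add _ _ _).symm⟩
  haveI : Module.Projective (WittVector p R ⧸ I) C' :=
    Module.Projective.of_split C'.subtype (C'.projectionOnto U hcompl.symm)
      (LinearMap.ext fun z => by simp)
  haveI : Module.Projective (WittVector p R ⧸ I) ((P ⧸ N) ⧸ U) :=
    Module.Projective.of_equiv (Submodule.quotientEquivOfIsCompl U C' hcompl).symm
  obtain ⟨n, π₀, hπ₀⟩ := Module.Finite.exists_fin' (WittVector p R ⧸ I) ((P ⧸ N) ⧸ U)
  obtain ⟨s₀, hs₀⟩ := Module.projective_lifting_property π₀ LinearMap.id hπ₀
  let E := LinearEquiv.ofInjective s₀ (Function.LeftInverse.injective (LinearMap.congr_fun hs₀))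
  haveI : Module.Projective (WittVector p R ⧸ I) (LinearMap.range s₀) :=
    Module.Projective.of_equiv E
  obtain ⟨T, _, _, hTf, hTp, ⟨e⟩⟩ := Hensel.exists_projective_lift (I := I) (LinearMap.range s₀)
  let qT : T →ₗ[WittVector p R] ((P ⧸ N) ⧸ U) :=
    ((e.trans E.symm).restrictScalars (WittVector p R)).toLinearMap ∘ₗ
      TensorProduct.mk (WittVector p R) (WittVector p R ⧸ I) T 1
  have hqT : Function.Surjective qT :=
    ((e.trans E.symm).surjective).comp
      (TensorProduct.mk_surjective _ T _ Ideal.Quotient.mk_surjective)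
  have hqTker : ∀ t : T, qT t = 0 → t ∈ I • (⊤ : Submodule (WittVector p R) T) := by
    intro t ht
    have h1 : (1 : WittVector p R ⧸ I) ⊗ₜ[WittVector p R] t = 0 :=
      (e.trans E.symm).injective (ht.trans (map_zero _).symm)
    have h2 := congrArg (TensorProduct.quotTensorEquivQuotSMul T I) h1
    rw [← map_one (Ideal.Quotient.mk I), TensorProduct.quotTensorEquivQuotSMul_mk_tmul, one_smul,
      map_zero, Submodule.Quotient.mk_eq_zero] at h2
    exact h2
  let qM : P →ₗ[WittVector p R] ((P ⧸ N) ⧸ U) := (U.mkQ.restrictScalars _) ∘ₗ N.mkQ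
  have hqM : Function.Surjective qM := (U.mkQ_surjective).comp N.mkQ_surjective
  have hqM0 : ∀ x, qM x = 0 ↔ x ∈ Q := fun x => by
    rw [← hUQ x]; exact Submodule.Quotient.mk_eq_zero U
  obtain ⟨π, hπ⟩ := Module.projective_lifting_property qT qM hqT
  have hπs : Function.Surjective π := by
    rw [← LinearMap.range_eq_top, ← top_le_iff]
    refine Submodule.le_of_le_smul_of_le_jacobson_bot (I := I) Module.Finite.fg_top
      (IsAdicComplete.le_jacobson_bot I) fun t _ => ?_
    obtain ⟨x, hx⟩ := hqM (qT t)
    refine Submodule.mem_sup.mpr ⟨π x, ⟨x, rfl⟩, t - π x, hqTker _ ?_, by abel⟩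
    rw [map_sub, ← LinearMap.comp_apply, hπ, hx, sub_self]
  obtain ⟨s, hs⟩ := Module.projective_lifting_property π LinearMap.id hπs
  have hps : ∀ t, π (s t) = t := LinearMap.congr_fun hs
  refine ⟨LinearMap.ker π, LinearMap.range s, ?_, le_antisymm ?_ (sup_le ?_ ?_)⟩
  · constructor
    · rw [Submodule.disjoint_def]
      rintro _ hx ⟨t, rfl⟩
      rw [LinearMap.mem_ker, hps] at hx
      rw [hx, map_zero]
    · rw [codisjoint_iff, eq_top_iff]
      exact fun x _ => Submodule.mem_sup.mpr
        ⟨x - s (π x), by simp [hps], s (π x), ⟨_, rfl⟩, sub_add_cancel _ _⟩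
  · intro x hx
    refine Submodule.mem_sup.mpr ⟨x - s (π x), by simp [hps], s (π x), ?_, sub_add_cancel _ _⟩
    have hq0 : qT (π x) = 0 := by
      rw [← LinearMap.comp_apply, hπ]
      exact (hqM0 x).mpr hx
    have := Submodule.mem_map_of_mem (f := s) (hqTker _ hq0)
    rwa [Submodule.map_smul'', Submodule.map_top] at this
  · exact fun x hx => (hqM0 x).mp (by
      rw [← hπ, LinearMap.comp_apply, LinearMap.mem_ker.mp hx, map_zero])
  · exact (Submodule.smul_mono le_rfl le_top).trans hNQ

end Groth.Agent.H4Easy
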