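import Mathlib

/-! finite intersections of valuation rings are semilocal Prufer; height of valuation rings -/

set_option autoImplicit false
set_option linter.style.haveILetI false

open scoped BigOperators

universe u v

namespace Groth.Agent.H4Easy


section Height

variable {K : Type u} [Field K] (A : ValuationSubring K)

theorem valuation_zpow_injective_of_separated {ι : Type*} [LinearOrder ι] (t : Finset ι) (w : ι → A)
    (hw0 : ∀ i ∈ t, w i ≠ 0) (hwu : ∀ i ∈ t, ¬ IsUnit (w i))
    (hsep : ∀ i ∈ t, ∀ j ∈ t, i < j → ∃ P : Ideal A, P.IsPrime ∧ w i ∈ P ∧ w j ∉ P)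
    (k : ι → ℤ) (h : ∏ i ∈ t, A.valuation (w i : K) ^ k i = 1) : ∀ i ∈ t, k i = 0 := by
  classical
  by_contra hc
  push Not at hc
  have hne : (t.filter fun i => k i ≠ 0).Nonempty := by
    obtain ⟨i, hi, hk⟩ := hc
    exact ⟨i, Finset.mem_filter.mpr ⟨hi, hk⟩⟩
  set i₀ := (t.filter fun i => k i ≠ 0).min' hne
  obtain ⟨hi₀, hk₀⟩ := Finset.mem_filter.mp ((t.filter fun i => k i ≠ 0).min'_mem hne)
  have hlt : ∀ j ∈ t, k j ≠ 0 → j ≠ i₀ → i₀ < j := fun j hj hk hne' =>
    lt_of_le_of_ne ((t.filter fun i => k i ≠ 0).min'_le j (Finset.mem_filter.mpr ⟨hj, hk⟩))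
      (Ne.symm hne')
  -- one prime containing `w i₀` and none of the others
  obtain ⟨P, hP, hPi, hPj⟩ : ∃ P : Ideal A, P.IsPrime ∧ w i₀ ∈ P ∧
      ∀ j ∈ t, k j ≠ 0 → j ≠ i₀ → w j ∉ P := by
    have : ∀ s : Finset ι, (∀ j ∈ s, j ∈ t ∧ i₀ < j) →
        ∃ P : Ideal A, P.IsPrime ∧ w i₀ ∈ P ∧ ∀ j ∈ s, w j ∉ P := by
      intro s
      induction s using Finset.induction_on with
      | empty =>
        exact fun _ => ⟨IsLocalRing.maximalIdeal A, Ideal.IsMaximal.isPrime inferInstance,
          hwu i₀ hi₀, by simp⟩
      | insert a s ha ih =>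
        intro hs
        obtain ⟨P, hP, h1, h2⟩ := ih fun j hj => hs j (Finset.mem_insert_of_mem hj)
        obtain ⟨Q, hQ, h3, h4⟩ := hsep i₀ hi₀ a (hs a (Finset.mem_insert_self a s)).1
          (hs a (Finset.mem_insert_self a s)).2
        rcases le_total P Q with hle | hle
        · refine ⟨P, hP, h1, fun j hj => ?_⟩
          rcases Finset.mem_insert.mp hj with rfl | hj
          · exact fun h => h4 (hle h)
          · exact h2 j hj
        · refine ⟨Q, hQ, h3, fun j hj => ?_⟩
          rcases Finset.mem_insert.mp hj with rfl | hj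
          · exact h4
          · exact fun h => h2 j hj (hle h)
    obtain ⟨P, hP, h1, h2⟩ := this (t.filter fun j => k j ≠ 0 ∧ j ≠ i₀) fun j hj => by
      obtain ⟨h1, h2, h3⟩ := Finset.mem_filter.mp hj
      exact ⟨h1, hlt j h1 h2 h3⟩
    exact ⟨P, hP, h1, fun j hj hk hne' => h2 j (Finset.mem_filter.mpr ⟨hj, hk, hne'⟩)⟩
  let a : A := ∏ i ∈ t, w i ^ (k i).toNat
  let b : A := ∏ i ∈ t, w i ^ (-k i).toNat
  have hb0 : A.valuation (b : K) ≠ 0 := by
    simp only [b, ne_eq, Valuation.zero_iff, ZeroMemClass.coe_eq_zero, Finset.prod_eq_zero_iff]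
    push Not
    exact fun i hi => pow_ne_zero _ (hw0 i hi)
  have hab : A.valuation (a : K) = A.valuation (b : K) := by
    rw [← div_eq_one_iff_eq hb0]
    simp only [a, b, SubmonoidClass.coe_finsetProd, SubmonoidClass.coe_pow, map_prod, map_pow,
      ← Finset.prod_div_distrib]
    rw [← h]
    refine Finset.prod_congr rfl fun i hi => ?_
    have hv : A.valuation (w i : K) ≠ 0 := by simpa using hw0 i hi
    rw [← zpow_natCast, ← zpow_natCast, ← zpow_sub₀ hv, Int.toNat_sub_toNat_neg]
  have hassoc : ∀ x y : A, A.valuation (x : K) = A.valuation (y : K) → x ∣ y := by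
    intro x y hxy
    rcases eq_or_ne x 0 with rfl | hx
    · have : (y : K) = 0 := by
        rw [← A.valuation.zero_iff, ← hxy]
        simp
      rw [show y = 0 from Subtype.ext this]
    · have hx' : (x : K) ≠ 0 := by simpa using hx
      refine ⟨⟨(y : K) / x, ?_⟩, Subtype.ext (by simp [mul_div_cancel₀ _ hx'])⟩
      rw [← A.valuation_le_one_iff, map_div₀, ← hxy, div_self]
      simpa using hx
  have hPpow : ∀ (j : ι) (e : ℕ), w j ∉ P → w j ^ e ∉ P := fun j e hj he => hj (hP.mem_of_pow_mem e he)
  replace hk₀ : k i₀ ≠ 0 := hk₀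
  replace hi₀ : i₀ ∈ t := hi₀
  rcases lt_or_gt_of_ne hk₀ with hneg | hpos
  · -- the negative side lies in `P`
    have hb : b ∈ P := P.prod_mem hi₀ (Ideal.pow_mem_of_mem P hPi _ (by omega))
    have ha : a ∉ P := fun ha => by
      obtain ⟨j, hj, hja⟩ := hP.prod_mem_iff.mp ha
      rcases eq_or_ne (k j).toNat 0 with h0 | h0
      · exact hP.ne_top ((Ideal.eq_top_iff_one P).mpr (by simpa [h0] using hja))
      · exact hPpow j _ (hPj j hj (by omega) (fun h => by rw [h] at h0; omega)) hja
    exact ha (Ideal.mem_of_dvd P (hassoc b a hab.symm) hb)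
  · have ha : a ∈ P := P.prod_mem hi₀ (Ideal.pow_mem_of_mem P hPi _ (by omega))
    have hb : b ∉ P := fun hb => by
      obtain ⟨j, hj, hjb⟩ := hP.prod_mem_iff.mp hb
      rcases eq_or_ne (-k j).toNat 0 with h0 | h0
      · exact hP.ne_top ((Ideal.eq_top_iff_one P).mpr (by simpa [h0] using hjb))
      · exact hPpow j _ (hPj j hj (by omega) (fun h => by rw [h] at h0; omega)) hjb
    exact hb (Ideal.mem_of_dvd P (hassoc a b hab) ha)

/-- the values of the prime field form a cyclic group -/
theorem valuation_primeField :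
    (∀ c : (⊥ : Subfield K), c ≠ 0 → A.valuation (c : K) = 1) ∨
    ∃ q : A, q ≠ 0 ∧ ¬ IsUnit q ∧
      ∀ c : (⊥ : Subfield K), c ≠ 0 → ∃ e : ℤ, A.valuation (c : K) = A.valuation (q : K) ^ e := by
  classical
  by_cases hex : ∃ m : ℕ, (m : K) ≠ 0 ∧ A.valuation (m : K) < 1
  · right
    set p := Nat.find hex
    obtain ⟨hp0, hp1⟩ := Nat.find_spec hex
    have hmin : ∀ m < p, (m : K) ≠ 0 → ¬ A.valuation (m : K) < 1 := fun m hm h0 h1 =>
      Nat.find_min hex hm ⟨h0, h1⟩
    have key : ∀ m : ℕ, (m : K) ≠ 0 → ∃ e : ℕ, A.valuation (m : K) = A.valuation (p : K) ^ e := by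
      intro m
      induction m using Nat.strong_induction_on with
      | _ m ih =>
        intro hm
        have hm1 : A.valuation ((m : A) : K) ≤ 1 := A.valuation_le_one _
        simp only [map_natCast, SubringClass.coe_natCast] at hm1
        rcases eq_or_lt_of_le hm1 with h1 | h1
        · exact ⟨0, by simpa using h1⟩
        have hdvd : p ∣ m := by
          by_contra hnd
          set r := m % p
          have hr : r < p := Nat.mod_lt _ (Nat.pos_of_ne_zero fun h => hp0 (by
            change ((p : ℕ) : K) = 0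
            rw [h, Nat.cast_zero]))
          have hr0 : r ≠ 0 := fun h => hnd (Nat.dvd_of_mod_eq_zero h)
          have hrK : (r : K) ≠ 0 := by
            intro h0
            have hp' : ((p % r : ℕ) : K) = (p : K) := by
              conv_rhs => rw [← Nat.mod_add_div p r]
              push_cast
              rw [h0, zero_mul, add_zero]
            exact hmin (p % r) ((Nat.mod_lt _ (Nat.pos_of_ne_zero hr0)).trans hr) (hp' ▸ hp0)
              (hp' ▸ hp1)
          refine hmin r hr hrK ?_
          have he : (r : K) = (m : K) - (p : K) * ((m / p : ℕ) : K) := by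
            rw [eq_sub_iff_add_eq, ← Nat.cast_mul, ← Nat.cast_add, Nat.mod_add_div]
          rw [he]
          refine lt_of_le_of_lt (A.valuation.map_sub _ _) (max_lt h1 ?_)
          rw [map_mul]
          have h2 : A.valuation (((m / p : ℕ) : A) : K) ≤ 1 := A.valuation_le_one _
          simp only [SubringClass.coe_natCast] at h2
          exact lt_of_le_of_lt (mul_le_of_le_one_right' h2) hp1
        obtain ⟨q, rfl⟩ := hdvd
        have hq : (q : K) ≠ 0 := fun h => hm (by simp [h])
        have hp2 : 2 ≤ p := by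
          by_contra h
          have : p = 0 ∨ p = 1 := by omega
          rcases this with h | h
          · exact hp0 (show ((p : ℕ) : K) = 0 by rw [h, Nat.cast_zero])
          · have h1' : A.valuation ((p : ℕ) : K) < 1 := hp1
            rw [h] at h1'; simp at h1'
        obtain ⟨e, he⟩ := ih q (lt_mul_left (Nat.pos_of_ne_zero fun h => hq (by simp [h])) hp2) hq
        exact ⟨e + 1, by rw [Nat.cast_mul, map_mul, he, pow_succ']⟩
    refine ⟨(p : A), fun h => hp0 (by simpa using congrArg Subtype.val h),
      fun h => ?_, fun c hc => ?_⟩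
    · have := (A.valuation_eq_one_iff _).mp h
      simp only [SubringClass.coe_natCast] at this
      exact hp1.ne this
    · have hc' : (c : K) ∈ Subfield.closure (∅ : Set K) := by
        rw [Subfield.closure_empty]; exact c.2
      obtain ⟨y, hy, z, hz, hyz⟩ := Subfield.mem_closure_iff.mp hc'
      rw [Subring.closure_empty, Subring.mem_bot] at hy hz
      obtain ⟨a, rfl⟩ := hy
      obtain ⟨b, rfl⟩ := hz
      have hc0 : (c : K) ≠ 0 := by simpa using hc
      have ha : ((a.natAbs : ℕ) : K) ≠ 0 := by
        intro h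
        apply hc0
        rw [← hyz]; rcases Int.natAbs_eq a with e | e <;> rw [e] <;>
          simp only [Int.cast_neg, Int.cast_natCast, h, neg_zero, zero_div]
      have hb : ((b.natAbs : ℕ) : K) ≠ 0 := by
        intro h
        apply hc0
        rw [← hyz]; rcases Int.natAbs_eq b with e | e <;> rw [e] <;>
          simp only [Int.cast_neg, Int.cast_natCast, h, neg_zero, div_zero]
      obtain ⟨e₁, he₁⟩ := key _ ha
      obtain ⟨e₂, he₂⟩ := key _ hb
      refine ⟨(e₁ : ℤ) - e₂, ?_⟩
      have habs : ∀ n : ℤ, A.valuation (n : K) = A.valuation ((n.natAbs : ℕ) : K) := fun n => by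
        rcases Int.natAbs_eq n with e | e <;> conv_lhs => rw [e]
        · simp
        · simp [Valuation.map_neg]
      rw [← hyz, map_div₀, habs a, habs b, he₁, he₂, SubringClass.coe_natCast,
        zpow_sub₀ (by simpa using hp0), zpow_natCast, zpow_natCast]
  · left
    push Not at hex
    intro c hc
    have hc' : (c : K) ∈ Subfield.closure (∅ : Set K) := by
      rw [Subfield.closure_empty]; exact c.2
    obtain ⟨y, hy, z, hz, hyz⟩ := Subfield.mem_closure_iff.mp hc'
    rw [Subring.closure_empty, Subring.mem_bot] at hy hz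
    obtain ⟨a, rfl⟩ := hy
    obtain ⟨b, rfl⟩ := hz
    have hc0 : (c : K) ≠ 0 := by simpa using hc
    have hv : ∀ n : ℤ, (n : K) ≠ 0 → A.valuation (n : K) = 1 := fun n hn => by
      refine le_antisymm ?_ ?_
      · exact_mod_cast A.valuation_le_one (n : A)
      · rcases Int.natAbs_eq n with e | e
        · rw [e, Int.cast_natCast] at hn ⊢; exact hex _ hn
        · rw [e, Int.cast_neg, Int.cast_natCast, Valuation.map_neg]
          exact hex _ (by rw [e] at hn; simpa using hn)
    rw [← hyz, map_div₀, hv a (fun h => hc0 (by rw [← hyz, h, zero_div])),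
      hv b (fun h => hc0 (by rw [← hyz, h, div_zero])), div_one]

theorem algebraicIndependent_of_valuation {ι : Type*} (y : ι → K) (hy : ∀ i, y i ≠ 0)
    (h : ∀ (c : (⊥ : Subfield K)) (k : ι →₀ ℤ), c ≠ 0 →
      A.valuation (c : K) = k.prod (fun i e => A.valuation (y i) ^ e) → k = 0) :
    AlgebraicIndependent (⊥ : Subfield K) y := by
  classical
  rw [algebraicIndependent_iff]
  intro P hP
  by_contra hne
  let f : (ι →₀ ℕ) → K := fun m => ((P.coeff m : (⊥ : Subfield K)) : K) * m.prod (fun i e => y i ^ e)
  have hsum : ∑ m ∈ P.support, f m = 0 := by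
    rw [← hP, MvPolynomial.aeval_def, MvPolynomial.eval₂_eq]
    rfl
  have hinj : ∀ m ∈ P.support, ∀ m' ∈ P.support, A.valuation (f m) = A.valuation (f m') → m = m' := by
    intro m hm m' hm' he
    have hcm : P.coeff m ≠ 0 := MvPolynomial.mem_support_iff.mp hm
    have hcm' : P.coeff m' ≠ 0 := MvPolynomial.mem_support_iff.mp hm'
    have hv : ∀ i, A.valuation (y i) ≠ 0 := fun i => by simpa using hy i
    let k : ι →₀ ℤ := m.mapRange (Nat.cast) Nat.cast_zero - m'.mapRange (Nat.cast) Nat.cast_zero
    have hk : k.prod (fun i e => A.valuation (y i) ^ e) =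
        m.prod (fun i e => A.valuation (y i) ^ e) / m'.prod (fun i e => A.valuation (y i) ^ e) := by
      have h1 : ∀ n : ι →₀ ℕ, (n.mapRange (Nat.cast : ℕ → ℤ) Nat.cast_zero).prod
          (fun i e => A.valuation (y i) ^ e) = n.prod (fun i e => A.valuation (y i) ^ e) := fun n => by
        rw [Finsupp.prod_mapRange_index (fun i => zpow_zero _)]
        simp only [zpow_natCast]
      have h2 : ∀ g g' : ι →₀ ℤ, (g + g').prod (fun i e => A.valuation (y i) ^ e) =
          g.prod (fun i e => A.valuation (y i) ^ e) * g'.prod (fun i e => A.valuation (y i) ^ e) :=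
        fun g g' => Finsupp.prod_add_index' (fun i => zpow_zero _) fun i a b => zpow_add₀ (hv i) a b
      rw [eq_div_iff (by
        rw [Finsupp.prod, Finset.prod_ne_zero_iff]
        exact fun i _ => pow_ne_zero _ (hv i)), ← h1 m, ← h1 m', ← h2]
      simp [k]
    have := h (P.coeff m' / P.coeff m) k (div_ne_zero hcm' hcm) (by
      rw [hk]
      simp only [f, map_mul, map_finsuppProd, map_pow] at he
      push_cast
      rw [map_div₀, div_eq_div_iff (by simpa using hcm) (by
        rw [Finsupp.prod, Finset.prod_ne_zero_iff]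
        exact fun i _ => pow_ne_zero _ (hv i))]
      rw [← he, mul_comm])
    ext i
    have h2 := DFunLike.congr_fun this i
    simp only [k, Finsupp.sub_apply, Finsupp.mapRange_apply, Finsupp.zero_apply] at h2
    omega
  have hne' : P.support.Nonempty := MvPolynomial.support_nonempty.mpr hne
  obtain ⟨m₀, hm₀, hmax⟩ := P.support.exists_max_image (fun m => A.valuation (f m)) hne'
  have := A.valuation.map_sum_eq_of_lt hm₀ (f := f) (fun m hm => by
    obtain ⟨hm, hmne⟩ := Finset.mem_sdiff.mp hm
    exact lt_of_le_of_ne (hmax m hm) fun e => hmne (Finset.mem_singleton.mpr (hinj m hm m₀ hm₀ e)))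
  rw [hsum, map_zero, eq_comm, Valuation.zero_iff] at this
  simp only [f, mul_eq_zero, ZeroMemClass.coe_eq_zero, MvPolynomial.mem_support_iff.mp hm₀, false_or,
    Finsupp.prod, Finset.prod_eq_zero_iff] at this
  obtain ⟨i, -, hi⟩ := this
  exact hy i (pow_eq_zero_iff'.mp hi).1

/-- the height of a valuation ring is at most the transcendence degree plus one -/
theorem ringKrullDim_valuationSubring_le {d : ℕ}
    (hd : Algebra.trdeg (⊥ : Subfield K) K ≤ d) :
    ringKrullDim A ≤ ((d + 1 : ℕ) : WithBot ℕ∞) := by
  classical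
  rw [ringKrullDim, Order.krullDim]
  refine iSup_le fun c => ?_
  set n := c.length with hn
  suffices n ≤ d + 1 by exact_mod_cast this
  -- the i-th prime, for i ≤ n
  let q : Fin (n + 1) → Ideal A := fun i => (c i).asIdeal
  have hq : ∀ i j, i < j → q i < q j := fun i j h => c.strictMono h
  have hqle : ∀ i j, i ≤ j → q i ≤ q j := fun i j h => c.monotone h
  choose y hy1 hy2 using fun i : Fin n =>
    SetLike.exists_of_lt (hq i.castSucc i.succ Fin.castSucc_lt_succ)
  have hy0 : ∀ i, (y i : K) ≠ 0 := fun i h => hy2 i (by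
    rw [show y i = 0 from Subtype.ext h]; exact Submodule.zero_mem _)
  have hyu : ∀ i, ¬ IsUnit (y i) := fun i h => (c i.succ).2.ne_top
    (Ideal.eq_top_of_isUnit_mem _ (hy1 i) h)
  have hsepy : ∀ i j : Fin n, i < j → ∃ P : Ideal A, P.IsPrime ∧ y i ∈ P ∧ y j ∉ P := fun i j h =>
    ⟨q i.succ, (c i.succ).2, hy1 i, fun hm => hy2 j (hqle _ _ (Fin.succ_le_castSucc_iff.mpr h) hm)⟩
  suffices ∃ S : Finset (Fin n), n ≤ S.card + 1 ∧
      AlgebraicIndependent (⊥ : Subfield K) (fun i : S => (y i : K)) by
    obtain ⟨S, hS, hind⟩ := this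
    have := hind.lift_cardinalMk_le_trdeg
    simp only [Cardinal.mk_coe_finset, Cardinal.lift_natCast] at this
    have : (S.card : Cardinal) ≤ d := le_trans (by simpa using this) hd
    have : S.card ≤ d := by exact_mod_cast this
    omega
  rcases valuation_primeField A with htriv | ⟨p, hp0, hpu, hp⟩
  · refine ⟨Finset.univ, by simp, algebraicIndependent_of_valuation A _ (fun i => hy0 i) ?_⟩
    intro c k hc hk
    rw [htriv c hc, Finsupp.prod_fintype _ _ (fun i => zpow_zero _)] at hk
    have := valuation_zpow_injective_of_separated A (Finset.univ : Finset (Finset.univ : Finset (Fin n)))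
      (fun i => y i) (fun i _ h => hy0 i (congrArg Subtype.val h)) (fun i _ => hyu i)
      (fun i _ j _ h => hsepy i j h) k hk.symm
    exact Finsupp.ext fun i => this i (Finset.mem_univ i)
  · -- drop the step at which `p` enters the chain
    let T := Finset.univ.filter fun i : Fin n => p ∉ q i.castSucc
    let j := T.card
    have hT : ∀ i : Fin n, (i.val < j ↔ p ∉ q i.castSucc) := by
      intro i
      constructor
      · intro hi hmem
        have : T ⊆ Finset.univ.filter fun a : Fin n => a < i := fun a ha => by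
          simp only [T, Finset.mem_filter, Finset.mem_univ, true_and] at ha ⊢
          by_contra hai
          exact ha (hqle i.castSucc a.castSucc (by simpa using hai) hmem)
        have := Finset.card_le_card this
        simp only [Finset.filter_gt_eq_Iio, Fin.card_Iio] at this
        omega
      · intro hi
        have : (Finset.univ.filter fun a : Fin n => a ≤ i) ⊆ T := fun a ha => by
          simp only [T, Finset.mem_filter, Finset.mem_univ, true_and] at ha ⊢
          exact fun hm => hi (hqle a.castSucc i.castSucc (by simpa using ha) hm)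
        have := Finset.card_le_card this
        simp only [Finset.filter_ge_eq_Iic, Fin.card_Iic] at this
        omega
    -- indices different from j - 1
    let S := Finset.univ.filter fun i : Fin n => i.val + 1 ≠ j
    have hS : n ≤ S.card + 1 := by
      have h1 : (Finset.univ.filter fun i : Fin n => i.val + 1 = j).card ≤ 1 :=
        Finset.card_le_one.mpr fun a ha b hb => by
          simp only [Finset.mem_filter] at ha hb
          exact Fin.ext (by omega)
      have h2 := Finset.card_filter_add_card_filter_not (s := (Finset.univ : Finset (Fin n)))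
        (fun i : Fin n => i.val + 1 = j)
      simp only [Finset.card_univ, Fintype.card_fin] at h2
      simp only [S, ne_eq]
      omega
    refine ⟨S, hS, algebraicIndependent_of_valuation A _ (fun i => hy0 i) ?_⟩
    intro c k hc hk
    obtain ⟨e, he⟩ := hp c hc
    rw [he, Finsupp.prod_fintype _ _ (fun i => zpow_zero _)] at hk
    -- position of p: 2j - 1, position of y i: 2i
    let w : ℤ → A := fun z =>
      if h : ∃ i : S, z = 2 * (i.1.val : ℤ) then y h.choose.1 else p
    let pos : S → ℤ := fun i => 2 * (i.1.val : ℤ)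
    have hposinj : Function.Injective pos := fun a b h => by
      simp only [pos] at h
      exact Subtype.ext (Fin.ext (by omega))
    have hwy : ∀ i : S, w (pos i) = y i.1 := fun i => by
      have hex : ∃ i' : S, pos i = 2 * (i'.1.val : ℤ) := ⟨i, rfl⟩
      simp only [w, dif_pos hex]
      rw [← hposinj hex.choose_spec]
    have hwp : w (2 * (j : ℤ) - 1) = p := by
      simp only [w]
      rw [dif_neg]
      rintro ⟨i, hi⟩
      omega
    let t : Finset ℤ := insert (2 * (j : ℤ) - 1) (Finset.univ.image pos)
    have hnotmem : (2 * (j : ℤ) - 1) ∉ Finset.univ.image pos := by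
      simp only [Finset.mem_image, not_exists, not_and]
      intro i _
      simp only [pos]
      omega
    have hcase : ∀ z ∈ t, (z = 2 * (j : ℤ) - 1 ∧ w z = p) ∨ ∃ i : S, z = pos i ∧ w z = y i.1 := by
      intro z hz
      rcases Finset.mem_insert.mp hz with rfl | hz
      · exact Or.inl ⟨rfl, hwp⟩
      · obtain ⟨i, -, rfl⟩ := Finset.mem_image.mp hz
        exact Or.inr ⟨i, rfl, hwy i⟩
    have hsep : ∀ z ∈ t, ∀ z' ∈ t, z < z' →
        ∃ P : Ideal A, P.IsPrime ∧ w z ∈ P ∧ w z' ∉ P := by
      intro z hz z' hz' hlt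
      rcases hcase z hz with ⟨e1, h1⟩ | ⟨i, e1, h1⟩ <;> rcases hcase z' hz' with ⟨e2, h2⟩ | ⟨i', e2, h2⟩
      · omega
      · rw [h1, h2]
        simp only [pos] at e2
        refine ⟨q i'.1.castSucc, PrimeSpectrum.isPrime _, ?_, hy2 _⟩
        by_contra hm
        have := (hT i'.1).mpr hm
        omega
      · rw [h1, h2]
        simp only [pos] at e1
        refine ⟨q i.1.succ, PrimeSpectrum.isPrime _, hy1 _, fun hm => ?_⟩
        have hne : i.1.val + 1 ≠ j := (Finset.mem_filter.mp i.2).2
        rcases lt_or_gt_of_ne (show i.1.succ.val ≠ j from hne) with hl | hl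
        · simp only [Fin.val_succ] at hl
          have hlt' : i.1.val + 1 < n := lt_of_lt_of_le hl
            (le_trans (Finset.card_le_univ T) (by simp))
          exact (hT ⟨i.1.val + 1, hlt'⟩).mp hl hm
        · simp only [Fin.val_succ] at hl
          omega
      · rw [h1, h2]
        simp only [pos] at e1 e2
        exact hsepy i.1 i'.1 (Fin.lt_def.mpr (by omega))
    let k' : ℤ → ℤ := fun z => if h : ∃ i : S, z = pos i then k h.choose else -e
    have hk' : ∀ i : S, k' (pos i) = k i := fun i => by
      have hex : ∃ i' : S, pos i = pos i' := ⟨i, rfl⟩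
      simp only [k', dif_pos hex]
      rw [← hposinj hex.choose_spec]
    have hprod : ∏ z ∈ t, A.valuation (w z : K) ^ k' z = 1 := by
      rw [Finset.prod_insert hnotmem, Finset.prod_image (fun a _ b _ h => hposinj h)]
      have : k' (2 * (j : ℤ) - 1) = -e := by
        simp only [k']
        rw [dif_neg]
        rintro ⟨i, hi⟩
        simp only [pos] at hi
        omega
      simp only [hwy, hk', hwp, this, ← hk]
      rw [← zpow_add₀ (by simpa using hp0), neg_add_cancel, zpow_zero]
    have := valuation_zpow_injective_of_separated A t w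
      (fun z hz => by
        rcases hcase z hz with ⟨-, h1⟩ | ⟨i, -, h1⟩ <;> rw [h1]
        · exact hp0
        · exact fun h => hy0 _ (congrArg Subtype.val h))
      (fun z hz => by
        rcases hcase z hz with ⟨-, h1⟩ | ⟨i, -, h1⟩ <;> rw [h1]
        · exact hpu
        · exact hyu _) hsep k' hprod
    exact Finsupp.ext fun i => by
      rw [← hk' i]
      exact this _ (Finset.mem_insert_of_mem (Finset.mem_image_of_mem _ (Finset.mem_univ i)))

end Height

section FiniteInter

variable {A : Type u} [CommRing A] [IsDomain A] {K : Type v} [Field K] [Algebra A K]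
  {ι : Type*} [Finite ι] (W : ι → ValuationSubring K)

theorem interVal_exists_smul [Nonempty ι] [FaithfulSMul A K] (hmem : ∀ x : K, x ∈ (algebraMap A K).range ↔ ∀ i, x ∈ W i) (x : K) :
    ∃ (n : ℕ) (u : ℕ → A), 0 < n ∧ (∑ j ∈ Finset.range (n + 1), u j = 1) ∧
      ∀ j < n, algebraMap A K (u (j + 1)) = x * algebraMap A K (u j) := by
  classical
  cases nonempty_fintype ι
  let res : ∀ i, W i →+* IsLocalRing.ResidueField (W i) := fun i => IsLocalRing.residue _
  let bad : Finset ℕ := (Finset.univ.image fun i => ringChar (IsLocalRing.ResidueField (W i))) ∪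
    (Finset.univ.image fun i => if h : x ∈ W i then orderOf (res i ⟨x, h⟩) else 0)
  obtain ⟨q, hqlt, hq⟩ := Nat.exists_infinite_primes (bad.sup id + 2)
  have hqbad : ∀ m ∈ bad, q ≠ m := fun m hm e => by
    have := Finset.le_sup (f := id) hm
    simp only [id_eq] at this
    omega
  let f : K := ∑ j ∈ Finset.range q, x ^ j
  have hf : ∀ i, (f ≠ 0) ∧ ∀ j < q, x ^ j / f ∈ W i := by
    intro i
    by_cases hx : x ∈ W i
    · set a : W i := ⟨x, hx⟩
      have hfa : IsUnit (∑ j ∈ Finset.range q, a ^ j) := by
        rw [← IsLocalRing.notMem_maximalIdeal, ← IsLocalRing.residue_eq_zero_iff, map_sum]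
        simp only [map_pow]
        intro h0
        by_cases h1 : res i a = 1
        · rw [show IsLocalRing.residue (W i) a = 1 from h1] at h0
          simp only [one_pow, Finset.sum_const, Finset.card_range, nsmul_one] at h0
          have hdvd := (ringChar.spec _ q).mp h0
          rcases (Nat.dvd_prime hq).mp hdvd with h | h
          · exact CharP.ringChar_ne_one h
          · exact hqbad _ (Finset.mem_union_left _
              (Finset.mem_image_of_mem _ (Finset.mem_univ i))) h.symm
        · have hpow : res i a ^ q = 1 := by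
            have := geom_sum_mul (res i a) q
            rw [show (∑ j ∈ Finset.range q, res i a ^ j) = 0 from h0, zero_mul] at this
            exact sub_eq_zero.mp this.symm
          rcases (Nat.dvd_prime hq).mp (orderOf_dvd_of_pow_eq_one hpow) with h | h
          · exact h1 (orderOf_eq_one_iff.mp h)
          · refine hqbad _ (Finset.mem_union_right _
              (Finset.mem_image.mpr ⟨i, Finset.mem_univ i, ?_⟩)) h.symm
            rw [dif_pos hx]
      obtain ⟨v, hv⟩ := hfa
      have hfv : f = ((v : W i) : K) := by rw [hv]; simp [f, a]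
      have hv0 : ((v : W i) : K) ≠ 0 := by simpa using v.ne_zero
      refine ⟨hfv ▸ hv0, fun j _ => ?_⟩
      have : x ^ j / f = ((a ^ j * (↑v⁻¹ : W i) : W i) : K) := by
        rw [hfv, div_eq_iff hv0]
        have h := congrArg Subtype.val (show (a ^ j * (↑v⁻¹ : W i)) * (v : W i) = a ^ j by simp)
        simp only [MulMemClass.coe_mul, SubmonoidClass.coe_pow] at h
        exact h.symm
      rw [this]
      exact SetLike.coe_mem _
    · have hv : 1 < (W i).valuation x := lt_of_not_ge fun h => hx ((W i).valuation_le_one_iff _ |>.mp h)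
      have hlast : (W i).valuation f = (W i).valuation x ^ (q - 1) := by
        rw [Valuation.map_sum_eq_of_lt _ (j := q - 1) (Finset.mem_range.mpr (by omega)), map_pow]
        intro j hj
        simp only [Finset.mem_sdiff, Finset.mem_range, Finset.mem_singleton] at hj
        simp only [map_pow]
        exact pow_lt_pow_right₀ hv (by omega)
      have hf0 : f ≠ 0 := fun h => by
        rw [h, map_zero, eq_comm] at hlast
        exact (zero_lt_one.trans hv).ne' (pow_eq_zero_iff'.mp hlast).1
      refine ⟨hf0, fun j hj => ?_⟩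
      rw [← (W i).valuation_le_one_iff, map_div₀, hlast, map_pow,
        div_le_one₀ (pow_pos (zero_lt_one.trans hv) _)]
      exact pow_le_pow_right₀ hv.le (by omega)
  have hι := ‹Nonempty ι›
  have hu : ∀ j, ∃ a : A, j < q → algebraMap A K a = x ^ j / f := fun j => by
    by_cases hj : j < q
    · obtain ⟨a, ha⟩ := (hmem (x ^ j / f)).mpr fun i => (hf i).2 j hj
      exact ⟨a, fun _ => ha⟩
    · exact ⟨0, fun h => absurd h hj⟩
  choose u hu using hu
  refine ⟨q - 1, u, by omega, ?_, fun j hj => ?_⟩
  · apply FaithfulSMul.algebraMap_injective A K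
    rw [map_sum, map_one, Nat.sub_add_cancel hq.one_le,
      Finset.sum_congr rfl (fun j hj => hu j (Finset.mem_range.mp hj)), ← Finset.sum_div]
    exact div_self (hf hι.some).1
  · rw [hu j (by omega), hu (j + 1) (by omega), pow_succ', mul_div_assoc]

variable (hinj : Function.Injective (algebraMap A K))
  (hmem : ∀ x : K, x ∈ (algebraMap A K).range ↔ ∀ i, x ∈ W i)

include hinj hmem

theorem interVal_fraction [Nonempty ι] (x : K) (p : Ideal A) [hp : p.IsPrime] :
    ∃ a b : A, b ∉ p ∧
      (algebraMap A K a = x * algebraMap A K b ∨ algebraMap A K b = x * algebraMap A K a) := by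
  haveI : FaithfulSMul A K := (faithfulSMul_iff_algebraMap_injective A K).mpr hinj
  obtain ⟨n, u, hn, hsum, hrec⟩ := interVal_exists_smul W hmem x
  obtain ⟨j, hj, hju⟩ : ∃ j ∈ Finset.range (n + 1), u j ∉ p := by
    by_contra hc
    push Not at hc
    exact hp.ne_top ((Ideal.eq_top_iff_one p).mpr (hsum ▸ p.sum_mem hc))
  rcases j with _ | j
  · exact ⟨u 1, u 0, hju, Or.inl (hrec 0 hn)⟩
  · exact ⟨u j, u (j + 1), hju, Or.inr (hrec j (by simpa using hj))⟩

end FiniteInter

section FiniteInterCor

variable {A : Type u} [CommRing A] [IsDomain A] {K : Type v} [Field K] [Algebra A K]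
  {ι : Type*} [Finite ι] [Nonempty ι] (W : ι → ValuationSubring K)
  (hinj : Function.Injective (algebraMap A K))
  (hmem : ∀ x : K, x ∈ (algebraMap A K).range ↔ ∀ i, x ∈ W i)

include hinj hmem

theorem interVal_isFraction (x : K) :
    ∃ a b : A, b ≠ 0 ∧ x = algebraMap A K a / algebraMap A K b := by
  rcases eq_or_ne x 0 with rfl | hx
  · exact ⟨0, 1, one_ne_zero, by simp⟩
  obtain ⟨a, b, hb, h | h⟩ := interVal_fraction W hinj hmem x (⊥ : Ideal A)
  · have hb' : algebraMap A K b ≠ 0 := (map_ne_zero_iff _ hinj).mpr (by simpa using hb)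
    exact ⟨a, b, by simpa using hb, by rw [eq_div_iff hb', h]⟩
  · have hb' : algebraMap A K b ≠ 0 := (map_ne_zero_iff _ hinj).mpr (by simpa using hb)
    have ha : a ≠ 0 := fun ha => hb' (by rw [h, ha, map_zero, mul_zero])
    exact ⟨b, a, ha, by rw [eq_div_iff ((map_ne_zero_iff _ hinj).mpr ha), h]⟩

theorem interVal_valuationRing (p : Ideal A) [p.IsPrime] :
    ValuationRing (Localization.AtPrime p) := by
  rw [ValuationRing.iff_dvd_total]
  refine ⟨fun z w => ?_⟩
  obtain ⟨⟨a, s⟩, rfl⟩ := IsLocalization.mk'_surjective p.primeCompl z |>.imp fun _ h => h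
  obtain ⟨⟨b, t⟩, rfl⟩ := IsLocalization.mk'_surjective p.primeCompl w |>.imp fun _ h => h
  have key : ∀ (a : A) (s : p.primeCompl) (b : A) (t : p.primeCompl),
      algebraMap A (Localization.AtPrime p) b ∣ algebraMap A (Localization.AtPrime p) a →
      IsLocalization.mk' (Localization.AtPrime p) b t ∣ IsLocalization.mk' (Localization.AtPrime p) a s :=
    fun a s b t h => by
      rw [IsLocalization.mk'_eq_mul_mk'_one (M := p.primeCompl) a s]
      exact (Dvd.intro _ (IsLocalization.mk'_spec _ b t)).trans (h.mul_right _)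
  refine Or.imp (key b t a s) (key a s b t) ?_
  rcases eq_or_ne b 0 with rfl | hb
  · left; rw [map_zero]; exact dvd_zero _
  obtain ⟨c, e, he, h | h⟩ :=
    interVal_fraction W hinj hmem (algebraMap A K a / algebraMap A K b) p
  all_goals rw [div_mul_eq_mul_div, eq_div_iff ((map_ne_zero_iff _ hinj).mpr hb), ← map_mul,
    ← map_mul] at h
  · -- c * b = a * e
    right
    obtain ⟨v, hv⟩ := IsLocalization.map_units (Localization.AtPrime p) (⟨e, he⟩ : p.primeCompl)
    refine ⟨algebraMap _ _ c * ↑v⁻¹, ?_⟩
    have := congrArg (algebraMap A (Localization.AtPrime p)) (hinj h)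
    rw [map_mul, map_mul] at this
    rw [← mul_assoc, mul_comm (algebraMap _ _ b), this, ← hv, mul_assoc, Units.mul_inv, mul_one]
  · left
    obtain ⟨v, hv⟩ := IsLocalization.map_units (Localization.AtPrime p) (⟨e, he⟩ : p.primeCompl)
    refine ⟨algebraMap _ _ c * ↑v⁻¹, ?_⟩
    have := congrArg (algebraMap A (Localization.AtPrime p)) (hinj h)
    rw [map_mul, map_mul] at this
    rw [← mul_assoc, ← this, ← hv, mul_comm (↑v : Localization.AtPrime p), mul_assoc, Units.mul_inv,
      mul_one]

/-- the centre of `W i` on `A` -/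
theorem interVal_exists_centre {p : Ideal A} (hp : p.IsPrime) :
    ∃ i, ∀ a ∈ p, (W i).valuation (algebraMap A K a) < 1 := by
  classical
  cases nonempty_fintype ι
  let P : ι → Ideal A := fun i => (IsLocalRing.maximalIdeal (W i)).comap
    ((algebraMap A K).codRestrict (W i).toSubring fun a => (hmem _).mp ⟨a, rfl⟩ i)
  have hsub : (p : Set A) ⊆ ⋃ i ∈ (Finset.univ : Finset ι), (P i : Set A) := by
    intro a ha
    by_contra hc
    simp only [Finset.mem_univ, Set.iUnion_true, Set.mem_iUnion, not_exists, SetLike.mem_coe, P,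
      Ideal.mem_comap, IsLocalRing.mem_maximalIdeal, mem_nonunits_iff, not_not] at hc
    have hv : ∀ i, (W i).valuation (algebraMap A K a) = 1 := fun i => by
      have := ((W i).valuation_eq_one_iff _).mp (hc i)
      exact this
    have ha0 : algebraMap A K a ≠ 0 := fun h => by
      have := hv (Classical.arbitrary ι)
      rw [h, map_zero] at this
      exact zero_ne_one this
    obtain ⟨b, hb⟩ := (hmem (algebraMap A K a)⁻¹).mpr fun i => by
      rw [← (W i).valuation_le_one_iff, map_inv₀, hv i, inv_one]
    refine hp.ne_top (Ideal.eq_top_of_isUnit_mem _ ha (IsUnit.of_mul_eq_one b (hinj ?_)))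
    rw [map_mul, map_one, hb, mul_inv_cancel₀ ha0]
  obtain ⟨i, -, hi⟩ := (Ideal.subset_union_prime (Classical.arbitrary ι) (Classical.arbitrary ι)
    (fun i _ _ _ => Ideal.IsPrime.comap _ (hK := (IsLocalRing.maximalIdeal.isMaximal _).isPrime))).mp hsub
  refine ⟨i, fun a ha => ?_⟩
  exact ((W i).valuation_lt_one_iff _).mp (hi ha)

theorem interVal_finite_maximalSpectrum : Finite (MaximalSpectrum A) := by
  classical
  choose g hg using fun m : MaximalSpectrum A =>
    interVal_exists_centre W hinj hmem m.2.isPrime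
  refine Finite.of_injective g fun m m' h => ?_
  by_contra hne
  obtain ⟨a, ha, b, hb, hab⟩ := Submodule.mem_sup.mp
    ((m.2.coprime_of_ne m'.2 (fun e => hne (MaximalSpectrum.ext e))).symm ▸
      (Submodule.mem_top (x := (1 : A))))
  have h1 := hg m a ha
  have h2 := hg m' b hb
  rw [← h] at h2
  have h3 := lt_of_le_of_lt ((W (g m)).valuation.map_add _ _) (max_lt h1 h2)
  rw [← map_add, hab, map_one, map_one] at h3
  exact lt_irrefl _ h3

theorem interVal_krullDim_le {d : WithBot ℕ∞} (hd : ∀ i, ringKrullDim (W i) ≤ d) :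
    ringKrullDim A ≤ d := by
  classical
  rw [ringKrullDim, Order.krullDim]
  refine iSup_le fun c => ?_
  obtain ⟨i, hi⟩ := interVal_exists_centre W hinj hmem c.last.2
  -- the contraction map is surjective onto the primes inside the centre
  let φ : A →+* W i :=
    (algebraMap A K).codRestrict (W i).toSubring fun a => (hmem _).mp ⟨a, rfl⟩ i
  let P : Ideal A := (IsLocalRing.maximalIdeal (W i)).comap φ
  have hPmem : ∀ a, a ∈ P ↔ (W i).valuation (algebraMap A K a) < 1 := fun a => by
    simp only [P, Ideal.mem_comap]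
    exact (W i).valuation_lt_one_iff _
  have hloc : ∀ x : W i, ∃ a s : A, s ∉ P ∧ φ a = x * φ s := by
    intro x
    have hPp : P.IsPrime :=
      Ideal.IsPrime.comap _ (hK := (IsLocalRing.maximalIdeal.isMaximal _).isPrime)
    obtain ⟨a, b, hb, h | h⟩ := interVal_fraction W hinj hmem (x : K) P
    · exact ⟨a, b, hb, Subtype.ext h⟩
    · refine ⟨b, a, fun ha => hb ?_, Subtype.ext h⟩
      rw [hPmem] at ha ⊢
      rw [h, map_mul]
      exact lt_of_le_of_lt (mul_le_of_le_one_left' ((W i).valuation_le_one x)) ha
  haveI : P.IsPrime := Ideal.IsPrime.comap _ (hK := (IsLocalRing.maximalIdeal.isMaximal _).isPrime)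
  letI : Algebra A (W i) := φ.toAlgebra
  haveI : IsLocalization.AtPrime (W i) P := by
    refine ⟨⟨fun s => ?_, fun x => ?_, fun {a b} h => ⟨1, by
      simpa using hinj (congrArg Subtype.val h)⟩⟩⟩
    · have := s.2
      exact IsLocalRing.notMem_maximalIdeal.mp this
    · obtain ⟨a, s, hs, h⟩ := hloc x
      exact ⟨(a, ⟨s, hs⟩), h.symm⟩
  refine le_trans ?_ (hd i)
  rw [IsLocalization.AtPrime.ringKrullDim_eq_height P (W i)]
  have hle : c.last.asIdeal ≤ P := fun a ha => (hPmem a).mpr (hi a ha)
  have h1 : (c.length : ℕ∞) ≤ Order.height c.last := Order.length_le_height_last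
  calc ((c.length : ℕ) : WithBot ℕ∞) ≤ (Order.height c.last : WithBot ℕ∞) := by exact_mod_cast h1
    _ ≤ (P.height : WithBot ℕ∞) := by
        rw [show P.height = Order.height (⟨P, inferInstance⟩ : PrimeSpectrum A) from
          PrimeSpectrum.height_eq_orderHeight ⟨P, inferInstance⟩]
        exact_mod_cast Order.height_mono (show c.last ≤ ⟨P, inferInstance⟩ from hle)

end FiniteInterCor

section Prufer

variable (R L : Type u) [CommRing R] [IsDomain R] [Field L] [Algebra R L] [IsFractionRing R L]

theorem prufer_exists_valuationSubrings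
    (hR : ∀ (p : Ideal R) [p.IsPrime], ValuationRing (Localization.AtPrime p)) :
    ∃ V : MaximalSpectrum R → ValuationSubring L,
      ∀ x : L, x ∈ (algebraMap R L).range ↔ ∀ m, x ∈ V m := by
  have hmemof : ∀ (m : MaximalSpectrum R) (x : L),
      x ∈ Localization.subalgebra.ofField L m.asIdeal.primeCompl m.asIdeal.primeCompl_le_nonZeroDivisors ↔
        ∃ a s : R, s ∉ m.asIdeal ∧ x = algebraMap R L a * (algebraMap R L s)⁻¹ := by
    intro m x
    constructor
    · rintro ⟨a, s, hs, rfl⟩; exact ⟨a, s, hs, rfl⟩
    · rintro ⟨a, s, hs, rfl⟩; exact ⟨a, s, hs, rfl⟩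
  refine ⟨fun m => { toSubring := (Localization.subalgebra.ofField L m.asIdeal.primeCompl
        m.asIdeal.primeCompl_le_nonZeroDivisors).toSubring, mem_or_inv_mem' := fun x => ?_ },
    fun x => ?_⟩
  · obtain ⟨a, b, hb, rfl⟩ := IsFractionRing.div_surjective (A := R) x
    haveI := m.2.isPrime
    have hb0 : algebraMap R L b ≠ 0 :=
      (map_ne_zero_iff _ (IsFractionRing.injective R L)).mpr (nonZeroDivisors.ne_zero hb)
    have key : ∀ u v : R, v ≠ 0 → algebraMap R (Localization.AtPrime m.asIdeal) v ∣
        algebraMap R (Localization.AtPrime m.asIdeal) u →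
        algebraMap R L u / algebraMap R L v ∈ Localization.subalgebra.ofField L m.asIdeal.primeCompl
          m.asIdeal.primeCompl_le_nonZeroDivisors := by
      intro u v hv h
      obtain ⟨z, hz⟩ := h
      obtain ⟨⟨c, s⟩, hcs⟩ := IsLocalization.mk'_surjective m.asIdeal.primeCompl z |>.imp fun _ h => h
      refine (hmemof m _).mpr ⟨c, s, s.2, ?_⟩
      have h2 : u * s = v * c := by
        apply IsLocalization.injective (Localization.AtPrime m.asIdeal)
          m.asIdeal.primeCompl_le_nonZeroDivisors
        rw [map_mul, map_mul, hz, ← hcs, mul_assoc, IsLocalization.mk'_spec]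
      have h3 := congrArg (algebraMap R L) h2
      rw [map_mul, map_mul] at h3
      have hv0 : algebraMap R L v ≠ 0 := (map_ne_zero_iff _ (IsFractionRing.injective R L)).mpr hv
      have hs0 : algebraMap R L (s : R) ≠ 0 := (map_ne_zero_iff _ (IsFractionRing.injective R L)).mpr
        (nonZeroDivisors.ne_zero (m.asIdeal.primeCompl_le_nonZeroDivisors s.2))
      field_simp
      linear_combination h3
    rcases eq_or_ne a 0 with rfl | ha
    · left; simp only [map_zero, zero_div]; exact (Localization.subalgebra.ofField L m.asIdeal.primeCompl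
        m.asIdeal.primeCompl_le_nonZeroDivisors).zero_mem
    rcases (ValuationRing.iff_dvd_total.mp (hR m.asIdeal)).total
        (algebraMap R (Localization.AtPrime m.asIdeal) a)
        (algebraMap R (Localization.AtPrime m.asIdeal) b) with h | h
    · right; rw [inv_div]; exact key b a ha h
    · left; exact key a b (nonZeroDivisors.ne_zero hb) h
  · have h := SetLike.ext_iff.mp (MaximalSpectrum.iInf_localization_eq_bot R L) x
    rw [Algebra.mem_bot, Algebra.mem_iInf] at h
    simp only [RingHom.mem_range]
    exact ⟨fun hx m => h.mpr hx m, fun hx => h.mp hx⟩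

theorem semilocal_prufer_inf_subfield
    (hR : ∀ (p : Ideal R) [p.IsPrime], ValuationRing (Localization.AtPrime p))
    (hfin : Finite (MaximalSpectrum R)) (K : Subfield L) :
    (∀ (p : Ideal ↥((algebraMap R L).range ⊓ K.toSubring)) [p.IsPrime],
        ValuationRing (Localization.AtPrime p)) ∧
      Finite (MaximalSpectrum ↥((algebraMap R L).range ⊓ K.toSubring)) ∧
      ∀ x : L, x ∈ K → ∃ a b : L, a ∈ (algebraMap R L).range ⊓ K.toSubring ∧
        b ∈ (algebraMap R L).range ⊓ K.toSubring ∧ b ≠ 0 ∧ x = a / b := by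
  obtain ⟨V, hV⟩ := prufer_exists_valuationSubrings R L hR
  set A := (algebraMap R L).range ⊓ K.toSubring
  letI : Algebra A K := (Subring.inclusion (inf_le_right : A ≤ K.toSubring)).toAlgebra
  have hinj : Function.Injective (algebraMap A K) := Subring.inclusion_injective _
  let W : MaximalSpectrum R → ValuationSubring K := fun m => (V m).comap K.subtype
  have hmem : ∀ x : K, x ∈ (algebraMap A K).range ↔ ∀ m, x ∈ W m := fun x => by
    simp only [W, ValuationSubring.mem_comap]
    constructor
    · rintro ⟨a, rfl⟩ m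
      exact (hV _).mp a.2.1 m
    · intro hx
      exact ⟨⟨x, (hV _).mpr hx, x.2⟩, rfl⟩
  refine ⟨fun p _ => interVal_valuationRing W hinj hmem p,
    interVal_finite_maximalSpectrum W hinj hmem, fun x hx => ?_⟩
  obtain ⟨a, b, hb, h⟩ := interVal_isFraction W hinj hmem ⟨x, hx⟩
  exact ⟨a, b, a.2, b.2, fun h0 => hb (Subtype.ext h0), congrArg Subtype.val h⟩

omit L in
theorem semilocal_prufer_union_finite_dim
    (hR : ∀ (p : Ideal R) [p.IsPrime], ValuationRing (Localization.AtPrime p))
    (hfin : Finite (MaximalSpectrum R)) (s : Finset R) :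
    ∃ R' : Subring R, (↑s : Set R) ⊆ R' ∧
      (∀ (p : Ideal R') [p.IsPrime], ValuationRing (Localization.AtPrime p)) ∧
      Finite (MaximalSpectrum R') ∧ ringKrullDim R' < ⊤ := by
  classical
  obtain ⟨V, hV⟩ := prufer_exists_valuationSubrings R (FractionRing R) hR
  let K : Subfield (FractionRing R) :=
    Subfield.closure (algebraMap R (FractionRing R) '' (s : Set R))
  let R' : Subring R := K.toSubring.comap (algebraMap R (FractionRing R))
  let φ : R' →+* K := ((algebraMap R (FractionRing R)).comp R'.subtype).codRestrict K fun a => a.2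
  letI : Algebra R' K := φ.toAlgebra
  have hinj : Function.Injective (algebraMap R' K) := fun a b h =>
    Subtype.ext (IsFractionRing.injective R (FractionRing R) (congrArg Subtype.val h))
  let W : MaximalSpectrum R → ValuationSubring K := fun m => (V m).comap K.subtype
  have hmem : ∀ x : K, x ∈ (algebraMap R' K).range ↔ ∀ m, x ∈ W m := fun x => by
    simp only [W, ValuationSubring.mem_comap]
    constructor
    · rintro ⟨a, rfl⟩ m
      exact (hV _).mp ⟨a, rfl⟩ m
    · intro hx
      obtain ⟨r, hr⟩ := (hV _).mpr hx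
      exact ⟨⟨r, show algebraMap R _ r ∈ K from hr ▸ x.2⟩, Subtype.ext hr⟩
  have hK : Algebra.trdeg (⊥ : Subfield K) K ≤ (s.card : ℕ) := by
    let t : Finset K := s.attach.image fun a =>
      (⟨algebraMap R _ a.1, Subfield.subset_closure ⟨a.1, a.2, rfl⟩⟩ : K)
    have htop : IntermediateField.adjoin (⊥ : Subfield K) (t : Set K) = ⊤ := by
      rw [eq_top_iff]
      intro x _
      have hsub : K ≤ (IntermediateField.adjoin (⊥ : Subfield K) (t : Set K)).toSubfield.map K.subtype := by
        refine Subfield.closure_le.mpr ?_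
        rintro _ ⟨a, ha, rfl⟩
        exact ⟨⟨_, Subfield.subset_closure ⟨a, ha, rfl⟩⟩, IntermediateField.subset_adjoin _ _
          (Finset.mem_image.mpr ⟨⟨a, ha⟩, Finset.mem_attach _ _, rfl⟩), rfl⟩
      obtain ⟨y, hy, hxy⟩ := hsub x.2
      rwa [show x = y from Subtype.ext hxy.symm]
    have halg : Algebra.IsAlgebraic (Algebra.adjoin (⊥ : Subfield K) (t : Set K)) K := by
      rw [← IntermediateField.isAlgebraic_adjoin_iff_top, htop]
      exact ⟨fun x => isAlgebraic_algebraMap (⟨x, IntermediateField.mem_top⟩ :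
        (⊤ : IntermediateField (⊥ : Subfield K) K))⟩
    obtain ⟨u, hu, hB⟩ := exists_isTranscendenceBasis_subset (R := (⊥ : Subfield K)) (A := K)
      (t : Set K)
    rw [← hB.cardinalMk_eq_trdeg]
    refine le_trans (Cardinal.mk_le_mk_of_subset hu) ?_
    simp only [SetLike.coe_sort_coe, Cardinal.mk_coe_finset, Nat.cast_le]
    exact Finset.card_image_le.trans (by simp)
  have hdim : ringKrullDim R' ≤ ((s.card + 1 : ℕ) : WithBot ℕ∞) :=
    interVal_krullDim_le W hinj hmem fun m => ringKrullDim_valuationSubring_le (W m) hK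
  refine ⟨R', fun a ha => Subfield.subset_closure ⟨a, ha, rfl⟩,
    fun p _ => interVal_valuationRing W hinj hmem p,
    interVal_finite_maximalSpectrum W hinj hmem, lt_of_le_of_lt hdim ?_⟩
  exact WithBot.coe_lt_coe.mpr (ENat.coe_lt_top _)

end Prufer

end Groth.Agent.H4Easy
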