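import Mathlib
import Groth.Agent.H4Easy.Batch25

/-! valuation rings as unions of finite height ones; Noetherian spaces over semilocal Prufer domains -/

set_option autoImplicit false
set_option linter.style.haveILetI false

universe u

namespace Groth.Agent.H4Easy


theorem valuationRing_union_finite_spectrum (R : Type u) [CommRing R] [IsDomain R] [ValuationRing R] :
    ∃ (ι : Type u) (_ : Preorder ι) (_ : IsDirected ι (fun a b ↦ a ≤ b)) (_ : Nonempty ι)
      (F : ι → Subring R), Monotone F ∧ (⨆ i, F i) = ⊤ ∧
        ∀ i, ValuationRing (F i) ∧ Finite (PrimeSpectrum (F i)) := by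
  classical
  let φ := algebraMap R (FractionRing R)
  have hφ : Function.Injective φ := IsFractionRing.injective R (FractionRing R)
  let K : Finset R → Subfield (FractionRing R) := fun s => Subfield.closure (φ '' (s : Set R))
  let F : Finset R → Subring R := fun s => (K s).toSubring.comap φ
  refine ⟨Finset R, inferInstance, inferInstance, inferInstance, F, ?_, ?_, fun s => ?_⟩
  · intro s t hst a ha
    exact Subfield.closure_mono (Set.image_mono (Finset.coe_subset.mpr hst)) ha
  · rw [eq_top_iff]
    intro a _
    exact le_iSup F {a} (Subfield.subset_closure ⟨a, by simp, rfl⟩)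
  have htot : ∀ a b : F s, a ∣ b ∨ b ∣ a := by
    have key : ∀ a b : F s, (a : R) ∣ (b : R) → a ∣ b := by
      rintro a b ⟨c, hc⟩
      rcases eq_or_ne (a : R) 0 with h0 | h0
      · rw [h0, zero_mul] at hc
        rw [show b = 0 from Subtype.ext hc]
        exact dvd_zero a
      · refine ⟨⟨c, ?_⟩, Subtype.ext hc⟩
        change φ c ∈ K s
        rw [show φ c = φ b / φ a by
          rw [eq_div_iff ((map_ne_zero_iff _ hφ).mpr h0), hc, map_mul, mul_comm]]
        exact div_mem b.2 a.2
    intro a b
    rcases (ValuationRing.iff_dvd_total.mp ‹_›).total (a : R) (b : R) with h | h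
    · exact Or.inl (key a b h)
    · exact Or.inr (key b a h)
  haveI hv : ValuationRing (F s) := ValuationRing.iff_dvd_total.mpr ⟨htot⟩
  refine ⟨hv, ?_⟩
  -- the valuation subring of `K s`
  let A : ValuationSubring (K s) :=
    { toSubring := (φ.range).comap (K s).subtype
      mem_or_inv_mem' := fun x => by
        obtain ⟨a, b, hb, hx⟩ := IsFractionRing.div_surjective (A := R) (x : FractionRing R)
        simp only [Subring.mem_carrier, Subring.mem_comap, RingHom.mem_range]
        rcases (ValuationRing.iff_dvd_total.mp ‹_›).total b a with ⟨c, hc⟩ | ⟨c, hc⟩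
        · left
          refine ⟨c, ?_⟩
          change φ c = (x : FractionRing R)
          rw [← hx]
          rw [hc, map_mul]
          exact (mul_div_cancel_left₀ _ ((map_ne_zero_iff _ hφ).mpr (nonZeroDivisors.ne_zero hb))).symm
        · right
          refine ⟨c, ?_⟩
          change φ c = ((x : FractionRing R))⁻¹
          rw [← hx, inv_div, hc, map_mul, mul_div_cancel_left₀]
          exact (map_ne_zero_iff _ hφ).mpr fun ha => nonZeroDivisors.ne_zero hb (by rw [hc, ha, zero_mul]) }
  let e : F s →+* A :=
    ((φ.comp (F s).subtype).codRestrict (K s) fun a => a.2).codRestrict A.toSubring fun a => ⟨a, rfl⟩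
  have he : Function.Bijective e := by
    refine ⟨fun a b h => Subtype.ext (hφ ?_), fun y => ?_⟩
    · exact congrArg (fun z : A => ((z : K s) : FractionRing R)) h
    · obtain ⟨a, ha⟩ := y.2
      exact ⟨⟨a, show φ a ∈ K s from ha ▸ (y : K s).2⟩, Subtype.ext (Subtype.ext ha)⟩
  let t : Finset (K s) := s.attach.image fun a =>
    (⟨φ a.1, Subfield.subset_closure ⟨a.1, a.2, rfl⟩⟩ : K s)
  have htop : IntermediateField.adjoin (⊥ : Subfield (K s)) (t : Set (K s)) = ⊤ := by
    rw [eq_top_iff]
    intro x _
    have hsub : K s ≤ (IntermediateField.adjoin (⊥ : Subfield (K s)) (t : Set (K s))).toSubfield.map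
        (K s).subtype := by
      refine Subfield.closure_le.mpr ?_
      rintro _ ⟨a, ha, rfl⟩
      exact ⟨⟨_, Subfield.subset_closure ⟨a, ha, rfl⟩⟩, IntermediateField.subset_adjoin _ _
        (Finset.mem_image.mpr ⟨⟨a, ha⟩, Finset.mem_attach _ _, rfl⟩), rfl⟩
    obtain ⟨y, hy, hxy⟩ := hsub x.2
    rwa [show x = y from Subtype.ext hxy.symm]
  have htr : Algebra.trdeg (⊥ : Subfield (K s)) (K s) ≤ (t.card : ℕ) := by
    have halg : Algebra.IsAlgebraic (Algebra.adjoin (⊥ : Subfield (K s)) (t : Set (K s))) (K s) := by
      rw [← IntermediateField.isAlgebraic_adjoin_iff_top, htop]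
      exact ⟨fun x => isAlgebraic_algebraMap (⟨x, IntermediateField.mem_top⟩ :
        (⊤ : IntermediateField (⊥ : Subfield (K s)) (K s)))⟩
    obtain ⟨u, hu, hB⟩ := exists_isTranscendenceBasis_subset (R := (⊥ : Subfield (K s))) (A := K s)
      (t : Set (K s))
    rw [← hB.cardinalMk_eq_trdeg]
    refine le_trans (Cardinal.mk_le_mk_of_subset hu) ?_
    simp
  have hdim : ringKrullDim (F s) ≤ ((t.card + 1 : ℕ) : WithBot ℕ∞) := by
    rw [ringKrullDim_eq_of_ringEquiv (RingEquiv.ofBijective e he)]
    exact Groth.Agent.H4Easy.ringKrullDim_valuationSubring_le A htr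
  have hht : ∀ p : PrimeSpectrum (F s), Order.height p ≤ (t.card + 1 : ℕ) := fun p => by
    have h := (Order.height_le_krullDim p).trans hdim
    exact_mod_cast h
  refine Finite.of_injective
    (fun p : PrimeSpectrum (F s) => (⟨(Order.height p).toNat, ?_⟩ : Fin (t.card + 2))) ?_
  · have := ENat.toNat_le_of_le_natCast (hht p)
    omega
  · intro p q h
    have h' : Order.height p = Order.height q := by
      rw [← ENat.natCast_toNat (ne_top_of_le_ne_top (ENat.natCast_ne_top _) (hht p)),
        ← ENat.natCast_toNat (ne_top_of_le_ne_top (ENat.natCast_ne_top _) (hht q))]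
      exact congrArg (fun i : Fin (t.card + 2) => ((i : ℕ) : ℕ∞)) h
    by_contra hne
    rcases le_total p.asIdeal q.asIdeal with hle | hle
    · have hlt : p < q := lt_of_le_of_ne hle hne
      exact (Order.height_strictMono hlt (lt_of_le_of_lt (hht p) (ENat.natCast_lt_top _))).ne h'
    · have hlt : q < p := lt_of_le_of_ne hle (Ne.symm hne)
      exact (Order.height_strictMono hlt (lt_of_le_of_lt (hht q) (ENat.natCast_lt_top _))).ne h'.symm

theorem prufer_finite_primeSpectrum (R : Type u) [CommRing R] [IsDomain R]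
    (hR : ∀ (p : Ideal R) [p.IsPrime], ValuationRing (Localization.AtPrime p))
    (hfin : Finite (MaximalSpectrum R)) (hdim : ringKrullDim R < ⊤) : Finite (PrimeSpectrum R) := by
  classical
  have hbot : ringKrullDim R ≠ ⊥ := fun h => absurd (h ▸ ringKrullDim_nonneg_of_nontrivial (R := R)) (by simp)
  haveI : FiniteRingKrullDim R := finiteRingKrullDim_iff_ne_bot_and_top.2 ⟨hbot, hdim.ne⟩
  obtain ⟨D, hD⟩ := WithBot.ne_bot_iff_exists.1 hbot
  have hDtop : D ≠ ⊤ := fun h => hdim.ne (by rw [← hD, h]; rfl)
  have hchain : ∀ (M : Ideal R) [M.IsPrime] (p q : PrimeSpectrum R), p.asIdeal ≤ M → q.asIdeal ≤ M →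
      p.asIdeal ≤ q.asIdeal ∨ q.asIdeal ≤ p.asIdeal := by
    intro M _ p q hp hq
    haveI := hR M
    have hmap : ∀ p : PrimeSpectrum R, p.asIdeal ≤ M →
        (p.asIdeal.map (algebraMap R (Localization.AtPrime M))).comap (algebraMap R (Localization.AtPrime M)) = p.asIdeal :=
      fun p hp => IsLocalization.comap_map_of_isPrime_disjoint M.primeCompl (Localization.AtPrime M) p.2
        (Set.disjoint_left.2 fun x hx hxp => hx (hp hxp))
    rcases le_total (p.asIdeal.map (algebraMap R (Localization.AtPrime M))) (q.asIdeal.map (algebraMap R (Localization.AtPrime M))) with h | h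
    · left; rw [← hmap p hp, ← hmap q hq]; exact Ideal.comap_mono h
    · right; rw [← hmap p hp, ← hmap q hq]; exact Ideal.comap_mono h
  haveI : Finite (PrimeSpectrum R) := by
    choose M hM hpM using fun p : PrimeSpectrum R => Ideal.exists_le_maximal p.asIdeal p.2.ne_top
    refine Finite.of_injective (β := MaximalSpectrum R × Fin (D.toNat + 1))
      (fun p => (⟨M p, hM p⟩, ⟨p.asIdeal.height.toNat, ?_⟩)) ?_
    · refine Nat.lt_succ_of_le (ENat.toNat_le_toNat ?_ hDtop)
      have h1 := Ideal.height_le_ringKrullDim_of_ne_top p.2.ne_top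
      rw [← hD] at h1
      exact WithBot.coe_le_coe.1 h1
    · intro p q h
      simp only [Prod.mk.injEq, MaximalSpectrum.mk.injEq, Fin.mk.injEq] at h
      haveI := (hM p).isPrime
      have hh : p.asIdeal.height = q.asIdeal.height := by
        have e := h.2
        rw [← ENat.natCast_toNat (Ideal.height_ne_top p.2.ne_top), ← ENat.natCast_toNat (Ideal.height_ne_top q.2.ne_top), e]
      rcases hchain (M p) p q (hpM p) (h.1 ▸ hpM q) with h' | h' <;> rcases h'.eq_or_lt with h'' | h''
      · exact PrimeSpectrum.ext h''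
      · exact absurd hh (Ideal.height_strict_mono_of_isPrime_of_isPrime h'').ne
      · exact (PrimeSpectrum.ext h'').symm
      · exact absurd hh (Ideal.height_strict_mono_of_isPrime_of_isPrime h'').ne'
  infer_instance

theorem noetherianSpace_finiteType_prufer (R : Type u) [CommRing R] [IsDomain R]
    (hR : ∀ (p : Ideal R) [p.IsPrime], ValuationRing (Localization.AtPrime p))
    (hfin : Finite (MaximalSpectrum R)) (hdim : ringKrullDim R < ⊤) (S : Type u) [CommRing S]
    [Algebra R S] [Algebra.FiniteType R S] (M : Submonoid S) (T : Type u) [CommRing T] [Algebra S T]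
    [IsLocalization M T] :
    TopologicalSpace.NoetherianSpace (PrimeSpectrum S) ∧ TopologicalSpace.NoetherianSpace (PrimeSpectrum T) := by
  haveI := prufer_finite_primeSpectrum R hR hfin hdim
  have hfib : ∀ p : PrimeSpectrum R,
      TopologicalSpace.NoetherianSpace ↥(PrimeSpectrum.comap (algebraMap R S) ⁻¹' {p}) := fun p => by
    haveI : IsNoetherianRing (p.asIdeal.Fiber S) :=
      Algebra.FiniteType.isNoetherianRing p.asIdeal.ResidueField _
    exact (PrimeSpectrum.preimageHomeomorphFiber R S p).isInducing.noetherianSpace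
  have hS : TopologicalSpace.NoetherianSpace (PrimeSpectrum S) := by
    rw [← TopologicalSpace.noetherian_univ_iff,
      show (Set.univ : Set (PrimeSpectrum S)) =
        ⋃ p : PrimeSpectrum R, PrimeSpectrum.comap (algebraMap R S) ⁻¹' {p} from
        (Set.iUnion_eq_univ_iff.mpr fun x => ⟨PrimeSpectrum.comap (algebraMap R S) x, rfl⟩).symm]
    haveI := hfib
    exact TopologicalSpace.NoetherianSpace.iUnion _
  exact ⟨hS, (PrimeSpectrum.localization_comap_isEmbedding T M).isInducing.noetherianSpace⟩

end Groth.Agent.H4Easy
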