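import Mathlib
import Groth.Prelude.Def_SymTen

/-! symmetric tensors spanned by tpow when n! invertible; linearised norm -/

set_option autoImplicit false
set_option linter.style.haveILetI false

open scoped TensorProduct

universe u

namespace Groth.Agent.H4Easy


theorem sum_perm_tprod_mem_span_tpow (A : Type u) [CommRing A] (R : Type u) [CommRing R] [Algebra A R]
    (n : ℕ) (x : Fin n → R) :
    (∑ σ : Equiv.Perm (Fin n), PiTensorProduct.tprod A (fun i => x (σ i))) ∈
      Submodule.span A (Set.range fun r : R => PiTensorProduct.tprod A (fun _ : Fin n => r)) := by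
  classical
  have key : (∑ U : Finset (Fin n), (((-1 : ℤ) ^ U.card : ℤ) : A) •
      PiTensorProduct.tprod A (fun _ : Fin n => ∑ j ∈ Uᶜ, x j)) =
      ∑ σ : Equiv.Perm (Fin n), PiTensorProduct.tprod A (fun i => x (σ i)) := by
    simp only [MultilinearMap.map_sum_finset]
    rw [Finset.sum_congr rfl fun U _ => Finset.smul_sum]
    rw [Finset.sum_comm' (t' := (Finset.univ : Finset (Fin n → Fin n)))
      (s' := fun f => (Finset.image f Finset.univ)ᶜ.powerset) (by
        intro U f
        simp only [Finset.mem_univ, true_and, Fintype.mem_piFinset, Finset.mem_compl,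
          Finset.mem_powerset, and_true]
        constructor
        · intro h a ha
          simp only [Finset.mem_compl, Finset.mem_image, Finset.mem_univ, true_and, not_exists]
          intro i hi
          exact h i (hi ▸ ha)
        · intro h i hi
          have := h hi
          simp at this)]
    simp only [← Finset.sum_smul, ← Int.cast_sum, Finset.sum_powerset_neg_one_pow_card,
      apply_ite (Int.cast : ℤ → A), Int.cast_one, Int.cast_zero]
    simp only [ite_smul, one_smul, zero_smul, Finset.sum_ite, Finset.sum_const_zero, add_zero]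
    symm
    refine Finset.sum_bij (fun σ _ => ⇑σ) (fun σ _ => ?_) (fun σ _ τ _ h => Equiv.coe_fn_injective h)
      (fun f hf => ?_) (fun σ _ => rfl)
    · simp only [Finset.mem_filter, Finset.mem_univ, true_and, Finset.compl_eq_empty_iff]
      exact Finset.eq_univ_of_forall fun a => Finset.mem_image.mpr ⟨σ.symm a, by simp, by simp⟩
    · simp only [Finset.mem_filter, Finset.mem_univ, true_and, Finset.compl_eq_empty_iff] at hf
      have hs : Function.Surjective f := fun a => by
        have := hf ▸ Finset.mem_univ a
        simpa using this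
      exact ⟨Equiv.ofBijective f hs.bijective_of_finite, Finset.mem_univ _, rfl⟩
  rw [← key]
  refine sum_mem fun U _ => ?_
  exact Submodule.smul_mem _ _ (Submodule.subset_span ⟨_, rfl⟩)

theorem TS_mem_span_tpow (A : Type u) [CommRing A] (R : Type u) [CommRing R] [Algebra A R] (n : ℕ)
    (hfact : IsUnit ((Nat.factorial n : ℕ) : A)) (t : SymTen.TS A R n) :
    t ∈ Submodule.span A (Set.range (SymTen.tpow A R n)) := by
  classical
  let S := Submodule.span A (Set.range fun r : R => PiTensorProduct.tprod A (fun _ : Fin n => r))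
  have hP : ∀ z : ⨂[A] _ : Fin n, R,
      (∑ σ : Equiv.Perm (Fin n), PiTensorProduct.reindex A (fun _ : Fin n => R) σ z) ∈ S := by
    intro z
    induction z using PiTensorProduct.induction_on with
    | smul_tprod r x =>
      simp only [map_smul, ← Finset.smul_sum, PiTensorProduct.reindex_tprod]
      refine S.smul_mem r ?_
      rw [← Equiv.sum_comp (Equiv.inv (Equiv.Perm (Fin n)))]
      exact sum_perm_tprod_mem_span_tpow A R n x
    | add a b ha hb => simp only [map_add, Finset.sum_add_distrib]; exact add_mem ha hb
  have hmem : (t : ⨂[A] _ : Fin n, R) ∈ S := by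
    have h := hP (t : ⨂[A] _ : Fin n, R)
    rw [Finset.sum_congr rfl (fun σ _ => t.2 σ), Finset.sum_const, Finset.card_univ,
      Fintype.card_perm, Fintype.card_fin, ← Nat.cast_smul_eq_nsmul A] at h
    obtain ⟨v, hv⟩ := hfact
    have h2 := S.smul_mem (↑v⁻¹ : A) h
    rwa [← hv, smul_smul, Units.inv_mul, one_smul] at h2
  have hmap : S = (Submodule.span A (Set.range (SymTen.tpow A R n))).map
      (SymTen.TS A R n).val.toLinearMap := by
    rw [Submodule.map_span, ← Set.range_comp]
    rfl
  rw [hmap] at hmem
  obtain ⟨y, hy, hyt⟩ := hmem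
  rwa [show t = y from Subtype.ext hyt.symm]

theorem existsUnique_linearised_norm (A : Type u) [CommRing A] (R : Type u) [CommRing R] [Algebra A R]
    [Module.Free A R] [Module.Finite A R] (n : ℕ) (hn : Module.finrank A R = n)
    (hfact : IsUnit ((Nat.factorial n : ℕ) : A)) :
    ∃! φ : SymTen.TS A R n →ₐ[A] A, ∀ r : R, φ (SymTen.tpow A R n r) = Algebra.norm A r := by
  classical
  rcases subsingleton_or_nontrivial A with hA | hA
  · refine ⟨{ toFun := fun _ => 0, map_one' := Subsingleton.elim _ _, map_mul' := fun _ _ => Subsingleton.elim _ _,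
              map_zero' := rfl, map_add' := fun _ _ => Subsingleton.elim _ _,
              commutes' := fun _ => Subsingleton.elim _ _ },
      fun _ => Subsingleton.elim _ _, fun _ _ => AlgHom.ext fun _ => Subsingleton.elim _ _⟩
  let b := Module.finBasisOfFinrankEq A R hn
  let L : Fin n → R →ₗ[A] (Fin n → A) := fun j =>
    LinearMap.pi fun i => (Matrix.entryLinearMap A A i j) ∘ₗ (Algebra.leftMulMatrix b).toLinearMap
  let ψ : SymTen.TS A R n →ₗ[A] A :=
    (PiTensorProduct.lift
      ((Matrix.detRowAlternating : (Fin n → A) [⋀^Fin n]→ₗ[A] A).toMultilinearMap.compLinearMap L)) ∘ₗ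
      (SymTen.TS A R n).val.toLinearMap
  have hψ : ∀ r, ψ (SymTen.tpow A R n r) = Algebra.norm A r := by
    intro r
    rw [Algebra.norm_eq_matrix_det b, ← Matrix.det_transpose]
    exact PiTensorProduct.lift.tprod _
  have hext : ∀ φ₁ φ₂ : SymTen.TS A R n →ₗ[A] A,
      (∀ r, φ₁ (SymTen.tpow A R n r) = φ₂ (SymTen.tpow A R n r)) → φ₁ = φ₂ := fun φ₁ φ₂ h =>
    LinearMap.ext fun t => LinearMap.eqOn_span (by rintro _ ⟨r, rfl⟩; exact h r)
      (TS_mem_span_tpow A R n hfact t)
  have hone : ψ 1 = 1 := by rw [← map_one (SymTen.tpow A R n), hψ, map_one]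
  have hmul : ∀ s t, ψ (s * t) = ψ s * ψ t := by
    intro s t
    induction TS_mem_span_tpow A R n hfact s using Submodule.span_induction with
    | mem a ha =>
      obtain ⟨r, rfl⟩ := ha
      induction TS_mem_span_tpow A R n hfact t using Submodule.span_induction with
      | mem c hc =>
        obtain ⟨r', rfl⟩ := hc
        rw [← map_mul, hψ, hψ, hψ, map_mul]
      | zero => simp
      | add c d _ _ hc hd => rw [mul_add, map_add, map_add, hc, hd, mul_add]
      | smul c d _ hd => rw [mul_smul_comm, map_smul, map_smul, hd, mul_smul_comm]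
    | zero => simp
    | add a c _ _ ha hc => rw [add_mul, map_add, map_add, ha, hc, add_mul]
    | smul c a _ ha => rw [smul_mul_assoc, map_smul, map_smul, ha, smul_mul_assoc]
  refine ⟨AlgHom.ofLinearMap ψ hone hmul, hψ, fun φ hφ => ?_⟩
  exact AlgHom.toLinearMap_injective (hext φ.toLinearMap ψ fun r => (hφ r).trans (hψ r).symm)

end Groth.Agent.H4Easy
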