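import Mathlib

/-! criterion for split filtrations: graded pieces projective and fibre rank condition -/

set_option autoImplicit false
set_option linter.style.haveILetI false

open scoped TensorProduct
open DirectSum

universe u v w

namespace Groth.Agent.H4Easy


section
variable {R : Type u} [CommRing R] {M : Type v} [AddCommGroup M] [Module R M]
  (κ : Type*) [Field κ] [Algebra R κ]

/-- the subspace of the fibre generated by a submodule -/
noncomputable def fibSpan (S : Submodule R M) : Submodule κ (κ ⊗[R] M) :=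
  Submodule.span κ ((TensorProduct.mk R κ M 1) '' (S : Set M))

theorem fibSpan_eq_range (S : Submodule R M) :
    LinearMap.range (S.subtype.baseChange κ) = fibSpan κ S := by
  apply le_antisymm
  · rintro _ ⟨z, rfl⟩
    induction z with
    | zero => simp
    | add a b ha hb => rw [map_add]; exact add_mem ha hb
    | tmul c x =>
      rw [LinearMap.baseChange_tmul, show c ⊗ₜ[R] S.subtype x = c • ((1 : κ) ⊗ₜ[R] (x : M)) by
        rw [TensorProduct.smul_tmul', smul_eq_mul, mul_one]; rfl]
      exact Submodule.smul_mem _ _ (Submodule.subset_span ⟨x, x.2, rfl⟩)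
  · rw [fibSpan, Submodule.span_le]
    rintro _ ⟨x, hx, rfl⟩
    exact ⟨1 ⊗ₜ ⟨x, hx⟩, by simp⟩

theorem fibSpan_mono {S T : Submodule R M} (h : S ≤ T) : fibSpan κ S ≤ fibSpan κ T :=
  Submodule.span_mono (Set.image_mono h)

theorem fibSpan_iSup {ι : Sort*} (S : ι → Submodule R M) :
    fibSpan κ (⨆ i, S i) = ⨆ i, fibSpan κ (S i) := by
  refine le_antisymm ?_ (iSup_le fun i => fibSpan_mono κ (le_iSup S i))
  rw [fibSpan, Submodule.span_le]
  rintro _ ⟨x, hx, rfl⟩
  induction hx using Submodule.iSup_induction' with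
  | mem i x hx => exact Submodule.mem_iSup_of_mem i (Submodule.subset_span ⟨x, hx, rfl⟩)
  | zero => simp
  | add a b _ _ ha hb => rw [map_add]; exact add_mem ha hb

theorem fibSpan_sup (S T : Submodule R M) : fibSpan κ (S ⊔ T) = fibSpan κ S ⊔ fibSpan κ T := by
  refine le_antisymm ?_ (sup_le (fibSpan_mono κ le_sup_left) (fibSpan_mono κ le_sup_right))
  rw [fibSpan, Submodule.span_le]
  rintro _ ⟨x, hx, rfl⟩
  obtain ⟨a, ha, b, hb, rfl⟩ := Submodule.mem_sup.mp hx
  rw [map_add]
  exact add_mem (Submodule.mem_sup_left (Submodule.subset_span ⟨a, ha, rfl⟩))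
    (Submodule.mem_sup_right (Submodule.subset_span ⟨b, hb, rfl⟩))

theorem fibSpan_top : fibSpan κ (⊤ : Submodule R M) = ⊤ := by
  rw [← fibSpan_eq_range, LinearMap.range_eq_top]
  intro z
  induction z with
  | zero => exact ⟨0, map_zero _⟩
  | add a b ha hb =>
    obtain ⟨a, rfl⟩ := ha
    obtain ⟨b, rfl⟩ := hb
    exact ⟨a + b, map_add _ _ _⟩
  | tmul c x => exact ⟨c ⊗ₜ ⟨x, trivial⟩, by simp⟩

theorem fibSpan_le_ker {S : Submodule R M} {π : M →ₗ[R] M} (h : S ≤ LinearMap.ker π) :
    fibSpan κ S ≤ LinearMap.ker (π.baseChange κ) := by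
  rw [fibSpan, Submodule.span_le]
  rintro _ ⟨x, hx, rfl⟩
  simp [LinearMap.mem_ker.mp (h hx)]

theorem fibSpan_le_eqLocus {S : Submodule R M} {π : M →ₗ[R] M} (h : ∀ x ∈ S, π x = x) :
    ∀ z ∈ fibSpan κ S, π.baseChange κ z = z := by
  intro z hz
  induction hz using Submodule.span_induction with
  | mem z hz => obtain ⟨x, hx, rfl⟩ := hz; simp [h x hx]
  | zero => simp
  | add a b _ _ ha hb => rw [map_add, ha, hb]
  | smul c a _ ha => rw [map_smul, ha]

end

theorem eq_top_of_fibSpan {R : Type u} [CommRing R] {M : Type v} [AddCommGroup M] [Module R M]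
    [Module.Finite R M] (N : Submodule R M)
    (h : ∀ p : PrimeSpectrum R, fibSpan p.asIdeal.ResidueField N = ⊤) : N = ⊤ := by
  rw [← Submodule.Quotient.subsingleton_iff, ← Module.support_eq_empty_iff (R := R)]
  refine Set.eq_empty_of_forall_notMem fun p hp => ?_
  rw [Module.mem_support_iff_nontrivial_residueField_tensorProduct] at hp
  refine (not_subsingleton_iff_nontrivial.mpr hp) ⟨fun a b => ?_⟩
  have hz : ∀ z : p.asIdeal.ResidueField ⊗[R] (M ⧸ N), z = 0 := by
    intro z
    obtain ⟨y, rfl⟩ := LinearMap.lTensor_surjective p.asIdeal.ResidueField N.mkQ_surjective z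
    have hy : y ∈ fibSpan p.asIdeal.ResidueField N := by rw [h p]; trivial
    change N.mkQ.baseChange p.asIdeal.ResidueField y = 0
    induction hy using Submodule.span_induction with
    | mem z hz =>
      obtain ⟨x, hx, rfl⟩ := hz
      rw [TensorProduct.mk_apply, LinearMap.baseChange_tmul, Submodule.mkQ_apply,
        (Submodule.Quotient.mk_eq_zero N).mpr hx, TensorProduct.tmul_zero]
    | zero => simp
    | add a b _ _ ha hb => rw [map_add, ha, hb, add_zero]
    | smul c a _ ha => rw [map_smul, ha, smul_zero]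
  rw [hz a, hz b]

theorem split_filtration_iff {Γ : Type w} [AddCommGroup Γ] [LinearOrder Γ] [IsOrderedAddMonoid Γ]
    [Nontrivial Γ] {R : Type u} [CommRing R] {M : Type v} [AddCommGroup M] [Module R M]
    [Module.Finite R M] [Module.Projective R M] (F : Γ → Submodule R M) (hF : Antitone F)
    (Fp : Γ → Submodule R M) (hFp : ∀ γ, Fp γ = ⨆ η ∈ Set.Ioi γ, F η) :
    (∃ G : Γ → Submodule R M, DirectSum.IsInternal G ∧ ∀ γ, F γ = ⨆ η ∈ Set.Ici γ, G η) ↔
      ((∀ γ, Module.Finite R (↥(F γ) ⧸ Submodule.comap (F γ).subtype (Fp γ)) ∧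
          Module.Projective R (↥(F γ) ⧸ Submodule.comap (F γ).subtype (Fp γ))) ∧
        ∀ (p : PrimeSpectrum R) (Fx : Γ → Submodule p.asIdeal.ResidueField
            (p.asIdeal.ResidueField ⊗[R] M)),
          (∀ γ, Fx γ = LinearMap.range ((F γ).subtype.baseChange p.asIdeal.ResidueField)) →
          Module.finrank p.asIdeal.ResidueField (p.asIdeal.ResidueField ⊗[R] M) =
            ∑ᶠ γ, (Module.finrank p.asIdeal.ResidueField ↥(Fx γ) -
              Module.finrank p.asIdeal.ResidueField ↥(⨆ η ∈ Set.Ioi γ, Fx η))) := by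
  classical
  have hFp_le : ∀ γ, Fp γ ≤ F γ := fun γ => by
    rw [hFp]; exact iSup₂_le fun η hη => hF (le_of_lt hη)
  constructor
  · rintro ⟨G, hG, hGF⟩
    let e := LinearEquiv.ofBijective (DirectSum.coeLinearMap G) hG
    let π : Γ → M →ₗ[R] M := fun η =>
      (G η).subtype ∘ₗ DirectSum.component R Γ (fun i => G i) η ∘ₗ e.symm.toLinearMap
    have hπmem : ∀ η z, π η z ∈ G η := fun η z => Subtype.coe_prop _
    have he : ∀ θ z (hz : z ∈ G θ), e.symm z = DirectSum.of (fun i => G i) θ ⟨z, hz⟩ := by
      intro θ z hz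
      rw [LinearEquiv.symm_apply_eq]
      exact (DirectSum.coeLinearMap_of G θ ⟨z, hz⟩).symm
    have hπne : ∀ η θ, θ ≠ η → G θ ≤ LinearMap.ker (π η) := by
      intro η θ hne z hz
      change ((e.symm z) η : M) = 0
      rw [he θ z hz, DirectSum.of_eq_of_ne _ _ _ hne.symm]
      rfl
    have hπeq : ∀ η, ∀ z ∈ G η, π η z = z := by
      intro η z hz
      change ((e.symm z) η : M) = z
      rw [he η z hz, DirectSum.of_eq_same]
    have hsup : ∀ γ, F γ = G γ ⊔ Fp γ := by
      intro γ
      apply le_antisymm
      · rw [hGF]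
        refine iSup₂_le fun η hη => ?_
        rcases eq_or_lt_of_le (Set.mem_Ici.mp hη) with rfl | hlt
        · exact le_sup_left
        · refine le_trans ?_ le_sup_right
          rw [hFp]
          refine le_trans ?_ (le_iSup₂ η hlt)
          rw [hGF]
          exact le_iSup₂_of_le η (Set.self_mem_Ici) le_rfl
      · refine sup_le ?_ (hFp_le γ)
        rw [hGF]
        exact le_iSup₂_of_le γ (Set.self_mem_Ici) le_rfl
    have hker : ∀ γ, Fp γ ≤ LinearMap.ker (π γ) := fun γ => by
      rw [hFp]
      refine iSup₂_le fun η hη => ?_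
      rw [hGF]
      exact iSup₂_le fun θ hθ => hπne γ θ (lt_of_lt_of_le hη hθ).ne'
    refine ⟨fun γ => ?_, fun p Fx hFx => ?_⟩
    · have hle : G γ ≤ F γ := hsup γ ▸ le_sup_left
      let f : G γ →ₗ[R] (↥(F γ) ⧸ Submodule.comap (F γ).subtype (Fp γ)) :=
        (Submodule.mkQ _) ∘ₗ Submodule.inclusion hle
      have hf : Function.Bijective f := by
        refine ⟨(injective_iff_map_eq_zero f).mpr fun x hx => ?_, fun y => ?_⟩
        · have h1 : (x : M) ∈ Fp γ := (Submodule.Quotient.mk_eq_zero (Submodule.comap (F γ).subtype (Fp γ))).mp hx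
          exact Subtype.ext ((hπeq γ x x.2).symm.trans (hker γ h1))
        · obtain ⟨⟨z, hz⟩, rfl⟩ := Submodule.Quotient.mk_surjective _ y
          obtain ⟨a, ha, b, hb, hab⟩ := Submodule.mem_sup.mp ((hsup γ).le hz)
          refine ⟨⟨a, ha⟩, (Submodule.Quotient.eq _).mpr ?_⟩
          rw [Submodule.mem_comap, Submodule.subtype_apply, AddSubgroupClass.coe_sub,
            Submodule.coe_inclusion]
          rw [show a - z = -b by rw [← hab]; abel]
          exact neg_mem hb
      let ef := LinearEquiv.ofBijective f hf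
      let pr : M →ₗ[R] G γ := (π γ).codRestrict (G γ) (hπmem γ)
      have hpr : pr ∘ₗ (G γ).subtype = LinearMap.id :=
        LinearMap.ext fun x => Subtype.ext (hπeq γ x x.2)
      haveI : Module.Finite R (G γ) :=
        Module.Finite.of_surjective pr fun x => ⟨x, LinearMap.congr_fun hpr x⟩
      haveI : Module.Projective R (G γ) := Module.Projective.of_split (G γ).subtype pr hpr
      exact ⟨Module.Finite.equiv ef, Module.Projective.of_equiv ef⟩
    · set κ := p.asIdeal.ResidueField
      obtain rfl : Fx = fun γ => fibSpan κ (F γ) := funext fun γ => (hFx γ).trans (fibSpan_eq_range κ _)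
      have hjump : ∀ γ, Module.finrank κ (fibSpan κ (F γ)) -
          Module.finrank κ ↥(⨆ η ∈ Set.Ioi γ, fibSpan κ (F η)) = Module.finrank κ (fibSpan κ (G γ)) := by
        intro γ
        have h1 : (⨆ η ∈ Set.Ioi γ, fibSpan κ (F η)) = fibSpan κ (Fp γ) := by
          rw [hFp, fibSpan_iSup]; simp only [fibSpan_iSup]
        rw [h1, hsup γ, fibSpan_sup]
        have hd : fibSpan κ (G γ) ⊓ fibSpan κ (Fp γ) = ⊥ := by
          rw [eq_bot_iff]
          rintro z ⟨hz1, hz2⟩
          exact (fibSpan_le_eqLocus κ (hπeq γ) z hz1).symm.trans (fibSpan_le_ker κ (hker γ) hz2)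
        have := Submodule.finrank_sup_add_finrank_inf_eq (fibSpan κ (G γ)) (fibSpan κ (Fp γ))
        rw [hd, finrank_bot, add_zero] at this
        omega
      rw [finsum_congr hjump]
      obtain ⟨s, hs⟩ := CompleteLattice.IsCompactElement.exists_finset_of_le_iSup _
        ((Submodule.fg_iff_compact ⊤).mp Module.Finite.fg_top) G hG.submodule_iSup_eq_top.ge
      have hout : ∀ γ ∉ s, G γ = ⊥ := fun γ hγ => by
        rw [eq_bot_iff]
        intro z hz
        have h1 : (⨆ j ∈ s, G j) ≤ LinearMap.ker (π γ) :=
          iSup₂_le fun j hj => hπne γ j fun h => hγ (h ▸ hj)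
        exact (hπeq γ z hz).symm.trans (h1 (hs trivial))
      rw [finsum_eq_sum_of_support_subset _ (s := s) (by
        intro γ hγ
        by_contra hn
        apply hγ
        have hbot : fibSpan κ (G γ) = ⊥ := by
          rw [eq_bot_iff, fibSpan, Submodule.span_le]
          rintro _ ⟨z, hz, rfl⟩
          rw [hout γ hn, SetLike.mem_coe, Submodule.mem_bot] at hz
          simp [hz]
        simp only
        rw [hbot, finrank_bot])]
      have key : ∀ t : Finset Γ, Module.finrank κ ↥(fibSpan κ (⨆ j ∈ t, G j)) =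
          ∑ j ∈ t, Module.finrank κ (fibSpan κ (G j)) := by
        intro t
        induction t using Finset.induction_on with
        | empty =>
          have hbot : fibSpan κ (⨆ j ∈ (∅ : Finset Γ), G j) = ⊥ := by
            rw [eq_bot_iff, fibSpan, Submodule.span_le]
            rintro _ ⟨z, hz, rfl⟩
            simp at hz
            simp [hz]
          rw [hbot, finrank_bot, Finset.sum_empty]
        | insert a t ha ih =>
          rw [Finset.iSup_insert, fibSpan_sup, Finset.sum_insert ha, ← ih]
          have hd : fibSpan κ (G a) ⊓ fibSpan κ (⨆ j ∈ t, G j) = ⊥ := by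
            rw [eq_bot_iff]
            rintro z ⟨hz1, hz2⟩
            exact (fibSpan_le_eqLocus κ (hπeq a) z hz1).symm.trans (fibSpan_le_ker κ
              (iSup₂_le fun j hj => hπne a j fun h => ha (h ▸ hj)) hz2)
          have := Submodule.finrank_sup_add_finrank_inf_eq (fibSpan κ (G a))
            (fibSpan κ (⨆ j ∈ t, G j))
          rw [hd, finrank_bot, add_zero] at this
          omega
      rw [← key s, top_le_iff.mp hs, fibSpan_top, finrank_top]
  · rintro ⟨hgr, hdim⟩
    have hsec : ∀ γ, ∃ G : Submodule R M, G ≤ F γ ∧ F γ = G ⊔ Fp γ ∧ G ⊓ Fp γ = ⊥ := by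
      intro γ
      haveI := (hgr γ).2
      let q := Submodule.mkQ (Submodule.comap (F γ).subtype (Fp γ))
      obtain ⟨σ, hσ⟩ := Module.projective_lifting_property q LinearMap.id (Submodule.mkQ_surjective _)
      let f := (F γ).subtype ∘ₗ σ
      refine ⟨LinearMap.range f, ?_, le_antisymm ?_ (sup_le ?_ (hFp_le γ)), ?_⟩
      · rintro _ ⟨y, rfl⟩; exact (σ y).2
      · intro z hz
        refine Submodule.mem_sup.mpr ⟨f (q ⟨z, hz⟩), ⟨_, rfl⟩, z - f (q ⟨z, hz⟩), ?_, by abel⟩
        have : q (⟨z, hz⟩ - σ (q ⟨z, hz⟩)) = 0 := by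
          rw [map_sub, ← LinearMap.comp_apply q σ, hσ, LinearMap.id_apply, sub_self]
        exact (Submodule.Quotient.mk_eq_zero (Submodule.comap (F γ).subtype (Fp γ))).mp this
      · rintro _ ⟨y, rfl⟩; exact (σ y).2
      · rw [eq_bot_iff]
        rintro _ ⟨⟨y, rfl⟩, hy⟩
        have : q (σ y) = 0 := (Submodule.Quotient.mk_eq_zero _).mpr hy
        rw [← LinearMap.comp_apply, hσ, LinearMap.id_apply] at this
        simp [this]
    choose G hGle hGsup hGinf using hsec
    have hFp' : ∀ γ η, γ < η → F η ≤ Fp γ := fun γ η h => by rw [hFp]; exact le_iSup₂_of_le η h le_rfl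
    have hindep : ∀ (t : Finset Γ) (g : Γ → M), (∀ i ∈ t, g i ∈ G i) → (∑ i ∈ t, g i) = 0 →
        ∀ i ∈ t, g i = 0 := by
      intro t
      induction t using Finset.induction_on_min with
      | empty => simp
      | insert a t hlt ih =>
        intro g hg h0
        have ha : a ∉ t := fun h => lt_irrefl _ (hlt a h)
        rw [Finset.sum_insert ha] at h0
        have h1 : ∑ i ∈ t, g i ∈ Fp a := sum_mem fun i hi =>
          hFp' a i (hlt i hi) (hGle i (hg i (Finset.mem_insert_of_mem hi)))
        have h2 : g a = 0 := (Submodule.eq_bot_iff _).mp (hGinf a) _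
          ⟨hg a (Finset.mem_insert_self a t), by rw [eq_neg_of_add_eq_zero_left h0]; exact neg_mem h1⟩
        intro i hi
        rcases Finset.mem_insert.mp hi with rfl | hi
        · exact h2
        · exact ih g (fun j hj => hg j (Finset.mem_insert_of_mem hj))
            (by rw [h2, zero_add] at h0; exact h0) i hi
    have htop : (⨆ γ, G γ) = ⊤ := by
      refine eq_top_of_fibSpan _ fun p => ?_
      set κ := p.asIdeal.ResidueField
      set D := fibSpan κ (⨆ γ, G γ)
      let a : Γ → ℕ := fun γ => Module.finrank κ (fibSpan κ (F γ))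
      let b : Γ → ℕ := fun γ => Module.finrank κ ↥(⨆ η ∈ Set.Ioi γ, fibSpan κ (F η))
      have hb : ∀ γ η, γ < η → a η ≤ b γ := fun γ η h =>
        Submodule.finrank_mono (le_iSup₂_of_le η h le_rfl)
      have hab : ∀ γ, b γ ≤ a γ := fun γ =>
        Submodule.finrank_mono (iSup₂_le fun η hη => fibSpan_mono κ (hF (le_of_lt hη)))
      have hsum := hdim p (fun γ => fibSpan κ (F γ)) fun γ => (fibSpan_eq_range κ _).symm
      set N := Module.finrank κ (κ ⊗[R] M)
      -- every level is attained by a jump
      have hcover : ∀ d, 1 ≤ d → d ≤ N → ∃ γ, b γ < d ∧ d ≤ a γ := by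
        intro d hd1 hd2
        by_contra hc
        push Not at hc
        have hfin : (Function.support fun γ => a γ - b γ).Finite := by
          by_contra hinf
          rw [finsum_of_not_hasFiniteSupport hinf] at hsum
          omega
        rw [finsum_eq_sum _ hfin] at hsum
        have hdisj : Set.PairwiseDisjoint (hfin.toFinset : Set Γ) fun γ => Finset.Ioc (b γ) (a γ) := by
          intro γ _ η _ hne
          rw [Function.onFun, Finset.disjoint_left]
          intro x hx hy
          rw [Finset.mem_Ioc] at hx hy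
          rcases lt_or_gt_of_ne hne with h | h
          · exact absurd (hb γ η h) (by omega)
          · exact absurd (hb η γ h) (by omega)
        have hsub : hfin.toFinset.biUnion (fun γ => Finset.Ioc (b γ) (a γ)) ⊆
            (Finset.Ioc 0 N).erase d := by
          intro x hx
          obtain ⟨γ, -, hγ⟩ := Finset.mem_biUnion.mp hx
          rw [Finset.mem_Ioc] at hγ
          refine Finset.mem_erase.mpr ⟨fun h => ?_, Finset.mem_Ioc.mpr ⟨by omega,
            le_trans hγ.2 (Submodule.finrank_le _)⟩⟩
          subst h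
          exact absurd (hc γ hγ.1) (by omega)
        have h1 := Finset.card_le_card hsub
        rw [Finset.card_biUnion hdisj, Finset.card_erase_of_mem (Finset.mem_Ioc.mpr ⟨hd1, hd2⟩)] at h1
        simp only [Nat.card_Ioc] at h1
        change N = ∑ γ ∈ hfin.toFinset, (a γ - b γ) at hsum
        omega
      have hlev : ∀ d γ, a γ = d → fibSpan κ (F γ) ≤ D := by
        intro d
        induction d using Nat.strong_induction_on with
        | _ d ih =>
          intro γ hγ
          rcases Nat.eq_zero_or_pos d with rfl | hdpos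
          · rw [Submodule.finrank_eq_zero.mp hγ]; exact bot_le
          obtain ⟨η, h1, h2⟩ := hcover d hdpos (hγ ▸ Submodule.finrank_le _)
          have hge : γ ≤ η := by
            by_contra h
            have := hb η γ (not_le.mp h)
            omega
          have heq : fibSpan κ (F η) = fibSpan κ (F γ) :=
            Submodule.eq_of_le_of_finrank_le (fibSpan_mono κ (hF hge)) (hγ.trans_le h2)
          rw [← heq, hGsup η, fibSpan_sup]
          refine sup_le (fibSpan_mono κ (le_iSup G η)) ?_
          rw [hFp, fibSpan_iSup]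
          refine iSup_le fun θ => ?_
          rw [fibSpan_iSup]
          exact iSup_le fun hθ => ih (a θ) (lt_of_le_of_lt (hb η θ hθ) h1) θ rfl
      rcases Nat.eq_zero_or_pos N with h0 | hpos
      · haveI := Module.finrank_zero_iff.mp h0
        exact Subsingleton.elim _ _
      obtain ⟨γ, -, h2⟩ := hcover N hpos le_rfl
      rw [eq_top_iff, ← Submodule.eq_top_of_finrank_eq (S := fibSpan κ (F γ))
        (le_antisymm (Submodule.finrank_le _) h2)]
      exact hlev _ γ rfl
    have hint : DirectSum.IsInternal G := by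
      refine ⟨(injective_iff_map_eq_zero (DirectSum.coeAddMonoidHom G)).mpr fun z hz => ?_, fun x => ?_⟩
      · ext i
        by_cases hi : i ∈ z.support
        · have := hindep z.support (fun j => (z j : M)) (fun j _ => (z j).2) (by
            rw [← hz]
            exact (DirectSum.coeAddMonoidHom_eq_dfinsuppSum G z).symm) i hi
          rw [this]; rfl
        · rw [DFinsupp.notMem_support_iff.mp hi]; rfl
      · have hx : x ∈ ⨆ γ, G γ := htop ▸ trivial
        induction hx using Submodule.iSup_induction' with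
        | mem i x hx => exact ⟨DirectSum.of (fun j => G j) i ⟨x, hx⟩, DirectSum.coeAddMonoidHom_of G i _⟩
        | zero => exact ⟨0, map_zero _⟩
        | add a b _ _ ha hb =>
          obtain ⟨a', rfl⟩ := ha
          obtain ⟨b', rfl⟩ := hb
          exact ⟨a' + b', map_add _ _ _⟩
    refine ⟨G, hint, fun γ => le_antisymm ?_ (iSup₂_le fun η hη => (hGle η).trans (hF hη))⟩
    intro x hx
    obtain ⟨z, hz⟩ := hint.2 x
    rw [DirectSum.coeAddMonoidHom_eq_dfinsuppSum] at hz
    have key : ∀ (t : Finset Γ) (g : Γ → M), (∀ i ∈ t, g i ∈ G i) → (∑ i ∈ t, g i) ∈ F γ →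
        ∀ i ∈ t, i < γ → g i = 0 := by
      intro t
      induction t using Finset.induction_on_min with
      | empty => simp
      | insert a t hlt ih =>
        intro g hg hmem
        have ha : a ∉ t := fun h => lt_irrefl _ (hlt a h)
        rw [Finset.sum_insert ha] at hmem
        intro i hi hiγ
        have haγ : a < γ := by
          rcases Finset.mem_insert.mp hi with rfl | hi'
          · exact hiγ
          · exact (hlt i hi').trans hiγ
        have h1 : g a ∈ Fp a := by
          have := sub_mem (hFp' a γ haγ hmem) (sum_mem fun j hj =>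
            hFp' a j (hlt j hj) (hGle j (hg j (Finset.mem_insert_of_mem hj))) : ∑ j ∈ t, g j ∈ Fp a)
          simpa using this
        have h2 : g a = 0 := (Submodule.eq_bot_iff _).mp (hGinf a) _
          ⟨hg a (Finset.mem_insert_self a t), h1⟩
        rcases Finset.mem_insert.mp hi with rfl | hi'
        · exact h2
        · exact ih g (fun j hj => hg j (Finset.mem_insert_of_mem hj))
            (by rw [h2, zero_add] at hmem; exact hmem) i hi' hiγ
    rw [← hz]
    refine sum_mem fun i hi => ?_
    rcases lt_or_ge i γ with h | h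
    · have := key z.support (fun j => (z j : M)) (fun j _ => (z j).2) (by
        rw [← hz] at hx; exact hx) i hi h
      simp only at this ⊢
      rw [this]; exact zero_mem _
    · exact le_iSup₂_of_le (f := fun η (_ : η ∈ Set.Ici γ) => G η) i h le_rfl (z i).2

end Groth.Agent.H4Easy
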