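import Mathlib

/-! gluing of bialgebra isomorphisms over a field that is the equalizer of a finite system -/

set_option autoImplicit false
set_option linter.style.haveILetI false

open scoped TensorProduct
open TensorProduct

universe u

namespace Groth.Agent.H4Easy


section
variable {K : Type u} [Field K] {ιv ιe : Type u} [Finite ιv] (Kv : ιv → Type u) [∀ i, CommRing (Kv i)]
  [∀ i, Algebra K (Kv i)] (Ke : ιe → Type u) [∀ k, CommRing (Ke k)] [∀ k, Algebra K (Ke k)]
  (l r : ιe → ιv) (ρl : ∀ k, Kv (l k) →ₐ[K] Ke k) (ρr : ∀ k, Kv (r k) →ₐ[K] Ke k)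
  (hlim : ∀ x : (∀ i, Kv i), (∀ k, ρl k (x (l k)) = ρr k (x (r k))) →
    ∃! a : K, ∀ i, algebraMap K (Kv i) a = x i)

include hlim

theorem tensor_family_injective (M : Type u) [AddCommGroup M] [Module K M] (m m' : M)
    (h : ∀ i, (1 : Kv i) ⊗ₜ[K] m = 1 ⊗ₜ[K] m') : m = m' := by
  classical
  let b := Module.Free.chooseBasis K M
  refine b.ext_elem fun j => ?_
  have hd : ∀ i, algebraMap K (Kv i) (b.repr (m - m') j) = 0 := fun i => by
    have h2 := congrArg (fun z => (Algebra.TensorProduct.basis (Kv i) b).repr z j)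
      (show (1 : Kv i) ⊗ₜ[K] (m - m') = 0 by rw [TensorProduct.tmul_sub, h i, sub_self])
    simpa [Algebra.TensorProduct.basis_repr_tmul] using h2
  have := (hlim (fun _ => 0) (fun k => by simp)).unique (fun i => hd i) (fun i => map_zero _)
  rw [map_sub, Finsupp.sub_apply, sub_eq_zero] at this
  exact this

theorem tensor_family_glue (M : Type u) [AddCommGroup M] [Module K M] (z : ∀ i, Kv i ⊗[K] M)
    (hz : ∀ k, LinearMap.rTensor M (ρl k).toLinearMap (z (l k)) =
      LinearMap.rTensor M (ρr k).toLinearMap (z (r k))) :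
    ∃ m : M, ∀ i, z i = (1 : Kv i) ⊗ₜ[K] m := by
  classical
  cases nonempty_fintype ιv
  let b := Module.Free.chooseBasis K M
  have hρ : ∀ (k : ιe) (i : ιv) (ρ : Kv i →ₐ[K] Ke k) (w : Kv i ⊗[K] M) j,
      (Algebra.TensorProduct.basis (Ke k) b).repr (LinearMap.rTensor M ρ.toLinearMap w) j =
        ρ ((Algebra.TensorProduct.basis (Kv i) b).repr w j) := by
    intro k i ρ w j
    induction w with
    | zero => simp
    | tmul a x =>
      simp only [LinearMap.rTensor_tmul, Algebra.TensorProduct.basis_repr_tmul, Finsupp.smul_apply,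
        Finsupp.mapRange_apply, smul_eq_mul, map_mul, AlgHom.commutes, AlgHom.toLinearMap_apply]
    | add a c ha hc => simp only [map_add, Finsupp.add_apply, ha, hc]
  have hex : ∀ j, ∃! a : K, ∀ i, algebraMap K (Kv i) a =
      (Algebra.TensorProduct.basis (Kv i) b).repr (z i) j :=
    fun j => hlim _ fun k => by rw [← hρ, ← hρ, hz]
  choose a ha using fun j => (hex j).exists
  let s := Finset.univ.biUnion fun i => ((Algebra.TensorProduct.basis (Kv i) b).repr (z i)).support
  have hs : ∀ j, a j ≠ 0 → j ∈ s := fun j hj => by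
    by_contra hn
    apply hj
    refine (hlim (fun _ => 0) (fun k => by simp)).unique (fun i => ?_) (fun i => map_zero _)
    rw [ha j i, ← Finsupp.notMem_support_iff]
    exact fun h => hn (Finset.mem_biUnion.mpr ⟨i, Finset.mem_univ i, h⟩)
  refine ⟨b.repr.symm (Finsupp.onFinset s a hs), fun i => ?_⟩
  apply (Algebra.TensorProduct.basis (Kv i) b).repr.injective
  ext j
  rw [Algebra.TensorProduct.basis_repr_tmul, Finsupp.smul_apply, Finsupp.mapRange_apply,
    LinearEquiv.apply_symm_apply, one_smul, Finsupp.onFinset_apply, ha]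

end

theorem existsUnique_glued_bialgEquiv (K : Type u) [Field K] (ιv ιe : Type u) [Finite ιv] [Finite ιe]
    (Kv : ιv → Type u) [∀ i, CommRing (Kv i)] [∀ i, Algebra K (Kv i)] (Ke : ιe → Type u)
    [∀ k, CommRing (Ke k)] [∀ k, Algebra K (Ke k)] (l r : ιe → ιv)
    (ρl : ∀ k, Kv (l k) →ₐ[K] Ke k) (ρr : ∀ k, Kv (r k) →ₐ[K] Ke k)
    (hlim : ∀ x : (∀ i, Kv i), (∀ k, ρl k (x (l k)) = ρr k (x (r k))) →
      ∃! a : K, ∀ i, algebraMap K (Kv i) a = x i)
    (A B : Type u) [CommRing A] [CommRing B] [Bialgebra K A] [Bialgebra K B]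
    (u : ∀ i, (Kv i ⊗[K] B) ≃ₐc[Kv i] (Kv i ⊗[K] A))
    (hu : ∀ (k : ιe) (b : B), Algebra.TensorProduct.map (ρl k) (AlgHom.id K A) (u (l k) (1 ⊗ₜ[K] b)) =
      Algebra.TensorProduct.map (ρr k) (AlgHom.id K A) (u (r k) (1 ⊗ₜ[K] b))) :
    ∃! v : B ≃ₐc[K] A, ∀ (i : ιv) (b : B), u i (1 ⊗ₜ[K] b) = 1 ⊗ₜ[K] v b := by
  classical
  have inj : ∀ (M : Type u) [AddCommGroup M] [Module K M] (m m' : M),
      (∀ i, (1 : Kv i) ⊗ₜ[K] m = 1 ⊗ₜ[K] m') → m = m' :=
    fun M _ _ => tensor_family_injective Kv Ke l r ρl ρr hlim M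
  have hmap : ∀ (N : Type u) [CommRing N] [Algebra K N] (k i) (ρ : Kv i →ₐ[K] Ke k) (w : Kv i ⊗[K] N),
      LinearMap.rTensor N ρ.toLinearMap w = Algebra.TensorProduct.map ρ (AlgHom.id K N) w := by
    intro N _ _ k i ρ w
    induction w with
    | zero => simp
    | tmul a x => rfl
    | add a c ha hc => simp only [map_add, ha, hc]
  choose v hv using fun b => tensor_family_glue Kv Ke l r ρl ρr hlim A
    (fun i => u i ((1 : Kv i) ⊗ₜ[K] b)) (fun k => by rw [hmap, hmap]; exact hu k b)
  -- surjectivity
  have hsurj : Function.Surjective v := by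
    intro a
    have hz : ∀ k, LinearMap.rTensor B (ρl k).toLinearMap ((u (l k)).toAlgEquiv.symm (1 ⊗ₜ[K] a)) =
        LinearMap.rTensor B (ρr k).toLinearMap ((u (r k)).toAlgEquiv.symm (1 ⊗ₜ[K] a)) := by
      intro k
      set yl := (u (l k)).toAlgEquiv.symm (1 ⊗ₜ[K] a) with hyl
      set yr := (u (r k)).toAlgEquiv.symm (1 ⊗ₜ[K] a) with hyr
      -- the base change of v to Ke k is injective
      let V : Ke k ⊗[K] B →ₐ[K] Ke k ⊗[K] A := Algebra.TensorProduct.lift
        (Algebra.TensorProduct.includeLeft)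
        ((Algebra.TensorProduct.map (ρl k) (AlgHom.id K A)).comp
          (((u (l k)).toAlgEquiv.toAlgHom.restrictScalars K).comp Algebra.TensorProduct.includeRight))
        (fun _ _ => Commute.all _ _)
      have hVl : ∀ w, V (LinearMap.rTensor B (ρl k).toLinearMap w) =
          LinearMap.rTensor A (ρl k).toLinearMap (u (l k) w) := by
        intro w
        induction w with
        | zero => simp
        | tmul c b =>
          have e : u (l k) (c ⊗ₜ[K] b) = c ⊗ₜ[K] v b := by
            rw [show c ⊗ₜ[K] b = c • ((1 : Kv (l k)) ⊗ₜ[K] b) by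
              rw [TensorProduct.smul_tmul', smul_eq_mul, mul_one], map_smul (u (l k)), hv,
              TensorProduct.smul_tmul', smul_eq_mul, mul_one]
          rw [e]
          simp [V, hv]
        | add a c ha hc => simp only [map_add, ha, hc]
      have hVr : ∀ w, V (LinearMap.rTensor B (ρr k).toLinearMap w) =
          LinearMap.rTensor A (ρr k).toLinearMap (u (r k) w) := by
        intro w
        induction w with
        | zero => simp
        | tmul c b =>
          have e : u (r k) (c ⊗ₜ[K] b) = c ⊗ₜ[K] v b := by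
            rw [show c ⊗ₜ[K] b = c • ((1 : Kv (r k)) ⊗ₜ[K] b) by
              rw [TensorProduct.smul_tmul', smul_eq_mul, mul_one], map_smul (u (r k)), hv,
              TensorProduct.smul_tmul', smul_eq_mul, mul_one]
          rw [e]
          simp [V, hv]
        | add a c ha hc => simp only [map_add, ha, hc]
      have hVinj : Function.Injective V := by
        -- a left inverse obtained from the inverse of u (l k)
        let W : Ke k ⊗[K] A →ₐ[K] Ke k ⊗[K] B := Algebra.TensorProduct.lift
          (Algebra.TensorProduct.includeLeft)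
          ((Algebra.TensorProduct.map (ρl k) (AlgHom.id K B)).comp
            (((u (l k)).toAlgEquiv.symm.toAlgHom.restrictScalars K).comp Algebra.TensorProduct.includeRight))
          (fun _ _ => Commute.all _ _)
        refine Function.LeftInverse.injective (g := W) fun w => ?_
        induction w with
        | zero => simp
        | add a c ha hc => rw [map_add, map_add, ha, hc]
        | tmul e b =>
          have hinv : (u (l k)).toAlgEquiv.symm (1 ⊗ₜ[K] v b) = 1 ⊗ₜ[K] b := by
            rw [AlgEquiv.symm_apply_eq]; exact (hv b (l k)).symm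
          simp [V, W, hv, hinv]
      apply hVinj
      rw [hVl, hVr, hyl, hyr]
      change LinearMap.rTensor A (ρl k).toLinearMap
          ((u (l k)).toAlgEquiv ((u (l k)).toAlgEquiv.symm _)) =
        LinearMap.rTensor A (ρr k).toLinearMap ((u (r k)).toAlgEquiv ((u (r k)).toAlgEquiv.symm _))
      rw [AlgEquiv.apply_symm_apply, AlgEquiv.apply_symm_apply]
      simp
    obtain ⟨b, hb⟩ := tensor_family_glue Kv Ke l r ρl ρr hlim B
      (fun i => (u i).toAlgEquiv.symm ((1 : Kv i) ⊗ₜ[K] a)) hz
    refine ⟨b, inj A _ _ fun i => ?_⟩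
    rw [← hv b i, ← hb i]
    exact (u i).toAlgEquiv.apply_symm_apply _
  let vA : B →ₐ[K] A :=
    { toFun := v
      map_one' := inj A _ _ fun i => by
        rw [← hv 1 i, ← Algebra.TensorProduct.one_def, map_one]; rfl
      map_mul' := fun a b => inj A _ _ fun i => by
        rw [← hv (a * b) i]
        conv_rhs => rw [← one_mul (1 : Kv i), ← Algebra.TensorProduct.tmul_mul_tmul, ← hv, ← hv,
          ← map_mul, Algebra.TensorProduct.tmul_mul_tmul, one_mul]
      map_zero' := inj A _ _ fun i => by rw [← hv 0 i, TensorProduct.tmul_zero, map_zero, TensorProduct.tmul_zero]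
      map_add' := fun a b => inj A _ _ fun i => by
        rw [← hv (a + b) i, TensorProduct.tmul_add, map_add, hv, hv, TensorProduct.tmul_add]
      commutes' := fun c => inj A _ _ fun i => by
        rw [← hv _ i, Algebra.algebraMap_eq_smul_one, Algebra.algebraMap_eq_smul_one,
          TensorProduct.tmul_smul, TensorProduct.tmul_smul, ← algebraMap_smul (Kv i) c,
          ← algebraMap_smul (Kv i) c, map_smul, ← Algebra.TensorProduct.one_def, map_one]
        rfl }
  have hinj : Function.Injective v := fun a b h => inj B _ _ fun i => (u i).toAlgEquiv.injective (by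
    change u i _ = u i _
    rw [hv, hv, h])
  let vE : B ≃ₐ[K] A := AlgEquiv.ofBijective vA ⟨hinj, hsurj⟩
  have hcounit : (Bialgebra.counitAlgHom K A).comp vE = Bialgebra.counitAlgHom K B := by
    refine AlgHom.ext fun b => inj K _ _ fun i => ?_
    have h := CoalgHomClass.counit_comp_apply (u i) ((1 : Kv i) ⊗ₜ[K] b)
    rw [hv] at h
    have h2 : ∀ c : K, (1 : Kv i) ⊗ₜ[K] c = (algebraMap K (Kv i) c) ⊗ₜ[K] (1 : K) := fun c => by
      rw [Algebra.algebraMap_eq_smul_one, TensorProduct.smul_tmul, smul_eq_mul, mul_one]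
    rw [h2, h2]
    congr 1
    simp [Algebra.algebraMap_eq_smul_one] at h ⊢
    exact h
  have hcomul : (Algebra.TensorProduct.map vE vE).comp (Bialgebra.comulAlgHom K B) =
      (Bialgebra.comulAlgHom K A).comp vE := by
    refine AlgHom.ext fun b => inj (A ⊗[K] A) _ _ fun i => ?_
    have hJ : ∀ (N : Type u) [CommRing N] [Bialgebra K N] (n : N),
        Coalgebra.comul (R := Kv i) ((1 : Kv i) ⊗ₜ[K] n) =
          AlgebraTensorModule.distribBaseChange K (Kv i) N N ((1 : Kv i) ⊗ₜ[K] Coalgebra.comul n) := by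
      intro N _ _ n
      rw [TensorProduct.comul_tmul, CommSemiring.comul_apply]
      induction Coalgebra.comul (R := K) n with
      | zero => simp
      | tmul a c => simp [AlgebraTensorModule.distribBaseChange]
      | add a c ha hc => simp only [TensorProduct.tmul_add, map_add, ha, hc]
    apply (AlgebraTensorModule.distribBaseChange K (Kv i) A A).injective
    simp only [AlgHom.comp_apply, Bialgebra.comulAlgHom_apply]
    rw [← hJ A, show (1 : Kv i) ⊗ₜ[K] (vE : B →ₐ[K] A) b = u i (1 ⊗ₜ[K] b) from (hv b i).symm,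
      ← CoalgHomClass.map_comp_comul_apply, hJ B]
    induction Coalgebra.comul (R := K) b with
    | zero => simp
    | tmul a c =>
      simp only [Algebra.TensorProduct.map_tmul, AlgebraTensorModule.distribBaseChange]
      simp
      exact congrArg₂ (fun x y => x ⊗ₜ[Kv i] y) (hv a i).symm (hv c i).symm
    | add a c ha hc => simp only [TensorProduct.tmul_add, map_add, ha, hc]
  refine ⟨BialgEquiv.ofAlgEquiv vE hcounit hcomul, fun i b => hv b i, fun w hw => ?_⟩
  exact BialgEquiv.ext fun b => inj A _ _ fun i => by rw [← hw i b, hv b i]; rfl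

end Groth.Agent.H4Easy
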