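import Mathlib

/-! strictness of Fontaine-Laffaille data -/

set_option autoImplicit false
set_option linter.style.haveILetI false

open DirectSum

universe u v

namespace Groth.Agent.H4Easy


theorem length_eq_of_semilinear_bijective {R : Type u} [CommRing R] {σ : R →+* R} [RingHomSurjective σ]
    {M M' : Type*} [AddCommGroup M] [Module R M] [AddCommGroup M'] [Module R M'] (f : M →ₛₗ[σ] M')
    (hf : Function.Bijective f) : Module.length R M = Module.length R M' := by
  apply WithBot.coe_injective
  rw [Module.coe_length, Module.coe_length]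
  let e : Submodule R M ≃o Submodule R M' :=
    { toFun := Submodule.map f
      invFun := Submodule.comap f
      left_inv := fun S => Submodule.comap_map_eq_of_injective hf.1 S
      right_inv := fun S => Submodule.map_comap_eq_of_surjective hf.2 S
      map_rel_iff' := fun {S T} => by
        refine ⟨fun h => ?_, fun h => Submodule.map_mono h⟩
        have := Submodule.comap_mono (f := f) h
        simpa [Submodule.comap_map_eq_of_injective hf.1] using this }
  exact Order.krullDim_eq_of_orderIso e

theorem fl_iota_injective {R : Type u} [CommRing R] {σ : R →+* R} [RingHomSurjective σ] (c : R)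
    (r : ℕ) (N : ℕ → Type v) [∀ i, AddCommGroup (N i)] [∀ i, Module R (N i)]
    (hfl : ∀ i, IsFiniteLength R (N i)) (α : ∀ i, N (i + 1) →ₗ[R] N i) (φ : ∀ i, N i →ₛₗ[σ] N 0)
    (hsurj : ∀ m : N 0, ∃ y : (i : ℕ) → N i, (∀ i, r < i → y i = 0) ∧
      (Finset.range (r + 1)).sum (fun i => φ i (y i)) = m)
    (hker : ∀ y : (i : ℕ) → N i, (∀ i, r < i → y i = 0) →
      (Finset.range (r + 1)).sum (fun i => φ i (y i)) = 0 →
      ∃ z : (i : ℕ) → N (i + 1), (∀ i, r ≤ i → z i = 0) ∧ y 0 = α 0 (z 0) ∧
        ∀ i, y (i + 1) = α (i + 1) (z (i + 1)) - c • z i)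
    (z : (i : ℕ) → N (i + 1)) (hz : ∀ i, r ≤ i → z i = 0) (h0 : α 0 (z 0) = 0)
    (hrec : ∀ i, α (i + 1) (z (i + 1)) - c • z i = 0) (i : ℕ) : z i = 0 := by
  classical
  let B := Π i : Fin (r + 1), N (i : ℕ)
  let A := Π i : Fin r, N ((i : ℕ) + 1)
  let ext : A →ₗ[R] ((i : ℕ) → N (i + 1)) :=
    { toFun := fun a i => if h : i < r then a ⟨i, h⟩ else 0
      map_add' := fun a b => by funext i; simp only [Pi.add_apply]; split_ifs <;> first | rfl | simp
      map_smul' := fun x a => by funext i; simp only [Pi.smul_apply, RingHom.id_apply]; split_ifs <;> first | rfl | simp }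
  let full : ((i : ℕ) → N (i + 1)) →ₗ[R] ((i : ℕ) → N i) :=
    { toFun := fun w i => match i with
        | 0 => α 0 (w 0)
        | j + 1 => α (j + 1) (w (j + 1)) - c • w j
      map_add' := fun a b => by
        funext i
        match i with
        | 0 => simp
        | j + 1 => simp only [Pi.add_apply, map_add, smul_add]; abel
      map_smul' := fun x a => by
        funext i
        match i with
        | 0 => simp
        | j + 1 => simp only [Pi.smul_apply, RingHom.id_apply, map_smul, smul_sub, smul_comm c x] }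
  let iota : A →ₗ[R] B :=
    (LinearMap.pi fun i : Fin (r + 1) => LinearMap.proj (i : ℕ)) ∘ₗ full ∘ₗ ext
  let Φ : B →ₛₗ[σ] N 0 :=
    ∑ i : Fin (r + 1), (φ (i : ℕ)).comp (LinearMap.proj i : B →ₗ[R] N (i : ℕ))
  have hΦ : ∀ y : (i : ℕ) → N i, Φ (fun i : Fin (r + 1) => y i) =
      (Finset.range (r + 1)).sum (fun i => φ i (y i)) := fun y => by
    simp only [Φ, LinearMap.coe_sum, Finset.sum_apply, LinearMap.comp_apply, LinearMap.proj_apply]
    exact Fin.sum_univ_eq_sum_range (fun i => φ i (y i)) (r + 1)
  have hΦs : Function.Surjective Φ := fun m => by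
    obtain ⟨y, -, hy⟩ := hsurj m
    exact ⟨fun i => y i, (hΦ y).trans hy⟩
  have hle : LinearMap.ker Φ ≤ LinearMap.range iota := by
    intro b hb
    let y : (i : ℕ) → N i := fun i => if h : i < r + 1 then b ⟨i, h⟩ else 0
    have hyb : (fun i : Fin (r + 1) => y i) = b := funext fun i => dif_pos i.2
    obtain ⟨w, hw, hw0, hws⟩ := hker y (fun i hi => dif_neg (by omega)) (by rw [← hΦ, hyb]; exact hb)
    refine ⟨fun i : Fin r => w i, ?_⟩
    have hext : ext (fun i : Fin r => w i) = w := funext fun i => by
      change (if h : i < r then w i else 0) = w i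
      split_ifs with h
      · rfl
      · exact (hw i (by omega)).symm
    funext i
    change full (ext fun i : Fin r => w i) (i : ℕ) = b i
    rw [hext, ← congrFun hyb i]
    obtain ⟨i, hi⟩ := i
    match i with
    | 0 => exact hw0.symm
    | j + 1 => exact (hws j).symm
  -- the length count
  have hBfl : ∀ i : Fin (r + 1), Module.length R (N (i : ℕ)) ≠ ⊤ := fun i =>
    Module.length_ne_top_iff.mpr (hfl _)
  have lB : Module.length R B = Module.length R (N 0) + Module.length R A := by
    rw [Module.length_pi_of_fintype, Module.length_pi_of_fintype, Fin.sum_univ_succ]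
    rfl
  have hAtop : Module.length R A ≠ ⊤ := by
    rw [Module.length_pi_of_fintype, ENat.sum_ne_top]
    exact fun i _ => Module.length_ne_top_iff.mpr (hfl _)
  have l1 : Module.length R A = Module.length R (LinearMap.ker iota) +
      Module.length R (LinearMap.range iota) :=
    Module.length_eq_add_of_exact (LinearMap.ker iota).subtype iota.rangeRestrict
      Subtype.val_injective iota.surjective_rangeRestrict
      (LinearMap.exact_iff.mpr (by rw [LinearMap.ker_rangeRestrict, Submodule.range_subtype]))
  have l2 : Module.length R B = Module.length R (LinearMap.range iota) +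
      Module.length R (B ⧸ LinearMap.range iota) :=
    Module.length_eq_add_of_exact (LinearMap.range iota).subtype (LinearMap.range iota).mkQ
      Subtype.val_injective (Submodule.mkQ_surjective _) (LinearMap.exact_subtype_mkQ _)
  have l3 : Module.length R (B ⧸ LinearMap.range iota) ≤ Module.length R (B ⧸ LinearMap.ker Φ) :=
    Module.length_le_of_surjective (Submodule.factor hle) (Submodule.factor_surjective hle)
  have l4 : Module.length R (B ⧸ LinearMap.ker Φ) = Module.length R (N 0) := by
    refine length_eq_of_semilinear_bijective ((LinearMap.ker Φ).liftQ Φ le_rfl) ⟨?_, ?_⟩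
    · exact LinearMap.ker_eq_bot.mp (Submodule.ker_liftQ_eq_bot _ _ _ le_rfl)
    · intro m
      obtain ⟨b, rfl⟩ := hΦs m
      exact ⟨Submodule.Quotient.mk b, rfl⟩
  have hN0 : Module.length R (N 0) ≠ ⊤ := Module.length_ne_top_iff.mpr (hfl _)
  have hker0 : Module.length R (LinearMap.ker iota) = 0 := by
    have h5 : Module.length R (N 0) + Module.length R A ≤
        Module.length R (LinearMap.range iota) + Module.length R (N 0) := by
      rw [← lB, l2]
      exact add_le_add le_rfl (l3.trans l4.le)
    rw [l1] at h5 hAtop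
    lift Module.length R (N 0) to ℕ using hN0 with a
    obtain ⟨h6, h7⟩ := WithTop.add_ne_top.mp hAtop
    lift Module.length R (LinearMap.ker iota) to ℕ using h6 with b
    lift Module.length R (LinearMap.range iota) to ℕ using h7 with d
    norm_cast at h5 ⊢
    omega
  rw [Module.length_eq_zero_iff] at hker0
  by_cases hi : i < r
  · have hext : ext (fun j : Fin r => z j) = z := funext fun j => by
      change (if h : j < r then z j else 0) = z j
      split_ifs with h
      · rfl
      · exact (hz j (by omega)).symm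
    have hmem : (fun j : Fin r => z j) ∈ LinearMap.ker iota := by
      rw [LinearMap.mem_ker]
      funext j
      change full (ext fun j : Fin r => z j) (j : ℕ) = 0
      rw [hext]
      obtain ⟨j, hj⟩ := j
      match j with
      | 0 => exact h0
      | j + 1 => exact hrec j
    exact congrFun (congrArg Subtype.val (Subsingleton.elim (⟨_, hmem⟩ : LinearMap.ker iota) 0)) ⟨i, hi⟩
  · exact hz i (by omega)

theorem fontaineLaffaille_strict (p : ℕ) [Fact p.Prime] (k : Type u) [Field k] [CharP k p]
    [PerfectRing k p] (r : ℕ) (N : ℕ → Type v) [∀ i, AddCommGroup (N i)]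
    [∀ i, Module (WittVector p k) (N i)] (hfl : ∀ i, IsFiniteLength (WittVector p k) (N i))
    (α : ∀ i, N (i + 1) →ₗ[WittVector p k] N i)
    (φ : ∀ i, N i →ₛₗ[(WittVector.frobenius : WittVector p k →+* WittVector p k)] N 0)
    (hsurj : ∀ m : N 0, ∃ y : (i : ℕ) → N i, (∀ i, r < i → y i = 0) ∧
      (Finset.range (r + 1)).sum (fun i => φ i (y i)) = m)
    (hker : ∀ y : (i : ℕ) → N i, (∀ i, r < i → y i = 0) →
      (Finset.range (r + 1)).sum (fun i => φ i (y i)) = 0 →
      ∃ z : (i : ℕ) → N (i + 1), (∀ i, r ≤ i → z i = 0) ∧ y 0 = α 0 (z 0) ∧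
        ∀ i, y (i + 1) = α (i + 1) (z (i + 1)) - (p : WittVector p k) • z i)
    (i : ℕ) (hi : i < r) :
    Function.Injective (α i) ∧
      ∃ Q : Submodule (WittVector p k) (N i), IsCompl (LinearMap.range (α i)) Q := by
  classical
  haveI : RingHomSurjective (WittVector.frobenius : WittVector p k →+* WittVector p k) :=
    ⟨(WittVector.frobenius_bijective p k).surjective⟩
  set I : ℕ → Ideal (WittVector p k) := fun n => Ideal.span {(p : WittVector p k) ^ n}
  have memP : ∀ (n j : ℕ) (x : N j), x ∈ I n • (⊤ : Submodule (WittVector p k) (N j)) ↔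
      ∃ y, (p : WittVector p k) ^ n • y = x := fun n j x => by
    rw [Submodule.ideal_span_singleton_smul, Submodule.mem_smul_pointwise_iff_exists]
    simp
  -- injectivity modulo every power of p
  have key : ∀ n, ∀ z : (j : ℕ) → N (j + 1), (∀ j, r ≤ j → z j = 0) →
      α 0 (z 0) ∈ I n • (⊤ : Submodule (WittVector p k) (N 0)) →
      (∀ j, α (j + 1) (z (j + 1)) - (p : WittVector p k) • z j ∈
        I n • (⊤ : Submodule (WittVector p k) (N (j + 1)))) →
      ∀ j, z j ∈ I n • (⊤ : Submodule (WittVector p k) (N (j + 1))) := by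
    intro n z hz hz0 hzs j
    let P : ∀ j, Submodule (WittVector p k) (N j) := fun j => I n • ⊤
    have hP : ∀ (a b : ℕ) (f : N a →ₗ[WittVector p k] N b), P a ≤ (P b).comap f := fun a b f x hx => by
      obtain ⟨y, rfl⟩ := (memP n a x).mp hx
      exact (memP n b _).mpr ⟨f y, (map_smul f _ _).symm⟩
    have hPφ : ∀ j, P j ≤ (P 0).comap (φ j) := fun j x hx => by
      obtain ⟨y, rfl⟩ := (memP n j x).mp hx
      exact (memP n 0 _).mpr ⟨φ j y, by rw [LinearMap.map_smulₛₗ, map_pow, map_natCast]⟩
    have h := fl_iota_injective (σ := WittVector.frobenius) (p : WittVector p k) r (fun j => N j ⧸ P j)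
      (fun j => by
        rw [← Module.length_ne_top_iff]
        exact ne_top_of_le_ne_top (Module.length_ne_top_iff.mpr (hfl j))
          (Module.length_le_of_surjective (P j).mkQ (P j).mkQ_surjective))
      (fun j => (P (j + 1)).mapQ (P j) (α j) (hP _ _ _))
      (fun j => (P j).mapQ (P 0) (φ j) (hPφ j))
      (fun m => by
        obtain ⟨m, rfl⟩ := Submodule.Quotient.mk_surjective _ m
        obtain ⟨y, hy, hym⟩ := hsurj m
        refine ⟨fun j => Submodule.Quotient.mk (y j), fun j hj => by simp [hy j hj], ?_⟩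
        rw [← hym, ← Submodule.mkQ_apply, map_sum]
        rfl)
      (fun y hy hsum => by
        choose y' hy' using fun j => Submodule.Quotient.mk_surjective _ (y j)
        let w : (j : ℕ) → N j := fun j => if j ≤ r then y' j else 0
        have hw : ∀ j, Submodule.Quotient.mk (w j) = y j := fun j => by
          simp only [w]
          split_ifs with h
          · exact hy' j
          · rw [Submodule.Quotient.mk_zero, hy j (by omega)]
        have hmem : (Finset.range (r + 1)).sum (fun j => φ j (w j)) ∈ P 0 := by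
          rw [← Submodule.Quotient.mk_eq_zero, ← Submodule.mkQ_apply, map_sum, ← hsum]
          refine Finset.sum_congr rfl fun j _ => ?_
          rw [← hw j]
          rfl
        obtain ⟨m, hm⟩ := (memP n 0 _).mp hmem
        obtain ⟨v, hv, hvm⟩ := hsurj m
        obtain ⟨u, hu, hu0, hus⟩ := hker (fun j => w j - (p : WittVector p k) ^ n • v j)
          (fun j hj => by simp [w, hv j hj, not_le.mpr hj]) (by
            simp only [map_sub, LinearMap.map_smulₛₗ, map_pow, map_natCast, Finset.sum_sub_distrib,
              ← Finset.smul_sum, hvm, hm, sub_self])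
        have hmk : ∀ j, (Submodule.Quotient.mk (w j - (p : WittVector p k) ^ n • v j) : N j ⧸ P j) = y j :=
          fun j => by
            rw [Submodule.Quotient.mk_sub, hw,
              (Submodule.Quotient.mk_eq_zero (P j)).mpr ((memP n j _).mpr ⟨v j, rfl⟩), sub_zero]
        refine ⟨fun j => Submodule.Quotient.mk (u j), fun j hj => by simp [hu j hj], ?_, fun j => ?_⟩
        · rw [← hmk 0, hu0]; rfl
        · rw [← hmk (j + 1), hus j]; rfl)
      (fun j => Submodule.Quotient.mk (z j)) (fun j hj => by simp [hz j hj])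
      ((Submodule.Quotient.mk_eq_zero (P 0)).mpr hz0)
      (fun j => (Submodule.Quotient.mk_eq_zero (P (j + 1))).mpr (hzs j)) j
    exact (Submodule.Quotient.mk_eq_zero _).mp h
  -- purity
  have pure : ∀ n, ∀ x : N (i + 1), α i x ∈ I n • (⊤ : Submodule (WittVector p k) (N i)) →
      x ∈ I n • (⊤ : Submodule (WittVector p k) (N (i + 1))) := by
    intro n
    induction n with
    | zero => intro x _; exact (memP 0 _ _).mpr ⟨x, by simp⟩
    | succ n ih =>
      intro x hx
      obtain ⟨y, hy⟩ := (memP (n + 1) _ _).mp hx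
      obtain ⟨x', hx'⟩ := (memP n _ _).mp (ih x ((memP n _ _).mpr
        ⟨(p : WittVector p k) • y, by rw [← hy, pow_succ, mul_smul]⟩))
      let z : (j : ℕ) → N (j + 1) := Function.update 0 i x
      have hzi : z i = x := Function.update_self _ _ _
      have hzne : ∀ j, j ≠ i → z j = 0 := fun j hj => Function.update_of_ne hj _ _
      have hpx : (p : WittVector p k) • x ∈ I (n + 1) • (⊤ : Submodule (WittVector p k) (N (i + 1))) :=
        (memP _ _ _).mpr ⟨x', by rw [← hx', ← mul_smul, ← pow_succ']⟩
      have h := key (n + 1) z (fun j hj => hzne j (by omega)) (by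
          rcases Nat.eq_zero_or_pos i with rfl | hpos
          · rw [hzi]; exact hx
          · rw [hzne 0 (by omega), map_zero]; exact zero_mem _) (fun j => ?_) i
      · rwa [hzi] at h
      · refine sub_mem ?_ ?_
        · by_cases hj : j + 1 = i
          · subst hj; rw [hzi]; exact hx
          · rw [hzne _ hj, map_zero]; exact zero_mem _
        · by_cases hj : j = i
          · subst hj; rw [hzi]; exact hpx
          · rw [hzne _ hj, smul_zero]; exact zero_mem _
  -- nilpotence of p
  have hnil : ∀ j, ∃ n, ∀ x : N j, (p : WittVector p k) ^ n • x = 0 := by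
    intro j
    obtain ⟨hno, har⟩ := isFiniteLength_iff_isNoetherian_isArtinian.mp (hfl j)
    let chain : ℕ →o (Submodule (WittVector p k) (N j))ᵒᵈ :=
      ⟨fun n => OrderDual.toDual (I n • ⊤), fun a b hab => Submodule.smul_mono_left
        (Ideal.span_singleton_le_span_singleton.mpr (pow_dvd_pow _ hab))⟩
    obtain ⟨n, hn⟩ := monotone_stabilizes_iff_artinian.mpr har chain
    refine ⟨n, fun x => ?_⟩
    have hbot : I n • (⊤ : Submodule (WittVector p k) (N j)) = ⊥ := by
      refine Submodule.eq_bot_of_le_smul_of_le_jacobson_bot (Ideal.span {(p : WittVector p k)}) _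
        (IsNoetherian.noetherian _) ?_ (IsAdicComplete.le_jacobson_bot _)
      rw [← Submodule.mul_smul, Ideal.span_singleton_mul_span_singleton, ← pow_succ']
      exact (OrderDual.toDual.injective (hn (n + 1) (Nat.le_succ n))).le
    have := (memP n j _).mpr ⟨x, rfl⟩
    rwa [hbot, Submodule.mem_bot] at this
  obtain ⟨n₁, hn₁⟩ := hnil (i + 1)
  refine ⟨(injective_iff_map_eq_zero (α i)).mpr fun x hx => ?_, ?_⟩
  · obtain ⟨y, rfl⟩ := (memP n₁ _ _).mp (pure n₁ x (by rw [hx]; exact zero_mem _))
    exact hn₁ y
  -- the complement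
  set H := LinearMap.range (α i)
  obtain ⟨n₀, hn₀⟩ := hnil i
  haveI := (isFiniteLength_iff_isNoetherian_isArtinian.mp (hfl i)).1
  have htor : Module.IsTorsion' (N i ⧸ H) (Submonoid.powers (p : WittVector p k)) := by
    intro x
    obtain ⟨x, rfl⟩ := H.mkQ_surjective x
    exact ⟨⟨_, n₀, rfl⟩, by
      change (p : WittVector p k) ^ n₀ • H.mkQ x = 0
      rw [← map_smul, hn₀, map_zero]⟩
  obtain ⟨d, e, ⟨E⟩⟩ := Module.torsion_by_prime_power_decomposition (WittVector.irreducible p (k := k)) htor
  have hlift : ∀ l : Fin d, ∃ y : N i, (p : WittVector p k) ^ e l • y = 0 ∧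
      H.mkQ y = E.symm (DirectSum.lof (WittVector p k) (Fin d) (fun l => WittVector p k ⧸ (WittVector p k) ∙ ((p : WittVector p k) ^ e l)) l (Submodule.Quotient.mk 1)) := by
    intro l
    set g := E.symm (DirectSum.lof (WittVector p k) (Fin d) (fun l => WittVector p k ⧸ (WittVector p k) ∙ ((p : WittVector p k) ^ e l)) l (Submodule.Quotient.mk 1))
    obtain ⟨y, hy⟩ := H.mkQ_surjective g
    have h1 : (p : WittVector p k) ^ e l • y ∈ H := by
      rw [← Submodule.Quotient.mk_eq_zero, ← Submodule.mkQ_apply, map_smul, hy, ← map_smul,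
        ← map_smul, ← Submodule.Quotient.mk_smul, smul_eq_mul, mul_one,
        (Submodule.Quotient.mk_eq_zero _).mpr (Submodule.mem_span_singleton_self _), map_zero, map_zero]
    obtain ⟨x, hx⟩ := h1
    obtain ⟨x', hx'⟩ := (memP _ _ _).mp (pure (e l) x ((memP _ _ _).mpr ⟨y, hx.symm⟩))
    refine ⟨y - α i x', ?_, ?_⟩
    · rw [smul_sub, ← map_smul, hx', hx, sub_self]
    · rw [map_sub, hy, Submodule.mkQ_apply H (α i x'), (Submodule.Quotient.mk_eq_zero H).mpr ⟨x', rfl⟩,
        sub_zero]
  choose y hy0 hy using hlift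
  let s : (⨁ l : Fin d, WittVector p k ⧸ (WittVector p k) ∙ ((p : WittVector p k) ^ e l)) →ₗ[WittVector p k] N i :=
    DirectSum.toModule _ _ _ fun l =>
      Submodule.liftQSpanSingleton _ (LinearMap.toSpanSingleton _ _ (y l)) (by simpa using hy0 l)
  let sec := s ∘ₗ E.toLinearMap
  have hsec : ∀ q, H.mkQ (sec q) = q := by
    have : H.mkQ ∘ₗ s = E.symm.toLinearMap := by
      refine DirectSum.linearMap_ext (WittVector p k) fun l => ?_
      refine Submodule.linearMap_qext _ (LinearMap.ext_ring ?_)
      simp only [s, LinearMap.comp_apply, DirectSum.toModule_lof, Submodule.mkQ_apply]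
      simp only [Submodule.liftQSpanSingleton, Submodule.liftQ_apply, LinearMap.toSpanSingleton_apply,
        one_smul]
      exact hy l
    intro q
    have h := LinearMap.congr_fun this (E q)
    simpa [sec] using h
  refine ⟨LinearMap.range sec, ⟨?_, ?_⟩⟩
  · rw [Submodule.disjoint_def]
    rintro _ hH ⟨q, rfl⟩
    have := hsec q
    rw [Submodule.mkQ_apply, (Submodule.Quotient.mk_eq_zero H).mpr hH] at this
    rw [← this, map_zero]
  · rw [codisjoint_iff, eq_top_iff]
    intro x _
    refine Submodule.mem_sup.mpr ⟨x - sec (H.mkQ x), ?_, sec (H.mkQ x), ⟨_, rfl⟩, sub_add_cancel _ _⟩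
    rw [← Submodule.Quotient.mk_eq_zero, ← Submodule.mkQ_apply, map_sub, hsec, sub_self]

end Groth.Agent.H4Easy
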