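import Mathlib

/-! graded homomorphism from the Rees powers to a polynomial ring attached to a splitting of degree one -/

set_option autoImplicit false
set_option linter.style.haveILetI false

open scoped BigOperators

universe u

namespace Groth.Agent.H4Easy


section
variable {A : Type u} [CommRing A] {r : ℕ} {I : Ideal A} {c : ℕ}
variable (φ : Fin r → (↥(I ^ c) →ₗ[A] A))

open Classical in
/-- Extension of `φ j` by zero outside `I ^ c`. -/
noncomputable def phiExt (j : Fin r) (x : A) : A :=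
  if h : x ∈ I ^ c then φ j ⟨x, h⟩ else 0

theorem phiExt_add (j : Fin r) {x y : A} (hx : x ∈ I ^ c) (hy : y ∈ I ^ c) :
    phiExt φ j (x + y) = phiExt φ j x + phiExt φ j y := by
  simp only [phiExt, dif_pos hx, dif_pos hy, dif_pos (add_mem hx hy)]
  exact map_add (φ j) ⟨x, hx⟩ ⟨y, hy⟩

theorem phiExt_mul (j : Fin r) (a : A) {x : A} (hx : x ∈ I ^ c) :
    phiExt φ j (a * x) = a * phiExt φ j x := by
  simp only [phiExt, dif_pos hx, dif_pos (Ideal.mul_mem_left _ a hx)]
  exact map_smul (φ j) a ⟨x, hx⟩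

theorem mem_pow_c_of_mem {n : ℕ} {x : A} (hx : x ∈ I ^ ((n + 1) * c)) : x ∈ I ^ c :=
  Ideal.pow_le_pow_right (Nat.le_mul_of_pos_left c (Nat.succ_pos n)) hx

theorem phiExt_mem (j : Fin r) {n : ℕ} {x : A} (hx : x ∈ I ^ ((n + 1) * c)) :
    phiExt φ j x ∈ I ^ (n * c) := by
  have e : I ^ ((n + 1) * c) = I ^ (n * c) * I ^ c := by rw [← pow_add]; congr 1; ring
  rw [e] at hx
  have key : x ∈ I ^ c ∧ phiExt φ j x ∈ I ^ (n * c) := by
    refine Submodule.mul_induction_on hx (fun a ha b hb => ?_) (fun x y hx hy => ?_)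
    · exact ⟨Ideal.mul_mem_left _ a hb,
        by rw [phiExt_mul φ j a hb]; exact Ideal.mul_mem_right _ _ ha⟩
    · exact ⟨add_mem hx.1 hy.1, by rw [phiExt_add φ j hx.1 hy.1]; exact add_mem hx.2 hy.2⟩
  exact key.2

/-- The graded homomorphism in degree `n`. -/
noncomputable def gradedPhi : ℕ → A → MvPolynomial (Fin r) A
  | 0, a => MvPolynomial.C a
  | n + 1, x => ∑ j, gradedPhi n (phiExt φ j x) * MvPolynomial.X j

theorem gradedPhi_add : ∀ n : ℕ, ∀ g ∈ I ^ (n * c), ∀ h ∈ I ^ (n * c),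
    gradedPhi φ n (g + h) = gradedPhi φ n g + gradedPhi φ n h := by
  intro n
  induction n with
  | zero => intro g _ h _; simp [gradedPhi]
  | succ n ih =>
    intro g hg h hh
    simp only [gradedPhi, ← Finset.sum_add_distrib]
    refine Finset.sum_congr rfl fun j _ => ?_
    rw [phiExt_add φ j (mem_pow_c_of_mem hg) (mem_pow_c_of_mem hh),
      ih _ (phiExt_mem φ j hg) _ (phiExt_mem φ j hh), add_mul]

theorem gradedPhi_smul : ∀ (n : ℕ) (a : A), ∀ g ∈ I ^ (n * c),
    gradedPhi φ n (a * g) = a • gradedPhi φ n g := by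
  intro n
  induction n with
  | zero => intro a g _; simp [gradedPhi, MvPolynomial.smul_eq_C_mul]
  | succ n ih =>
    intro a g hg
    simp only [gradedPhi, Finset.smul_sum]
    refine Finset.sum_congr rfl fun j _ => ?_
    rw [phiExt_mul φ j a (mem_pow_c_of_mem hg), ih _ _ (phiExt_mem φ j hg), smul_mul_assoc]

theorem gradedPhi_homogeneous : ∀ (n : ℕ) (g : A), (gradedPhi φ n g).IsHomogeneous n := by
  intro n
  induction n with
  | zero => intro g; exact MvPolynomial.isHomogeneous_C _ _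
  | succ n ih =>
    intro g
    exact MvPolynomial.IsHomogeneous.sum _ _ _
      fun j _ => (ih _).mul (MvPolynomial.isHomogeneous_X _ j)

theorem gradedPhi_mul : ∀ n m : ℕ, ∀ g ∈ I ^ (n * c), ∀ h ∈ I ^ (m * c),
    gradedPhi φ (n + m) (g * h) = gradedPhi φ n g * gradedPhi φ m h := by
  intro n m
  induction m with
  | zero =>
    intro g hg h _
    rw [Nat.add_zero, mul_comm g h, gradedPhi_smul φ n h g hg, MvPolynomial.smul_eq_C_mul]
    simp only [gradedPhi]
    ring
  | succ m ih =>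
    intro g hg h hh
    show gradedPhi φ ((n + m) + 1) (g * h) = _
    simp only [gradedPhi, Finset.mul_sum]
    refine Finset.sum_congr rfl fun j _ => ?_
    rw [phiExt_mul φ j g (mem_pow_c_of_mem hh), ih g hg _ (phiExt_mem φ j hh), mul_assoc]

theorem gradedPhi_one (g : A) (hg : g ∈ I ^ c) :
    gradedPhi φ 1 g = ∑ j, MvPolynomial.C (φ j ⟨g, hg⟩) * MvPolynomial.X j := by
  simp only [gradedPhi, phiExt, dif_pos hg]

theorem gradedPhi_aeval (f : Fin r → A) (hφ : ∀ x : ↥(I ^ c), (x : A) = ∑ j, f j * φ j x) :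
    ∀ n : ℕ, ∀ g ∈ I ^ (n * c), MvPolynomial.aeval f (gradedPhi φ n g) = g := by
  intro n
  induction n with
  | zero => intro g _; simp [gradedPhi]
  | succ n ih =>
    intro g hg
    have hg' := mem_pow_c_of_mem hg
    simp only [gradedPhi, map_sum, map_mul, MvPolynomial.aeval_X]
    conv_rhs => rw [show g = ((⟨g, hg'⟩ : ↥(I ^ c)) : A) from rfl, hφ]
    refine Finset.sum_congr rfl fun j _ => ?_
    rw [ih _ (phiExt_mem φ j hg), phiExt, dif_pos hg', mul_comm]

theorem gradedPhi_unique (Ψ : ℕ → A → MvPolynomial (Fin r) A)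
    (hadd : ∀ n : ℕ, ∀ g ∈ I ^ (n * c), ∀ h ∈ I ^ (n * c), Ψ n (g + h) = Ψ n g + Ψ n h)
    (hmul : ∀ n m : ℕ, ∀ g ∈ I ^ (n * c), ∀ h ∈ I ^ (m * c), Ψ (n + m) (g * h) = Ψ n g * Ψ m h)
    (h0 : ∀ a : A, Ψ 0 a = MvPolynomial.C a)
    (h1 : ∀ (g : A) (hg : g ∈ I ^ c), Ψ 1 g = ∑ j, MvPolynomial.C (φ j ⟨g, hg⟩) * MvPolynomial.X j) :
    ∀ n : ℕ, ∀ g ∈ I ^ (n * c), Ψ n g = gradedPhi φ n g := by
  intro n
  induction n with
  | zero => intro g _; rw [h0]; rfl
  | succ n ih =>
    intro g hg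
    have e : I ^ ((n + 1) * c) = I ^ (n * c) * I ^ c := by rw [← pow_add]; congr 1; ring
    have h : g ∈ I ^ (n * c) * I ^ c := e ▸ hg
    have key : g ∈ I ^ ((n + 1) * c) ∧ Ψ (n + 1) g = gradedPhi φ (n + 1) g := by
      refine Submodule.mul_induction_on h (fun a ha b hb => ?_) (fun x y hx hy => ?_)
      · refine ⟨e ▸ Ideal.mul_mem_mul ha hb, ?_⟩
        have hb' : b ∈ I ^ (1 * c) := by rwa [one_mul]
        rw [hmul n 1 a ha b hb', gradedPhi_mul φ n 1 a ha b hb', ih a ha, h1 b hb,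
          gradedPhi_one φ b hb]
      · exact ⟨add_mem hx.1 hy.1, by
          rw [hadd _ _ hx.1 _ hy.1, gradedPhi_add φ _ _ hx.1 _ hy.1, hx.2, hy.2]⟩
    exact key.2

end

end Groth.Agent.H4Easy
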