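import Mathlib
import Groth.Prelude.Def_Wider
import Groth.Agent.LocH.CdExt

/-! splitting of the tautological surjection on a power of an ideal of cohomological dimension at most one -/

set_option autoImplicit false
set_option linter.style.haveILetI false

open CategoryTheory CategoryTheory.Limits CategoryTheory.Abelian

universe u

namespace Groth.Agent.H4Easy


/-- If local cohomology vanishes above degree one, the inclusion of a power of `I` lifts through
`f : A^r → I`. -/
theorem exists_splitting_of_cdLE {A : Type u} [CommRing A] [IsNoetherianRing A] {r : ℕ} (f : Fin r → A)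
    (h₁ : LocCoh.CdLE A (Ideal.span (Set.range f)) 1) :
    ∃ (c : ℕ) (φ : Fin r → (↥(Ideal.span (Set.range f) ^ (c + 1)) →ₗ[A] A)),
      ∀ x : ↥(Ideal.span (Set.range f) ^ (c + 1)), (x : A) = ∑ j, f j * φ j x := by
  set I := Ideal.span (Set.range f) with hI
  let π : (Fin r → A) →ₗ[A] ↥(I ^ 1) :=
    LinearMap.codRestrict (I ^ 1) (Fintype.linearCombination A f) fun v => by
      rw [Fintype.linearCombination_apply, pow_one]
      exact Submodule.sum_mem _ fun j _ => I.mul_mem_left _ (Ideal.subset_span ⟨j, rfl⟩)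
  have hπ : Function.Surjective π := by
    rintro ⟨y, hy⟩
    rw [pow_one, hI, Ideal.span, Submodule.mem_span_range_iff_exists_fun] at hy
    obtain ⟨v, hv⟩ := hy
    exact ⟨v, Subtype.ext (by simpa [π, Fintype.linearCombination_apply] using hv)⟩
  let S : ShortComplex (ModuleCat.{u} A) :=
    ShortComplex.mk (ModuleCat.ofHom (LinearMap.ker π).subtype) (ModuleCat.ofHom π) (by ext x : 2; exact x.2)
  have hS : S.ShortExact :=
    { exact := (ShortComplex.ShortExact.moduleCat_exact_iff_function_exact S).2 (LinearMap.exact_subtype_ker_map π)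
      mono_f := (ModuleCat.mono_iff_injective _).2 (LinearMap.ker π).injective_subtype
      epi_g := (ModuleCat.epi_iff_surjective _).2 hπ }
  let T : ℕ → ShortComplex (ModuleCat.{u} A) := fun n =>
    ShortComplex.mk (ModuleCat.ofHom (I ^ n).subtype) (ModuleCat.ofHom (Submodule.mkQ (I ^ n)))
      (by ext x : 2; exact (Submodule.Quotient.mk_eq_zero _).2 x.2)
  have hT : ∀ n, (T n).ShortExact := fun n =>
    { exact := (ShortComplex.ShortExact.moduleCat_exact_iff_function_exact (T n)).2 (LinearMap.exact_subtype_mkQ _)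
      mono_f := (ModuleCat.mono_iff_injective _).2 (I ^ n).injective_subtype
      epi_g := (ModuleCat.epi_iff_surjective _).2 (Submodule.mkQ_surjective _) }
  obtain ⟨m, hm, htr⟩ := Groth.Agent.LocH.exists_transition_zero I 1 1 (fun M i hi => h₁ M i hi)
  obtain ⟨c, rfl⟩ : ∃ c, m = c + 1 := ⟨m - 1, by lia⟩
  let ι : (T (c + 1)).X₁ ⟶ (T 1).X₁ :=
    ModuleCat.ofHom (Submodule.inclusion (Ideal.pow_le_pow_right hm.le))
  let φT : T (c + 1) ⟶ T 1 :=
    { τ₁ := ι
      τ₂ := 𝟙 _
      τ₃ := Groth.Agent.LocH.trans I hm.le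
      comm₁₂ := by ext x : 2; rfl
      comm₂₃ := by ext x : 2; rfl }
  let e : Ext (T (c + 1)).X₁ S.X₁ 1 := (Ext.mk₀ ι).comp hS.extClass (zero_add 1)
  have he : (hT (c + 1)).extClass.comp e rfl = 0 := by
    show (hT (c + 1)).extClass.comp ((Ext.mk₀ ι).comp hS.extClass (zero_add 1)) rfl = 0
    rw [← Ext.comp_assoc_of_second_deg_zero,
      show ι = φT.τ₁ from rfl, ShortComplex.ShortExact.extClass_naturality (hT (c + 1)) (hT 1) φT,
      Ext.comp_assoc (Ext.mk₀ φT.τ₃) (hT 1).extClass hS.extClass (zero_add 1) rfl (by lia)]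
    exact htr 2 one_lt_two _ _
  obtain ⟨x₂, hx₂⟩ := Ext.contravariant_sequence_exact₁ (hT (c + 1)) S.X₁ e rfl he
  haveI : Projective (T (c + 1)).X₂ :=
    (_root_.IsProjective.iff_projective _).1 (inferInstance : Module.Projective A A)
  have h0 : (Ext.mk₀ ι).comp hS.extClass (zero_add 1) = 0 := by
    show e = 0
    rw [← hx₂, Ext.eq_zero_of_projective x₂, Ext.comp_zero]
  obtain ⟨y, hy⟩ := Ext.covariant_sequence_exact₃ (T (c + 1)).X₁ hS (Ext.mk₀ ι) (zero_add 1) h0
  obtain ⟨g, rfl⟩ := (Ext.mk₀_bijective _ _).2 y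
  rw [Ext.mk₀_comp_mk₀] at hy
  have hg := (Ext.mk₀_bijective _ _).1 hy
  refine ⟨c, fun j => (LinearMap.proj j).comp g.hom, fun x => ?_⟩
  have := congrArg (fun k => ((k.hom x : ↥(I ^ 1)) : A)) hg
  simp only [ModuleCat.hom_comp, LinearMap.comp_apply] at this
  refine (this.symm.trans ?_)
  simp [S, π, Fintype.linearCombination_apply, mul_comm]

end Groth.Agent.H4Easy
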