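import Mathlib
import Groth.Prelude.Def_Wider
import Groth.Agent.InjHull.Matlis
import Groth.Agent.ArtPow.Basic

/-! power torsion modules with commuting derivation action are sums of injective hulls -/

set_option autoImplicit false
set_option linter.style.haveILetI false

open scoped DirectSum

universe u

namespace Groth.Agent.H4Easy


section
variable {A : Type u} [CommRing A] {d : ℕ} (x : Fin d → A)

/-- The elements killed by all products of `n` of the `x j`. -/
def killed (M : Type u) [AddCommGroup M] [Module A M] : ℕ → Submodule A M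
  | 0 => ⊥
  | n + 1 => ⨅ j, (killed M n).comap (LinearMap.lsmul A M (x j))

variable {x} {M : Type u} [AddCommGroup M] [Module A M]

theorem mem_killed_succ {n : ℕ} {z : M} : z ∈ killed x M (n + 1) ↔ ∀ j, x j • z ∈ killed x M n := by
  simp [killed, Submodule.mem_iInf]

theorem killed_le_succ : ∀ n : ℕ, killed x M n ≤ killed x M (n + 1)
  | 0 => bot_le
  | n + 1 => fun _ hz => mem_killed_succ.2 fun j => killed_le_succ n (mem_killed_succ.1 hz j)

theorem killed_mono {n m : ℕ} (h : n ≤ m) : killed x M n ≤ killed x M m := by
  induction m, h using Nat.le_induction with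
  | base => exact le_rfl
  | succ m _ ih => exact ih.trans (killed_le_succ m)

theorem mem_killed_of_pow {n : ℕ} : ∀ {z : M},
    (∀ a ∈ Ideal.span (Set.range x) ^ n, a • z = 0) → z ∈ killed x M n := by
  induction n with
  | zero => intro z hz; exact (Submodule.mem_bot A).2 (by simpa using hz 1 (by simp))
  | succ n ih =>
    intro z hz
    refine mem_killed_succ.2 fun j => ih fun a ha => ?_
    rw [smul_smul]
    exact hz _ (by rw [pow_succ]; exact Ideal.mul_mem_mul ha (Ideal.subset_span ⟨j, rfl⟩))

theorem exists_mem_killed (hM : LocCoh.IsPowerTorsion (Ideal.span (Set.range x)) M) (z : M) :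
    ∃ n, z ∈ killed x M n := by
  obtain ⟨n, hn⟩ := hM z
  exact ⟨n, mem_killed_of_pow hn⟩

variable {θ : Fin d → A → A} (hθ : ∀ i j, θ i (x j) = if i = j then 1 else 0)
variable (D : Fin d → M →+ M) (hD : ∀ (i : Fin d) (f : A) (z : M), D i (f • z) = θ i f • z + f • D i z)

/-- The Euler operator. -/
def euler (z : M) : M := ∑ j, x j • D j z

include hθ hD in
theorem smul_euler (i : Fin d) (z : M) :
    x i • euler (x := x) D z = euler (x := x) D (x i • z) - x i • z := by
  unfold euler
  have h : ∀ j, x i • (x j • D j z) = x j • D j (x i • z) - (if j = i then x i • z else 0) := by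
    intro j
    rw [hD, hθ, smul_add, smul_comm (x i) (x j)]
    rcases eq_or_ne j i with rfl | hne
    · simp
    · simp [hne]
  rw [Finset.smul_sum, Finset.sum_congr rfl fun j _ => h j, Finset.sum_sub_distrib]
  simp

include hθ hD in
theorem euler_of_socle {z : M} (hz : ∀ j, x j • z = 0) :
    euler (x := x) D z = -((d : A) • z) := by
  unfold euler
  have h : ∀ j, x j • D j z = -z := fun j => by
    have := hD j (x j) z
    rw [hz j, map_zero, hθ, if_pos rfl, one_smul] at this
    exact eq_neg_of_add_eq_zero_right this.symm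
  rw [Finset.sum_congr rfl fun j _ => h j, Finset.sum_const, Finset.card_univ, Fintype.card_fin,
    Nat.cast_smul_eq_nsmul A, smul_neg]

include hθ hD in
theorem euler_add_mem : ∀ (n : ℕ) (z : M), z ∈ killed x M (n + 1) →
    euler (x := x) D z + ((d + n : ℕ) : A) • z ∈ killed x M n := by
  intro n
  induction n with
  | zero =>
    intro z hz
    have h0 : ∀ j, x j • z = 0 := fun j => (Submodule.mem_bot A).1 (mem_killed_succ.1 hz j)
    rw [euler_of_socle hθ D hD h0, Nat.add_zero, neg_add_cancel]
    exact zero_mem _
  | succ n ih =>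
    intro z hz
    refine mem_killed_succ.2 fun i => ?_
    have := ih (x i • z) (mem_killed_succ.1 hz i)
    rw [smul_add, smul_euler hθ D hD, smul_comm (x i)]
    convert this using 1
    rw [← Nat.add_assoc, Nat.cast_succ, add_smul, one_smul]
    abel

include hθ hD in
/-- Compatible families of quotients can be integrated one step at a time. -/
theorem exists_integrate {n : ℕ} (hn : IsUnit ((n + 1 : ℕ) : A)) (z : Fin d → M)
    (hc : ∀ i j, x i • z j = x j • z i) (hz : ∀ i, z i ∈ killed x M (n + 1)) :
    ∃ w : M, ∀ i, x i • w - z i ∈ killed x M n := by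
  obtain ⟨u, hu⟩ := hn.exists_left_inv
  refine ⟨-(u • ∑ j, D j (z j)), fun i => ?_⟩
  have hS : x i • ∑ j, D j (z j) = euler (x := x) D (z i) + (d : A) • z i - z i := by
    unfold euler
    have h : ∀ j, x i • D j (z j) = x j • D j (z i) + z i - (if j = i then z i else 0) := by
      intro j
      have h1 := hD j (x i) (z j)
      have h2 := hD j (x j) (z i)
      rw [hθ, if_pos rfl, one_smul] at h2
      rw [hθ, hc i j, h2] at h1
      rcases eq_or_ne j i with rfl | hne
      · rw [if_pos rfl]
        rw [add_sub_cancel_right]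
      · rw [if_neg hne, zero_smul, zero_add] at h1
        rw [if_neg hne, sub_zero, ← h1, add_comm]
    rw [Finset.smul_sum, Finset.sum_congr rfl fun j _ => h j, Finset.sum_sub_distrib,
      Finset.sum_add_distrib, Finset.sum_const, Finset.card_univ, Fintype.card_fin,
      Nat.cast_smul_eq_nsmul A]
    simp
  have hq := Submodule.smul_mem _ u (euler_add_mem hθ D hD n (z i) (hz i))
  have : x i • -(u • ∑ j, D j (z j)) - z i =
      -(u • (euler (x := x) D (z i) + ((d + n : ℕ) : A) • z i)) := by
    rw [smul_neg, smul_comm (x i) u, hS]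
    have hz' : z i = u • (((n + 1 : ℕ) : A) • z i) := by rw [smul_smul, hu, one_smul]
    conv_lhs => arg 2; rw [hz']
    rw [← neg_add', ← smul_add]
    congr 2
    push_cast
    rw [add_smul, add_smul, one_smul]
    abel
  rw [this]
  exact neg_mem hq

end

/-- Power torsion modules with an action of the derivations are sums of copies of the hull. -/
theorem powerTorsion_derivations_sum_hull {A : Type u} [CommRing A] [IsNoetherianRing A]
    [IsLocalRing A] {d : ℕ} (x : Fin d → A) (hx : Ideal.span (Set.range x) = IsLocalRing.maximalIdeal A)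
    (hunit : ∀ n : ℕ, IsUnit ((n + 1 : ℕ) : A))
    (θ : Fin d → A → A) (hθ : ∀ i j, θ i (x j) = if i = j then 1 else 0)
    {E : Type u} [AddCommGroup E] [Module A E] (e : IsLocalRing.ResidueField A →ₗ[A] E)
    (he : InjHull.IsInjectiveHull e)
    {M : Type u} [AddCommGroup M] [Module A M]
    (hM : LocCoh.IsPowerTorsion (IsLocalRing.maximalIdeal A) M) (D : Fin d → M →+ M)
    (hD : ∀ (i : Fin d) (f : A) (z : M), D i (f • z) = θ i f • z + f • D i z) :
    ∃ J : Type u, Nonempty (M ≃ₗ[A] (J →₀ E)) := by
  classical
  rw [← hx] at hM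
  let m := IsLocalRing.maximalIdeal A
  letI : Field (A ⧸ m) := Ideal.Quotient.field m
  let V := Submodule.torsionBySet A M (m : Set A)
  letI : Module (A ⧸ m) V := (Submodule.torsionBySet_isTorsionBySet (R := A) (M := M) (m : Set A)).module
  haveI : IsScalarTower A (A ⧸ m) V :=
    (Submodule.torsionBySet_isTorsionBySet (R := A) (M := M) (m : Set A)).isScalarTower
  let J := Module.Basis.ofVectorSpaceIndex (A ⧸ m) V
  let b : Module.Basis J (A ⧸ m) V := Module.Basis.ofVectorSpace (A ⧸ m) V
  let e' : (A ⧸ m) →ₗ[A] E := e
  let s : V →ₗ[A] (J →₀ E) :=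
    (Finsupp.mapRange.linearMap e') ∘ₗ (b.repr.toLinearMap.restrictScalars A)
  have hsinj : Function.Injective s := by
    intro v w h
    apply b.repr.injective
    exact Finsupp.mapRange_injective e' (map_zero _) he.injective h
  have hsoc : ∀ y : J →₀ E, (∀ a ∈ m, a • y = 0) → y ∈ LinearMap.range s := by
    intro y hy
    have hy' : ∀ j, y j ∈ LinearMap.range e' := fun j =>
      Groth.Agent.InjHull.mem_range_of_smul_eq_zero (m := m) he fun a ha => by
        have := congrArg (fun f : J →₀ E => f j) (hy a ha)
        simpa using this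
    choose c hc using hy'
    have hsupp : ∀ j, c j ≠ 0 → j ∈ y.support := fun j h => Finsupp.mem_support_iff.2 fun h0 =>
      h (he.injective (((hc j).trans h0).trans (map_zero e).symm))
    refine ⟨b.repr.symm (Finsupp.onFinset y.support c hsupp), ?_⟩
    ext j
    show e' ((b.repr (b.repr.symm (Finsupp.onFinset y.support c hsupp))) j) = y j
    rw [LinearEquiv.apply_symm_apply, Finsupp.onFinset_apply, hc]
  haveI hE := he.isInjective
  haveI : Module.Injective A (J →₀ E) :=
    haveI : Module.Injective A (Π₀ _ : J, E) :=
      Groth.Agent.InjHull.injective_directSum (R := A) (fun _ : J => E) fun _ => hE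
    Groth.Agent.InjHull.injective_of_linearEquiv (finsuppLequivDFinsupp A).symm
  obtain ⟨g, hg⟩ := Module.Injective.out (R := A) V.subtype (Submodule.injective_subtype _) s
  have hkill0 : ∀ {N : Type u} [AddCommGroup N] [Module A N] (z : N),
      z ∈ killed x N 1 → ∀ a ∈ m, a • z = 0 := by
    intro N _ _ z hz a ha
    have hle : m ≤ LinearMap.ker (LinearMap.toSpanSingleton A N z) := by
      show IsLocalRing.maximalIdeal A ≤ _
      rw [← hx, Ideal.span, Submodule.span_le]
      rintro _ ⟨j, rfl⟩
      exact (Submodule.mem_bot A).1 (mem_killed_succ.1 hz j)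
    exact hle ha
  have hVmem : ∀ z : M, z ∈ killed x M 1 → z ∈ V := fun z hz =>
    (Submodule.mem_torsionBySet_iff _ _).2 fun a => hkill0 z hz a.1 a.2
  have ginj' : ∀ (n : ℕ) (z : M), z ∈ killed x M n → g z = 0 → z = 0 := by
    intro n
    induction n with
    | zero => intro z hz _; exact (Submodule.mem_bot A).1 hz
    | succ n ih =>
      intro z hz h0
      have h1 : z ∈ killed x M 1 := mem_killed_succ.2 fun j => (Submodule.mem_bot A).2
        (ih _ (mem_killed_succ.1 hz j) (by rw [map_smul, h0, smul_zero]))
      have h2 : s ⟨z, hVmem z h1⟩ = 0 := by rw [← hg]; exact h0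
      exact congrArg Subtype.val (hsinj (h2.trans (map_zero s).symm))
  have ginj : Function.Injective g := (injective_iff_map_eq_zero g).2 fun z hz => by
    obtain ⟨n, hn⟩ := exists_mem_killed hM z
    exact ginj' n z hn hz
  have gkill : ∀ (n : ℕ) (z : M), g z ∈ killed x (J →₀ E) n → z ∈ killed x M n := by
    intro n
    induction n with
    | zero => intro z hz; exact (Submodule.mem_bot A).2 (ginj (((Submodule.mem_bot A).1 hz).trans (map_zero g).symm))
    | succ n ih =>
      intro z hz
      exact mem_killed_succ.2 fun j => ih _ (by rw [map_smul]; exact mem_killed_succ.1 hz j)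
  have gmap : ∀ (n : ℕ) (z : M), z ∈ killed x M n → g z ∈ killed x (J →₀ E) n := by
    intro n
    induction n with
    | zero => intro z hz; rw [(Submodule.mem_bot A).1 hz, map_zero]; exact zero_mem _
    | succ n ih =>
      intro z hz
      exact mem_killed_succ.2 fun j => by rw [← map_smul]; exact ih _ (mem_killed_succ.1 hz j)
  have gsurj : ∀ (n : ℕ) (y : J →₀ E), y ∈ killed x (J →₀ E) n → y ∈ LinearMap.range g := by
    intro n
    induction n with
    | zero => intro y hy; rw [(Submodule.mem_bot A).1 hy]; exact zero_mem _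
    | succ n ih =>
      intro y hy
      cases n with
      | zero =>
        obtain ⟨v, hv⟩ := hsoc y (hkill0 y hy)
        exact ⟨v.1, by rw [← hv, ← hg]; rfl⟩
      | succ n =>
        choose z hz using fun j => ih _ (mem_killed_succ.1 hy j)
        have hz' : ∀ j, z j ∈ killed x M (n + 1) := fun j =>
          gkill _ _ (by rw [hz j]; exact mem_killed_succ.1 hy j)
        have hc : ∀ i j, x i • z j = x j • z i := fun i j => ginj (by
          rw [map_smul, map_smul, hz, hz, smul_comm])
        obtain ⟨w, hw⟩ := exists_integrate hθ D hD (hunit n) z hc hz'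
        have h2 : y - g w ∈ killed x (J →₀ E) (n + 1) := mem_killed_succ.2 fun i => by
          rw [smul_sub, ← hz i, ← map_smul, ← map_sub, ← neg_sub, map_neg]
          exact neg_mem (gmap _ _ (hw i))
        have h3 := Submodule.add_mem _ (ih _ h2) (LinearMap.mem_range_self g w)
        rwa [sub_add_cancel] at h3
  have htor : LocCoh.IsPowerTorsion (Ideal.span (Set.range x)) E := by
    rw [hx]; exact Groth.Agent.InjHull.isPowerTorsion_hull (m := m) he
  have gs : Function.Surjective g := fun y => by
    induction y using Finsupp.induction_linear with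
    | zero => exact ⟨0, map_zero g⟩
    | add a c ha hc =>
      obtain ⟨za, rfl⟩ := ha
      obtain ⟨zc, rfl⟩ := hc
      exact ⟨za + zc, map_add g za zc⟩
    | single j a =>
      obtain ⟨n, hn⟩ := htor a
      exact gsurj n _ (mem_killed_of_pow fun r hr => by rw [Finsupp.smul_single, hn r hr, Finsupp.single_zero])
  exact ⟨J, ⟨LinearEquiv.ofBijective g ⟨ginj, gs⟩⟩⟩

end Groth.Agent.H4Easy
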