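import Mathlib
import Groth.Prelude.Def_Wider
import Groth.Agent.LocH.Resolution

/-! derivations act on local cohomology -/

set_option autoImplicit false
set_option linter.style.haveILetI false

open CategoryTheory CategoryTheory.Limits

universe u

namespace Groth.Agent.H4Easy


section
variable {A : Type u} [CommRing A]

/-- An additive operator satisfying the Leibniz rule with respect to `θ`. -/
def IsLeibnizOp (θ : Derivation ℤ A A) {X : Type u} [AddCommGroup X] [Module A X] (D : X →+ X) : Prop :=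
  ∀ (a : A) (z : X), D (a • z) = θ a • z + a • D z

/-- The module twisted by a derivation, extending `X` by `X`. -/
def TwistMod (_θ : Derivation ℤ A A) (X : Type u) : Type u := X × X

variable (θ : Derivation ℤ A A) (X : Type u) [AddCommGroup X] [Module A X]

noncomputable instance twistModAddCommGroup : AddCommGroup (TwistMod θ X) :=
  inferInstanceAs (AddCommGroup (X × X))

noncomputable instance twistModSMul : SMul A (TwistMod θ X) :=
  ⟨fun a z => ((a • z.1, a • z.2 + θ a • z.1) : X × X)⟩

theorem twist_smul_def (a : A) (z : TwistMod θ X) :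
    a • z = ((a • z.1, a • z.2 + θ a • z.1) : X × X) := rfl

noncomputable instance twistModModule : Module A (TwistMod θ X) where
  one_smul z := by
    refine Prod.ext ?_ ?_ <;> simp [twist_smul_def]
  mul_smul a b z := by
    refine Prod.ext (mul_smul a b z.1) ?_
    show (a * b) • z.2 + θ (a * b) • z.1 = a • (b • z.2 + θ b • z.1) + θ a • (b • z.1)
    rw [Derivation.leibniz, smul_eq_mul, smul_eq_mul, add_smul, smul_add, mul_smul, mul_smul, smul_comm (θ a) b,
      mul_smul]
    abel
  smul_zero a := by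
    refine Prod.ext (smul_zero a) ?_
    show a • (0 : X) + θ a • (0 : X) = 0
    rw [smul_zero, smul_zero, add_zero]
  smul_add a z w := by
    refine Prod.ext (smul_add a z.1 w.1) ?_
    show a • (z.2 + w.2) + θ a • (z.1 + w.1) = (a • z.2 + θ a • z.1) + (a • w.2 + θ a • w.1)
    rw [smul_add, smul_add]
    abel
  add_smul a b z := by
    refine Prod.ext (add_smul a b z.1) ?_
    show (a + b) • z.2 + θ (a + b) • z.1 = (a • z.2 + θ a • z.1) + (b • z.2 + θ b • z.1)
    rw [map_add, add_smul, add_smul]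
    abel
  zero_smul z := by
    refine Prod.ext (zero_smul A z.1) ?_
    show (0 : A) • z.2 + θ 0 • z.1 = 0
    rw [map_zero, zero_smul, zero_smul, add_zero]

theorem exists_leibnizOp_injective [Module.Injective A X] :
    ∃ D : X →+ X, IsLeibnizOp θ D := by
  let i : X →ₗ[A] TwistMod θ X :=
    { toFun := fun w => ((0, w) : X × X)
      map_add' := fun w w' => Prod.ext (add_zero (0 : X)).symm rfl
      map_smul' := fun a w => by
        refine Prod.ext (smul_zero a).symm ?_
        show a • w = a • w + θ a • (0 : X)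
        rw [smul_zero, add_zero] }
  have hi : Function.Injective i := fun w w' h => congrArg Prod.snd h
  obtain ⟨r, hr⟩ := Module.Injective.out (R := A) i hi LinearMap.id
  refine ⟨{ toFun := fun z => - r ((z, 0) : X × X), map_zero' := ?_, map_add' := ?_ }, fun a z => ?_⟩
  · exact neg_eq_zero.2 (map_zero r)
  · intro z w
    rw [← neg_add, ← map_add]
    congr 2
    exact Prod.ext rfl (add_zero (0 : X)).symm
  · show - r ((a • z, 0) : X × X) = θ a • z + a • - r ((z, 0) : X × X)
    let z₀ : TwistMod θ X := ((z, 0) : X × X)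
    let z₁ : TwistMod θ X := ((a • z, 0) : X × X)
    have h : z₁ + i (θ a • z) = a • z₀ := by
      refine Prod.ext (add_zero (a • z)) ?_
      show (0 : X) + θ a • z = a • (0 : X) + θ a • z
      rw [smul_zero]
    have h2 := congrArg r h
    rw [map_add, hr, LinearMap.id_apply, map_smul r] at h2
    show - r z₁ = θ a • z + a • - r z₀
    rw [smul_neg, ← h2]
    abel

variable {θ X}

theorem IsLeibnizOp.sub_linear {D : X →+ X} (hD : IsLeibnizOp θ D) (h : X →ₗ[A] X) :
    IsLeibnizOp θ (D - h.toAddMonoidHom) := fun a z => by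
  show D (a • z) - h (a • z) = θ a • z + a • (D z - h z)
  rw [hD, map_smul, smul_sub]
  abel

theorem IsLeibnizOp.mem_torsion {D : X →+ X} (hD : IsLeibnizOp θ D) (I : Ideal A) (n : ℕ) {z : X}
    (hz : ∀ a ∈ I ^ n, a • z = 0) : ∀ a ∈ I ^ (n + 1), a • D z = 0 := by
  have hθ : ∀ a ∈ I ^ (n + 1), θ a ∈ I ^ n := by
    clear hz
    intro a ha
    induction n generalizing a with
    | zero => simp
    | succ n ih =>
      rw [pow_succ] at ha
      refine Submodule.mul_induction_on ha (fun b hb c hc => ?_) (fun b c hb hc => by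
        rw [map_add]; exact add_mem hb hc)
      rw [Derivation.leibniz, smul_eq_mul, smul_eq_mul]
      refine add_mem (Ideal.mul_mem_right _ _ hb) ?_
      rw [pow_succ, mul_comm c]
      exact Ideal.mul_mem_mul (ih b hb) hc
  intro a ha
  have h1 := hD a z
  rw [hz a (Ideal.pow_le_pow_right (Nat.le_succ n) ha), map_zero, hz _ (hθ a ha), zero_add] at h1
  exact h1.symm

/-- One step of the extension of an operator along a complex of injectives. -/
theorem exists_leibnizOp_step {Y : Type u} [AddCommGroup Y] [Module A Y] [Module.Injective A Y]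
    (d : X →ₗ[A] Y) {D : X →+ X} (hD : IsLeibnizOp θ D) (hker : ∀ z, d z = 0 → d (D z) = 0) :
    ∃ D' : Y →+ Y, IsLeibnizOp θ D' ∧ ∀ z, d (D z) = D' (d z) := by
  obtain ⟨D₀, hD₀⟩ := exists_leibnizOp_injective θ Y
  let Δ : X →ₗ[A] Y :=
    { toFun := fun z => D₀ (d z) - d (D z)
      map_add' := fun z w => by rw [map_add, map_add, map_add, map_add]; abel
      map_smul' := fun a z => by
        rw [map_smul, hD₀, hD, map_add, map_smul, map_smul, RingHom.id_apply, smul_sub]
        abel }
  have hΔ : LinearMap.ker d ≤ LinearMap.ker Δ := fun z hz => by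
    show D₀ (d z) - d (D z) = 0
    rw [LinearMap.mem_ker.1 hz, map_zero, hker z hz, sub_zero]
  obtain ⟨h, hh⟩ := Module.Injective.out (R := A) (LinearMap.range d).subtype
    (Submodule.injective_subtype _)
    ((LinearMap.ker d).liftQ Δ hΔ ∘ₗ d.quotKerEquivRange.symm.toLinearMap)
  refine ⟨D₀ - h.toAddMonoidHom, hD₀.sub_linear h, fun z => ?_⟩
  have h1 := hh ⟨d z, LinearMap.mem_range_self d z⟩
  simp only [LinearMap.comp_apply, LinearEquiv.coe_coe, Submodule.subtype_apply,
    LinearMap.quotKerEquivRange_symm_apply_image, Submodule.mkQ_apply, Submodule.liftQ_apply] at h1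
  show d (D z) = D₀ (d z) - h (d z)
  rw [h1]
  show d (D z) = D₀ (d z) - (D₀ (d z) - d (D z))
  abel

end

section
variable {A : Type u} [CommRing A] {θ : Derivation ℤ A A}

theorem exists_leibnizOp_resolution {M : ModuleCat.{u} A} (J : InjectiveResolution M)
    {DM : M →+ M} (hDM : IsLeibnizOp θ DM) :
    ∃ D : ∀ p, J.cocomplex.X p →+ J.cocomplex.X p, (∀ p, IsLeibnizOp θ (D p)) ∧
      ∀ (p q : ℕ) (z : J.cocomplex.X p), J.cocomplex.d p q (D p z) = D q (J.cocomplex.d p q z) := by
  have hinj : ∀ p, Module.Injective A (J.cocomplex.X p) := fun p =>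
    Module.injective_module_of_injective_object A (J.cocomplex.X p) (inj := J.injective p)
  let η := J.ι.f 0
  let e : ((CochainComplex.single₀ (ModuleCat.{u} A)).obj M).X 0 ≃ₗ[A] M :=
    (HomologicalComplex.singleObjXSelf (ComplexShape.up ℕ) 0 M).toLinearEquiv
  have hη : Function.Injective η := (ModuleCat.mono_iff_injective η).1 inferInstance
  have hηd : ∀ a, J.cocomplex.d 0 1 (η a) = 0 := fun a =>
    congrArg (fun φ => φ.hom a) J.ι_f_zero_comp_complex_d
  have hex : ∀ z, J.cocomplex.d 0 1 z = 0 → ∃ a, η a = z := by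
    intro z hz
    obtain ⟨l, hl⟩ := KernelFork.IsLimit.lift' J.isLimitKernelFork
      (ModuleCat.ofHom (LinearMap.toSpanSingleton A (J.cocomplex.X 0) z)) (by
        apply ModuleCat.hom_ext
        apply LinearMap.ext_ring
        show J.cocomplex.d 0 1 ((1 : A) • z) = 0
        rw [one_smul, hz])
    refine ⟨l (1 : A), ?_⟩
    have := congrArg (fun φ => φ.hom (1 : A)) hl
    exact this.trans (one_smul A z)
  have base : ∃ D₀ : J.cocomplex.X 0 →+ J.cocomplex.X 0, IsLeibnizOp θ D₀ ∧
      ∀ z, J.cocomplex.d 0 1 z = 0 → J.cocomplex.d 0 1 (D₀ z) = 0 := by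
    haveI := hinj 0
    obtain ⟨D', hD'⟩ := exists_leibnizOp_injective θ (J.cocomplex.X 0)
    let Δ : ((CochainComplex.single₀ (ModuleCat.{u} A)).obj M).X 0 →ₗ[A] J.cocomplex.X 0 :=
      { toFun := fun a => D' (η a) - η (e.symm (DM (e a)))
        map_add' := fun a b => by simp only [map_add]; abel
        map_smul' := fun r a => by
          rw [map_smul e, hDM, map_add e.symm, map_smul e.symm, map_smul e.symm, e.symm_apply_apply,
            map_smul η.hom, hD', map_add η.hom, map_smul η.hom, map_smul η.hom, RingHom.id_apply, smul_sub]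
          abel }
    obtain ⟨h, hh⟩ := Module.Injective.out (R := A) η.hom hη Δ
    refine ⟨D' - h.toAddMonoidHom, hD'.sub_linear h, fun z hz => ?_⟩
    obtain ⟨a, rfl⟩ := hex z hz
    show J.cocomplex.d 0 1 (D' (η a) - h (η a)) = 0
    rw [hh a]
    show J.cocomplex.d 0 1 (D' (η a) - (D' (η a) - η (e.symm (DM (e a))))) = 0
    rw [sub_sub_cancel, hηd]
  let St := fun p => {D : J.cocomplex.X p →+ J.cocomplex.X p //
    IsLeibnizOp θ D ∧ ∀ z, J.cocomplex.d p (p + 1) z = 0 → J.cocomplex.d p (p + 1) (D z) = 0}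
  have step : ∀ (p : ℕ) (D : St p), ∃ D' : St (p + 1),
      ∀ z, J.cocomplex.d p (p + 1) (D.1 z) = D'.1 (J.cocomplex.d p (p + 1) z) := by
    intro p D
    haveI := hinj (p + 1)
    obtain ⟨D', hD', hc⟩ := exists_leibnizOp_step (J.cocomplex.d p (p + 1)).hom D.2.1 D.2.2
    refine ⟨⟨D', hD', fun z hz => ?_⟩, hc⟩
    obtain ⟨y, rfl⟩ := (ShortComplex.moduleCat_exact_iff _).1 (J.exact_succ p) z hz
    refine (congrArg (J.cocomplex.d (p + 1) (p + 1 + 1)) (hc y).symm).trans ?_
    exact congrArg (fun φ => φ.hom (D.1 y)) (J.cocomplex.d_comp_d p (p + 1) (p + 1 + 1))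
  choose nxt hnxt using step
  obtain ⟨D₀, hD₀, hD₀'⟩ := base
  let Ds : ∀ p, St p := fun p => Nat.rec (motive := St) ⟨D₀, hD₀, hD₀'⟩ nxt p
  refine ⟨fun p => (Ds p).1, fun p => (Ds p).2.1, fun p q z => ?_⟩
  by_cases h : p + 1 = q
  · subst h
    exact hnxt p (Ds p) z
  · rw [J.cocomplex.shape p q h]
    exact (map_zero (Ds q).1).symm

theorem exists_leibnizOp_localCohomology (I : Ideal A) (i : ℕ) {M : ModuleCat.{u} A}
    {DM : M →+ M} (hDM : IsLeibnizOp θ DM) :
    ∃ D : (localCohomology I i).obj M →+ (localCohomology I i).obj M, IsLeibnizOp θ D := by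
  obtain ⟨J⟩ : Nonempty (InjectiveResolution M) := HasInjectiveResolution.out
  obtain ⟨D, hD, hDd⟩ := exists_leibnizOp_resolution J hDM
  let Z : Submodule A (J.cocomplex.X i) :=
    DRing.torsionSub I (J.cocomplex.X i) ⊓ LinearMap.ker (J.cocomplex.d i (i + 1)).hom
  choose c hc using fun z : Z => Groth.Agent.LocH.exists_cycle J i z.1 z.2.1 z.2.2
  let T : Z →ₗ[A] (localCohomology I i).obj M :=
    { toFun := fun z => Groth.Agent.LocH.cyclesToH J i (c z)
      map_add' := fun z w => by
        rw [← map_add]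
        refine congrArg _ (Groth.Agent.LocH.cycleVal_injective J i ?_)
        rw [hc]
        show _ = Groth.Agent.LocH.cycleVal J i (c z + c w)
        rw [show Groth.Agent.LocH.cycleVal J i (c z + c w) =
          Groth.Agent.LocH.cycleVal J i (c z) + Groth.Agent.LocH.cycleVal J i (c w) from
            (congrArg _ (map_add _ _ _)).trans (map_add _ _ _), hc, hc]
        rfl
      map_smul' := fun r z => by
        rw [RingHom.id_apply, ← map_smul]
        refine congrArg _ (Groth.Agent.LocH.cycleVal_injective J i ?_)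
        rw [hc]
        show _ = Groth.Agent.LocH.cycleVal J i (r • c z)
        rw [show Groth.Agent.LocH.cycleVal J i (r • c z) = r • Groth.Agent.LocH.cycleVal J i (c z) from
          (congrArg _ (map_smul _ _ _)).trans (map_smul _ _ _), hc]
        rfl }
  have hT : Function.Surjective T := by
    intro x
    obtain ⟨z, rfl⟩ := Groth.Agent.LocH.cyclesToH_surjective J i x
    have hz : Groth.Agent.LocH.cycleVal J i z ∈ Z :=
      ⟨Groth.Agent.LocH.cycleVal_mem J i z, Groth.Agent.LocH.d_cycleVal J i z⟩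
    exact ⟨⟨_, hz⟩, congrArg (Groth.Agent.LocH.cyclesToH J i) (Groth.Agent.LocH.cycleVal_injective J i (hc ⟨_, hz⟩))⟩
  have hval : ∀ y, Groth.Agent.LocH.cycleVal (I := I) J i
      ((Groth.Agent.LocH.gammaComplex J I).toCycles ((ComplexShape.up ℕ).prev i) i y) =
      J.cocomplex.d ((ComplexShape.up ℕ).prev i) i
        ((DRing.torsionSub I (J.cocomplex.X _)).subtype y) := fun y =>
    congrArg Subtype.val (congrArg (fun φ => φ.hom y)
      ((Groth.Agent.LocH.gammaComplex J I).toCycles_i ((ComplexShape.up ℕ).prev i) i))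
  have hker : ∀ z : Z, T z = 0 ↔ ∃ y ∈ DRing.torsionSub I (J.cocomplex.X ((ComplexShape.up ℕ).prev i)),
      J.cocomplex.d ((ComplexShape.up ℕ).prev i) i y = z.1 := by
    intro z
    show Groth.Agent.LocH.cyclesToH J i (c z) = 0 ↔ _
    rw [Groth.Agent.LocH.cyclesToH_eq_zero_iff]
    constructor
    · rintro ⟨y, hy⟩
      refine ⟨_, y.2, ?_⟩
      rw [← hc z, ← hy, hval]
      rfl
    · rintro ⟨y, hy, hyz⟩
      refine ⟨⟨y, hy⟩, Groth.Agent.LocH.cycleVal_injective J i ?_⟩
      rw [hc, hval]
      exact hyz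
  have hmem : ∀ (p : ℕ) (y : J.cocomplex.X p), y ∈ DRing.torsionSub I (J.cocomplex.X p) →
      D p y ∈ DRing.torsionSub I (J.cocomplex.X p) :=
    fun p y ⟨n, hn⟩ => ⟨n + 1, (hD p).mem_torsion I n hn⟩
  let DZ : Z →+ Z :=
    AddMonoidHom.mk' (fun z => ⟨D i z.1, hmem i z.1 z.2.1, by
        show J.cocomplex.d i (i + 1) (D i z.1) = 0
        rw [hDd, LinearMap.mem_ker.1 z.2.2, map_zero]⟩)
      (fun z w => Subtype.ext (map_add (D i) z.1 w.1))
  have hDZ : IsLeibnizOp θ DZ := fun a z => Subtype.ext (hD i a z.1)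
  have hTD : ∀ z, T z = 0 → T (DZ z) = 0 := by
    intro z hz
    obtain ⟨y, hy, hyz⟩ := (hker z).1 hz
    exact (hker _).2 ⟨D _ y, hmem _ y hy, (hDd _ _ y).trans (congrArg (D i) hyz)⟩
  choose s hs using hT
  have key : ∀ z, T (DZ (s (T z))) = T (DZ z) := fun z => by
    rw [← sub_eq_zero, ← map_sub, ← map_sub]
    exact hTD _ (by rw [map_sub, hs, sub_self])
  refine ⟨AddMonoidHom.mk' (fun x => T (DZ (s x))) (fun x y => ?_), fun a x => ?_⟩
  · show T (DZ (s (x + y))) = T (DZ (s x)) + T (DZ (s y))
    have hxy : x + y = T (s x + s y) := by rw [map_add, hs, hs]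
    rw [hxy, key, map_add, map_add]
  · show T (DZ (s (a • x))) = θ a • x + a • T (DZ (s x))
    have hax : a • x = T (a • s x) := by rw [map_smul, hs]
    rw [hax, key, hDZ, map_add, map_smul, map_smul, hs]

end

end Groth.Agent.H4Easy
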