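import Mathlib
import Groth.Agent.GrSyzMin.Hilbert
import Groth.Agent.GrSyzMin.Sub

/-! Hilbert-Burch resolution of the ideal of finitely many points of the plane -/

set_option autoImplicit false
set_option linter.style.haveILetI false

open CategoryTheory CategoryTheory.Limits CategoryTheory.Abelian MvPolynomial

universe u

namespace Groth.Agent.H4Easy


/-- Projective dimension of a finite product. -/
theorem pd_pi {R : Type u} [CommRing R] {ι : Type u} [Finite ι] (n : ℕ) (Q : ι → Type u)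
    [∀ i, AddCommGroup (Q i)] [∀ i, Module R (Q i)]
    (h : ∀ i, HasProjectiveDimensionLT (ModuleCat.of R (Q i)) n) :
    HasProjectiveDimensionLT (ModuleCat.of R (∀ i, Q i)) n := by
  classical
  have := Fintype.ofFinite ι
  rw [hasProjectiveDimensionLT_iff]
  intro i hi Y e
  let a : ∀ p, ModuleCat.of R (∀ i, Q i) ⟶ ModuleCat.of R (Q p) := fun p => ModuleCat.ofHom (LinearMap.proj p)
  let b : ∀ p, ModuleCat.of R (Q p) ⟶ ModuleCat.of R (∀ i, Q i) :=
    fun p => ModuleCat.ofHom (LinearMap.single R Q p)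
  have hid : 𝟙 (ModuleCat.of R (∀ i, Q i)) = ∑ p, a p ≫ b p := by
    refine ModuleCat.hom_ext (LinearMap.ext fun v => ?_)
    rw [ModuleCat.hom_sum, LinearMap.sum_apply]
    exact (Finset.univ_sum_single v).symm
  have hsum : Ext.mk₀ (∑ p, a p ≫ b p) = ∑ p, Ext.mk₀ (a p ≫ b p) :=
    map_sum (AddMonoidHom.mk' (fun f : ModuleCat.of R (∀ i, Q i) ⟶ ModuleCat.of R (∀ i, Q i) => Ext.mk₀ f)
      Ext.mk₀_add) _ _
  rw [← Ext.mk₀_id_comp e, hid, hsum,
    show (∑ p, Ext.mk₀ (a p ≫ b p)).comp e (zero_add i) = ∑ p, (Ext.mk₀ (a p ≫ b p)).comp e (zero_add i) from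
      map_sum (AddMonoidHom.mk' (fun f : Ext (ModuleCat.of R (∀ i, Q i)) (ModuleCat.of R (∀ i, Q i)) 0 =>
        f.comp e (zero_add i)) fun f g => Ext.add_comp f g e _) _ _]
  refine Finset.sum_eq_zero fun p _ => ?_
  haveI := h p
  rw [← Ext.mk₀_comp_mk₀, Ext.comp_assoc_of_second_deg_zero,
    Ext.eq_zero_of_hasProjectiveDimensionLT ((Ext.mk₀ (b p)).comp e (zero_add i)) n hi, Ext.comp_zero]

section
variable {k : Type u} [Field k]

/-- Restriction of a polynomial to the line through `p`. -/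
noncomputable def lineRes (p : Fin 3 → k) : MvPolynomial (Fin 3) k →ₐ[k] Polynomial k :=
  aeval fun i => Polynomial.C (p i) * Polynomial.X

theorem lineRes_homogeneous (p : Fin 3 → k) {j : ℕ} {h : MvPolynomial (Fin 3) k}
    (hh : h.IsHomogeneous j) :
    lineRes p h = Polynomial.C (eval p h) * Polynomial.X ^ j := by
  conv_lhs => rw [h.as_sum]
  conv_rhs => rw [h.as_sum]
  simp only [map_sum, Finset.sum_mul]
  refine Finset.sum_congr rfl fun d hd => ?_
  have hdeg : d.degree = j := by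
    by_contra hne
    exact (MvPolynomial.mem_support_iff.1 hd) (hh.coeff_eq_zero hne)
  rw [lineRes, aeval_monomial, eval_monomial, map_mul, mul_assoc, Polynomial.algebraMap_eq]
  congr 1
  rw [Finsupp.prod_congr (g2 := fun i m => Polynomial.C (p i) ^ m * Polynomial.X ^ m)
    (fun i _ => mul_pow _ _ _), Finsupp.prod_mul, Finsupp.prod, Finsupp.prod, Finset.prod_pow_eq_pow_sum,
    Finsupp.prod, map_prod]
  simp only [map_pow]
  rw [← hdeg, Finsupp.degree]
  rfl

theorem coeff_lineRes (p : Fin 3 → k) (f : MvPolynomial (Fin 3) k) (j : ℕ) :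
    (lineRes p f).coeff j = eval p (homogeneousComponent j f) := by
  conv_lhs => rw [← sum_homogeneousComponent f]
  rw [map_sum, Polynomial.finsetSum_coeff,
    Finset.sum_congr rfl fun i _ => by
      rw [lineRes_homogeneous p (homogeneousComponent_isHomogeneous i f), Polynomial.coeff_C_mul_X_pow]]
  rw [Finset.sum_ite_eq (Finset.range (f.totalDegree + 1)) j fun i => eval p (homogeneousComponent i f)]
  split_ifs with h
  · rfl
  · rw [homogeneousComponent_eq_zero _ _ (by simpa using h), map_zero]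

theorem pd_quotient_lineRes (p : Fin 3 → k) (hp : p ≠ 0) :
    (∃ g ∈ RingHom.ker (lineRes p), g ≠ 0) ∧
      HasProjectiveDimensionLE
        (ModuleCat.of (MvPolynomial (Fin 3) k) (MvPolynomial (Fin 3) k ⧸ RingHom.ker (lineRes p))) 2 := by
  classical
  obtain ⟨a, ha⟩ : ∃ a, p a ≠ 0 := Function.ne_iff.1 hp
  obtain ⟨b, c, hba, hca, hbc, hall⟩ : ∃ b c : Fin 3, b ≠ a ∧ c ≠ a ∧ b ≠ c ∧
      ∀ i, i = a ∨ i = b ∨ i = c := by
    fin_cases a
    · exact ⟨1, 2, by decide, by decide, by decide, by decide⟩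
    · exact ⟨0, 2, by decide, by decide, by decide, by decide⟩
    · exact ⟨0, 1, by decide, by decide, by decide, by decide⟩
  let ℓ : Fin 3 → MvPolynomial (Fin 3) k := fun i => X i - C (p i / p a) * X a
  have hℓ : ∀ i, lineRes p (ℓ i) = 0 := fun i => by
    simp only [ℓ, lineRes, map_sub, map_mul, aeval_X, aeval_C, Polynomial.algebraMap_eq]
    rw [← mul_assoc, ← Polynomial.C_mul, div_mul_cancel₀ _ ha, sub_self]
  have hℓc : eval (Pi.single c (1 : k)) (ℓ c) = 1 := by
    simp [ℓ, Pi.single_eq_of_ne hca.symm]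
  have hℓb : eval (Pi.single b (1 : k)) (ℓ b) = 1 := by
    simp [ℓ, Pi.single_eq_of_ne hba.symm]
  have hb0 : ℓ b ≠ 0 := fun h => one_ne_zero (α := k) (by rw [← hℓb, h, map_zero])
  have hc0 : ℓ c ≠ 0 := fun h => one_ne_zero (α := k) (by rw [← hℓc, h, map_zero])
  refine ⟨⟨ℓ b, hℓ b, hb0⟩, ?_⟩
  let π : (Fin 2 → MvPolynomial (Fin 3) k) →ₗ[MvPolynomial (Fin 3) k] MvPolynomial (Fin 3) k :=
    Fintype.linearCombination _ ![ℓ b, ℓ c]
  have hπ : ∀ v, π v = v 0 * ℓ b + v 1 * ℓ c := fun v => by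
    simp [π, Fintype.linearCombination_apply, Fin.sum_univ_two]
  have hrange : LinearMap.range π = RingHom.ker (lineRes p) := by
    apply le_antisymm
    · rintro _ ⟨v, rfl⟩
      rw [RingHom.mem_ker, hπ, map_add, map_mul, map_mul, hℓ, hℓ, mul_zero, mul_zero, add_zero]
    · intro f hf
      let J : Ideal (MvPolynomial (Fin 3) k) := LinearMap.range π
      let q := Ideal.Quotient.mkₐ k J
      let ρ : Polynomial k →ₐ[k] MvPolynomial (Fin 3) k := Polynomial.aeval (C (p a)⁻¹ * X a)
      have hmem : ∀ i, ℓ i ∈ J := by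
        intro i
        rcases hall i with rfl | rfl | rfl
        · simp [ℓ, div_self ha]
        · exact ⟨Pi.single 0 1, by simp [hπ]⟩
        · exact ⟨Pi.single 1 1, by simp [hπ]⟩
      have h : q = q.comp (ρ.comp (lineRes p)) := by
        refine algHom_ext fun i => ?_
        have e : ρ (lineRes p (X i)) = C (p i / p a) * X a := by
          simp [lineRes, ρ, div_eq_mul_inv, mul_assoc]
        show q (X i) = q (ρ (lineRes p (X i)))
        rw [e]
        exact Ideal.Quotient.eq.2 (hmem i)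
      have h2 : q f = q (ρ (lineRes p f)) := congrArg (fun φ => φ f) h
      rw [RingHom.mem_ker] at hf
      rw [hf, map_zero, map_zero] at h2
      exact Ideal.Quotient.eq_zero_iff_mem.1 h2
  have hdvd : ∀ g, ℓ b ∣ g * ℓ c → ℓ b ∣ g := by
    intro g hg
    let ψ : MvPolynomial (Fin 3) k →ₐ[k] MvPolynomial (Fin 3) k :=
      aeval fun i => if i = b then C (p b / p a) * X a else X i
    have hψb : ψ (ℓ b) = 0 := by simp [ψ, ℓ, hba.symm]
    have hψc : ψ (ℓ c) = ℓ c := by simp [ψ, ℓ, hba.symm, hbc.symm]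
    obtain ⟨w, hw⟩ := hg
    have h0 : ψ g = 0 := by
      have := congrArg ψ hw
      rw [map_mul, map_mul, hψb, zero_mul, hψc] at this
      exact (mul_eq_zero.1 this).resolve_right hc0
    let q := Ideal.Quotient.mkₐ k (Ideal.span {ℓ b})
    have h : q = q.comp ψ := by
      refine algHom_ext fun i => ?_
      show q (X i) = q (ψ (X i))
      by_cases hi : i = b
      · subst hi
        rw [aeval_X, if_pos rfl]
        exact Ideal.Quotient.eq.2 (Ideal.subset_span rfl)
      · rw [aeval_X, if_neg hi]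
    have h2 : q g = q (ψ g) := congrArg (fun φ => φ g) h
    rw [h0, map_zero] at h2
    exact Ideal.mem_span_singleton.1 (Ideal.Quotient.eq_zero_iff_mem.1 h2)
  let v₀ : Fin 2 → MvPolynomial (Fin 3) k := ![ℓ c, -ℓ b]
  let τ : MvPolynomial (Fin 3) k →ₗ[MvPolynomial (Fin 3) k] LinearMap.ker π :=
    LinearMap.toSpanSingleton _ _ ⟨v₀, by rw [LinearMap.mem_ker, hπ]; simp [v₀]; ring⟩
  have hτ : Function.Bijective τ := by
    refine ⟨(injective_iff_map_eq_zero τ).2 fun g hg => ?_, fun v => ?_⟩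
    · have := congrArg (fun v : LinearMap.ker π => v.1 0) hg
      simp [τ, v₀, hc0] at this
      exact this
    · have hv := LinearMap.mem_ker.1 v.2
      rw [hπ] at hv
      obtain ⟨g, hg⟩ := hdvd (v.1 1) ⟨-(v.1 0), by linear_combination hv⟩
      have h0 : v.1 0 = -g * ℓ c := by
        apply mul_right_cancel₀ hb0
        linear_combination hv - ℓ c * hg
      refine ⟨-g, Subtype.ext (funext fun i => ?_)⟩
      fin_cases i
      · simpa [τ, v₀] using h0.symm
      · simp [τ, v₀, hg, mul_comm]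
  haveI hK : Module.Projective (MvPolynomial (Fin 3) k) (LinearMap.ker π) :=
    Module.Projective.of_equiv (LinearEquiv.ofBijective τ hτ)
  have hJ : HasProjectiveDimensionLE
      (ModuleCat.of (MvPolynomial (Fin 3) k) (RingHom.ker (lineRes p))) 1 := by
    rw [← hrange]
    rw [Groth.Agent.GrSyzMin.pd_iff_ker π.rangeRestrict (LinearMap.surjective_rangeRestrict _) _
      (LinearMap.ker_rangeRestrict π) 0, ← projective_iff_hasProjectiveDimensionLE_zero]
    exact (_root_.IsProjective.iff_projective _).1 hK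
  exact (Groth.Agent.GrSyzMin.pd_iff_ker (Submodule.mkQ (RingHom.ker (lineRes p)))
    (Submodule.mkQ_surjective _) _ (Submodule.ker_mkQ _) 1).2 hJ

theorem pd_ideal_points (Z : Finset (Fin 3 → k)) (hZ : ∀ p ∈ Z, p ≠ 0)
    (I : Ideal (MvPolynomial (Fin 3) k)) (hI : ∀ f, f ∈ I ↔ ∀ p ∈ Z, lineRes p f = 0) :
    I ≠ ⊥ ∧ HasProjectiveDimensionLE (ModuleCat.of (MvPolynomial (Fin 3) k) I) 1 := by
  classical
  constructor
  · choose g hg hg0 using fun p : Z => (pd_quotient_lineRes p.1 (hZ p.1 p.2)).1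
    intro hbot
    have hker : ∀ q : Z, lineRes q.1 (g q) = 0 := fun q => RingHom.mem_ker.1 (hg q)
    have hmem : (∏ p : Z, g p) ∈ I := by
      refine (hI _).2 fun p hp => ?_
      rw [map_prod]
      exact Finset.prod_eq_zero (i := (⟨p, hp⟩ : Z)) (Finset.mem_univ _) (hker ⟨p, hp⟩)
    rw [hbot, Submodule.mem_bot] at hmem
    exact Finset.prod_ne_zero_iff.2 (fun p _ => hg0 p) hmem
  have hprod := pd_pi (R := MvPolynomial (Fin 3) k) 3
    (fun p : Z => MvPolynomial (Fin 3) k ⧸ RingHom.ker (lineRes p.1))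
    fun p => (pd_quotient_lineRes p.1 (hZ p.1 p.2)).2
  let f : (MvPolynomial (Fin 3) k ⧸ I) →ₗ[MvPolynomial (Fin 3) k] ∀ p : Z, MvPolynomial (Fin 3) k ⧸ RingHom.ker (lineRes p.1) :=
    I.liftQ (LinearMap.pi fun p => Submodule.mkQ (RingHom.ker (lineRes p.1))) fun g hg => by
      rw [LinearMap.mem_ker]
      funext p
      exact (Submodule.Quotient.mk_eq_zero _).2 ((hI g).1 hg p.1 p.2)
  have hf : Function.Injective f := (injective_iff_map_eq_zero f).2 fun z => by
    obtain ⟨g, rfl⟩ := Submodule.mkQ_surjective I z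
    intro hg
    exact (Submodule.Quotient.mk_eq_zero _).2 ((hI g).2 fun p hp =>
      (Submodule.Quotient.mk_eq_zero _).1 (congrFun hg ⟨p, hp⟩))
  let S : ShortComplex (ModuleCat.{u} (MvPolynomial (Fin 3) k)) :=
    ShortComplex.mk (ModuleCat.ofHom f) (ModuleCat.ofHom (LinearMap.range f).mkQ) (by
      refine ModuleCat.hom_ext (LinearMap.ext fun x => ?_)
      exact (Submodule.Quotient.mk_eq_zero _).2 (LinearMap.mem_range_self f x))
  have hS : S.ShortExact :=
    { exact := (ShortComplex.ShortExact.moduleCat_exact_iff_function_exact S).2 (LinearMap.exact_map_mkQ_range f)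
      mono_f := (ModuleCat.mono_iff_injective _).2 hf
      epi_g := (ModuleCat.epi_iff_surjective _).2 (Submodule.mkQ_surjective _) }
  have hX₁ : HasProjectiveDimensionLE (ModuleCat.of (MvPolynomial (Fin 3) k) (MvPolynomial (Fin 3) k ⧸ I)) 2 :=
    hS.hasProjectiveDimensionLT_X₁ 3 hprod (Groth.Agent.GrSyzMin.pd_le_numVars _)
  exact (Groth.Agent.GrSyzMin.pd_iff_ker (Submodule.mkQ I) (Submodule.mkQ_surjective _) I
    (Submodule.ker_mkQ I) 1).1 hX₁

theorem homogeneousComponent_mem_stdGr (j : ℕ) (f : MvPolynomial (Fin 3) k) :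
    homogeneousComponent j f ∈ GrSyz.stdGr k (Fin 3) (j : ℤ) := by
  rw [GrSyz.mem_stdGr_iff]
  intro d hd
  have h1 : d.degree = j := by
    by_contra hne
    exact hd ((homogeneousComponent_isHomogeneous j f).coeff_eq_zero hne)
  rw [← h1, Finsupp.degree, Finsupp.weight_apply, Finsupp.sum]
  simp

theorem exists_hilbertBurch (Z : Finset (Fin 3 → k)) (hZ : ∀ p ∈ Z, p ≠ 0)
    (I : Ideal (MvPolynomial (Fin 3) k))
    (hI : ∀ f : MvPolynomial (Fin 3) k, f ∈ I ↔ ∀ p ∈ Z, ∀ j : ℕ, eval p (homogeneousComponent j f) = 0) :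
    ∃ (t : ℕ) (Ψ : Matrix (Fin (t + 1)) (Fin t) (MvPolynomial (Fin 3) k))
      (π : (Fin (t + 1) → MvPolynomial (Fin 3) k) →ₗ[MvPolynomial (Fin 3) k] MvPolynomial (Fin 3) k),
      LinearMap.ker Ψ.mulVecLin = ⊥ ∧ LinearMap.ker π = LinearMap.range Ψ.mulVecLin ∧
        LinearMap.range π = I := by
  classical
  have hI' : ∀ f, f ∈ I ↔ ∀ p ∈ Z, lineRes p f = 0 := fun f => (hI f).trans
    ⟨fun h p hp => Polynomial.ext fun j => by rw [coeff_lineRes, h p hp j, Polynomial.coeff_zero],
      fun h p hp j => by rw [← coeff_lineRes, h p hp, Polynomial.coeff_zero]⟩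
  obtain ⟨hne, hpd⟩ := pd_ideal_points Z hZ I hI'
  let g : I × ℕ → MvPolynomial (Fin 3) k := fun x => homogeneousComponent x.2 (x.1 : MvPolynomial (Fin 3) k)
  have hspan : Submodule.span (MvPolynomial (Fin 3) k) (Set.range g) = I := by
    apply le_antisymm
    · rw [Submodule.span_le]
      rintro _ ⟨⟨⟨f, hf⟩, j⟩, rfl⟩
      refine (hI _).2 fun p hp i => ?_
      show eval p (homogeneousComponent i (homogeneousComponent j f)) = 0
      rw [homogeneousComponent_of_mem (homogeneousComponent_mem j f)]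
      split_ifs with h
      · exact (hI f).1 hf p hp j
      · exact map_zero _
    · intro f hf
      rw [← sum_homogeneousComponent f]
      exact Submodule.sum_mem _ fun j _ => Submodule.subset_span ⟨(⟨f, hf⟩, j), rfl⟩
  have hhom : Groth.Agent.GrSyzMin.Homog (GrSyz.stdGr k (Fin 3)) I := by
    have := Groth.Agent.GrSyzMin.homog_span (ℳ := GrSyz.stdGr k (Fin 3)) (n := 3)
      (d := fun x : I × ℕ => (x.2 : ℤ)) (g := g) fun x => homogeneousComponent_mem_stdGr x.2 _
    rwa [hspan] at this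
  letI := Groth.Agent.GrSyzMin.subDec (GrSyz.stdGr k (Fin 3)) I hhom
  obtain ⟨F, hF⟩ := Groth.Agent.GrSyzMin.exists_minimal (k := k) (n := 3) (M := I)
    (Groth.Agent.GrSyzMin.subGr (GrSyz.stdGr k (Fin 3)) I)
  have hlen : F.HasLengthLE 1 := (Groth.Agent.GrSyzMin.hasLengthLE_iff_pd hF 1).2 hpd
  have hd0 : LinearMap.ker (F.dLin 0) = ⊥ := by
    rw [F.exact_succ 0, eq_bot_iff]
    rintro _ ⟨w, rfl⟩
    haveI : IsEmpty (Fin (F.rk (1 + 1))) := by rw [hlen (1 + 1) (by norm_num)]; infer_instance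
    rw [Subsingleton.elim w 0, map_zero]
    exact zero_mem _
  have hrk : F.rk 0 = F.rk 1 + 1 := by
    have h := (LinearMap.ker F.augLin).finrank_quotient_add_finrank
    rw [(LinearMap.quotKerEquivOfSurjective F.augLin F.aug_surjective).finrank_eq] at h
    rw [F.exact_zero, LinearMap.finrank_range_of_inj (LinearMap.ker_eq_bot.1 hd0), Module.finrank_fin_fun,
      Module.finrank_fin_fun] at h
    haveI : Nontrivial I := Submodule.nontrivial_iff_ne_bot.2 hne
    have h1 : Module.finrank (MvPolynomial (Fin 3) k) I = 1 := by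
      refine le_antisymm ?_ Module.finrank_pos
      exact (Submodule.finrank_le I).trans_eq (Module.finrank_self _)
    generalize hA : F.rk 0 = A at h
    generalize hB : F.rk 1 = B at h
    rw [h1] at h
    omega
  have main : ∀ (m : ℕ) (Ψ : Matrix (Fin m) (Fin (F.rk 1)) (MvPolynomial (Fin 3) k))
      (π : (Fin m → MvPolynomial (Fin 3) k) →ₗ[MvPolynomial (Fin 3) k] MvPolynomial (Fin 3) k),
      m = F.rk 1 + 1 → LinearMap.ker Ψ.mulVecLin = ⊥ → LinearMap.ker π = LinearMap.range Ψ.mulVecLin →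
      LinearMap.range π = I → ∃ (t : ℕ) (Ψ : Matrix (Fin (t + 1)) (Fin t) (MvPolynomial (Fin 3) k))
      (π : (Fin (t + 1) → MvPolynomial (Fin 3) k) →ₗ[MvPolynomial (Fin 3) k] MvPolynomial (Fin 3) k),
      LinearMap.ker Ψ.mulVecLin = ⊥ ∧ LinearMap.ker π = LinearMap.range Ψ.mulVecLin ∧
        LinearMap.range π = I := by
    intro m Ψ π hm h1 h2 h3
    subst hm
    exact ⟨_, Ψ, π, h1, h2, h3⟩
  refine main _ (F.d 0) ((Submodule.subtype I) ∘ₗ F.augLin) hrk hd0 ?_ ?_
  · rw [LinearMap.ker_comp, Submodule.ker_subtype, ← LinearMap.ker]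
    exact F.exact_zero
  · rw [LinearMap.range_comp, LinearMap.range_eq_top.2 F.aug_surjective, Submodule.map_top,
      Submodule.range_subtype]

end

end Groth.Agent.H4Easy
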