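import Mathlib
import Groth.Prelude.Def_Disp2
import Groth.Agent.H4Easy.Batch44

/-! Membership in Q descends along faithfully flat base change of 3n-displays. -/

set_option autoImplicit false
set_option linter.style.haveILetI false

open TensorProduct WittVector Groth.Agent.H4Easy

universe u v

namespace Groth.Agent.H4Easy


section
variable {p : ℕ} [Fact p.Prime] {S R : Type u} [CommRing S] [CommRing R] [Algebra S R] {P : Type v} [AddCommGroup P]
  [Module (WittVector p S) P]

theorem mem_Q_iff_ι_mem [Module.FaithfullyFlat S R] (D : W4c1extbt610.Display3n p S P) (x : P) :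
    x ∈ D.Q ↔ Dieu.BC.ι (WittVector.map (algebraMap S R) : WittVector p S →+* WittVector p R) P x ∈
      LinearMap.ker (Dieu.bcQuotMap (algebraMap S R) D.Q) := by
  constructor
  · intro hx
    rw [LinearMap.mem_ker, Dieu.BC.ι_apply, Dieu.bcQuotMap_tmul,
      show D.Q.mkQ x = 0 from (Submodule.Quotient.mk_eq_zero _).2 hx, Dieu.BC.tmul_zero]
  · intro hx
    have hkill : ∀ (a : WittVector p S) (m : P ⧸ D.Q), a.coeff 0 = 0 → a • m = 0 := by
      intro a m ha
      obtain ⟨m, rfl⟩ := Submodule.Quotient.mk_surjective D.Q m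
      rw [← Submodule.Quotient.mk_smul, Submodule.Quotient.mk_eq_zero]
      refine D.IV_smul_le (Submodule.smul_mem_smul ?_ Submodule.mem_top)
      rw [← verschiebung_shift_of_coeff_zero ha]
      exact W4c1extbt610.verschiebung_mem_IV p S _
    letI : SMul S (P ⧸ D.Q) := ⟨fun s m => teichmuller p s • m⟩
    have hsmul : ∀ (c : WittVector p S) (m : P ⧸ D.Q), constantCoeff c • m = c • m := by
      intro c m
      show teichmuller p (c.coeff 0) • m = c • m
      rw [← sub_eq_zero, ← sub_smul]
      refine hkill _ m ?_
      show constantCoeff (teichmuller p (c.coeff 0) - c) = 0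
      rw [map_sub]
      show (teichmuller p (c.coeff 0)).coeff 0 - c.coeff 0 = 0
      rw [WittVector.teichmuller_coeff_zero, sub_self]
    have hsurj : Function.Surjective (WittVector.constantCoeff (p := p) (R := S)) := fun s =>
      ⟨teichmuller p s, WittVector.teichmuller_coeff_zero p s⟩
    letI : Module S (P ⧸ D.Q) := Function.Surjective.moduleLeft _ hsurj hsmul
    let φ : (P ⧸ D.Q) →ₛₗ[(WittVector.constantCoeff (p := p) (R := R)).comp
        (WittVector.map (algebraMap S R) : WittVector p S →+* WittVector p R)] R ⊗[S] (P ⧸ D.Q) :=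
      { toFun := fun m => (1 : R) ⊗ₜ[S] m
        map_add' := fun a b => TensorProduct.tmul_add _ a b
        map_smul' := fun a m => by
          rw [← hsmul a m, TensorProduct.tmul_smul, ← algebraMap_smul R (constantCoeff a) ((1 : R) ⊗ₜ[S] m)]
          congr 1 }
    have h := congrArg (Dieu.BC.lift _ φ) (LinearMap.mem_ker.1 hx)
    rw [Dieu.BC.ι_apply, Dieu.bcQuotMap_tmul, Dieu.BC.lift_tmul, map_zero, map_one, one_smul] at h
    have h0 : D.Q.mkQ x = 0 := Module.FaithfullyFlat.tensorProduct_mk_injective (A := S) (B := R) (P ⧸ D.Q)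
      (h.trans (map_zero _).symm)
    exact (Submodule.Quotient.mk_eq_zero _).1 h0

end

end Groth.Agent.H4Easy
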