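import Mathlib
import Groth.Prelude.Def_Disp2
import Groth.Agent.H4Easy.Batch44

/-! Expansion of alternating maps, exterior powers of semilinear maps, 3n-displays from split data. -/

set_option autoImplicit false
set_option linter.style.haveILetI false

open WittVector Function Groth.Agent.H4Easy

universe u v w

namespace Groth.Agent.H4Easy


section
variable {R : Type*} [CommRing R] {M N : Type*} [AddCommGroup M] [Module R M] [AddCommGroup N] [Module R N]
  {ι : Type*}

theorem alt_update_add_smul [DecidableEq ι] (f : M [⋀^ι]→ₗ[R] N) (l : ι → M) (a : ι → R) (e : M) (i : ι)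
    (s : Finset ι) (hi : i ∉ s) :
    f (update (s.piecewise (fun j => l j + a j • e) l) i e) = f (update l i e) := by
  induction s using Finset.induction_on with
  | empty => rw [Finset.piecewise_empty]
  | insert j s hj ih =>
    have hij : i ≠ j := fun h => hi (h ▸ Finset.mem_insert_self _ _)
    rw [Finset.piecewise_insert, update_comm hij.symm, f.map_update_add, f.map_update_smul,
      f.map_eq_zero_of_eq (update (update (s.piecewise (fun j => l j + a j • e) l) i e) j e) (i := i) (j := j)
        (by rw [update_self, update_of_ne hij, update_self]) hij, smul_zero, add_zero, update_comm hij,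
      show update (s.piecewise (fun j => l j + a j • e) l) j (l j) = s.piecewise (fun j => l j + a j • e) l from
        update_eq_self_iff.2 (by rw [Finset.piecewise_eq_of_notMem _ _ _ hj]),
      ih fun h => hi (Finset.mem_insert_of_mem h)]

theorem alt_expand [DecidableEq ι] [Fintype ι] (f : M [⋀^ι]→ₗ[R] N) (l : ι → M) (a : ι → R) (e : M) :
    f (fun j => l j + a j • e) = f l + ∑ i, a i • f (update l i e) := by
  have h : ∀ s : Finset ι, f (s.piecewise (fun j => l j + a j • e) l) = f l + ∑ i ∈ s, a i • f (update l i e) := by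
    intro s
    induction s using Finset.induction_on with
    | empty => rw [Finset.piecewise_empty, Finset.sum_empty, add_zero]
    | insert j s hj ih =>
      rw [Finset.piecewise_insert, f.map_update_add, f.map_update_smul, alt_update_add_smul f l a e j s hj,
        show update (s.piecewise (fun j => l j + a j • e) l) j (l j) = s.piecewise (fun j => l j + a j • e) l from
          update_eq_self_iff.2 (by rw [Finset.piecewise_eq_of_notMem _ _ _ hj]), ih, Finset.sum_insert hj]
      abel
  have h' := h Finset.univ
  rwa [Finset.piecewise_univ] at h'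

theorem exteriorPower_finite_projective [Module.Finite R M] [Module.Projective R M] (r : ℕ) :
    Module.Finite R (⋀[R]^r M) ∧ Module.Projective R (⋀[R]^r M) := by
  obtain ⟨n, π, hπ⟩ := Module.Finite.exists_fin' R M
  obtain ⟨s, hs⟩ := Module.projective_lifting_property π LinearMap.id hπ
  exact ⟨inferInstance, Module.Projective.of_split (exteriorPower.map r s) (exteriorPower.map r π)
    (by rw [← exteriorPower.map_comp, hs, exteriorPower.map_id])⟩

end

section
variable {p : ℕ} [Fact p.Prime] {R : Type u} [CommRing R]

/-- `N` with scalars acting through the Witt vector Frobenius. -/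
def FrTw (p : ℕ) [Fact p.Prime] (R : Type u) [CommRing R] (N : Type v) : Type v := N

instance instAddCommGroupFrTw (N : Type v) [h : AddCommGroup N] : AddCommGroup (FrTw p R N) := h

noncomputable instance instModuleFrTw (N : Type v) [AddCommGroup N] [Module (WittVector p R) N] :
    Module (WittVector p R) (FrTw p R N) :=
  Module.compHom N (frobenius : WittVector p R →+* WittVector p R)

variable {P : Type v} [AddCommGroup P] [Module (WittVector p R) P] {P' : Type w} [AddCommGroup P']
  [Module (WittVector p R) P']

/-- Wedges of a Frobenius-semilinear map, with twisted scalars on the target. -/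
noncomputable def extSemiAlt (r : ℕ) (ψ : P →ₛₗ[(frobenius : WittVector p R →+* WittVector p R)] P') :
    P [⋀^Fin r]→ₗ[WittVector p R] FrTw p R (⋀[WittVector p R]^r P') where
  toFun x := exteriorPower.ιMulti (WittVector p R) r fun i => ψ (x i)
  map_update_add' {_} m i x y := by
    simp only [Function.apply_update (fun _ => ψ), map_add]
    exact (exteriorPower.ιMulti (WittVector p R) r).map_update_add (fun k => ψ (m k)) i (ψ x) (ψ y)
  map_update_smul' {_} m i c x := by
    simp only [Function.apply_update (fun _ => ψ), map_smulₛₗ]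
    exact (exteriorPower.ιMulti (WittVector p R) r).map_update_smul (fun k => ψ (m k)) i (frobenius c) (ψ x)
  map_eq_zero_of_eq' v i j h hij :=
    (exteriorPower.ιMulti (WittVector p R) r).map_eq_zero_of_eq (fun k => ψ (v k)) (congrArg ψ h) hij

/-- The exterior power of a Frobenius-semilinear map. -/
noncomputable def extSemi (r : ℕ) (ψ : P →ₛₗ[(frobenius : WittVector p R →+* WittVector p R)] P') :
    ⋀[WittVector p R]^r P →ₛₗ[(frobenius : WittVector p R →+* WittVector p R)] ⋀[WittVector p R]^r P' where
  toFun z := exteriorPower.alternatingMapLinearEquiv (extSemiAlt r ψ) z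
  map_add' x y := map_add (exteriorPower.alternatingMapLinearEquiv (extSemiAlt r ψ)) x y
  map_smul' c x := map_smul (exteriorPower.alternatingMapLinearEquiv (extSemiAlt r ψ)) c x

theorem extSemi_ιMulti (r : ℕ) (ψ : P →ₛₗ[(frobenius : WittVector p R →+* WittVector p R)] P') (x : Fin r → P) :
    extSemi r ψ (exteriorPower.ιMulti (WittVector p R) r x) =
      exteriorPower.ιMulti (WittVector p R) r fun i => ψ (x i) :=
  exteriorPower.alternatingMapLinearEquiv_apply_ιMulti (extSemiAlt r ψ) x

/-- A 3n-display from an idempotent and the two semilinear halves of `V⁻¹`. -/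
theorem exists_display3n_of_split (Λ : P →ₗ[WittVector p R] P)
    (A S : P →ₛₗ[(frobenius : WittVector p R →+* WittVector p R)] P)
    [Module.Finite (WittVector p R) P] [Module.Projective (WittVector p R) P]
    (hΛ : ∀ z, Λ (Λ z) = Λ z) (hA : ∀ z, A (Λ z) = A z) (hS : ∀ z, S (Λ z) = 0)
    (hspan : (⊤ : Submodule (WittVector p R) P) ≤ Submodule.span (WittVector p R) (Set.range A ∪ Set.range S)) :
    ∃ E : W4c1extbt610.Display3n p R P,
      E.Q = LinearMap.range Λ ⊔ W4c1extbt610.IV p R • LinearMap.ker Λ ∧
      (∀ z, E.F z = (p : WittVector p R) • A z + S z) ∧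
      ∀ (z : P) (h : z ∈ E.Q), Λ z = z → E.Vinv ⟨z, h⟩ = A z := by
  obtain ⟨n, π, hπ⟩ := Module.Finite.exists_fin' (WittVector p R) P
  obtain ⟨s, hs⟩ := Module.projective_lifting_property π LinearMap.id hπ
  let Θ : P →ₗ[WittVector p R] P := LinearMap.id - Λ
  have hΘ : ∀ z, Θ z = z - Λ z := fun z => rfl
  have hΘk : ∀ z, Θ z ∈ LinearMap.ker Λ := fun z => by rw [LinearMap.mem_ker, hΘ, map_sub, hΛ, sub_self]
  have hΘfix : ∀ z ∈ LinearMap.ker Λ, Θ z = z := fun z hz => by
    rw [hΘ, LinearMap.mem_ker.1 hz, sub_zero]
  let fc : Fin n → (P →ₗ[WittVector p R] WittVector p R) := fun i => LinearMap.proj i ∘ₗ s ∘ₗ Θ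
  let ev : Fin n → P := fun i => Θ (π (Pi.single i 1))
  have hdec : ∀ z, Θ z = ∑ i, fc i z • ev i := fun z => by
    have h1 : π (s (Θ z)) = Θ z := congrArg (fun φ => φ (Θ z)) hs
    conv_lhs => rw [← hΘfix _ (hΘk z), ← h1, pi_eq_sum_univ' (s (Θ z))]
    rw [map_sum, map_sum]
    exact Finset.sum_congr rfl fun i _ => by rw [map_smul, map_smul]; rfl
  have hzdec : ∀ z, z = Λ z + ∑ i, fc i z • ev i := fun z => by rw [← hdec, hΘ]; abel
  let Q := LinearMap.range Λ ⊔ W4c1extbt610.IV p R • LinearMap.ker Λ
  have hfQ : ∀ z ∈ Q, ∀ i, (fc i z).coeff 0 = 0 := by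
    intro z hz i
    obtain ⟨_, ⟨l, rfl⟩, t, ht, rfl⟩ := Submodule.mem_sup.1 hz
    have : fc i (Λ l + t) = fc i t := by
      rw [map_add]
      simp [fc, show Θ (Λ l) = 0 by rw [hΘ, hΛ, sub_self]]
    rw [this]
    refine constantCoeff_map_of_mem_IV ?_
    refine Submodule.smul_induction_on ht (fun a ha m _ => ?_) (fun x y hx hy => ?_)
    · rw [map_smul]; exact Ideal.mul_mem_right _ _ ha
    · rw [map_add]; exact add_mem hx hy
  have hVQ : ∀ (w : WittVector p R) (z : P), verschiebung w • z ∈ Q := fun w z => by
    rw [show z = Λ z + Θ z by rw [hΘ]; abel, smul_add]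
    exact Submodule.add_mem_sup (Submodule.smul_mem _ _ ⟨z, rfl⟩)
      (Submodule.smul_mem_smul (W4c1extbt610.verschiebung_mem_IV p R w) (hΘk z))
  have hshift : ∀ z : Q, ∀ i, verschiebung ((fc i (z : P)).shift 1) = fc i z := fun z i =>
    verschiebung_shift_of_coeff_zero (hfQ z z.2 i)
  have hSdec : ∀ z, S z = ∑ i, frobenius (fc i z) • S (ev i) := fun z => by
    conv_lhs => rw [hzdec z]
    rw [map_add, hS, zero_add, map_sum]
    exact Finset.sum_congr rfl fun i _ => map_smulₛₗ _ _ _
  let VR : Q →ₛₗ[(frobenius : WittVector p R →+* WittVector p R)] P :=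
    { toFun := fun z => A z + ∑ i, (fc i (z : P)).shift 1 • S (ev i)
      map_add' := fun x y => by
        have h : ∀ i, (fc i ((x + y : Q) : P)).shift 1 = (fc i x).shift 1 + (fc i y).shift 1 :=
          fun i => verschiebung_injective _ _ (by rw [hshift, map_add, hshift, hshift, ← map_add]; rfl)
        simp only [h]
        simp only [add_smul, Finset.sum_add_distrib, Submodule.coe_add, map_add]
        abel
      map_smul' := fun a x => by
        have h : ∀ i, (fc i ((a • x : Q) : P)).shift 1 = frobenius a * (fc i x).shift 1 :=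
          fun i => verschiebung_injective _ _ (by
            rw [hshift, mul_comm, verschiebung_mul_frobenius, hshift, mul_comm]
            exact map_smul (fc i) a (x : P))
        simp only [h]
        simp only [Submodule.coe_smul, map_smulₛₗ, smul_add, Finset.smul_sum, mul_smul] }
  have hVfix : ∀ (z : P) (h : z ∈ Q), Λ z = z → VR ⟨z, h⟩ = A z := fun z h hz => by
    show A z + _ = A z
    have : ∀ i, (fc i z).shift 1 = 0 := fun i => verschiebung_injective _ _ (by
      rw [hshift ⟨z, h⟩ i, map_zero]
      simp [fc, show Θ z = 0 by rw [hΘ, hz, sub_self]])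
    simp [this]
  have hVV : ∀ (w : WittVector p R) (z : P),
      VR ⟨_, hVQ w z⟩ = w • ((p : WittVector p R) • A z + S z) := fun w z => by
    show A (verschiebung w • z) + ∑ i, (fc i (verschiebung w • z)).shift 1 • S (ev i) = _
    have h : ∀ i, (fc i (verschiebung w • z)).shift 1 = w * frobenius (fc i z) := fun i => by
      apply verschiebung_injective
      rw [hshift ⟨_, hVQ w z⟩, verschiebung_mul_frobenius, map_smul, smul_eq_mul]
    simp only [h]
    rw [map_smulₛₗ, frobenius_verschiebung, mul_smul, smul_add, hSdec z, Finset.smul_sum]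
    simp only [mul_smul]
  have hIV : W4c1extbt610.IV p R • (⊤ : Submodule (WittVector p R) P) ≤ Q := Submodule.smul_le.2 fun a ha z _ => by
    rw [← verschiebung_shift_of_coeff_zero (constantCoeff_map_of_mem_IV ha)]
    exact hVQ _ z
  let E : W4c1extbt610.Display3n p R P :=
    { Q := Q
      F := (p : WittVector p R) • A + S
      Vinv := VR
      finite := inferInstance
      projective := inferInstance
      IV_smul_le := hIV
      exists_normal := by
        refine ⟨LinearMap.range Λ, LinearMap.ker Λ, ⟨?_, ?_⟩, rfl⟩
        · rw [Submodule.disjoint_def]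
          rintro _ ⟨a, rfl⟩ ha
          rw [← hΛ a]
          exact LinearMap.mem_ker.1 ha
        · rw [codisjoint_iff, eq_top_iff]
          intro z _
          exact Submodule.mem_sup.2 ⟨_, ⟨z, rfl⟩, Θ z, hΘk z, by rw [hΘ]; abel⟩
      span_range_Vinv := by
        refine eq_top_iff.2 (hspan.trans (Submodule.span_le.2 ?_))
        have hAm : ∀ z, A z ∈ Submodule.span (WittVector p R) (Set.range VR) := fun z => by
          rw [← hA z, ← hVfix (Λ z) (le_sup_left (a := LinearMap.range Λ) ⟨z, rfl⟩) (hΛ z)]
          exact Submodule.subset_span ⟨_, rfl⟩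
        rintro _ (⟨z, rfl⟩ | ⟨z, rfl⟩)
        · exact hAm z
        · have h := hVV 1 z
          rw [one_smul] at h
          rw [show S z = VR ⟨_, hVQ 1 z⟩ - (p : WittVector p R) • A z by rw [h]; abel]
          exact sub_mem (Submodule.subset_span ⟨_, rfl⟩) (Submodule.smul_mem _ _ (hAm z))
      Vinv_verschiebung_smul := fun w z => hVV w z }
  exact ⟨E, rfl, fun z => rfl, hVfix⟩

end

end Groth.Agent.H4Easy
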