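import Mathlib
import Groth.Prelude.Def_Disp2
import Groth.Agent.H4Easy.Batch46

/-! Exterior powers of 3n-displays with tangent module free of rank one. -/

set_option autoImplicit false
set_option linter.style.haveILetI false

open WittVector Function Groth.Agent.H4Easy

universe u v w

namespace Groth.Agent.H4Easy


section
variable {p : ℕ} [Fact p.Prime] {R : Type u} [CommRing R] {P : Type v} [AddCommGroup P]
  [Module (WittVector p R) P] {P' : Type w} [AddCommGroup P'] [Module (WittVector p R) P']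

theorem display3n_F_eq (D : W4c1extbt610.Display3n p R P) (x : P) :
    D.F x = D.Vinv ⟨verschiebung (1 : WittVector p R) • x,
      D.IV_smul_le (Submodule.smul_mem_smul (W4c1extbt610.verschiebung_mem_IV p R 1) Submodule.mem_top)⟩ := by
  rw [D.Vinv_verschiebung_smul, one_smul]

theorem exists_extPow_of_normal (D : W4c1extbt610.Display3n p R P) (L T : Submodule (WittVector p R) P)
    (hLT : IsCompl L T) (hQ : D.Q = L ⊔ W4c1extbt610.IV p R • T)
    (te : T ≃ₗ[WittVector p R] WittVector p R) (r : ℕ) :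
    ∃ E : W4c1extbt610.Display3n p R (⋀[WittVector p R]^r P), W4c1extbt610.IsExtPow D r E ∧
      (∀ E' : W4c1extbt610.Display3n p R (⋀[WittVector p R]^r P), W4c1extbt610.IsExtPow D r E' → E' = E) ∧
      E.Q = LinearMap.range (exteriorPower.map r (L.subtype ∘ₗ L.projectionOnto T hLT)) ⊔ W4c1extbt610.IV p R •
        LinearMap.ker (exteriorPower.map r (L.subtype ∘ₗ L.projectionOnto T hLT)) := by
  classical
  haveI := D.finite
  haveI := D.projective
  have hLQ : L ≤ D.Q := hQ ▸ le_sup_left
  let prL : P →ₗ[WittVector p R] L := L.projectionOnto T hLT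
  let prT : P →ₗ[WittVector p R] T := T.projectionOnto L hLT.symm
  let c : P →ₗ[WittVector p R] WittVector p R := te.toLinearMap ∘ₗ prT
  let e : P := (te.symm 1 : P)
  let Λ : P →ₗ[WittVector p R] P := L.subtype ∘ₗ prL
  have hdec : ∀ x : P, x = Λ x + c x • e := fun x => by
    show x = (prL x : P) + te (prT x) • (te.symm 1 : P)
    rw [← Submodule.coe_smul, ← map_smul, smul_eq_mul, mul_one, LinearEquiv.symm_apply_apply]
    exact (Submodule.projection_add_projection_eq_self hLT x).symm
  have hcΛ : ∀ x, c (Λ x) = 0 := fun x => by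
    show te (prT (prL x : P)) = 0
    rw [show prT (prL x : P) = 0 from Submodule.projectionOnto_apply_right hLT.symm (prL x), map_zero]
  have hce : c e = 1 := by
    show te (prT (te.symm 1 : P)) = 1
    rw [show prT (te.symm 1 : P) = te.symm 1 from Submodule.projectionOnto_apply_left hLT.symm _,
      LinearEquiv.apply_symm_apply]
  have hΛe : prL e = 0 := Submodule.projectionOnto_apply_right hLT (te.symm 1)
  have hΛΛ : ∀ x, prL (Λ x) = prL x := fun x => Submodule.projectionOnto_apply_left hLT (prL x)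
  have hΛQ : ∀ x, Λ x ∈ D.Q := fun x => hLQ (prL x).2
  have hcQ : ∀ q ∈ D.Q, (c q).coeff 0 = 0 := by
    intro q hq
    rw [hQ] at hq
    obtain ⟨l, hl, z, hz, rfl⟩ := Submodule.mem_sup.1 hq
    have h0 : prT l = 0 := Submodule.projectionOnto_apply_right hLT.symm ⟨l, hl⟩
    have : c (l + z) = c z := by rw [map_add]; simp [c, h0]
    rw [this]
    refine constantCoeff_map_of_mem_IV ?_
    refine Submodule.smul_induction_on hz (fun a ha t _ => ?_) (fun u v hu hv => ?_)
    · rw [map_smul]; exact Ideal.mul_mem_right _ _ ha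
    · rw [map_add]; exact add_mem hu hv
  let ψ : P →ₛₗ[(frobenius : WittVector p R →+* WittVector p R)] P :=
    D.Vinv.comp ((Submodule.inclusion hLQ).comp prL)
  let G : P →ₛₗ[(frobenius : WittVector p R →+* WittVector p R)] P :=
    { toFun := fun x => ψ x + frobenius (c x) • D.F e
      map_add' := fun x y => by simp only [map_add, add_smul]; abel
      map_smul' := fun a x => by
        simp only [map_smulₛₗ, RingHom.id_apply, smul_eq_mul, map_mul, smul_add, mul_smul] }
  have hψΛ : ∀ x, ψ (Λ x) = ψ x := fun x => by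
    show D.Vinv (Submodule.inclusion hLQ (prL (Λ x))) = _
    rw [hΛΛ]
    rfl
  have hGΛ : ∀ x, G (Λ x) = ψ x := fun x => by
    show ψ (Λ x) + frobenius (c (Λ x)) • D.F e = ψ x
    rw [hψΛ, hcΛ, map_zero, zero_smul, add_zero]
  have hψe : ψ e = 0 := by
    show D.Vinv (Submodule.inclusion hLQ (prL e)) = 0
    rw [hΛe, map_zero, map_zero]
  have hGe : G e = D.F e := by
    show ψ e + frobenius (c e) • D.F e = D.F e
    rw [hψe, hce, map_one, one_smul, zero_add]
  have hVdec : ∀ q : D.Q, D.Vinv q = ψ (q : P) + (c q).shift 1 • D.F e := fun q => by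
    have hq : q = Submodule.inclusion hLQ (prL q) + (⟨verschiebung ((c q).shift 1) • e, D.IV_smul_le
        (Submodule.smul_mem_smul (W4c1extbt610.verschiebung_mem_IV p R _) Submodule.mem_top)⟩ : D.Q) := by
      apply Subtype.ext
      rw [Submodule.coe_add]
      exact (hdec q).trans (congrArg₂ (· + ·) rfl
        (congrArg (· • e) (verschiebung_shift_of_coeff_zero (hcQ q q.2)).symm))
    conv_lhs => rw [hq]
    rw [map_add, D.Vinv_verschiebung_smul]
    rfl
  obtain ⟨hfin, hproj⟩ := exteriorPower_finite_projective (R := WittVector p R) (M := P) r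
  let Λr := exteriorPower.map r Λ
  let A := extSemi r ψ
  let S := extSemi r G - extSemi r ψ
  let w : (Fin r → P) → ⋀[WittVector p R]^r P := exteriorPower.ιMulti (WittVector p R) r
  let u : (Fin r → P) → Fin r → ⋀[WittVector p R]^r P := fun x i => w (update (fun j => Λ (x j)) i e)
  have hΛr : ∀ x, Λr (w x) = w fun j => Λ (x j) := fun x => exteriorPower.map_apply_ιMulti _ _
  have hexp : ∀ x, w x = (w fun j => Λ (x j)) + ∑ i, c (x i) • u x i := fun x => by
    conv_lhs => rw [show x = fun j => Λ (x j) + c (x j) • e from funext fun j => hdec (x j)]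
    exact alt_expand (exteriorPower.ιMulti (WittVector p R) r) _ _ _
  have hΛΛr : ∀ z, Λr (Λr z) = Λr z := fun z => by
    rw [← LinearMap.comp_apply, ← exteriorPower.map_comp,
      show Λ ∘ₗ Λ = Λ from LinearMap.ext fun x => congrArg Subtype.val (hΛΛ x)]
  have hspanw : Submodule.span (WittVector p R) (Set.range w) = ⊤ := exteriorPower.ιMulti_span _ _ _
  have hA : ∀ z, A (Λr z) = A z := fun z => by
    have hz : z ∈ Submodule.span (WittVector p R) (Set.range w) := hspanw ▸ Submodule.mem_top
    induction hz using Submodule.span_induction with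
    | mem y hy =>
      obtain ⟨x, rfl⟩ := hy
      rw [hΛr, extSemi_ιMulti, extSemi_ιMulti]
      simp only [hψΛ]
    | zero => rw [map_zero]
    | add a b _ _ ha hb => rw [map_add, map_add, ha, hb, map_add]
    | smul a x _ hx => rw [map_smul, map_smulₛₗ, hx, map_smulₛₗ]
  have hS : ∀ z, S (Λr z) = 0 := fun z => by
    have hz : z ∈ Submodule.span (WittVector p R) (Set.range w) := hspanw ▸ Submodule.mem_top
    induction hz using Submodule.span_induction with
    | mem y hy =>
      obtain ⟨x, rfl⟩ := hy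
      show extSemi r G (Λr (w x)) - extSemi r ψ (Λr (w x)) = 0
      rw [hΛr, extSemi_ιMulti, extSemi_ιMulti]
      simp only [hψΛ, hGΛ, sub_self]
    | zero => rw [map_zero, map_zero]
    | add a b _ _ ha hb => rw [map_add, map_add, ha, hb, add_zero]
    | smul a x _ hx => rw [map_smul, map_smulₛₗ, hx, smul_zero]
  have hSu : ∀ x i, S (u x i) =
      exteriorPower.ιMulti (WittVector p R) r (update (fun j => ψ (x j)) i (D.F e)) := fun x i => by
    show extSemi r G (u x i) - extSemi r ψ (u x i) = _
    rw [extSemi_ιMulti, extSemi_ιMulti,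
      (exteriorPower.ιMulti (WittVector p R) r).map_coord_zero
        (m := fun k => ψ (update (fun j => Λ (x j)) i e k)) i (by rw [update_self, hψe]), sub_zero]
    congr 1
    funext j
    rcases eq_or_ne j i with rfl | hj
    · rw [update_self, update_self, hGe]
    · rw [update_of_ne hj, update_of_ne hj, hGΛ]
  have hAu : ∀ x i, A (u x i) = 0 := fun x i => by
    show extSemi r ψ (u x i) = 0
    rw [extSemi_ιMulti,
      (exteriorPower.ιMulti (WittVector p R) r).map_coord_zero
        (m := fun k => ψ (update (fun j => Λ (x j)) i e k)) i (by rw [update_self, hψe])]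
  have hwedge : ∀ q : Fin r → D.Q, exteriorPower.ιMulti (WittVector p R) r (fun i => D.Vinv (q i)) =
      A (w fun j => Λ (q j : P)) + ∑ i, (c (q i : P)).shift 1 • S (u (fun j => (q j : P)) i) := fun q => by
    simp only [hVdec, hSu]
    rw [alt_expand, extSemi_ιMulti]
    simp only [hψΛ]
  have hrange : Submodule.span (WittVector p R)
      (Set.range fun q : Fin r → D.Q => exteriorPower.ιMulti (WittVector p R) r fun i => D.Vinv (q i)) = ⊤ := by
    rw [eq_top_iff, ← exteriorPower.ιMulti_span_of_span (R := WittVector p R) (n := r) (M := P) D.span_range_Vinv]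
    refine Submodule.span_mono ?_
    rintro _ ⟨a, ha, rfl⟩
    choose q hq using fun i => ha ⟨i, rfl⟩
    exact ⟨q, congrArg _ (funext hq)⟩
  have hspan : (⊤ : Submodule (WittVector p R) (⋀[WittVector p R]^r P)) ≤
      Submodule.span (WittVector p R) (Set.range A ∪ Set.range S) := by
    rw [← hrange]
    refine Submodule.span_le.2 ?_
    rintro _ ⟨q, rfl⟩
    show exteriorPower.ιMulti (WittVector p R) r (fun i => D.Vinv (q i)) ∈ Submodule.span _ _
    rw [hwedge]
    exact add_mem (Submodule.subset_span (Or.inl ⟨_, rfl⟩))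
      (Submodule.sum_mem _ fun i _ => Submodule.smul_mem _ _ (Submodule.subset_span (Or.inr ⟨_, rfl⟩)))
  obtain ⟨E, hEQ, hEF, hEV⟩ := exists_display3n_of_split Λr A S hΛΛr hA hS hspan
  let W := Submodule.span (WittVector p R)
    (Set.range fun q : Fin r → D.Q => exteriorPower.ιMulti (WittVector p R) r fun i => (q i : P))
  have hW : ∀ x : Fin r → P, (∀ i, x i ∈ D.Q) → w x ∈ W := fun x hx =>
    Submodule.subset_span ⟨fun i => ⟨x i, hx i⟩, rfl⟩
  have hΛrE : ∀ z, Λr z ∈ E.Q := fun z => hEQ ▸ Submodule.mem_sup_left ⟨z, rfl⟩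
  have hVE : ∀ (a : WittVector p R) (z : ⋀[WittVector p R]^r P), verschiebung a • z ∈ E.Q := fun a z =>
    E.IV_smul_le (Submodule.smul_mem_smul (W4c1extbt610.verschiebung_mem_IV p R a) Submodule.mem_top)
  have hVu : ∀ (q : Fin r → D.Q) (i : Fin r), c (q i : P) • u (fun j => (q j : P)) i =
      verschiebung ((c (q i : P)).shift 1) • u (fun j => (q j : P)) i := fun q i =>
    congrArg (· • u (fun j => (q j : P)) i) (verschiebung_shift_of_coeff_zero (hcQ _ (q i).2)).symm
  have hEQW : E.Q = W := by
    refine le_antisymm ?_ (Submodule.span_le.2 ?_)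
    · rw [hEQ]
      refine sup_le ?_ (Submodule.smul_le.2 fun a ha z hz => ?_)
      · rintro _ ⟨z, rfl⟩
        have hz : z ∈ Submodule.span (WittVector p R) (Set.range w) := hspanw ▸ Submodule.mem_top
        induction hz using Submodule.span_induction with
        | mem y hy =>
          obtain ⟨x, rfl⟩ := hy
          rw [hΛr]
          exact hW _ fun i => hΛQ _
        | zero => rw [map_zero]; exact zero_mem _
        | add a b _ _ ha hb => rw [map_add]; exact add_mem ha hb
        | smul a x _ hx => rw [map_smul]; exact Submodule.smul_mem _ _ hx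
      · have key : ∀ z, a • (z - Λr z) ∈ W := fun z => by
          have hz : z ∈ Submodule.span (WittVector p R) (Set.range w) := hspanw ▸ Submodule.mem_top
          induction hz using Submodule.span_induction with
          | mem y hy =>
            obtain ⟨x, rfl⟩ := hy
            rw [hΛr, sub_eq_of_eq_add' (hexp x), Finset.smul_sum]
            refine Submodule.sum_mem _ fun i _ => ?_
            rw [smul_smul, show (a * c (x i)) • u x i = w (update (fun j => Λ (x j)) i ((a * c (x i)) • e)) from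
              ((exteriorPower.ιMulti (WittVector p R) r).map_update_smul _ _ _ _).symm]
            refine hW _ fun j => ?_
            rcases eq_or_ne j i with rfl | hj
            · rw [update_self]
              exact D.IV_smul_le (Submodule.smul_mem_smul (Ideal.mul_mem_right _ _ ha) Submodule.mem_top)
            · rw [update_of_ne hj]; exact hΛQ _
          | zero => simp
          | add b d _ _ hb hd => rw [map_add, add_sub_add_comm, smul_add]; exact add_mem hb hd
          | smul b x _ hx => rw [map_smul, ← smul_sub, smul_comm]; exact Submodule.smul_mem _ _ hx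
        have := key z
        rwa [LinearMap.mem_ker.1 hz, sub_zero] at this
    · rintro _ ⟨q, rfl⟩
      show w (fun i => (q i : P)) ∈ E.Q
      rw [hexp]
      refine add_mem (hΛr (fun i => (q i : P)) ▸ hΛrE _) (Submodule.sum_mem _ fun i _ => ?_)
      rw [hVu]
      exact hVE _ _
  have hVq : ∀ (q : Fin r → D.Q) (hq : exteriorPower.ιMulti (WittVector p R) r (fun i => (q i : P)) ∈ E.Q),
      E.Vinv ⟨_, hq⟩ = exteriorPower.ιMulti (WittVector p R) r fun i => D.Vinv (q i) := by
    intro q hq
    have hl : (w fun j => Λ (q j : P)) ∈ E.Q := hΛr (fun i => (q i : P)) ▸ hΛrE _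
    have heq : (⟨_, hq⟩ : E.Q) = ⟨_, hl⟩ +
        ∑ i, (⟨_, hVE ((c (q i : P)).shift 1) (u (fun j => (q j : P)) i)⟩ : E.Q) := by
      apply Subtype.ext
      rw [Submodule.coe_add, AddSubmonoidClass.coe_finsetSum]
      exact (hexp _).trans (congrArg₂ (· + ·) rfl (Finset.sum_congr rfl fun i _ => hVu q i))
    rw [heq, map_add, map_sum, hwedge]
    refine congrArg₂ (· + ·) (hEV _ hl ?_) (Finset.sum_congr rfl fun i _ => ?_)
    · rw [hΛr]
      exact congrArg w (funext fun j => congrArg Subtype.val (hΛΛ (q j : P)))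
    · rw [E.Vinv_verschiebung_smul, hEF, hAu, smul_zero, zero_add]
  refine ⟨E, ⟨hEQW, hVq⟩, fun E' hE' => ?_, hEQ⟩
  have hQQ : E'.Q = E.Q := hE'.1.trans hEQW.symm
  have hV : ∀ (z : ⋀[WittVector p R]^r P) (h' : z ∈ E'.Q) (h : z ∈ E.Q), E'.Vinv ⟨z, h'⟩ = E.Vinv ⟨z, h⟩ := by
    intro z h' h
    have hz : z ∈ W := hEQW ▸ h
    induction hz using Submodule.span_induction with
    | mem y hy =>
      obtain ⟨q, rfl⟩ := hy
      rw [hE'.2 q h', hVq q h]
    | zero => exact (map_zero E'.Vinv).trans (map_zero E.Vinv).symm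
    | add a b ha hb iha ihb =>
      have a1 : a ∈ E.Q := hEQW ▸ ha
      have b1 : b ∈ E.Q := hEQW ▸ hb
      have a2 : a ∈ E'.Q := hQQ ▸ a1
      have b2 : b ∈ E'.Q := hQQ ▸ b1
      exact (map_add E'.Vinv ⟨a, a2⟩ ⟨b, b2⟩).trans ((congrArg₂ (· + ·) (iha a2 a1) (ihb b2 b1)).trans
        (map_add E.Vinv ⟨a, a1⟩ ⟨b, b1⟩).symm)
    | smul t a ha iha =>
      have a1 : a ∈ E.Q := hEQW ▸ ha
      have a2 : a ∈ E'.Q := hQQ ▸ a1
      exact (map_smulₛₗ E'.Vinv t ⟨a, a2⟩).trans ((congrArg (frobenius t • ·) (iha a2 a1)).trans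
        (map_smulₛₗ E.Vinv t ⟨a, a1⟩).symm)
  refine display3n_ext hQQ (LinearMap.ext fun z => ?_) hV
  rw [display3n_F_eq E' z, display3n_F_eq E z]
  exact hV _ _ _

theorem exists_extPow (D : W4c1extbt610.Display3n p R P)
    (hT : ∃ L T : Submodule (WittVector p R) P, IsCompl L T ∧ D.Q = L ⊔ W4c1extbt610.IV p R • T ∧
      Nonempty (T ≃ₗ[WittVector p R] WittVector p R)) (r : ℕ) :
    ∃ E : W4c1extbt610.Display3n p R (⋀[WittVector p R]^r P), W4c1extbt610.IsExtPow D r E ∧
      ∀ E' : W4c1extbt610.Display3n p R (⋀[WittVector p R]^r P), W4c1extbt610.IsExtPow D r E' → E' = E := by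
  obtain ⟨L, T, hLT, hQ, ⟨te⟩⟩ := hT
  obtain ⟨E, h1, h2, -⟩ := exists_extPow_of_normal D L T hLT hQ te r
  exact ⟨E, h1, h2⟩

theorem isAltMult_ιMulti {r : ℕ} (D : W4c1extbt610.Display3n p R P)
    (E : W4c1extbt610.Display3n p R (⋀[WittVector p R]^r P)) (hE : W4c1extbt610.IsExtPow D r E) :
    W4c1extbt610.IsAltMult D E (exteriorPower.ιMulti (WittVector p R) r) := by
  classical
  have hmem : ∀ q : Fin r → D.Q, exteriorPower.ιMulti (WittVector p R) r (fun i => (q i : P)) ∈ E.Q :=
    fun q => hE.1.symm ▸ Submodule.subset_span ⟨q, rfl⟩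
  refine ⟨hmem, fun q => hE.2 q _, fun i x q => ?_⟩
  let x₁ : D.Q := ⟨verschiebung (1 : WittVector p R) • x,
    D.IV_smul_le (Submodule.smul_mem_smul (W4c1extbt610.verschiebung_mem_IV p R 1) Submodule.mem_top)⟩
  have h1 : (fun j => ((update q i x₁ j : D.Q) : P)) =
      update (fun j => (q j : P)) i (verschiebung (1 : WittVector p R) • x) :=
    funext fun j => apply_update (fun _ (y : D.Q) => (y : P)) q i x₁ j
  have h2 : (fun j => D.Vinv (update q i x₁ j)) = update (fun j => D.Vinv (q j)) i (D.F x) :=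
    funext fun j => by
      rw [apply_update (fun _ (y : D.Q) => D.Vinv y) q i x₁ j, display3n_F_eq D x]
  rw [display3n_F_eq E]
  refine (congrArg E.Vinv (Subtype.ext ?_)).trans ((hE.2 (update q i x₁) (hmem _)).trans (congrArg _ h2))
  show verschiebung (1 : WittVector p R) • _ = exteriorPower.ιMulti (WittVector p R) r _
  rw [h1, AlternatingMap.map_update_smul]

theorem existsUnique_isHom_of_isAltMult {r : ℕ} (D : W4c1extbt610.Display3n p R P)
    (E : W4c1extbt610.Display3n p R (⋀[WittVector p R]^r P)) (hE : W4c1extbt610.IsExtPow D r E)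
    (D' : W4c1extbt610.Display3n p R P') (φ : P [⋀^Fin r]→ₗ[WittVector p R] P')
    (hφ : W4c1extbt610.IsAltMult D D' φ) :
    ∃! ψ : ⋀[WittVector p R]^r P →ₗ[WittVector p R] P', W4c1extbt610.IsHom E D' ψ ∧
      ψ.compAlternatingMap (exteriorPower.ιMulti (WittVector p R) r) = φ := by
  let ψ := exteriorPower.alternatingMapLinearEquiv φ
  have hψ : ∀ a, ψ (exteriorPower.ιMulti (WittVector p R) r a) = φ a :=
    exteriorPower.alternatingMapLinearEquiv_apply_ιMulti φ
  have hmap : ∀ z ∈ E.Q, ψ z ∈ D'.Q := by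
    rw [hE.1]
    intro z hz
    refine (Submodule.span_le (p := D'.Q.comap ψ)).2 ?_ hz
    rintro _ ⟨q, rfl⟩
    show ψ _ ∈ D'.Q
    rw [hψ]
    exact hφ.mapsTo q
  have hV : ∀ z : E.Q, ψ (E.Vinv z) = D'.Vinv ⟨ψ z, hmap z z.2⟩ := by
    rintro ⟨z, h⟩
    have hz := h
    simp only [hE.1] at hz
    induction hz using Submodule.span_induction with
    | mem y hy =>
      obtain ⟨q, rfl⟩ := hy
      rw [hE.2 q h, hψ, ← hφ.vCond q]
      exact congrArg D'.Vinv (Subtype.ext (hψ _).symm)
    | zero =>
      rw [show (⟨0, h⟩ : E.Q) = 0 from rfl, map_zero, map_zero]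
      exact (map_zero D'.Vinv).symm.trans (congrArg D'.Vinv (Subtype.ext (map_zero ψ).symm))
    | add a b ha hb iha ihb =>
      have a1 : a ∈ E.Q := hE.1.symm ▸ ha
      have b1 : b ∈ E.Q := hE.1.symm ▸ hb
      rw [show (⟨a + b, h⟩ : E.Q) = ⟨a, a1⟩ + ⟨b, b1⟩ from rfl, map_add, map_add, iha a1, ihb b1, ← map_add]
      exact congrArg D'.Vinv (Subtype.ext (map_add ψ a b).symm)
    | smul t a ha iha =>
      have a1 : a ∈ E.Q := hE.1.symm ▸ ha
      rw [show (⟨t • a, h⟩ : E.Q) = t • ⟨a, a1⟩ from rfl, map_smulₛₗ, map_smul, iha a1, ← map_smulₛₗ D'.Vinv]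
      exact congrArg D'.Vinv (Subtype.ext (map_smul ψ t a).symm)
  refine ⟨ψ, ⟨⟨hmap, fun z => ?_, hV⟩, exteriorPower.alternatingMapLinearEquiv_comp_ιMulti φ⟩,
    fun χ hχ => exteriorPower.linearMap_ext (hχ.2.trans (exteriorPower.alternatingMapLinearEquiv_comp_ιMulti φ).symm)⟩
  rw [display3n_F_eq E, display3n_F_eq D', hV]
  exact congrArg D'.Vinv (Subtype.ext (map_smul ψ _ z))

end

end Groth.Agent.H4Easy
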