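import Mathlib
import Groth.Prelude.Def_Disp2
import Groth.Agent.H4Easy.Batch47

/-! Rank of the tangent module of an exterior power of a 3n-display. -/

set_option autoImplicit false
set_option linter.style.haveILetI false

open WittVector Function Groth.Agent.H4Easy

universe u v

namespace Groth.Agent.H4Easy


section
variable {A : Type*} [CommRing A] [Nontrivial A] {P : Type*} [AddCommGroup P] [Module A P]

theorem ker_extPow_projection_free (L T : Submodule A P) (hLT : IsCompl L T) [Module.Free A L]
    [Module.Finite A L] (te : T ≃ₗ[A] A) (r : ℕ) (hr : 1 ≤ r) :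
    let K := LinearMap.ker (exteriorPower.map r (L.subtype ∘ₗ L.projectionOnto T hLT))
    Module.Free A K ∧ Module.finrank A K = (Module.finrank A L).choose (r - 1) := by
  classical
  set m := Module.finrank A L with hm
  let bL : Module.Basis (Fin m) A L := Module.finBasis A L
  let bT : Module.Basis (Fin 1) A T := (Module.Basis.singleton (Fin 1) A).map te.symm
  let b : Module.Basis (Fin (m + 1)) A P :=
    ((bL.prod bT).map (Submodule.prodEquivOfIsCompl L T hLT)).reindex finSumFinEquiv
  set pr := L.subtype ∘ₗ L.projectionOnto T hLT with hpr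
  intro K
  have hb1 : ∀ i : Fin m, pr (b (Fin.castAdd 1 i)) = b (Fin.castAdd 1 i) := fun i => by
    have : b (Fin.castAdd 1 i) = (bL i : P) := by simp [b]
    rw [this]
    exact congrArg Subtype.val (Submodule.projectionOnto_apply_left hLT (bL i))
  have hb2 : ∀ i : Fin 1, pr (b (Fin.natAdd m i)) = 0 := fun i => by
    have : b (Fin.natAdd m i) = (bT i : P) := by simp [b]
    rw [this]
    exact congrArg Subtype.val (Submodule.projectionOnto_apply_right hLT (bT i))
  let B := b.exteriorPower r
  have hlast : (Fin.last m) = Fin.natAdd m (0 : Fin 1) := Fin.ext (by simp)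
  have hB : ∀ s, exteriorPower.map r pr (B s) = if Fin.last m ∈ s then 0 else B s := fun s => by
    rw [exteriorPower.basis_apply, exteriorPower.map_apply_ιMulti_family]
    split_ifs with h
    · obtain ⟨k, hk⟩ := (Set.powersetCard.mem_range_ofFinEmbEquiv_symm_iff_mem _ _).2 h
      refine (exteriorPower.ιMulti A r).map_coord_zero k ?_
      show pr (b _) = 0
      rw [hk, hlast, hb2]
    · rw [exteriorPower.ιMulti_family, exteriorPower.ιMulti_family]
      refine congrArg _ (funext fun k => ?_)
      show pr (b _) = b _
      have hne : Set.powersetCard.ofFinEmbEquiv.symm s k ≠ Fin.last m := fun e =>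
        h ((Set.powersetCard.mem_range_ofFinEmbEquiv_symm_iff_mem _ _).1 ⟨k, e⟩)
      obtain ⟨i, hi⟩ := Fin.exists_castSucc_eq.2 hne
      rw [← hi]
      exact hb1 i
  have hrepr : ∀ z t, B.repr (exteriorPower.map r pr z) t = if Fin.last m ∈ t then 0 else B.repr z t := by
    intro z t
    induction B.mem_span z using Submodule.span_induction with
    | mem y hy =>
      obtain ⟨s, rfl⟩ := hy
      rw [hB]
      rcases eq_or_ne s t with rfl | hst
      · split_ifs <;> simp
      · split_ifs <;> simp [Finsupp.single_eq_of_ne hst.symm]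
    | zero => simp
    | add x y _ _ hx hy => simp only [map_add, Finsupp.add_apply, hx, hy]; split_ifs <;> simp
    | smul a x _ hx => simp only [map_smul, Finsupp.smul_apply, hx]; split_ifs <;> simp
  let S := {s : Set.powersetCard (Fin (m + 1)) r // Fin.last m ∈ s}
  have hK : K = Submodule.span A (Set.range fun s : S => B s.1) := by
    refine le_antisymm (fun z hz => ?_) (Submodule.span_le.2 ?_)
    · have hz0 : exteriorPower.map r pr z = 0 := hz
      have : z ∈ Submodule.span A (B '' {s | Fin.last m ∈ s}) := by
        rw [Module.Basis.mem_span_image]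
        intro t ht
        by_contra h
        have := hrepr z t
        rw [hz0, map_zero, Finsupp.zero_apply, if_neg (show ¬ Fin.last m ∈ t from h)] at this
        exact Finsupp.mem_support_iff.1 ht this.symm
      refine Submodule.span_mono ?_ this
      rintro _ ⟨s, hs, rfl⟩
      exact ⟨⟨s, hs⟩, rfl⟩
    · rintro _ ⟨s, rfl⟩
      exact LinearMap.mem_ker.2 ((hB s.1).trans (if_pos s.2))
  have hli : LinearIndependent A (fun s : S => B s.1) := B.linearIndependent.comp _ Subtype.val_injective
  haveI : Module.Free A K := by
    rw [hK]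
    exact Module.Free.of_basis (Module.Basis.span hli)
  refine ⟨inferInstance, ?_⟩
  let e1 : ⋀[A]^r L ≃ₗ[A] LinearMap.range (exteriorPower.map r L.subtype) :=
    LinearEquiv.ofInjective _ (exteriorPower.map_injective (L.projectionOnto T hLT)
      (LinearMap.ext fun l => Submodule.projectionOnto_apply_left hLT l))
  have hrange : LinearMap.range (exteriorPower.map r L.subtype) = LinearMap.range (exteriorPower.map r pr) := by
    rw [hpr, exteriorPower.map_comp, LinearMap.range_comp, LinearMap.range_eq_top.2
      (exteriorPower.map_surjective (f := L.projectionOnto T hLT) fun l =>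
        ⟨(l : P), Submodule.projectionOnto_apply_left hLT l⟩),
      Submodule.map_top]
  haveI : Module.Finite A P := Module.Finite.of_basis b
  haveI : Module.Free A P := Module.Free.of_basis b
  have hidem : ∀ z, exteriorPower.map r pr (exteriorPower.map r pr z) = exteriorPower.map r pr z := fun z => by
    rw [← LinearMap.comp_apply, ← exteriorPower.map_comp,
      show pr ∘ₗ pr = pr from LinearMap.ext fun x =>
        congrArg Subtype.val (Submodule.projectionOnto_apply_left hLT (L.projectionOnto T hLT x))]
  have hcompl : IsCompl (LinearMap.range (exteriorPower.map r pr)) K := by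
    constructor
    · rw [Submodule.disjoint_def]
      rintro _ ⟨a, rfl⟩ ha
      rw [← hidem a]
      exact ha
    · rw [codisjoint_iff, eq_top_iff]
      intro z _
      refine Submodule.mem_sup.2 ⟨_, ⟨z, rfl⟩, z - exteriorPower.map r pr z, ?_, by abel⟩
      show exteriorPower.map r pr (z - exteriorPower.map r pr z) = 0
      rw [map_sub, hidem, sub_self]
  haveI : Module.Finite A K := Module.Finite.of_surjective (K.projectionOnto _ hcompl.symm)
    fun z => ⟨z, Submodule.projectionOnto_apply_left hcompl.symm z⟩
  have h := (Submodule.prodEquivOfIsCompl _ _ hcompl).finrank_eq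
  haveI : Module.Free A (LinearMap.range (exteriorPower.map r pr)) :=
    Module.Free.of_equiv (e1.trans (LinearEquiv.ofEq _ _ hrange))
  haveI : Module.Finite A (LinearMap.range (exteriorPower.map r pr)) :=
    Module.Finite.equiv (e1.trans (LinearEquiv.ofEq _ _ hrange))
  rw [Module.finrank_prod, ← (e1.trans (LinearEquiv.ofEq _ _ hrange)).finrank_eq, exteriorPower.finrank_eq,
    exteriorPower.finrank_eq, Module.finrank_eq_card_basis b, Fintype.card_fin, ← hm] at h
  obtain ⟨r', rfl⟩ : ∃ r', r = r' + 1 := ⟨r - 1, by omega⟩
  rw [Nat.choose_succ_succ'] at h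
  simp only [Nat.add_sub_cancel]
  omega

end

section
variable {p : ℕ} [Fact p.Prime] {R : Type u} [CommRing R] [Nontrivial R] {P : Type v} [AddCommGroup P]
  [Module (WittVector p R) P]

theorem extPow_exists_normal_finrank (D : W4c1extbt610.Display3n p R P) (m : ℕ)
    (L T : Submodule (WittVector p R) P) (hLT : IsCompl L T) (hQ : D.Q = L ⊔ W4c1extbt610.IV p R • T)
    (hL : Module.Free (WittVector p R) L) (hLr : Module.finrank (WittVector p R) L = m)
    (te : T ≃ₗ[WittVector p R] WittVector p R) (r : ℕ) (hr : 1 ≤ r)
    (E : W4c1extbt610.Display3n p R (⋀[WittVector p R]^r P)) (hE : W4c1extbt610.IsExtPow D r E) :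
    ∃ L' T' : Submodule (WittVector p R) (⋀[WittVector p R]^r P), IsCompl L' T' ∧
      E.Q = L' ⊔ W4c1extbt610.IV p R • T' ∧ Module.Free (WittVector p R) T' ∧
      Module.finrank (WittVector p R) T' = m.choose (r - 1) := by
  haveI := D.finite
  haveI : Module.Finite (WittVector p R) L := Module.Finite.of_surjective (L.projectionOnto T hLT)
    fun z => ⟨z, Submodule.projectionOnto_apply_left hLT z⟩
  haveI : Nontrivial (WittVector p R) := ⟨0, 1, fun h => zero_ne_one (α := R) (by
    simpa using congrArg (fun x : WittVector p R => x.coeff 0) h)⟩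
  obtain ⟨E₀, h₀, huniq, hQ₀⟩ := exists_extPow_of_normal D L T hLT hQ te r
  obtain ⟨hfree, hrk⟩ := ker_extPow_projection_free L T hLT te r hr
  refine ⟨_, _, ?_, (huniq E hE).symm ▸ hQ₀, hfree, hrk.trans (by rw [hLr])⟩
  have hidem : ∀ x, L.projectionOnto T hLT (L.projectionOnto T hLT x : P) = L.projectionOnto T hLT x :=
    fun x => Submodule.projectionOnto_apply_left hLT _
  have hΛ : ∀ z, exteriorPower.map r (L.subtype ∘ₗ L.projectionOnto T hLT)
      (exteriorPower.map r (L.subtype ∘ₗ L.projectionOnto T hLT) z) =
      exteriorPower.map r (L.subtype ∘ₗ L.projectionOnto T hLT) z := fun z => by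
    rw [← LinearMap.comp_apply, ← exteriorPower.map_comp]
    exact congrArg (fun f => exteriorPower.map r f z) (LinearMap.ext fun x => congrArg Subtype.val (hidem x))
  exact (LinearMap.IsIdempotentElem.isCompl (LinearMap.ext hΛ))

end

end Groth.Agent.H4Easy
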