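import Mathlib
import Groth.Prelude.Def_Disp2
import Groth.Agent.H4Easy.Batch44

/-! Over a perfect ring a Dieudonne module gives a display iff V is topologically nilpotent. -/

set_option autoImplicit false
set_option linter.style.haveILetI false

open WittVector Groth.Agent.H4Easy

universe u v

namespace Groth.Agent.H4Easy


section
variable {p : ℕ} [Fact p.Prime] {k : Type u} [CommRing k] [CharP k p] [PerfectRing k p] {M : Type v}
  [AddCommGroup M] [Module (WittVector p k) M]

theorem mem_span_singleton_smul_top_iff {a : WittVector p k} {x : M} :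
    x ∈ Ideal.span {a} • (⊤ : Submodule (WittVector p k) M) ↔ ∃ y, a • y = x := by
  rw [Submodule.ideal_span_singleton_smul]
  exact ⟨fun h => by
    obtain ⟨y, -, hy⟩ := (Submodule.mem_smul_pointwise_iff_exists _ _ _).1 h
    exact ⟨y, hy⟩, fun ⟨y, hy⟩ => hy ▸ Submodule.smul_mem_pointwise_smul y a ⊤ Submodule.mem_top⟩

theorem IV_le_span_p : W4c1extbt610.IV p k ≤ Ideal.span {(p : WittVector p k)} := by
  refine Ideal.span_le.2 ?_
  rintro _ ⟨w, rfl⟩
  rw [show w = frobenius ((frobeniusEquiv p k).symm w) from ((frobeniusEquiv p k).apply_symm_apply w).symm,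
    verschiebung_frobenius]
  exact Ideal.mem_span_singleton'.2 ⟨_, rfl⟩

/-- `c ⊗ x ↦ σ⁻ᴺ c • x` on `W ⊗_{σᴺ} M`. -/
noncomputable def untwist (N : ℕ) (τ : WittVector p k →+* WittVector p k)
    (hτ : ∀ a, τ (((frobenius : WittVector p k →+* WittVector p k) ^ N) a) = a) :
    Dieu.BC ((frobenius : WittVector p k →+* WittVector p k) ^ N) M →+ M :=
  TensorProduct.liftAddHom
    (AddMonoidHom.mk' (fun t : Dieu.Res ((frobenius : WittVector p k →+* WittVector p k) ^ N) =>
      AddMonoidHom.mk' (fun x : M => τ t.val • x) fun x y => smul_add _ x y)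
      fun s t => AddMonoidHom.ext fun x => by
        show τ (s + t).val • x = τ s.val • x + τ t.val • x
        rw [Dieu.Res.val_add, map_add, add_smul])
    fun r t x => by
      show τ (r • t).val • x = τ t.val • (r • x)
      rw [Dieu.Res.val_smul, map_mul, hτ, mul_comm, mul_smul]

theorem isDisplay_iff_vTopNilp (Dm : Dieu.DieuMod p k M) (D : W4c1extbt610.Display3n p k M) (hF : D.F = Dm.F)
    (hQ : ∀ x : M, x ∈ D.Q ↔ x ∈ Set.range Dm.V) (hV : ∀ (m : M) (h : Dm.V m ∈ D.Q), D.Vinv ⟨Dm.V m, h⟩ = m) :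
    Dieu.IsDisplay D ↔ Dm.VTopNilp := by
  let σ : WittVector p k →+* WittVector p k := frobenius
  have hστ : ∀ a, σ ((frobeniusEquiv p k).symm a) = a := fun a => (frobeniusEquiv p k).apply_symm_apply a
  have hτσ : ∀ a, (frobeniusEquiv p k).symm (σ a) = a := fun a => (frobeniusEquiv p k).symm_apply_apply a
  let V₁ : M →ₗ[WittVector p k] Dieu.BC σ M :=
    { toFun := fun x => Dieu.BC.tmul σ 1 (Dm.V x)
      map_add' := fun x y => by rw [map_add, Dieu.BC.tmul_add]
      map_smul' := fun a x => by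
        rw [map_smulₛₗ, ← Dieu.BC.tmul_apply_eq, Dieu.BC.tmul_eq_smul_tmul_one, RingHom.id_apply]
        exact congrArg (· • Dieu.BC.tmul σ 1 (Dm.V x)) (hστ a) }
  have hpow : ∀ Vs : M →ₗ[WittVector p k] Dieu.BC σ M, Vs = V₁ → ∀ n x,
      Dieu.vSharpPow Vs n x = Dieu.BC.tmul (σ ^ (n + 1)) 1 ((⇑Dm.V)^[n + 1] x) := by
    rintro _ rfl n
    induction n with
    | zero =>
      intro x
      rw [Dieu.vSharpPow_zero_apply, show V₁ x = Dieu.BC.tmul σ 1 (Dm.V x) from rfl, Dieu.BC.castHom_tmul]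
      rfl
    | succ n ih =>
      intro x
      rw [Dieu.vSharpPow_succ_apply]
      show Dieu.BC.castHom _ (Dieu.BC.lift σ _ (Dieu.BC.map σ _ (Dieu.BC.tmul σ 1 (Dm.V x)))) = _
      rw [Dieu.BC.map_tmul, ih, Dieu.BC.lift_tmul, one_smul, Dieu.BC.push_tmul, map_one, Dieu.BC.castHom_tmul]
      rfl
  have hVs : Dieu.IsVSharp D V₁ := by
    refine ⟨fun w x => ?_, fun w y => ?_⟩
    · show V₁ (w • D.F x) = _
      rw [map_smul, hF]
      show w • Dieu.BC.tmul σ 1 (Dm.V (Dm.F x)) = (p : WittVector p k) • Dieu.BC.tmul σ w x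
      rw [Dm.V_F, ← Dieu.BC.tmul_apply_eq, map_natCast, Dieu.BC.smul_tmul, Dieu.BC.smul_tmul]
      exact congrArg (fun c => Dieu.BC.tmul σ c x) (mul_comm _ _)
    · obtain ⟨⟨y, hy⟩, rfl⟩ : ∃ z, z = y := ⟨y, rfl⟩
      obtain ⟨m, rfl⟩ := (hQ y).1 hy
      show V₁ (w • D.Vinv ⟨Dm.V m, hy⟩) = _
      rw [hV, map_smul]
      show w • Dieu.BC.tmul σ 1 (Dm.V m) = Dieu.BC.tmul σ w (Dm.V m)
      rw [Dieu.BC.smul_tmul, mul_one]
  have huniq : ∀ Vs, Dieu.IsVSharp D Vs → Vs = V₁ := fun Vs h => LinearMap.ext fun m => by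
    have hm : Dm.V m ∈ D.Q := (hQ _).2 ⟨m, rfl⟩
    have h1 := h.app_smul_Vinv 1 ⟨_, hm⟩
    rw [one_smul, hV] at h1
    exact h1
  have hI : W4c1extbt610.IV p k ⊔ Ideal.span {(p : WittVector p k)} = Ideal.span {(p : WittVector p k)} :=
    sup_eq_right.2 IV_le_span_p
  have hVp : ∀ (e : ℕ) (m : M), Dm.V ((p : WittVector p k) ^ e • m) = (p : WittVector p k) ^ e • Dm.V m :=
    fun e m => by rw [map_smulₛₗ, map_pow, map_natCast]
  have hVNp : ∀ (N e : ℕ) (m : M),
      (⇑Dm.V)^[N] ((p : WittVector p k) ^ e • m) = (p : WittVector p k) ^ e • (⇑Dm.V)^[N] m := by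
    intro N e
    induction N with
    | zero => intro m; rfl
    | succ N ih => intro m; rw [Function.iterate_succ_apply, Function.iterate_succ_apply, hVp, ih]
  constructor
  · rintro ⟨Vs, hVs', n, hn⟩
    obtain rfl := huniq Vs hVs'
    let τ : WittVector p k →+* WittVector p k :=
      ((frobeniusEquiv p k).symm : WittVector p k →+* WittVector p k) ^ (n + 1)
    have hτ : ∀ a, τ ((σ ^ (n + 1)) a) = a := fun a => by
      show (((frobeniusEquiv p k).symm : WittVector p k →+* WittVector p k) ^ (n + 1)) ((σ ^ (n + 1)) a) = a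
      rw [RingHom.coe_pow, RingHom.coe_pow]
      exact (Function.LeftInverse.iterate hτσ (n + 1)) a
    have hτp : τ (p : WittVector p k) = p := map_natCast τ p
    have key : ∀ x : M, ∃ y, (p : WittVector p k) • y = (⇑Dm.V)^[n + 1] x := fun x => by
      have h := hn x
      rw [hpow _ rfl n x, hI] at h
      have h' : ∀ z ∈ Ideal.span {(p : WittVector p k)} •
          (⊤ : Submodule (WittVector p k) (Dieu.BC (σ ^ (n + 1)) M)),
          ∃ y, (p : WittVector p k) • y = untwist (n + 1) τ hτ z := by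
        intro z hz
        refine Submodule.smul_induction_on hz (fun a ha t _ => ?_) (fun u v hu hv => ?_)
        · obtain ⟨c, rfl⟩ := Ideal.mem_span_singleton'.1 ha
          induction t using Dieu.BC.induction_on with
          | zero => exact ⟨0, by rw [smul_zero, smul_zero, map_zero]⟩
          | add u v hu hv =>
            obtain ⟨a, ha⟩ := hu Submodule.mem_top
            obtain ⟨b, hb⟩ := hv Submodule.mem_top
            exact ⟨a + b, by rw [smul_add, ha, hb, smul_add, map_add]⟩
          | tmul b m =>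
            refine ⟨(τ c * τ b) • m, ?_⟩
            rw [Dieu.BC.smul_tmul]
            show _ = τ (c * (p : WittVector p k) * b) • m
            rw [map_mul, map_mul, hτp, smul_smul]
            congr 1
            ring
        · obtain ⟨a, ha⟩ := hu
          obtain ⟨b, hb⟩ := hv
          exact ⟨a + b, by rw [smul_add, ha, hb, map_add]⟩
      obtain ⟨y, hy⟩ := h' _ h
      exact ⟨y, hy.trans ((congrArg (· • (⇑Dm.V)^[n + 1] x) (map_one τ)).trans (one_smul _ _))⟩
    intro e
    refine ⟨e * (n + 1), ?_⟩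
    induction e with
    | zero => intro m; simp
    | succ e ih =>
      intro m
      rw [Ideal.span_singleton_pow, mem_span_singleton_smul_top_iff]
      have h := ih m
      rw [Ideal.span_singleton_pow, mem_span_singleton_smul_top_iff] at h
      obtain ⟨y, hy⟩ := h
      obtain ⟨y', hy'⟩ := key y
      refine ⟨y', ?_⟩
      rw [show (e + 1) * (n + 1) = (n + 1) + e * (n + 1) by ring, Function.iterate_add_apply, ← hy, hVNp, ← hy', smul_smul, ← pow_succ]
  · intro h
    refine ⟨V₁, hVs, ?_⟩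
    obtain ⟨n, hn⟩ := h 1
    refine ⟨n, fun x => ?_⟩
    have hx := hn (Dm.V x)
    rw [pow_one, mem_span_singleton_smul_top_iff] at hx
    obtain ⟨y, hy⟩ := hx
    rw [hpow _ rfl n x, hI, Function.iterate_succ_apply, ← hy, ← Dieu.BC.tmul_apply_eq, map_natCast,
      Dieu.BC.tmul_eq_smul_tmul_one]
    exact Submodule.smul_mem_smul (Ideal.mem_span_singleton_self _) Submodule.mem_top

end

end Groth.Agent.H4Easy
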