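import Mathlib
import Groth.Prelude.Def_W4c1extbt610Disp
import Groth.Prelude.Def_Wider

/-!
# Short statements: bilinear forms of displays, injective complexes, base change of torsion modules, Euler characteristics
-/

set_option autoImplicit false
set_option linter.style.haveILetI false

open TensorProduct

universe u v w

namespace Groth.Agent.H4Easy

theorem bilin_display (p : ℕ) [Fact p.Prime] (R : Type u) [CommRing R]
    (P₁ : Type v) [AddCommGroup P₁] [Module (WittVector p R) P₁]
    (P₂ : Type w) [AddCommGroup P₂] [Module (WittVector p R) P₂]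
    (D₁ : W4c1extbt610.Display3n p R P₁) (D₂ : W4c1extbt610.Display3n p R P₂)
    (B : P₁ →ₗ[WittVector p R] P₂ →ₗ[WittVector p R] WittVector p R)
    (hB : ∀ (y₁ : D₁.Q) (y₂ : D₂.Q),
      WittVector.verschiebung (B (D₁.Vinv y₁) (D₂.Vinv y₂)) = B (y₁ : P₁) (y₂ : P₂)) :
    (∀ (y₁ : D₁.Q) (x₂ : P₂), B (D₁.Vinv y₁) (D₂.F x₂) = WittVector.frobenius (B (y₁ : P₁) x₂)) ∧
      (∀ (x₁ : P₁) (x₂ : P₂),
        B (D₁.F x₁) (D₂.F x₂) = (p : WittVector p R) * WittVector.frobenius (B x₁ x₂)) ∧
      (∀ (x₁ : P₁) (y₂ : D₂.Q), B (D₁.F x₁) (D₂.Vinv y₂) = WittVector.frobenius (B x₁ (y₂ : P₂))) ∧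
      ∀ (y₁ : D₁.Q) (y₂ : D₂.Q), B (y₁ : P₁) (y₂ : P₂) ∈ W4c1extbt610.IV p R := by
  have h1 : ∀ x : P₁, ∃ y : D₁.Q, D₁.Vinv y = D₁.F x ∧ (y : P₁) = WittVector.verschiebung (1 : WittVector p R) • x :=
    fun x => ⟨_, (D₁.Vinv_verschiebung_smul 1 x).trans (one_smul _ _), rfl⟩
  have h2 : ∀ x : P₂, ∃ y : D₂.Q, D₂.Vinv y = D₂.F x ∧ (y : P₂) = WittVector.verschiebung (1 : WittVector p R) • x :=
    fun x => ⟨_, (D₂.Vinv_verschiebung_smul 1 x).trans (one_smul _ _), rfl⟩
  have key : ∀ z : WittVector p R, WittVector.verschiebung (1 : WittVector p R) * z = WittVector.verschiebung (WittVector.frobenius z) :=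
    fun z => by rw [← WittVector.verschiebung_mul_frobenius, one_mul]
  refine ⟨fun y₁ x₂ => ?_, fun x₁ x₂ => ?_, fun x₁ y₂ => ?_, fun y₁ y₂ => ?_⟩
  · obtain ⟨y₂, hy, hy'⟩ := h2 x₂
    apply WittVector.verschiebung_injective p R
    rw [← hy, hB, hy', map_smul, smul_eq_mul, key]
  · obtain ⟨y₁, hy, hy'⟩ := h1 x₁
    obtain ⟨y₂, hz, hz'⟩ := h2 x₂
    apply WittVector.verschiebung_injective p R
    rw [← hy, ← hz, hB, hy', hz']
    simp only [map_smul, LinearMap.smul_apply, smul_eq_mul]
    rw [key, key, WittVector.frobenius_verschiebung, mul_comm]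
  · obtain ⟨y₁, hy, hy'⟩ := h1 x₁
    apply WittVector.verschiebung_injective p R
    rw [← hy, hB, hy', map_smul, LinearMap.smul_apply, smul_eq_mul, key]
  · rw [← hB]
    exact W4c1extbt610.verschiebung_mem_IV p R _

open CategoryTheory Limits in
theorem injective_complex {C : Type u} [Category.{v} C] [Abelian C]
    (Q : CochainComplex C ℕ) (hinj : ∀ i : ℕ, Injective (Q.X i)) (hac : ∀ i : ℕ, IsZero (Q.homology (i + 1)))
    (hsplit : ∀ i : ℕ, IsSplitMono (Q.iCycles i)) : Injective Q := by
  let π : ∀ i, Q.X i ⟶ Q.cycles i := fun i => (hsplit i).exists_splitMono.some.retraction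
  have hπ : ∀ i, Q.iCycles i ≫ π i = 𝟙 _ := fun i => (hsplit i).exists_splitMono.some.id
  have hepi : ∀ i, Epi (Q.toCycles i (i + 1)) := fun i => by
    let c := Q.homologyIsCokernel i (i + 1) (CochainComplex.prev_nat_succ i)
    exact Preadditive.epi_of_isZero_cokernel' (CokernelCofork.ofπ _ (Q.toCycles_comp_homologyπ i (i + 1))) c (hac i)
  have hs : ∀ i, ∃ s : Q.cycles (i + 1) ⟶ Q.X i, Q.toCycles i (i + 1) ≫ s = 𝟙 _ - π i ≫ Q.iCycles i := fun i => by
    have h0 : Q.iCycles i ≫ Q.toCycles i (i + 1) = 0 := by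
      rw [← cancel_mono (Q.iCycles (i + 1)), Category.assoc, Q.toCycles_i, Q.iCycles_d, zero_comp]
    let S := ShortComplex.mk _ _ h0
    have hex : S.Exact := S.exact_of_f_is_kernel (KernelFork.IsLimit.ofι' _ h0 fun {W} k hk =>
      ⟨Q.liftCycles k (i + 1) (CochainComplex.next ℕ i) (by
        rw [← Q.toCycles_i i (i + 1), reassoc_of% hk, zero_comp]), Q.liftCycles_i _ _ _ _⟩)
    haveI : Epi S.g := hepi i
    exact ⟨hex.desc (𝟙 _ - π i ≫ Q.iCycles i) (by
      change Q.iCycles i ≫ _ = 0
      rw [Preadditive.comp_sub, Category.comp_id, reassoc_of% (hπ i), sub_self]), hex.g_desc _ _⟩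
  choose s hs using hs
  have hsd : ∀ i, s i ≫ Q.d i (i + 1) = Q.iCycles (i + 1) := fun i => by
    haveI := hepi i
    rw [← cancel_epi (Q.toCycles i (i + 1)), ← Category.assoc, hs, Preadditive.sub_comp, Category.id_comp,
      Category.assoc, Q.iCycles_d, comp_zero, sub_zero, Q.toCycles_i]
  have hZ : ∀ i, Injective (Q.cycles i) := fun i =>
    haveI := hinj i
    Retract.injective ⟨Q.iCycles i, π i, hπ i⟩
  constructor
  intro X Y g f _
  let a : ∀ i, Y.X i ⟶ Q.cycles i := fun i => haveI := hZ i; Injective.factorThru (g.f i ≫ π i) (f.f i)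
  have ha : ∀ i, f.f i ≫ a i = g.f i ≫ π i := fun i => haveI := hZ i; Injective.comp_factorThru _ _
  refine ⟨{ f := fun i => a i ≫ Q.iCycles i + Y.d i (i + 1) ≫ a (i + 1) ≫ s i, comm' := ?_ }, ?_⟩
  · intro i j hij
    obtain rfl : i + 1 = j := hij
    simp [hsd]
  · apply HomologicalComplex.hom_ext
    intro i
    rw [HomologicalComplex.comp_f, Preadditive.comp_add, reassoc_of% (ha i), ← Category.assoc (f.f i), f.comm,
      Category.assoc, reassoc_of% (ha (i + 1)), ← Category.assoc (X.d i (i + 1)), ← g.comm, Category.assoc,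
      ← Q.toCycles_i i (i + 1), Category.assoc, reassoc_of% (hπ (i + 1)), hs, Preadditive.comp_sub, Category.comp_id]
    abel

theorem powerTorsion_baseChange {R R' : Type u} [CommRing R] [CommRing R'] [Algebra R R'] (I : Ideal R)
    (hq : ∀ n : ℕ, 0 < n → Function.Bijective
      (Ideal.quotientMap (Ideal.map (algebraMap R R') (I ^ n)) (algebraMap R R') Ideal.le_comap_map))
    (M : Type u) [AddCommGroup M] [Module R M] (hM : LocCoh.IsPowerTorsion I M) :
    Function.Bijective (fun m : M => (1 : R') ⊗ₜ[R] m) := by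
  have hk : ∀ m : M, ∃ n : ℕ, 0 < n ∧ ∀ x ∈ I ^ n, x • m = 0 := fun m => by
    obtain ⟨n, hn⟩ := hM m
    exact ⟨n + 1, n.succ_pos, fun x hx => hn x (Ideal.pow_le_pow_right n.le_succ hx)⟩
  choose N hN0 hN using hk
  have hex : ∀ (n : ℕ), 0 < n → ∀ r' : R', ∃ a : R, r' - algebraMap R R' a ∈ (I ^ n).map (algebraMap R R') := fun n hn r' => by
    obtain ⟨q, hq'⟩ := (hq n hn).2 (Ideal.Quotient.mk _ r')
    obtain ⟨a, rfl⟩ := Ideal.Quotient.mk_surjective q
    rw [Ideal.quotientMap_mk, eq_comm, Ideal.Quotient.eq] at hq'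
    exact ⟨a, hq'⟩
  have huniq : ∀ n : ℕ, 0 < n → ∀ a b : R, algebraMap R R' a - algebraMap R R' b ∈ (I ^ n).map (algebraMap R R') → a - b ∈ I ^ n :=
    fun n hn a b h => Ideal.Quotient.eq.1 ((hq n hn).1 (a₁ := Ideal.Quotient.mk _ a) (a₂ := Ideal.Quotient.mk _ b) (by
      rw [Ideal.quotientMap_mk, Ideal.quotientMap_mk, Ideal.Quotient.eq]; exact h))
  choose A hA using hex
  let β : R' → M → M := fun r' m => A (N m) (hN0 m) r' • m
  have hβ : ∀ r' m n, 0 < n → (∀ x ∈ I ^ n, x • m = 0) → ∀ a, r' - algebraMap R R' a ∈ (I ^ n).map (algebraMap R R') →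
      β r' m = a • m := fun r' m n hn hkill a ha => by
    change A (N m) (hN0 m) r' • m = a • m
    rcases le_total n (N m) with h | h
    · have h1 := Ideal.map_mono (f := algebraMap R R') (Ideal.pow_le_pow_right h) (hA (N m) (hN0 m) r')
      have h2 := huniq n hn (A (N m) (hN0 m) r') a (by
        have := sub_mem ha h1
        rwa [sub_sub_sub_cancel_left] at this)
      have := hkill _ h2
      rwa [sub_smul, sub_eq_zero] at this
    · have h1 := Ideal.map_mono (f := algebraMap R R') (Ideal.pow_le_pow_right h) ha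
      have h2 := huniq (N m) (hN0 m) (A (N m) (hN0 m) r') a (by
        have := sub_mem h1 (hA (N m) (hN0 m) r')
        rwa [sub_sub_sub_cancel_left] at this)
      have := hN m _ h2
      rwa [sub_smul, sub_eq_zero] at this
  let L : R' →ₗ[R] M →ₗ[R] M := LinearMap.mk₂ R β
    (fun r s m => by
      rw [hβ (r + s) m (N m) (hN0 m) (hN m) (A (N m) (hN0 m) r + A (N m) (hN0 m) s) (by
        rw [map_add, add_sub_add_comm]; exact add_mem (hA _ _ r) (hA _ _ s)), add_smul])
    (fun c r m => by
      rw [hβ (c • r) m (N m) (hN0 m) (hN m) (c * A (N m) (hN0 m) r) (by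
        rw [map_mul, Algebra.smul_def, ← mul_sub]; exact Ideal.mul_mem_left _ _ (hA _ _ r)), mul_smul])
    (fun r m m' => by
      have hn : 0 < max (N m) (N m') := lt_of_lt_of_le (hN0 m) (le_max_left _ _)
      have k1 : ∀ x ∈ I ^ max (N m) (N m'), x • m = 0 := fun x hx => hN m x (Ideal.pow_le_pow_right (le_max_left _ _) hx)
      have k2 : ∀ x ∈ I ^ max (N m) (N m'), x • m' = 0 := fun x hx => hN m' x (Ideal.pow_le_pow_right (le_max_right _ _) hx)
      have ha := hA _ hn r
      rw [hβ r (m + m') _ hn (fun x hx => by rw [smul_add, k1 x hx, k2 x hx, add_zero]) _ ha, hβ r m _ hn k1 _ ha,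
        hβ r m' _ hn k2 _ ha, smul_add])
    (fun c r m => by
      rw [hβ r (c • m) (N m) (hN0 m) (fun x hx => by rw [smul_comm, hN m x hx, smul_zero]) _ (hA _ _ r), smul_comm])
  refine ⟨fun m m' h => ?_, fun z => ?_⟩
  · have h1 : ∀ m, TensorProduct.lift L ((1 : R') ⊗ₜ[R] m) = m := fun m => by
      change β 1 m = m
      rw [hβ 1 m (N m) (hN0 m) (hN m) 1 (by simp), one_smul]
    have h2 := congrArg (TensorProduct.lift L) h
    rwa [h1, h1] at h2
  · refine ⟨TensorProduct.lift L z, ?_⟩
    dsimp only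
    induction z with
    | zero => simp
    | tmul r m =>
      have h2 : ∀ y ∈ (I ^ N m).map (algebraMap R R'), y ⊗ₜ[R] m = 0 := fun y hy => by
        rw [Ideal.map, ← Submodule.mem_toAddSubmonoid] at hy
        revert hy
        change y ∈ Ideal.span _ → _
        intro hy
        suffices h : ∀ c : R', (c * y) ⊗ₜ[R] m = 0 by simpa using h 1
        induction hy using Submodule.span_induction with
        | mem y hy =>
          obtain ⟨x, hx, rfl⟩ := hy
          intro c
          rw [mul_comm, ← Algebra.smul_def, smul_tmul, hN m x hx, tmul_zero]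
        | zero => simp
        | add y z _ _ hy hz => intro c; rw [mul_add, add_tmul, hy, hz, add_zero]
        | smul d y _ hy => intro c; rw [smul_eq_mul, ← mul_assoc]; exact hy _
      have h3 := h2 _ (hA (N m) (hN0 m) r)
      rw [sub_tmul, sub_eq_zero] at h3
      change (1 : R') ⊗ₜ[R] (A (N m) (hN0 m) r • m) = _
      rw [h3, ← smul_tmul, Algebra.algebraMap_eq_smul_one]
    | add x y hx hy => rw [map_add, tmul_add, hx, hy]

theorem irrelevant_map (R : Type u) (A : Type v) (B : Type w) [CommRing R] [CommRing A] [CommRing B] [Algebra R A] [Algebra R B]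
    [Algebra A B] [IsScalarTower R A B]
    (𝒜 : ℕ → Submodule R A) [GradedAlgebra 𝒜] (ℬ : ℕ → Submodule R B) [GradedAlgebra ℬ]
    (σ : A) (hσ0 : σ ∈ 𝒜 0) [IsLocalization.Away σ B]
    (ι : 𝒜 →+*ᵍ ℬ) (hι : ∀ a : A, ι a = algebraMap A B a) :
    (HomogeneousIdeal.irrelevant 𝒜).map ι = HomogeneousIdeal.irrelevant ℬ := by
  classical
  have hdeg : ∀ {i : ℕ} {a : A}, a ∈ 𝒜 i → ι a ∈ ℬ i := fun {i a} ha => ι.map_mem ha
  apply HomogeneousIdeal.toIdeal_injective
  rw [HomogeneousIdeal.toIdeal_map]
  apply le_antisymm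
  · refine Ideal.map_le_iff_le_comap.2 ((HomogeneousIdeal.toIdeal_irrelevant_le _).2 fun i hi a ha => ?_)
    exact HomogeneousIdeal.mem_irrelevant_of_mem ℬ hi (hdeg ha)
  · refine (HomogeneousIdeal.toIdeal_irrelevant_le _).2 fun i hi b hb => ?_
    obtain ⟨⟨a, _, k, rfl⟩, hab⟩ := IsLocalization.surj (Submonoid.powers σ) b
    have hu : IsUnit (algebraMap A B (σ ^ k)) := IsLocalization.map_units B (⟨σ ^ k, k, rfl⟩ : Submonoid.powers σ)
    dsimp only at hab
    have hσk : algebraMap A B (σ ^ k) ∈ ℬ 0 := by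
      have := hdeg (SetLike.pow_mem_graded k hσ0)
      rwa [smul_zero, hι] at this
    have hmem : ι a ∈ ℬ i := by
      rw [hι, ← hab]
      have hb' : b ∈ ℬ i := hb
      have := SetLike.mul_mem_graded hb' hσk
      rwa [add_zero] at this
    have ha : ι a = ι (DirectSum.decompose 𝒜 a i) := by
      rw [← DirectSum.decompose_of_mem_same ℬ hmem]
      conv_lhs => rw [← DirectSum.sum_support_decompose 𝒜 a, map_sum, DirectSum.decompose_sum, DFinsupp.finsetSum_apply]
      push_cast
      rw [Finset.sum_eq_single i]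
      · rw [DirectSum.decompose_of_mem_same ℬ (hdeg (SetLike.coe_mem _))]
      · intro j _ hj
        rw [DirectSum.decompose_of_mem_ne ℬ (hdeg (SetLike.coe_mem _)) hj]
      · intro hi'
        rw [DFinsupp.notMem_support_iff.1 hi']; simp
    have : b = ↑hu.unit⁻¹ * ι (DirectSum.decompose 𝒜 a i) := by
      rw [← ha, hι, ← hab, mul_left_comm, IsUnit.val_inv_mul, mul_one]
    rw [this]
    exact Ideal.mul_mem_left _ _ (Ideal.mem_map_of_mem _ (HomogeneousIdeal.mem_irrelevant_of_mem 𝒜 hi (SetLike.coe_mem _)))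

theorem tensorPower_range_iff {R : Type u} [CommRing R] {M : Type v} [AddCommGroup M] [Module R M]
    [Module.Projective R M] (F₁ F₂ : Submodule R M)
    (h₁ : ∃ C : Submodule R M, IsCompl F₁ C) (h₂ : ∃ C : Submodule R M, IsCompl F₂ C) (k : ℕ) (hk : 1 ≤ k) :
    LinearMap.range (PiTensorProduct.map (R := R) (fun _ : Fin k => F₁.subtype)) =
      LinearMap.range (PiTensorProduct.map (R := R) (fun _ : Fin k => F₂.subtype)) ↔ F₁ = F₂ := by
  obtain ⟨k, rfl⟩ := Nat.exists_eq_succ_of_ne_zero (by omega : k ≠ 0)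
  suffices key : ∀ F₁ F₂ : Submodule R M, (∃ C, IsCompl F₁ C) → (∃ C, IsCompl F₂ C) →
      LinearMap.range (PiTensorProduct.map (R := R) (fun _ : Fin (k + 1) => F₁.subtype)) ≤
      LinearMap.range (PiTensorProduct.map (R := R) (fun _ : Fin (k + 1) => F₂.subtype)) → F₁ ≤ F₂ by
    exact ⟨fun h => le_antisymm (key _ _ h₁ h₂ h.le) (key _ _ h₂ h₁ h.ge), fun h => by subst h; rfl⟩
  intro F₁ F₂ ⟨C₁, hC₁⟩ ⟨C₂, hC₂⟩ hle
  let P : M →ₗ[R] F₁ := F₁.projectionOnto C₁ hC₁
  let π : M →ₗ[R] C₂ := C₂.projectionOnto F₂ hC₂.symm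
  intro x hx
  have hPx : ∀ y : F₁, P y = y := fun y => Submodule.projectionOnto_apply_left hC₁ y
  suffices h : π x = 0 from (Submodule.projectionOnto_apply_eq_zero_iff hC₂.symm).1 h
  apply C₂.subtype_injective
  rw [map_zero]
  apply (Module.forall_dual_apply_eq_zero_iff R _).1
  intro φ
  let T : Ideal R := Ideal.span {c | ∃ ψ : M →ₗ[R] R, ∃ z ∈ F₁, ψ z = c}
  -- the key annihilation
  have hkill : ∀ y ∈ F₁, ∀ c ∈ T ^ k, c * φ (π y : M) = 0 := by
    intro y hy
    have hgen : ∀ (ψ : Fin k → (M →ₗ[R] R)) (z : Fin k → M), (∀ j, z j ∈ F₁) → (∏ j, ψ j (z j)) * φ (π y : M) = 0 := by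
      intro ψ z hz
      let Φ : (⨂[R] _ : Fin (k + 1), M) →ₗ[R] R :=
        (PiTensorProduct.lift (MultilinearMap.mkPiAlgebra R (Fin (k + 1)) R)).comp
          (PiTensorProduct.map (Fin.cons (φ.comp (C₂.subtype.comp π)) ψ))
      have hmem : PiTensorProduct.tprod R (Fin.cons y z : Fin (k + 1) → M) ∈
          LinearMap.range (PiTensorProduct.map (R := R) (fun _ : Fin (k + 1) => F₂.subtype)) := by
        refine hle ⟨PiTensorProduct.tprod R (Fin.cons ⟨y, hy⟩ fun j => ⟨z j, hz j⟩), ?_⟩
        rw [PiTensorProduct.map_tprod]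
        congr 1
        funext i
        refine Fin.cases ?_ (fun j => ?_) i <;> simp
      obtain ⟨w, hw⟩ := hmem
      have h00 : ∀ w, Φ (PiTensorProduct.map (R := R) (fun _ : Fin (k + 1) => F₂.subtype) w) = 0 := by
        intro w
        clear hw
        induction w using PiTensorProduct.induction_on with
        | smul_tprod c f =>
          rw [map_smul, map_smul, PiTensorProduct.map_tprod]
          simp [Φ, PiTensorProduct.map_tprod, Fin.prod_univ_succ, show π (f 0 : M) = 0 from
            (Submodule.projectionOnto_apply_eq_zero_iff hC₂.symm).2 (f 0).2]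
        | add a b ha hb => rw [map_add, map_add, ha, hb, add_zero]
      have h0 := h00 w
      rw [hw] at h0
      simpa [Φ, PiTensorProduct.map_tprod, Fin.prod_univ_succ, mul_comm] using h0
    intro c hc
    have hle' : T ^ k ≤ LinearMap.ker (LinearMap.toSpanSingleton R R (φ (π y : M))) := by
      show Submodule.span R {c | ∃ ψ : M →ₗ[R] R, ∃ z ∈ F₁, ψ z = c} ^ k ≤ _
      rw [Submodule.span_pow, Submodule.span_le]
      intro d hd
      obtain ⟨f, hf⟩ := Set.mem_pow.1 hd
      choose ψ z hz hψ using fun j => (f j).2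
      have := hgen ψ z hz
      simp only [hψ] at this
      rw [List.prod_ofFn] at hf
      rw [hf] at this
      simpa using this
    simpa using hle' hc
  have hT : ∀ n : ℕ, F₁ ≤ T ^ n • F₁ := by
    intro n
    induction n with
    | zero => simp
    | succ n ih =>
      refine ih.trans (le_trans (Submodule.smul_mono le_rfl (show F₁ ≤ T • F₁ from fun y hy => ?_)) (by rw [← Submodule.mul_smul, pow_succ]))
      obtain ⟨s, hs⟩ := Module.projective_def.1 (inferInstance : Module.Projective R M)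
      have e1 : y = P (Finsupp.linearCombination R id (s y)) := by
        rw [show Finsupp.linearCombination R (id : M → M) (s y) = y from hs y]
        exact congrArg Subtype.val (hPx ⟨y, hy⟩).symm
      rw [e1, Finsupp.linearCombination_apply, map_finsuppSum, Finsupp.sum, Submodule.coe_sum]
      refine Submodule.sum_mem _ fun i _ => ?_
      rw [map_smul]
      exact Submodule.smul_mem_smul (Ideal.subset_span ⟨(Finsupp.lapply i).comp s, y, hy, rfl⟩) (P i).2
  have := hT k hx
  refine Submodule.smul_induction_on this (fun c hc y hy => ?_) (fun a b ha hb => by simp only [Submodule.subtype_apply] at ha hb ⊢; simp [map_add, ha, hb])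
  simpa [map_smul] using hkill y hy c hc

open MvPolynomial in
theorem pinch_deriv (K : Type u) [Field K] [NeZero (2 : K)] :
    letI R : Subalgebra K (MvPolynomial (Fin 2) K) :=
      Algebra.adjoin K {MvPolynomial.X 0 ^ 2, MvPolynomial.X 0 * MvPolynomial.X 1, MvPolynomial.X 1}
    ∀ δ : Derivation K R (MvPolynomial (Fin 2) K),
      ∃! D : Derivation K (MvPolynomial (Fin 2) K) (MvPolynomial (Fin 2) K),
        ∀ r : R, D (r : MvPolynomial (Fin 2) K) = δ r := by
  let R : Subalgebra K (MvPolynomial (Fin 2) K) :=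
      Algebra.adjoin K {X 0 ^ 2, X 0 * X 1, X 1}
  change ∀ δ : Derivation K R (MvPolynomial (Fin 2) K), ∃! D : Derivation K (MvPolynomial (Fin 2) K) (MvPolynomial (Fin 2) K),
    ∀ r : R, D (r : MvPolynomial (Fin 2) K) = δ r
  intro δ
  let a : R := ⟨X 0 ^ 2, Algebra.subset_adjoin (by simp)⟩
  let b : R := ⟨X 0 * X 1, Algebra.subset_adjoin (by simp)⟩
  let c : R := ⟨X 1, Algebra.subset_adjoin (by simp)⟩
  have hrel := congrArg δ (show c * c * a = b * b from Subtype.ext (show X 1 * X 1 * X 0 ^ 2 = X 0 * X 1 * (X 0 * X 1 : MvPolynomial (Fin 2) K) by ring))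
  simp only [Derivation.leibniz, Subalgebra.smul_def, smul_eq_mul, MulMemClass.coe_mul] at hrel
  have h1 : X 1 * δ a = 2 * X 0 * (δ b - X 0 * δ c) := by
    apply mul_left_cancel₀ (X_ne_zero (1 : Fin 2) (R := K))
    simp only [a, b, c] at hrel ⊢
    linear_combination hrel
  have h2 : (C (2⁻¹ : K) : MvPolynomial (Fin 2) K) * 2 = 1 := by
    rw [show (2 : MvPolynomial (Fin 2) K) = C 2 from (map_ofNat C 2).symm, ← C_mul, inv_mul_cancel₀ (NeZero.ne (2 : K)), C_1]
  obtain ⟨q', hq'⟩ : (X 0 : MvPolynomial (Fin 2) K) ∣ δ a := by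
    refine ((MvPolynomial.X_prime (R := K) (i := (0 : Fin 2))).dvd_or_dvd ⟨2 * (δ b - X 0 * δ c), by rw [h1]; ring⟩).resolve_left ?_
    rintro ⟨t, ht⟩
    simpa using congrArg (eval (![0, 1] : Fin 2 → K)) ht
  set q := C (2⁻¹ : K) * q'
  have ha : δ a = 2 * X 0 * q := by
    rw [hq']; linear_combination (-(X 0 * q')) * h2
  have hb : δ b = X 1 * q + X 0 * δ c := by
    have h20 : (2 : MvPolynomial (Fin 2) K) * X 0 ≠ 0 := mul_ne_zero (fun h => by rw [h, mul_zero] at h2; exact one_ne_zero h2.symm) (X_ne_zero _)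
    apply mul_left_cancel₀ h20
    linear_combination -h1 + (X 1) * ha
  refine ⟨MvPolynomial.mkDerivation K ![q, δ c], ?_, fun D hD => ?_⟩
  · intro r
    obtain ⟨r, hr⟩ := r
    induction hr using Algebra.adjoin_induction with
    | mem x hx =>
      rcases hx with rfl | rfl | rfl
      · change _ = δ a
        rw [ha]; simp [pow_two]; ring
      · change _ = δ b
        rw [hb]; simp; ring
      · change _ = δ c
        simp
    | algebraMap t =>
      change mkDerivation K ![q, δ c] (algebraMap K _ t) = δ (algebraMap K R t)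
      simp
    | add x y hx' hy' h1 h2 =>
      change mkDerivation K ![q, δ c] (x + y) = δ (⟨x, hx'⟩ + ⟨y, hy'⟩)
      rw [map_add, map_add, h1, h2]
    | mul x y hx' hy' h1 h2 =>
      change mkDerivation K ![q, δ c] (x * y) = δ (⟨x, hx'⟩ * ⟨y, hy'⟩)
      rw [Derivation.leibniz, Derivation.leibniz, h1, h2]; rfl
  · refine MvPolynomial.derivation_ext fun i => ?_
    rw [mkDerivation_X]
    fin_cases i
    · have h3 := hD a
      rw [ha] at h3
      simp only [a, pow_two, Derivation.leibniz, smul_eq_mul] at h3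
      have h20 : (2 : MvPolynomial (Fin 2) K) * X 0 ≠ 0 := mul_ne_zero (fun h => by rw [h, mul_zero] at h2; exact one_ne_zero h2.symm) (X_ne_zero _)
      apply mul_left_cancel₀ h20
      show 2 * X 0 * D (X 0) = 2 * X 0 * q
      linear_combination h3
    · simpa using hD c

/-- The length of a module as an integer. -/
noncomputable abbrev len (A : Type u) [Ring A] (N : Type u) [AddCommGroup N] [Module A N] : ℤ :=
  ((Module.length A N).toNat : ℤ)

open CategoryTheory Limits in
theorem euler {A : Type u} [Ring A] {ι : Type} [DecidableEq ι] (c : ComplexShape ι) (sgn : ι → ℤ)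
    (hsgn : ∀ i j, c.Rel i j → sgn j = - sgn i)
    (M : HomologicalComplex (ModuleCat.{u} A) c) (s : Finset ι) (hs : ∀ i, i ∉ s → IsZero (M.X i))
    (hfl : ∀ i, IsFiniteLength A (M.X i)) :
    (s.sum fun i => sgn i * ((Module.length A (M.X i)).toNat : ℤ)) =
      s.sum fun i => sgn i * ((Module.length A (M.homology i)).toNat : ℤ) := by
  have hadd : ∀ {N : Type u} [AddCommGroup N] [Module A N] {P : Type u} [AddCommGroup P] [Module A P] (g : N →ₗ[A] P),
      Module.length A N ≠ ⊤ → len A N = len A (LinearMap.ker g) + len A (LinearMap.range g) := fun {N} _ _ {P} _ _ g hN => by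
    have h1 := Module.length_eq_add_of_exact (LinearMap.ker g).subtype g.rangeRestrict Subtype.val_injective
      g.surjective_rangeRestrict (by
        rw [LinearMap.exact_iff, LinearMap.ker_rangeRestrict, Submodule.range_subtype])
    rw [h1] at hN
    simp only [len, h1]
    rw [ENat.toNat_add (fun h => hN (by rw [h, top_add])) (fun h => hN (by rw [h, add_top])), Nat.cast_add]
  have hfin : ∀ i, Module.length A (M.X i) ≠ ⊤ := fun i => Module.length_ne_top_iff.2 (hfl i)
  have hfinS : ∀ i (S : Submodule A (M.X i)), Module.length A S ≠ ⊤ := fun i S =>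
    ne_top_of_le_ne_top (hfin i) (Module.length_le_of_injective S.subtype Subtype.val_injective)
  let z : ι → ℤ := fun i => len A (LinearMap.ker (M.d i (c.next i)).hom)
  let bo : ι → ℤ := fun i => len A (LinearMap.range (M.d i (c.next i)).hom)
  let bi : ι → ℤ := fun i => len A (LinearMap.range (M.d (c.prev i) i).hom)
  have h1 : ∀ i, len A (M.X i) = z i + bo i := fun i => hadd _ (hfin i)
  have h2 : ∀ i, len A (M.homology i) = z i - bi i := fun i => by
    let S := M.sc i
    have e : len A (M.homology i) = len A (LinearMap.ker S.g.hom ⧸ LinearMap.range S.moduleCatToCycles) := by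
      change ((Module.length A _).toNat : ℤ) = _
      exact congrArg (fun t : ℕ∞ => (t.toNat : ℤ)) (S.moduleCatHomologyIso.toLinearEquiv).length_eq
    have h3 := Module.length_eq_add_of_exact (LinearMap.range S.moduleCatToCycles).subtype (LinearMap.range S.moduleCatToCycles).mkQ
      Subtype.val_injective (Submodule.mkQ_surjective _) (LinearMap.exact_subtype_mkQ _)
    have h4 : Module.length A (LinearMap.range S.moduleCatToCycles) = Module.length A (LinearMap.range S.f.hom) := by
      let e' : LinearMap.range S.moduleCatToCycles ≃ₗ[A] LinearMap.range S.f.hom :=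
        (Submodule.equivMapOfInjective (LinearMap.ker S.g.hom).subtype Subtype.val_injective _).trans
          (LinearEquiv.ofEq _ _ (by rw [← LinearMap.range_comp]; rfl))
      exact e'.length_eq
    have hk : Module.length A (LinearMap.ker S.g.hom) ≠ ⊤ := hfinS i _
    rw [h3] at hk
    rw [e]
    change ((Module.length A _).toNat : ℤ) = ((Module.length A (LinearMap.ker S.g.hom)).toNat : ℤ) - ((Module.length A (LinearMap.range S.f.hom)).toNat : ℤ)
    rw [h3, h4, ENat.toNat_add (by rw [← h4]; exact fun h => hk (by rw [h, top_add])) (fun h => hk (by rw [h, add_top]))]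
    push_cast; ring
  have hzero : ∀ i j, (IsZero (M.X i) ∨ IsZero (M.X j) ∨ ¬ c.Rel i j) → len A (LinearMap.range (M.d i j).hom) = 0 := by
    intro i j h
    have : M.d i j = 0 := by
      rcases h with h | h | h
      · exact h.eq_of_src _ _
      · exact h.eq_of_tgt _ _
      · exact M.shape _ _ h
    have : Subsingleton (LinearMap.range (M.d i j).hom) := by
      rw [this]; simp only [ModuleCat.hom_zero, LinearMap.range_zero]; infer_instance
    simp [len, Module.length_eq_zero]
  suffices key : s.sum (fun i => sgn i * bo i) + s.sum (fun i => sgn i * bi i) = 0 by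
    change s.sum (fun i => sgn i * len A (M.X i)) = s.sum (fun i => sgn i * len A (M.homology i))
    simp only [h1, h2, mul_add, mul_sub, Finset.sum_add_distrib, Finset.sum_sub_distrib]
    linarith
  classical
  rw [← Finset.sum_filter_of_ne (s := s) (p := fun i => c.Rel i (c.next i) ∧ c.next i ∈ s) (f := fun i => sgn i * bo i) (fun i hi h => by
      by_contra hn
      apply h
      rw [show bo i = 0 from hzero _ _ (by
        by_cases hr : c.Rel i (c.next i)
        · exact Or.inr (Or.inl (hs _ fun hm => hn ⟨hr, hm⟩))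
        · exact Or.inr (Or.inr hr)), mul_zero]),
    ← Finset.sum_filter_of_ne (s := s) (p := fun i => c.Rel (c.prev i) i ∧ c.prev i ∈ s) (f := fun i => sgn i * bi i) (fun i hi h => by
      by_contra hn
      apply h
      rw [show bi i = 0 from hzero _ _ (by
        by_cases hr : c.Rel (c.prev i) i
        · exact Or.inl (hs _ fun hm => hn ⟨hr, hm⟩)
        · exact Or.inr (Or.inr hr)), mul_zero])]
  rw [Finset.sum_nbij' (i := c.next) (j := c.prev) (t := s.filter fun i => c.Rel (c.prev i) i ∧ c.prev i ∈ s) (g := fun i => -(sgn i * bi i))]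
  · rw [Finset.sum_neg_distrib, neg_add_cancel]
  · intro i hi
    simp only [Finset.mem_filter, Finset.coe_filter, Set.mem_setOf_eq] at hi ⊢
    exact ⟨hi.2.2, by rw [c.prev_eq' hi.2.1]; exact ⟨hi.2.1, hi.1⟩⟩
  · intro i hi
    simp only [Finset.mem_filter, Finset.coe_filter, Set.mem_setOf_eq] at hi ⊢
    exact ⟨hi.2.2, by rw [c.next_eq' hi.2.1]; exact ⟨hi.2.1, hi.1⟩⟩
  · intro i hi
    simp only [Finset.mem_filter, Finset.coe_filter, Set.mem_setOf_eq] at hi
    exact c.prev_eq' hi.2.1
  · intro i hi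
    simp only [Finset.mem_filter, Finset.coe_filter, Set.mem_setOf_eq] at hi
    exact c.next_eq' hi.2.1
  · intro i hi
    simp only [Finset.mem_filter] at hi
    have e : bi (c.next i) = bo i := by
      simp only [bi, bo]
      rw [c.prev_eq' hi.2.1]
    rw [e, hsgn _ _ hi.2.1]; ring

open CategoryTheory Limits in
theorem euler_int {A : Type u} [Ring A]
    (M : CochainComplex (ModuleCat.{u} A) ℤ) (s : Finset ℤ) (hs : ∀ i, i ∉ s → IsZero (M.X i))
    (hfl : ∀ i, IsFiniteLength A (M.X i)) :
    (s.sum fun i => ((i.negOnePow : ℤˣ) : ℤ) * ((Module.length A (M.X i)).toNat : ℤ)) =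
      s.sum fun i => ((i.negOnePow : ℤˣ) : ℤ) * ((Module.length A (M.homology i)).toNat : ℤ) :=
  euler (ComplexShape.up ℤ) (fun i => ((i.negOnePow : ℤˣ) : ℤ)) (fun i j h => by
    obtain rfl : i + 1 = j := h
    simp [Int.negOnePow_succ]) M s hs hfl

open CategoryTheory Limits in
theorem euler_ss {A : Type u} [Ring A]
    (E : E₂CohomologicalSpectralSequence (ModuleCat.{u} A)) (s : Finset (ℤ × ℤ))
    (hs : ∀ pq : ℤ × ℤ, pq ∉ s → IsZero ((E.page 2).X pq))
    (hfl : ∀ pq : ℤ × ℤ, IsFiniteLength A ((E.page 2).X pq)) (r : ℤ) (hr : 2 ≤ r) :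
    (s.sum fun pq => (((pq.1 + pq.2).negOnePow : ℤˣ) : ℤ) * ((Module.length A ((E.page r hr).X pq)).toNat : ℤ)) =
      s.sum fun pq => (((pq.1 + pq.2).negOnePow : ℤˣ) : ℤ) * ((Module.length A ((E.page 2).X pq)).toNat : ℤ) := by
  suffices h : (∀ pq, pq ∉ s → IsZero ((E.page r hr).X pq)) ∧ (∀ pq, IsFiniteLength A ((E.page r hr).X pq)) ∧
      (s.sum fun pq => (((pq.1 + pq.2).negOnePow : ℤˣ) : ℤ) * ((Module.length A ((E.page r hr).X pq)).toNat : ℤ)) =
        s.sum fun pq => (((pq.1 + pq.2).negOnePow : ℤˣ) : ℤ) * ((Module.length A ((E.page 2).X pq)).toNat : ℤ) from h.2.2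
  induction r, hr using Int.le_induction with
  | base => exact ⟨hs, hfl, rfl⟩
  | succ n hn ih =>
    obtain ⟨hz, hf, he⟩ := ih
    let e := fun pq => (E.iso n (n + 1) pq rfl hn).toLinearEquiv
    refine ⟨fun pq hpq => ?_, fun pq => ?_, ?_⟩
    · exact IsZero.of_iso (ShortComplex.isZero_homology_of_isZero_X₂ _ (hz pq hpq)) (E.iso n (n + 1) pq rfl hn).symm
    · rw [← Module.length_ne_top_iff, ← (e pq).length_eq]
      let S := (E.page n hn).sc pq
      refine ne_top_of_le_ne_top (Module.length_ne_top_iff.2 (hf pq)) ?_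
      change Module.length A S.homology ≤ Module.length A S.X₂
      rw [S.moduleCatHomologyIso.toLinearEquiv.length_eq]
      exact (Module.length_le_of_surjective _ (Submodule.mkQ_surjective (LinearMap.range S.moduleCatToCycles))).trans
        (Module.length_le_of_injective (LinearMap.ker S.g.hom).subtype Subtype.val_injective)
    · refine Eq.trans (Finset.sum_congr rfl fun pq _ => ?_) ((euler _ (fun pq => (((pq.1 + pq.2).negOnePow : ℤˣ) : ℤ))
        (fun i j h => ?_) (E.page n hn) s hz hf).symm.trans he)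
      · rw [(e pq).length_eq]
      · have h' : i + (n, 1 - n) = j := h
        subst h'
        rw [Prod.fst_add, Prod.snd_add, show i.1 + n + (i.2 + (1 - n)) = i.1 + i.2 + 1 by ring, Int.negOnePow_succ]
        simp

end Groth.Agent.H4Easy
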