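import Mathlib

/-! Two steps in the structure theory of Cartier modules. -/

set_option autoImplicit false
set_option linter.style.haveILetI false

open WittVector

universe u v w

namespace Groth.Agent.H4Easy


section
variable {p : ℕ} [Fact p.Prime] {k : Type u} [Field k] [CharP k p] [PerfectRing k p]

theorem mem_of_verschiebung_mem {M : Type v} [AddCommGroup M] [Module (WittVector p k) M] {N : Type w}
    [AddCommGroup N] [Module (WittVector p k) N] (FM VM : M →+ M) (FN VN : N →+ N)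
    (hVM : ∀ (a : WittVector p k) (m : M), VM (frobenius a • m) = a • VM m)
    (hFVM : ∀ m : M, FM (VM m) = (p : WittVector p k) • m)
    (hFN : ∀ (a : WittVector p k) (n : N), FN (a • n) = frobenius a • FN n)
    (hVN : ∀ (a : WittVector p k) (n : N), VN (frobenius a • n) = a • VN n)
    (hFVN : ∀ n : N, FN (VN n) = (p : WittVector p k) • n)
    (hVFN : ∀ n : N, VN (FN n) = (p : WittVector p k) • n)
    (H₁ : Submodule (WittVector p k) (M →ₗ[WittVector p k] N))
    (hF : ∀ h ∈ H₁, ∃ h' ∈ H₁, ∀ m : M, h' m = FN (h (VM m)))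
    (hV : ∀ h ∈ H₁, ∃ h' ∈ H₁, ∀ m : M, h' (VM m) = VN (h m))
    (hmax : ∀ S : Submodule (WittVector p k) (M →ₗ[WittVector p k] N),
      (∀ h ∈ S, ∃ h' ∈ S, ∀ m : M, h' m = FN (h (VM m))) →
      (∀ h ∈ S, ∃ h' ∈ S, ∀ m : M, h' (VM m) = VN (h m)) → S ≤ H₁)
    (y x : M →ₗ[WittVector p k] N) (hx : x ∈ H₁) (hxy : ∀ m : M, x (VM m) = VN (y m)) : y ∈ H₁ := by
  let τ : WittVector p k → WittVector p k := (frobeniusEquiv p k).symm
  have hτ : ∀ a, frobenius (τ a) = a := fun a => (frobeniusEquiv p k).apply_symm_apply a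
  let S : Submodule (WittVector p k) (M →ₗ[WittVector p k] N) :=
    { carrier := {y | ∃ x ∈ H₁, ∀ m : M, x (VM m) = VN (y m)}
      zero_mem' := ⟨0, zero_mem _, fun m => by simp⟩
      add_mem' := fun {a b} ⟨x₁, h₁, e₁⟩ ⟨x₂, h₂, e₂⟩ => ⟨x₁ + x₂, add_mem h₁ h₂, fun m => by
        rw [LinearMap.add_apply, LinearMap.add_apply, e₁, e₂, map_add]⟩
      smul_mem' := fun c {a} ⟨x₁, h₁, e₁⟩ => ⟨τ c • x₁, Submodule.smul_mem _ _ h₁, fun m => by
        rw [LinearMap.smul_apply, LinearMap.smul_apply, e₁, ← hVN, hτ]⟩ }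
  refine hmax S (fun h ⟨x₁, h₁, e₁⟩ => ?_) (fun h ⟨x₁, h₁, e₁⟩ => ⟨x₁, hV x₁ h₁, e₁⟩) ⟨x, hx, hxy⟩
  let z : M →ₗ[WittVector p k] N :=
    { toFun := fun m => FN (h (VM m))
      map_add' := fun a b => by simp only [map_add]
      map_smul' := fun a m => by
        show FN (h (VM (a • m))) = a • FN (h (VM m))
        rw [show VM (a • m) = τ a • VM m by rw [← hVM, hτ], map_smul, hFN, hτ] }
  obtain ⟨x', hx', e'⟩ := hF x₁ h₁
  have hx'' : ∀ m, x' m = (p : WittVector p k) • h m := fun m => by rw [e', e₁, hFVN]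
  refine ⟨z, ⟨x', hx', fun m => ?_⟩, fun m => rfl⟩
  rw [hx'', show z m = FN (h (VM m)) from rfl, hVFN]

theorem exists_kerF_bound_and_injective {M : Type v} [AddCommGroup M] [Module (WittVector p k) M] (F V : M →+ M)
    (hF : ∀ (a : WittVector p k) (m : M), F (a • m) = frobenius a • F m)
    (hV : ∀ (a : WittVector p k) (m : M), V (frobenius a • m) = a • V m)
    (hFV : ∀ m : M, F (V m) = (p : WittVector p k) • m) (hVF : ∀ m : M, V (F m) = (p : WittVector p k) • m)
    (hVinj : Function.Injective V) (hsep : ∀ x : M, (∀ n : ℕ, ∃ y : M, x = (⇑V)^[n] y) → x = 0)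
    (hfin : Module.Finite (WittVector p k) (M ⧸ Submodule.span (WittVector p k) (Set.range V))) :
    (∃ c : ℕ, ∀ x : M, (∃ n : ℕ, (⇑F)^[n] x = 0) → (⇑F)^[c] x = 0) ∧
      ∀ x : M, (∀ n : ℕ, ∃ (m : ℕ) (y : M), (⇑V)^[m] x = (⇑F)^[n] y) → F x = 0 → x = 0 := by
  have hcomm : Function.Commute (⇑F) (⇑V) := fun m => (hFV m).trans (hVF m).symm
  have hFz : ∀ n, (⇑F)^[n] (0 : M) = 0 := fun n => iterate_map_zero F n
  have hVn : ∀ n, Function.Injective (⇑V)^[n] := fun n => hVinj.iterate n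
  have hmono : ∀ {a b : ℕ}, a ≤ b → ∀ x, (⇑F)^[a] x = 0 → (⇑F)^[b] x = 0 := by
    intro a b hab x hx
    obtain ⟨d, rfl⟩ := Nat.exists_eq_add_of_le hab
    rw [add_comm, Function.iterate_add_apply, hx, hFz]
  have hrange : ∀ x ∈ Submodule.span (WittVector p k) (Set.range V), ∃ m, V m = x := by
    intro x hx
    induction hx using Submodule.span_induction with
    | mem y hy => exact hy
    | zero => exact ⟨0, map_zero _⟩
    | add a b _ _ ha hb =>
      obtain ⟨a', rfl⟩ := ha
      obtain ⟨b', rfl⟩ := hb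
      exact ⟨a' + b', map_add _ _ _⟩
    | smul c a _ ha =>
      obtain ⟨a', rfl⟩ := ha
      exact ⟨frobenius c • a', hV _ _⟩
  have hFsmul : ∀ n (c : WittVector p k) (x : M), ∃ c' : WittVector p k, (⇑F)^[n] (c • x) = c' • (⇑F)^[n] x := by
    intro n
    induction n with
    | zero => exact fun c x => ⟨c, rfl⟩
    | succ n ih =>
      intro c x
      obtain ⟨c', hc'⟩ := ih c x
      exact ⟨frobenius c', by rw [Function.iterate_succ_apply', Function.iterate_succ_apply', hc', hF]⟩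
  let K : ℕ →o Submodule (WittVector p k) M :=
    { toFun := fun n =>
        { carrier := {x | (⇑F)^[n] x = 0}
          zero_mem' := hFz n
          add_mem' := fun {a b} (ha : _ = 0) (hb : _ = 0) => show _ = 0 by rw [iterate_map_add, ha, hb, add_zero]
          smul_mem' := fun c {a} (ha : _ = 0) => show _ = 0 by
            obtain ⟨c', hc'⟩ := hFsmul n c a
            rw [hc', ha, smul_zero] }
      monotone' := fun a b hab x hx => hmono hab x hx }
  have hnoeth : IsNoetherian (WittVector p k) (M ⧸ Submodule.span (WittVector p k) (Set.range V)) := inferInstance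
  obtain ⟨c, hc⟩ := monotone_stabilizes_iff_noetherian.2 hnoeth
    ⟨fun n => (K n).map (Submodule.span (WittVector p k) (Set.range V)).mkQ,
      fun a b hab => Submodule.map_mono (K.monotone hab)⟩
  have hM₂ : ∀ x : M, (∃ n : ℕ, (⇑F)^[n] x = 0) → (⇑F)^[c] x = 0 := by
    intro x hx
    refine hsep _ fun n => ?_
    have key : ∀ j, ∃ y, (∃ N, (⇑F)^[N] y = 0) ∧ (⇑F)^[c] x = (⇑V)^[j] ((⇑F)^[c] y) := by
      intro j
      induction j with
      | zero => exact ⟨x, hx, rfl⟩
      | succ j ih =>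
        obtain ⟨y, ⟨N, hN⟩, hy⟩ := ih
        have hyK : (Submodule.span (WittVector p k) (Set.range V)).mkQ y ∈
            (K (max c N)).map (Submodule.span (WittVector p k) (Set.range V)).mkQ :=
          ⟨y, hmono (le_max_right c N) y hN, rfl⟩
        rw [show (K (max c N)).map (Submodule.span (WittVector p k) (Set.range V)).mkQ =
          (K c).map (Submodule.span (WittVector p k) (Set.range V)).mkQ from (hc _ (le_max_left c N)).symm] at hyK
        obtain ⟨y₁, (hy₁ : (⇑F)^[c] y₁ = 0), he⟩ := hyK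
        obtain ⟨z, hz⟩ := hrange (y - y₁) ((Submodule.Quotient.eq _).1 he.symm)
        have hzN : (⇑V)^[1] ((⇑F)^[max c N] z) = 0 := by
          rw [Function.iterate_one, ← (hcomm.iterate_left (max c N)).eq, hz, iterate_map_sub,
            hmono (le_max_right c N) y hN, hmono (le_max_left c N) y₁ hy₁, sub_zero]
        refine ⟨z, ⟨max c N, hVn 1 (hzN.trans (map_zero V).symm)⟩, hy.trans ?_⟩
        rw [Function.iterate_succ_apply, ← (hcomm.iterate_left c).eq, hz, iterate_map_sub, hy₁, sub_zero]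
    obtain ⟨y, -, hy⟩ := key n
    exact ⟨_, hy⟩
  refine ⟨⟨c, hM₂⟩, fun x hx hFx => ?_⟩
  obtain ⟨m, y, hy⟩ := hx c
  have h1 : (⇑F)^[c + 1] y = 0 := by
    rw [Function.iterate_succ_apply', ← hy, (hcomm.iterate_right m).eq, hFx, iterate_map_zero]
  refine hVn m ?_
  rw [hy, iterate_map_zero, hM₂ y ⟨c + 1, h1⟩]

end

end Groth.Agent.H4Easy
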