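import Mathlib
import Groth.Prelude.Def_W4c6eohyperellchar2Gc

/-! The explicit Dieudonne module attached to a branch point of a hyperelliptic curve in characteristic two. -/

set_option autoImplicit false
set_option linter.style.haveILetI false

open W4c6eohyperellchar2

universe u

namespace Groth.Agent.H4Easy


section
variable {c : ℕ} {k : Type u} [Field k] [CharP k 2] [PerfectRing k 2]

omit [CharP k 2] [PerfectRing k 2] in
theorem gc_coefX_X (j n : ℕ) : coefX (X c k j) n = if (1 ≤ n ∧ n ≤ c) ∧ n = j then 1 else 0 := by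
  unfold coefX X
  by_cases h : 1 ≤ n ∧ n ≤ c
  · rw [dif_pos h]
    dsimp only
    split_ifs with h1 h2 h2 <;> first | rfl | omega
  · rw [dif_neg h, if_neg fun h' => h h'.1]

omit [CharP k 2] [PerfectRing k 2] in
theorem gc_coefY_Y (j n : ℕ) : coefY (Y c k j) n = if (1 ≤ n ∧ n ≤ c) ∧ n = j then 1 else 0 := by
  unfold coefY Y
  by_cases h : 1 ≤ n ∧ n ≤ c
  · rw [dif_pos h]
    dsimp only
    split_ifs with h1 h2 h2 <;> first | rfl | omega
  · rw [dif_neg h, if_neg fun h' => h h'.1]

omit [CharP k 2] [PerfectRing k 2] in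
theorem gc_coefX_Y (j n : ℕ) : coefX (Y c k j) n = 0 := by
  unfold coefX Y
  split_ifs <;> rfl

omit [CharP k 2] [PerfectRing k 2] in
theorem gc_coefY_X (j n : ℕ) : coefY (X c k j) n = 0 := by
  unfold coefY X
  split_ifs <;> rfl

omit [CharP k 2] [PerfectRing k 2] in
theorem gc_F_X (j : ℕ) (hj : 1 ≤ j) (hjc : j ≤ c) :
    F c k (X c k j) = if j % 2 = 0 then X c k (j / 2) else Y c k (c - (j - 1) / 2) := by
  unfold F
  simp only [gc_coefX_X]
  unfold X Y
  split_ifs with hp <;> refine Prod.ext (funext fun i => ?_) (funext fun i => ?_) <;>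
    simp only [Pi.zero_apply] <;> have hi := i.2
  all_goals split_ifs <;> first | omega | simp

theorem gc_V_X (j : ℕ) (hj : 1 ≤ j) (hjc : j ≤ c) :
    V c k (X c k j) = if c < 2 * j then Y c k (2 * c - 2 * j + 1) else 0 := by
  unfold V
  simp only [gc_coefX_X, gc_coefY_X, map_zero]
  unfold Y
  split_ifs with hp <;> refine Prod.ext rfl (funext fun i => ?_) <;>
    simp only [Prod.snd_zero, Pi.zero_apply] <;> have hi := i.2
  all_goals split_ifs <;> first | omega | simp

theorem gc_V_Y (j : ℕ) (hj : 1 ≤ j) : V c k (Y c k j) = if 2 * j ≤ c then Y c k (2 * j) else 0 := by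
  unfold V
  simp only [gc_coefY_Y, gc_coefX_Y, map_zero]
  unfold Y
  split_ifs with hp <;> refine Prod.ext rfl (funext fun i => ?_) <;>
    simp only [Prod.snd_zero, Pi.zero_apply] <;> have hi := i.2
  all_goals split_ifs <;> first | omega | simp

theorem gc_F_pow_add_V_pow (j e l : ℕ) (hj : j = 2 ^ e * l) (hl : Odd l) (hjc : j ≤ c) (hcj : c < 2 * j)
    (j' n : ℕ) (hj'c : j' ≤ c) (hcj' : c < 2 * j') (hn : 2 ^ n * (2 * c - 2 * j' + 1) = c - (l - 1) / 2) :
    (F c k)^[e + 1] (X c k j) + (V c k)^[n + 1] (X c k j') = 0 := by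
  subst hj
  have hl0 : l % 2 = 1 := Nat.odd_iff.1 hl
  have hF : ∀ e, 2 ^ e * l ≤ c → (F c k)^[e] (X c k (2 ^ e * l)) = X c k l := by
    intro e
    induction e with
    | zero => intro _; simp
    | succ e ih =>
      intro h
      have h2 : 2 ^ (e + 1) * l = 2 * (2 ^ e * l) := by ring
      have h1 : 1 ≤ 2 ^ e * l := Nat.mul_pos (by positivity) (by omega)
      rw [Function.iterate_succ_apply, gc_F_X _ (by omega) h, if_pos (by omega),
        show 2 ^ (e + 1) * l / 2 = 2 ^ e * l by omega]
      exact ih (by omega)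
  have hV : ∀ n m, 1 ≤ m → 2 ^ n * m ≤ c → (V c k)^[n] (Y c k m) = Y c k (2 ^ n * m) := by
    intro n
    induction n with
    | zero => intro m _ _; simp
    | succ n ih =>
      intro m hm h
      have h2 : 2 ^ (n + 1) * m = 2 ^ n * (2 * m) := by ring
      have h3 : 2 * m ≤ 2 ^ n * (2 * m) := Nat.le_mul_of_pos_left _ (by positivity)
      rw [Function.iterate_succ_apply, gc_V_Y m hm, if_pos (by omega), ih (2 * m) (by omega) (by omega), h2]
  have hle : l ≤ 2 ^ e * l := Nat.le_mul_of_pos_left _ (by positivity)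
  have hm : 2 ^ n * (2 * c - 2 * j' + 1) ≤ c := by omega
  rw [Function.iterate_succ_apply', hF e hjc, gc_F_X l (by omega) (by omega), if_neg (by omega),
    Function.iterate_succ_apply, gc_V_X j' (by omega) hj'c, if_pos hcj', hV n _ (by omega) hm, hn]
  refine Prod.ext (funext fun i => ?_) (funext fun i => ?_) <;> exact CharTwo.add_self_eq_zero _

theorem gc_eq_top (N : Submodule k (GcMod c k)) (hF : ∀ v ∈ N, F c k v ∈ N) (hV : ∀ v ∈ N, V c k v ∈ N)
    (hX : ∀ j : ℕ, c < 2 * j → j ≤ c → X c k j ∈ N) : N = ⊤ := by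
  have hXall : ∀ d j : ℕ, c - j ≤ d → 1 ≤ j → j ≤ c → X c k j ∈ N := by
    intro d
    induction d with
    | zero => intro j h h1 h2; exact hX j (by omega) h2
    | succ d ih =>
      intro j h h1 h2
      by_cases hj : c < 2 * j
      · exact hX j hj h2
      · have := hF _ (ih (2 * j) (by omega) (by omega) (by omega))
        rwa [gc_F_X (2 * j) (by omega) (by omega), if_pos (by omega), show 2 * j / 2 = j by omega] at this
  have hYall : ∀ d m : ℕ, m ≤ d → 1 ≤ m → m ≤ c → Y c k m ∈ N := by
    intro d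
    induction d with
    | zero => intro m h h1; omega
    | succ d ih =>
      intro m h h1 h2
      rcases Nat.mod_two_eq_zero_or_one m with hm | hm
      · have := hV _ (ih (m / 2) (by omega) (by omega) (by omega))
        rwa [gc_V_Y (m / 2) (by omega), if_pos (by omega), show 2 * (m / 2) = m by omega] at this
      · have := hV _ (hX ((2 * c + 1 - m) / 2) (by omega) (by omega))
        rwa [gc_V_X _ (by omega) (by omega), if_pos (by omega),
          show 2 * c - 2 * ((2 * c + 1 - m) / 2) + 1 = m by omega] at this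
  rw [eq_top_iff]
  intro v _
  have hv : v = (∑ i : Fin c, v.1 i • X c k (i.val + 1)) + ∑ i : Fin c, v.2 i • Y c k (i.val + 1) := by
    refine Prod.ext (funext fun i => ?_) (funext fun i => ?_) <;>
      simp [X, Y, Prod.fst_sum, Prod.snd_sum, Finset.sum_apply, Fin.val_inj]
  rw [hv]
  exact add_mem (Submodule.sum_mem _ fun i _ => Submodule.smul_mem _ _ (hXall c _ (by omega) (by omega) i.2))
    (Submodule.sum_mem _ fun i _ => Submodule.smul_mem _ _ (hYall c _ i.2 (by omega) i.2))

theorem gc_quotient_basis :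
    LinearIndependent k (fun j : {j : ℕ // c < 2 * j ∧ j ≤ c} =>
        Submodule.mkQ (Submodule.span k (Set.range (F c k) ∪ Set.range (V c k))) (X c k j.1)) ∧
      Submodule.span k (Set.range (fun j : {j : ℕ // c < 2 * j ∧ j ≤ c} =>
        Submodule.mkQ (Submodule.span k (Set.range (F c k) ∪ Set.range (V c k))) (X c k j.1))) = ⊤ := by
  classical
  set W := Submodule.span k (Set.range (F c k) ∪ Set.range (V c k)) with hW
  let N := (Submodule.span k (Set.range fun j : {j : ℕ // c < 2 * j ∧ j ≤ c} => W.mkQ (X c k j.1))).comap W.mkQ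
  have hWN : W ≤ N := fun v hv => by
    refine Submodule.mem_comap.2 ?_
    rw [show W.mkQ v = 0 from (Submodule.Quotient.mk_eq_zero _).2 hv]
    exact zero_mem _
  have hN : N = ⊤ := gc_eq_top N (fun v _ => hWN (Submodule.subset_span (Or.inl ⟨v, rfl⟩)))
    (fun v _ => hWN (Submodule.subset_span (Or.inr ⟨v, rfl⟩)))
    (fun j h1 h2 => Submodule.mem_comap.2 (Submodule.subset_span ⟨⟨j, h1, h2⟩, rfl⟩))
  refine ⟨?_, eq_top_iff.2 fun q _ => ?_⟩
  · rw [linearIndependent_iff']
    intro s a ha j hj
    have h0 : (∑ i ∈ s, a i • X c k i.1) ∈ W := by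
      refine (Submodule.Quotient.mk_eq_zero W).1 ?_
      show W.mkQ _ = 0
      rw [map_sum]
      simpa only [map_smul] using ha
    have hj1 := j.2
    let i₀ : Fin c := ⟨j.1 - 1, by omega⟩
    have hzero : ∀ v ∈ W, v.1 i₀ = 0 := by
      intro v hv
      induction hv using Submodule.span_induction with
      | mem y hy =>
        rcases hy with ⟨u, rfl⟩ | ⟨u, rfl⟩
        · show coefX u (2 * (j.1 - 1 + 1)) ^ 2 = 0
          unfold coefX
          rw [dif_neg (by omega)]
          simp
        · rfl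
      | zero => rfl
      | add x y _ _ hx hy => simp [hx, hy]
      | smul r x _ hx => simp [hx]
    have := hzero _ h0
    rw [Prod.fst_sum, Finset.sum_apply, Finset.sum_eq_single j (fun i _ hij => ?_) (fun h => absurd hj h)] at this
    · simpa [X, i₀, show j.1 - 1 + 1 = j.1 by omega] using this
    · have hne : j.1 - 1 + 1 ≠ i.1 := fun h => hij (Subtype.ext (by omega))
      simp [X, i₀, hne]
  · obtain ⟨v, rfl⟩ := Submodule.Quotient.mk_surjective W q
    exact (hN ▸ Submodule.mem_top : v ∈ N)

end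

end Groth.Agent.H4Easy
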