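import Mathlib

/-! Colimits of sets over categories with span completion; lemmas on localisations with calculus of fractions. -/

set_option autoImplicit false
set_option linter.style.haveILetI false

open CategoryTheory CategoryTheory.Limits MorphismProperty

universe w v v' u u'

namespace Groth.Agent.H4Easy


section Colim

theorem colimit_eq_of_span_completion {I : Type v} [SmallCategory I]
    (hI : ∀ ⦃x y z : I⦄ (f : x ⟶ y) (g : x ⟶ z), ∃ (w : I) (f' : y ⟶ w) (g' : z ⟶ w), f ≫ f' = g ≫ g')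
    (M : I ⥤ Type v) {i j : I} {a : M.obj i} {b : M.obj j} (h : colimit.ι M i a = colimit.ι M j b) :
    ∃ (k : I) (f : i ⟶ k) (g : j ⟶ k), M.map f a = M.map g b := by
  have key : ∀ {x y : Σ i, M.obj i}, Relation.EqvGen M.ColimitTypeRel x y →
      ∃ (k : I) (f : x.1 ⟶ k) (g : y.1 ⟶ k), M.map f x.2 = M.map g y.2 := by
    intro x y h
    induction h with
    | rel x y h =>
      obtain ⟨f, hf⟩ := h
      exact ⟨y.1, f, 𝟙 _, by rw [FunctorToTypes.map_id_apply]; exact hf.symm⟩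
    | refl x => exact ⟨x.1, 𝟙 _, 𝟙 _, rfl⟩
    | symm x y _ ih =>
      obtain ⟨k, f, g, e⟩ := ih
      exact ⟨k, g, f, e.symm⟩
    | trans x y z _ _ ih₁ ih₂ =>
      obtain ⟨k₁, f₁, g₁, e₁⟩ := ih₁
      obtain ⟨k₂, f₂, g₂, e₂⟩ := ih₂
      obtain ⟨w, u, v, huv⟩ := hI g₁ f₂
      refine ⟨w, f₁ ≫ u, g₂ ≫ v, ?_⟩
      rw [FunctorToTypes.map_comp_apply, FunctorToTypes.map_comp_apply, e₁, ← e₂,
        ← FunctorToTypes.map_comp_apply, ← FunctorToTypes.map_comp_apply, huv]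
  exact key (x := ⟨i, a⟩) (y := ⟨j, b⟩) (Types.colimit_eq h)

theorem colimMap_injective {I : Type v} [SmallCategory I]
    (hI : ∀ ⦃x y z : I⦄ (f : x ⟶ y) (g : x ⟶ z), ∃ (w : I) (f' : y ⟶ w) (g' : z ⟶ w), f ≫ f' = g ≫ g')
    {M N : I ⥤ Type v} (φ : M ⟶ N) (hφ : ∀ i, Function.Injective (φ.app i)) :
    Function.Injective (colimMap φ) := by
  intro x y h
  obtain ⟨i, a, rfl⟩ := Types.jointly_surjective' x
  obtain ⟨j, b, rfl⟩ := Types.jointly_surjective' y
  have e : ∀ i a, colimMap φ (colimit.ι M i a) = colimit.ι N i (φ.app i a) :=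
    fun i a => ConcreteCategory.congr_hom (ι_colimMap φ i) a
  rw [e, e] at h
  obtain ⟨k, f, g, hfg⟩ := colimit_eq_of_span_completion hI N h
  rw [← NatTrans.naturality_apply φ f a, ← NatTrans.naturality_apply φ g b] at hfg
  exact Types.colimit_sound' f g (hφ k hfg)

theorem prodComparison_colim_surjective {I : Type v} [SmallCategory I]
    (hI : ∀ x y : I, ∃ (z : I) (_ : x ⟶ z) (_ : y ⟶ z), True) (M N : I ⥤ Type v) :
    Function.Surjective (prodComparison (colim : (I ⥤ Type v) ⥤ Type v) M N) := by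
  intro y
  obtain ⟨i, a, ha⟩ := Types.jointly_surjective'
    ((Limits.prod.fst : (colim.obj M ⨯ colim.obj N) ⟶ _) y)
  obtain ⟨j, b, hb⟩ := Types.jointly_surjective'
    ((Limits.prod.snd : (colim.obj M ⨯ colim.obj N) ⟶ _) y)
  obtain ⟨z, f, g, -⟩ := hI i j
  let e : (M.obj z ⨯ N.obj z) ≅ (M ⨯ N).obj z :=
    (PreservesLimitPair.iso ((evaluation I (Type v)).obj z) M N).symm
  let w : (M ⨯ N).obj z := e.hom ((Types.binaryProductIso _ _).inv (M.map f a, N.map g b))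
  have hw1 : (Limits.prod.fst : M ⨯ N ⟶ M).app z w = M.map f a := by
    have := ConcreteCategory.congr_hom (PreservesLimitPair.iso_inv_fst ((evaluation I (Type v)).obj z) M N)
      ((Types.binaryProductIso _ _).inv (M.map f a, N.map g b))
    exact this.trans (by simp)
  have hw2 : (Limits.prod.snd : M ⨯ N ⟶ N).app z w = N.map g b := by
    have := ConcreteCategory.congr_hom (PreservesLimitPair.iso_inv_snd ((evaluation I (Type v)).obj z) M N)
      ((Types.binaryProductIso _ _).inv (M.map f a, N.map g b))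
    exact this.trans (by simp)
  refine ⟨colimit.ι (M ⨯ N) z w, (Types.binaryProductIso _ _).toEquiv.injective (Prod.ext ?_ ?_)⟩
  · have h1 := ConcreteCategory.congr_hom
      (prodComparison_fst (colim : (I ⥤ Type v) ⥤ Type v) (A := M) (B := N)) (colimit.ι (M ⨯ N) z w)
    have h2 : colimMap (Limits.prod.fst : M ⨯ N ⟶ M) (colimit.ι (M ⨯ N) z w) = colimit.ι M i a := by
      rw [show colimMap (Limits.prod.fst : M ⨯ N ⟶ M) (colimit.ι (M ⨯ N) z w) = colimit.ι M z ((Limits.prod.fst : M ⨯ N ⟶ _).app z w) from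
        ConcreteCategory.congr_hom (ι_colimMap (Limits.prod.fst : M ⨯ N ⟶ _) z) w, hw1, colimit.w_apply]
    simpa using (h1.trans h2).trans ha
  · have h1 := ConcreteCategory.congr_hom
      (prodComparison_snd (colim : (I ⥤ Type v) ⥤ Type v) (A := M) (B := N)) (colimit.ι (M ⨯ N) z w)
    have h2 : colimMap (Limits.prod.snd : M ⨯ N ⟶ N) (colimit.ι (M ⨯ N) z w) = colimit.ι N j b := by
      rw [show colimMap (Limits.prod.snd : M ⨯ N ⟶ N) (colimit.ι (M ⨯ N) z w) = colimit.ι N z ((Limits.prod.snd : M ⨯ N ⟶ _).app z w) from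
        ConcreteCategory.congr_hom (ι_colimMap (Limits.prod.snd : M ⨯ N ⟶ _) z) w, hw2, colimit.w_apply]
    simpa using (h1.trans h2).trans hb

theorem colimit_post_forget_surjective {I : Type v} [SmallCategory I] [Nonempty I]
    (hI : ∀ x y : I, ∃ (z : I) (_ : x ⟶ z) (_ : y ⟶ z), True) (M : I ⥤ AddCommGrpCat.{v}) :
    Function.Surjective (colimit.post M (forget AddCommGrpCat.{v})) := by
  let S : AddSubgroup (colimit M : AddCommGrpCat.{v}) :=
    { carrier := {x | ∃ (i : I) (a : M.obj i), colimit.ι M i a = x}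
      zero_mem' := ⟨Classical.arbitrary I, 0, map_zero _⟩
      add_mem' := by
        rintro _ _ ⟨i, a, rfl⟩ ⟨j, b, rfl⟩
        obtain ⟨z, f, g, -⟩ := hI i j
        exact ⟨z, M.map f a + M.map g b, by rw [map_add, colimit.w_apply, colimit.w_apply]⟩
      neg_mem' := by
        rintro _ ⟨i, a, rfl⟩
        exact ⟨i, -a, map_neg _ _⟩ }
  intro x
  have h : AddCommGrpCat.ofHom (QuotientAddGroup.mk' S) = 0 := colimit.hom_ext fun i => by
    ext a
    exact (QuotientAddGroup.eq_zero_iff _).2 ⟨i, a, rfl⟩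
  obtain ⟨i, a, ha⟩ : x ∈ S := (QuotientAddGroup.eq_zero_iff x).1 (ConcreteCategory.congr_hom h x)
  exact ⟨colimit.ι (M ⋙ forget AddCommGrpCat.{v}) i a,
    (ConcreteCategory.congr_hom (colimit.ι_post M (forget AddCommGrpCat.{v}) i) a).trans ha⟩

theorem component_isFiltered {I : Type u} [Category.{v} I]
    (h1 : ∀ ⦃w x y : I⦄ (a : w ⟶ x) (b : w ⟶ y), ∃ (z : I) (c : x ⟶ z) (d : y ⟶ z), a ≫ c = b ≫ d)
    (h2 : ∀ ⦃x y : I⦄ (a b : x ⟶ y), ∃ (z : I) (c : y ⟶ z), a ≫ c = b ≫ c) (j : ConnectedComponents I) :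
    IsFiltered j.Component := by
  have hz : ∀ {x y : I}, Zigzag x y → ∃ z, Nonempty (x ⟶ z) ∧ Nonempty (y ⟶ z) := by
    intro x y h
    induction h with
    | refl => exact ⟨x, ⟨𝟙 _⟩, ⟨𝟙 _⟩⟩
    | tail _ hzag ih =>
      obtain ⟨z, ⟨f⟩, ⟨g⟩⟩ := ih
      rcases hzag with he | he <;> obtain ⟨e⟩ := he
      · obtain ⟨w, c, d, -⟩ := h1 g e
        exact ⟨w, ⟨f ≫ c⟩, ⟨d⟩⟩
      · exact ⟨z, ⟨f⟩, ⟨e ≫ g⟩⟩
  have hmem : ∀ {x z : I} (_ : x ⟶ z), j.objectProperty x → j.objectProperty z := fun {x z} f hx =>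
    (Quotient.sound (Zigzag.of_inv f) : (Quotient.mk'' z : ConnectedComponents I) = Quotient.mk'' x).trans hx
  haveI : IsFilteredOrEmpty j.Component :=
    { cocone_objs := fun X Y => by
        obtain ⟨z, ⟨f⟩, ⟨g⟩⟩ := hz (Quotient.exact (X.2.trans Y.2.symm) : Zigzag X.1 Y.1)
        exact ⟨⟨z, hmem f X.2⟩, ObjectProperty.homMk f, ObjectProperty.homMk g, trivial⟩
      cocone_maps := fun X Y f g => by
        obtain ⟨z, c, hc⟩ := h2 f.hom g.hom
        exact ⟨⟨z, hmem c Y.2⟩, ObjectProperty.homMk c, by ext; exact hc⟩ }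
  exact { }

end Colim

section Loc
variable {C : Type u} [Category.{v} C] {D : Type u'} [Category.{v'} D] (W : MorphismProperty C) (L : C ⥤ D)
  [L.IsLocalization W]

theorem exists_common_denominator [W.HasLeftCalculusOfFractions] {ι : Type w} [Finite ι] (X : ι → C) (Y : C)
    (g : ∀ i, L.obj (X i) ⟶ L.obj Y) :
    ∃ (Y' : C) (s : Y ⟶ Y') (_ : W s) (f : ∀ i, X i ⟶ Y'), ∀ i, g i ≫ L.map s = L.map (f i) := by
  classical
  have : Fintype ι := Fintype.ofFinite ι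
  have key : ∀ t : Finset ι, ∃ (Y' : C) (s : Y ⟶ Y') (_ : W s),
      ∀ i ∈ t, ∃ f : X i ⟶ Y', g i ≫ L.map s = L.map f := by
    intro t
    induction t using Finset.induction_on with
    | empty => exact ⟨Y, 𝟙 _, W.id_mem _, by simp⟩
    | insert i t _ ih =>
      obtain ⟨Y', s, hs, h⟩ := ih
      obtain ⟨φ, hφ⟩ := Localization.exists_leftFraction L W (g i ≫ L.map s)
      refine ⟨φ.Y', s ≫ φ.s, W.comp_mem _ _ hs φ.hs, fun k hk => ?_⟩
      rw [L.map_comp, ← Category.assoc]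
      rcases Finset.mem_insert.1 hk with rfl | hk
      · exact ⟨φ.f, by rw [hφ, LeftFraction.map_comp_map_s]⟩
      · obtain ⟨f, hf⟩ := h k hk
        exact ⟨f ≫ φ.s, by rw [hf, L.map_comp]⟩
  obtain ⟨Y', s, hs, h⟩ := key Finset.univ
  choose f hf using fun i => h i (Finset.mem_univ i)
  exact ⟨Y', s, hs, f, hf⟩

theorem isIso_map_iff_exists [W.HasLeftCalculusOfFractions] [W.HasRightCalculusOfFractions] {X Y : C} (f : X ⟶ Y) :
    IsIso (L.map f) ↔ ∃ (Z Z' : C) (g : Y ⟶ Z) (h : Z' ⟶ X), W (f ≫ g) ∧ W (h ≫ f) := by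
  constructor
  · intro hf
    obtain ⟨φ, hφ⟩ := Localization.exists_leftFraction L W (inv (L.map f))
    obtain ⟨ψ, hψ⟩ := Localization.exists_rightFraction L W (inv (L.map f))
    have h1 : L.map φ.s = L.map (f ≫ φ.f) := by
      rw [L.map_comp, ← φ.map_comp_map_s L (Localization.inverts L W), ← hφ, IsIso.hom_inv_id_assoc]
    have h2 : L.map ψ.s = L.map (ψ.f ≫ f) := by
      rw [L.map_comp, ← ψ.map_s_comp_map L (Localization.inverts L W), ← hψ, Category.assoc,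
        IsIso.inv_hom_id, Category.comp_id]
    obtain ⟨Z, t, ht, e₁⟩ := (MorphismProperty.map_eq_iff_postcomp L W _ _).1 h1
    obtain ⟨Z', t', ht', e₂⟩ := (MorphismProperty.map_eq_iff_precomp L W _ _).1 h2
    refine ⟨Z, Z', φ.f ≫ t, t' ≫ ψ.f, ?_, ?_⟩
    · rw [← Category.assoc, ← e₁]
      exact W.comp_mem _ _ φ.hs ht
    · rw [Category.assoc, ← e₂]
      exact W.comp_mem _ _ ht' ψ.hs
  · rintro ⟨Z, Z', g, h, hg, hh⟩
    have := Localization.inverts L W _ hg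
    have := Localization.inverts L W _ hh
    rw [L.map_comp] at *
    haveI : IsSplitMono (L.map f) := ⟨⟨⟨L.map g ≫ inv (L.map f ≫ L.map g),
      by rw [← Category.assoc, IsIso.hom_inv_id]⟩⟩⟩
    haveI : IsSplitEpi (L.map f) := ⟨⟨⟨inv (L.map h ≫ L.map f) ≫ L.map h,
      by rw [Category.assoc, IsIso.inv_hom_id]⟩⟩⟩
    exact isIso_of_mono_of_isSplitEpi (L.map f)

theorem exists_square_of_map_comm [W.HasLeftCalculusOfFractions] {X Y X' Y' : C} (f : X ⟶ Y) (f' : X' ⟶ Y')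
    (a : L.obj X ⟶ L.obj X') (b : L.obj Y ⟶ L.obj Y') (w : L.map f ≫ b = a ≫ L.map f') :
    ∃ (X'' Y'' : C) (f'' : X'' ⟶ Y'') (g : X ⟶ X'') (h : Y ⟶ Y'') (s : X' ⟶ X'') (t : Y' ⟶ Y''),
      W s ∧ W t ∧ f ≫ h = g ≫ f'' ∧ f' ≫ t = s ≫ f'' ∧ L.map g = a ≫ L.map s ∧ L.map h = b ≫ L.map t := by
  obtain ⟨α, hα⟩ := Localization.exists_leftFraction L W a
  obtain ⟨β, hβ⟩ := (RightFraction.mk α.s α.hs f').exists_leftFraction
  obtain ⟨γ, hγ⟩ := Localization.exists_leftFraction L W (b ≫ L.map β.s)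
  have ha : a ≫ L.map α.s = L.map α.f := by rw [hα, LeftFraction.map_comp_map_s]
  have hb : b ≫ L.map β.s ≫ L.map γ.s = L.map γ.f := by
    rw [← Category.assoc, hγ, LeftFraction.map_comp_map_s]
  have hβ' : f' ≫ β.s = α.s ≫ β.f := hβ
  have key : L.map (f ≫ γ.f) = L.map (α.f ≫ β.f ≫ γ.s) := by
    rw [L.map_comp, ← hb, reassoc_of% w, L.map_comp, L.map_comp, ← ha, Category.assoc,
      ← Functor.map_comp_assoc, ← Functor.map_comp_assoc, hβ']
  obtain ⟨Z, u, hu, e⟩ := (MorphismProperty.map_eq_iff_postcomp L W _ _).1 key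
  refine ⟨α.Y', Z, β.f ≫ γ.s ≫ u, α.f, γ.f ≫ u, α.s, β.s ≫ γ.s ≫ u, α.hs,
    W.comp_mem _ _ β.hs (W.comp_mem _ _ γ.hs hu), by simpa using e, ?_, ha.symm, ?_⟩
  · rw [← Category.assoc, hβ', Category.assoc]
  · rw [L.map_comp, ← hb, L.map_comp, L.map_comp]
    simp only [Category.assoc]

theorem isZero_obj_iff_exists [Preadditive C] [HasZeroObject C] [W.HasLeftCalculusOfFractions]
    [W.HasRightCalculusOfFractions] (X : C) :
    (IsZero (L.obj X) ↔ ∃ Y : C, W (0 : X ⟶ Y)) ∧ (IsZero (L.obj X) ↔ ∃ Z : C, W (0 : Z ⟶ X)) := by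
  have := Localization.essSurj L W
  obtain ⟨O, hO⟩ : ∃ O : C, IsZero O := HasZeroObject.zero
  have hO1 : ∀ d : D, ∀ u v : L.obj O ⟶ d, u = v := by
    intro d u v
    rw [← cancel_mono (L.objObjPreimageIso d).inv]
    obtain ⟨φ, h₁⟩ := Localization.exists_leftFraction L W (u ≫ (L.objObjPreimageIso d).inv)
    obtain ⟨ψ, h₂⟩ := Localization.exists_leftFraction L W (v ≫ (L.objObjPreimageIso d).inv)
    have key : ∀ ξ : W.LeftFraction O (L.objPreimage d), ξ.map L (Localization.inverts L W) = L.map 0 := fun ξ => by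
      have := Localization.inverts L W _ ξ.hs
      rw [← cancel_mono (L.map ξ.s), LeftFraction.map_comp_map_s, ← L.map_comp]
      exact congrArg L.map (hO.eq_of_src _ _)
    rw [h₁, h₂, key, key]
  have hO2 : ∀ d : D, ∀ u v : d ⟶ L.obj O, u = v := by
    intro d u v
    rw [← cancel_epi (L.objObjPreimageIso d).hom]
    obtain ⟨φ, h₁⟩ := Localization.exists_rightFraction L W ((L.objObjPreimageIso d).hom ≫ u)
    obtain ⟨ψ, h₂⟩ := Localization.exists_rightFraction L W ((L.objObjPreimageIso d).hom ≫ v)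
    have key : ∀ ξ : W.RightFraction (L.objPreimage d) O, ξ.map L (Localization.inverts L W) = L.map 0 := fun ξ => by
      have := Localization.inverts L W _ ξ.hs
      rw [← cancel_epi (L.map ξ.s), RightFraction.map_s_comp_map, ← L.map_comp]
      exact congrArg L.map (hO.eq_of_tgt _ _)
    rw [h₁, h₂, key, key]
  have hz : L.map (𝟙 X) = L.map (0 : X ⟶ X) → IsZero (L.obj X) := by
    intro h
    have hf : L.map (0 : X ⟶ O) ≫ L.map (0 : O ⟶ X) = 𝟙 _ := by rw [← L.map_comp, zero_comp, ← h, L.map_id]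
    refine ⟨fun d => ⟨⟨⟨L.map (0 : X ⟶ O) ≫ (L.map (0 : O ⟶ L.objPreimage d) ≫ (L.objObjPreimageIso d).hom)⟩,
      fun u => ?_⟩⟩, fun d => ⟨⟨⟨((L.objObjPreimageIso d).inv ≫ L.map (0 : L.objPreimage d ⟶ O)) ≫ L.map (0 : O ⟶ X)⟩,
      fun u => ?_⟩⟩⟩
    · show u = _
      exact (hf ▸ (Category.id_comp u).symm : u = (L.map (0 : X ⟶ O) ≫ L.map (0 : O ⟶ X)) ≫ u).trans
        ((Category.assoc _ _ _).trans (congrArg (L.map (0 : X ⟶ O) ≫ ·) (hO1 d _ _)))
    · show u = _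
      exact (hf ▸ (Category.comp_id u).symm : u = u ≫ L.map (0 : X ⟶ O) ≫ L.map (0 : O ⟶ X)).trans
        ((Category.assoc _ _ _).symm.trans (congrArg (· ≫ L.map (0 : O ⟶ X)) (hO2 d _ _)))
  constructor <;> constructor
  · intro h
    obtain ⟨Y, t, ht, e⟩ := (MorphismProperty.map_eq_iff_postcomp L W _ _).1
      (h.eq_of_src (L.map (0 : X ⟶ X)) (L.map (𝟙 X)))
    rw [zero_comp, Category.id_comp] at e
    exact ⟨Y, e ▸ ht⟩
  · rintro ⟨Y, hY⟩
    exact hz ((MorphismProperty.map_eq_iff_postcomp L W _ _).2 ⟨Y, 0, hY, by simp⟩)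
  · intro h
    obtain ⟨Z, t, ht, e⟩ := (MorphismProperty.map_eq_iff_precomp L W _ _).1
      (h.eq_of_src (L.map (0 : X ⟶ X)) (L.map (𝟙 X)))
    rw [comp_zero, Category.comp_id] at e
    exact ⟨Z, e ▸ ht⟩
  · rintro ⟨Z, hZ⟩
    exact hz ((MorphismProperty.map_eq_iff_precomp L W _ _).2 ⟨Z, 0, hZ, by simp⟩)

end Loc

end Groth.Agent.H4Easy
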