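import Mathlib
import Groth.Agent.H4Easy.Batch52

/-! A localisation functor with left calculus of fractions preserves finite colimits. -/

set_option autoImplicit false
set_option linter.style.haveILetI false

open CategoryTheory CategoryTheory.Limits MorphismProperty Groth.Agent.H4Easy

universe w v v' u u'

namespace Groth.Agent.H4Easy


section
variable {C : Type u} [Category.{v} C] {D : Type u'} [Category.{v'} D] (W : MorphismProperty C) (L : C ⥤ D)
  [L.IsLocalization W] [W.HasLeftCalculusOfFractions]

theorem exists_post_eq {ι : Type w} [Finite ι] {Y : C} (A : ι → C) (a b : ∀ i, A i ⟶ Y)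
    (h : ∀ i, L.map (a i) = L.map (b i)) : ∃ (Z : C) (t : Y ⟶ Z), W t ∧ ∀ i, a i ≫ t = b i ≫ t := by
  classical
  have : Fintype ι := Fintype.ofFinite ι
  have key : ∀ s : Finset ι, ∃ (Z : C) (t : Y ⟶ Z), W t ∧ ∀ i ∈ s, a i ≫ t = b i ≫ t := by
    intro s
    induction s using Finset.induction_on with
    | empty => exact ⟨Y, 𝟙 _, W.id_mem _, by simp⟩
    | insert i s _ ih =>
      obtain ⟨Z, t, ht, e⟩ := ih
      obtain ⟨Z', t', ht', e'⟩ := (MorphismProperty.map_eq_iff_postcomp L W (a i ≫ t) (b i ≫ t)).1
        (by rw [L.map_comp, L.map_comp, h i])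
      refine ⟨Z', t ≫ t', W.comp_mem _ _ ht ht', fun k hk => ?_⟩
      rcases Finset.mem_insert.1 hk with rfl | hk
      · simpa using e'
      · rw [← Category.assoc, ← Category.assoc, e k hk]
  obtain ⟨Z, t, ht, e⟩ := key Finset.univ
  exact ⟨Z, t, ht, fun i => e i (Finset.mem_univ i)⟩

include W in
theorem preservesFiniteColimits_localization : PreservesFiniteColimits L := by
  refine ⟨fun J _ _ => ⟨fun {K} => ⟨fun {c} hc => ?_⟩⟩⟩
  have := Localization.essSurj L W
  have huniq : ∀ (d : D) (u v : L.obj c.pt ⟶ d),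
      (∀ j, L.map (c.ι.app j) ≫ u = L.map (c.ι.app j) ≫ v) → u = v := by
    intro d u v h
    let e := L.objObjPreimageIso d
    rw [← cancel_mono e.inv]
    obtain ⟨Y', s, hs, f, hf⟩ := exists_common_denominator W L (fun _ : Bool => c.pt) (L.objPreimage d)
      (fun x => bif x then u ≫ e.inv else v ≫ e.inv)
    have := Localization.inverts L W _ hs
    have h1 : (u ≫ e.inv) ≫ L.map s = L.map (f true) := hf true
    have h2 : (v ≫ e.inv) ≫ L.map s = L.map (f false) := hf false
    obtain ⟨Z, t, ht, e'⟩ := exists_post_eq W L (fun j => K.obj j) (fun j => c.ι.app j ≫ f true)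
      (fun j => c.ι.app j ≫ f false) (fun j => by
        rw [L.map_comp, L.map_comp, ← h1, ← h2, Category.assoc, Category.assoc, reassoc_of% (h j)])
    have h3 : f true ≫ t = f false ≫ t := hc.hom_ext fun j => by simpa using e' j
    have := Localization.inverts L W _ ht
    rw [← cancel_mono (L.map s), ← cancel_mono (L.map t), h1, h2, ← L.map_comp, ← L.map_comp, h3]
  have hex : ∀ s : Cocone (K ⋙ L), ∃ m : L.obj c.pt ⟶ s.pt, ∀ j, L.map (c.ι.app j) ≫ m = s.ι.app j := by
    intro s
    let e := L.objObjPreimageIso s.pt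
    obtain ⟨Y', σ, hσ, f, hf⟩ := exists_common_denominator W L K.obj (L.objPreimage s.pt)
      (fun j => s.ι.app j ≫ e.inv)
    have := Localization.inverts L W _ hσ
    obtain ⟨Z, t, ht, e'⟩ := exists_post_eq W L (fun q : Σ i j : J, (i ⟶ j) => K.obj q.1)
      (fun q => K.map q.2.2 ≫ f q.2.1) (fun q => f q.1) (fun q => by
        have hn : L.map (K.map q.2.2) ≫ s.ι.app q.2.1 = s.ι.app q.1 := s.w q.2.2
        rw [L.map_comp, ← hf, ← hf, ← hn, Category.assoc, Category.assoc, Category.assoc])
    have := Localization.inverts L W _ ht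
    let κ : Cocone K :=
      { pt := Z
        ι := { app := fun j => f j ≫ t
               naturality := fun i j u => by simpa using e' ⟨i, j, u⟩ } }
    refine ⟨L.map (hc.desc κ) ≫ inv (L.map t) ≫ inv (L.map σ) ≫ e.hom, fun j => ?_⟩
    rw [← Functor.map_comp_assoc, hc.fac, show κ.ι.app j = f j ≫ t from rfl, L.map_comp, Category.assoc,
      IsIso.hom_inv_id_assoc, ← hf, Category.assoc, Category.assoc, IsIso.hom_inv_id_assoc, e.inv_hom_id]
    exact Category.comp_id _
  exact ⟨{
    desc := fun s => (hex s).choose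
    fac := fun s j => (hex s).choose_spec j
    uniq := fun s m hm => huniq _ _ _ fun j => (hm j).trans ((hex s).choose_spec j).symm }⟩

end

end Groth.Agent.H4Easy
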