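import Mathlib

/-! Idempotent completeness, invertible objects, snake lemma pieces, an identity of symmetric functions. -/

set_option autoImplicit false
set_option linter.style.haveILetI false

open CategoryTheory CategoryTheory.Limits MonoidalCategory

universe w v u

namespace Groth.Agent.H4Easy


section
variable {D : Type u} [Category.{v} D] [Preadditive D]

theorem isIdempotentComplete_of_splitEpi_hasKernel [HasCountableProducts D]
    (hk : ∀ ⦃X Y : D⦄ (f : X ⟶ Y), IsSplitEpi f → HasKernel f) : IsIdempotentComplete D := by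
  refine ⟨fun X e he => ?_⟩
  let P := ∏ᶜ fun _ : ℕ => X
  let π : ∀ n : ℕ, P ⟶ X := fun n => Pi.π _ n
  let q : X ⟶ X := 𝟙 X - e
  have hee : ∀ {Z : D} (z : Z ⟶ X), (z ≫ e) ≫ e = z ≫ e := fun z => by rw [Category.assoc, he]
  have hqe : ∀ {Z : D} (z : Z ⟶ X), (z ≫ q) ≫ e = 0 := fun z => by simp [q, Category.assoc, he]
  have heq : ∀ {Z : D} (z : Z ⟶ X), (z ≫ e) ≫ q = 0 := fun z => by simp [q, Category.assoc, he]
  have hqq : ∀ {Z : D} (z : Z ⟶ X), (z ≫ q) ≫ q = z ≫ q := fun z => by simp [q, Category.assoc, he]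
  let h : P ⟶ P := Pi.lift fun n => π (n + 1) ≫ e + π n ≫ q
  let s : P ⟶ P := Pi.lift fun n => Nat.casesOn n (π 0 ≫ q) fun m => π (m + 1) ≫ q + π m ≫ e
  have hh : ∀ n, h ≫ π n = π (n + 1) ≫ e + π n ≫ q := fun n => Pi.lift_π _ _
  have hs0 : s ≫ π 0 = π 0 ≫ q := Pi.lift_π _ _
  have hs : ∀ m, s ≫ π (m + 1) = π (m + 1) ≫ q + π m ≫ e := fun m => Pi.lift_π _ _
  have hsh : s ≫ h = 𝟙 P := by
    refine Pi.hom_ext _ _ fun n => ?_
    show (s ≫ h) ≫ π n = 𝟙 P ≫ π n
    rw [Category.assoc, hh, Preadditive.comp_add, ← Category.assoc, ← Category.assoc, hs n, Category.id_comp]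
    cases n with
    | zero =>
      rw [hs0, Preadditive.add_comp, hqe, hee, hqq, zero_add, ← Preadditive.comp_add]
      simp [q]
    | succ m =>
      rw [hs m, Preadditive.add_comp, Preadditive.add_comp, hqe, hee, hqq, heq, zero_add, add_zero,
        ← Preadditive.comp_add]
      simp [q]
  haveI := hk h ⟨⟨⟨s, hsh⟩⟩⟩
  let K := kernel h
  let ι : K ⟶ P := kernel.ι h
  have hK : ∀ n, ι ≫ π (n + 1) ≫ e + ι ≫ π n ≫ q = 0 := fun n => by
    rw [← Preadditive.comp_add, ← hh, ← Category.assoc, kernel.condition, zero_comp]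
  have hKe : ∀ n, (ι ≫ π (n + 1)) ≫ e = 0 := fun n => by
    have := congrArg (· ≫ e) (hK n)
    simp only [Preadditive.add_comp, zero_comp] at this
    rwa [← Category.assoc ι, hee, ← Category.assoc ι (π n), hqe, add_zero] at this
  have hKq : ∀ n, (ι ≫ π n) ≫ q = 0 := fun n => by
    have := hK n
    rwa [← Category.assoc, hKe, zero_add, ← Category.assoc] at this
  have hKn : ∀ n, ι ≫ π (n + 1) = 0 := fun n => by
    rw [show ι ≫ π (n + 1) = (ι ≫ π (n + 1)) ≫ e + (ι ≫ π (n + 1)) ≫ q by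
      rw [← Preadditive.comp_add]; simp [q], hKe, hKq, add_zero]
  let j : X ⟶ P := Pi.lift fun n => Nat.casesOn n e fun _ => 0
  have hj0 : j ≫ π 0 = e := Pi.lift_π _ _
  have hjn : ∀ n, j ≫ π (n + 1) = 0 := fun n => Pi.lift_π _ _
  have hjh : j ≫ h = 0 := by
    refine Pi.hom_ext _ _ fun n => ?_
    show (j ≫ h) ≫ π n = 0 ≫ π n
    rw [Category.assoc, hh, Preadditive.comp_add, ← Category.assoc, ← Category.assoc, hjn, zero_comp, zero_comp,
      zero_add]
    cases n with
    | zero => rw [hj0]; simp [q, he]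
    | succ m => rw [hjn, zero_comp]
  refine ⟨K, ι ≫ π 0, kernel.lift h j hjh, ?_, ?_⟩
  · rw [← cancel_mono (kernel.ι h), Category.assoc, kernel.lift_ι, Category.id_comp]
    refine Pi.hom_ext _ _ fun n => ?_
    show ((ι ≫ π 0) ≫ j) ≫ π n = ι ≫ π n
    rw [Category.assoc]
    cases n with
    | zero =>
      rw [hj0]
      have := hKq 0
      rw [show q = 𝟙 X - e from rfl, Preadditive.comp_sub, Category.comp_id, sub_eq_zero] at this
      exact this.symm
    | succ m => rw [hjn, comp_zero, hKn]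
  · rw [← Category.assoc, kernel.lift_ι, hj0]

theorem isIdempotentComplete_of_splitMono_hasCokernel [HasCountableCoproducts D]
    (hk : ∀ ⦃X Y : D⦄ (f : X ⟶ Y), IsSplitMono f → HasCokernel f) : IsIdempotentComplete D := by
  rw [← Idempotents.isIdempotentComplete_iff_opposite]
  haveI : HasCountableProducts Dᵒᵖ := ⟨fun J _ => by
    haveI : HasColimitsOfShape (Discrete J)ᵒᵖ D := hasColimitsOfShape_of_equivalence (Discrete.opposite J).symm
    exact hasLimitsOfShape_op_of_hasColimitsOfShape⟩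
  refine isIdempotentComplete_of_splitEpi_hasKernel fun X Y f hf => ?_
  obtain ⟨⟨s⟩⟩ := hf
  haveI := hk f.unop ⟨⟨⟨s.section_.unop, Quiver.Hom.op_inj s.id⟩⟩⟩
  exact ⟨⟨⟨_, CokernelCofork.IsColimit.ofπOp (cokernel.π f.unop) (cokernel.condition f.unop)
    (cokernelIsCokernel f.unop)⟩⟩⟩

end

section
variable {C : Type u} [Category.{v} C] [MonoidalCategory C]

theorem tensorLeft_isEquivalence_iff (X : C) :
    (tensorLeft X).IsEquivalence ↔ ∃ X' : C, Nonempty (X ⊗ X' ≅ 𝟙_ C) ∧ Nonempty (X' ⊗ X ≅ 𝟙_ C) := by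
  constructor
  · intro h
    let X' := (tensorLeft X).objPreimage (𝟙_ C)
    let e : X ⊗ X' ≅ 𝟙_ C := (tensorLeft X).objObjPreimageIso (𝟙_ C)
    let e' : X ⊗ (X' ⊗ X) ≅ X ⊗ 𝟙_ C :=
      (α_ X X' X).symm ≪≫ whiskerRightIso e X ≪≫ λ_ X ≪≫ (ρ_ X).symm
    exact ⟨X', ⟨e⟩, ⟨(tensorLeft X).preimageIso e'⟩⟩
  · rintro ⟨X', ⟨e⟩, ⟨e'⟩⟩
    exact (CategoryTheory.Equivalence.mk (tensorLeft X) (tensorLeft X')
      ((leftUnitorNatIso C).symm ≪≫ (curriedTensor C).mapIso e'.symm ≪≫ tensorLeftTensor X' X)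
      ((tensorLeftTensor X X').symm ≪≫ (curriedTensor C).mapIso e ≪≫ leftUnitorNatIso C)).isEquivalence_functor

theorem tensorRight_isEquivalence_iff (X : C) :
    (tensorRight X).IsEquivalence ↔ ∃ X' : C, Nonempty (X ⊗ X' ≅ 𝟙_ C) ∧ Nonempty (X' ⊗ X ≅ 𝟙_ C) := by
  constructor
  · intro h
    let X' := (tensorRight X).objPreimage (𝟙_ C)
    let e : X' ⊗ X ≅ 𝟙_ C := (tensorRight X).objObjPreimageIso (𝟙_ C)
    let e' : (X ⊗ X') ⊗ X ≅ 𝟙_ C ⊗ X :=
      α_ X X' X ≪≫ whiskerLeftIso X e ≪≫ ρ_ X ≪≫ (λ_ X).symm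
    exact ⟨X', ⟨(tensorRight X).preimageIso e'⟩, ⟨e⟩⟩
  · rintro ⟨X', ⟨e⟩, ⟨e'⟩⟩
    exact (CategoryTheory.Equivalence.mk (tensorRight X) (tensorRight X')
      ((rightUnitorNatIso C).symm ≪≫ (curriedTensor C).flip.mapIso e.symm ≪≫ tensorRightTensor X X')
      ((tensorRightTensor X' X).symm ≪≫ (curriedTensor C).flip.mapIso e' ≪≫
        rightUnitorNatIso C)).isEquivalence_functor

end

section
variable {A : Type u} [Category.{v} A] [Abelian A] {x y z u' v' w' : A} (f : x ⟶ y) (g : y ⟶ z) (k : u' ⟶ v')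
  (l : v' ⟶ w') (α : x ⟶ u') (β : y ⟶ v') (γ : z ⟶ w') (h₁ : α ≫ k = f ≫ β) (h₂ : β ≫ l = g ≫ γ)

include h₁ in
theorem kernel_map_exact (hfg : f ≫ g = 0) (hex : (ShortComplex.mk f g hfg).Exact) [Mono k] :
    ∃ hc : kernel.map α β f k h₁ ≫ kernel.map β γ g l h₂ = 0, (ShortComplex.mk _ _ hc).Exact := by
  refine ⟨by ext; simp [hfg], ?_⟩
  rw [ShortComplex.exact_iff_exact_up_to_refinements]
  intro T t ht
  dsimp at ht
  have ht' : (t ≫ kernel.ι β) ≫ g = 0 := by
    simpa using congrArg (· ≫ kernel.ι γ) ht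
  obtain ⟨T', π, hπ, t₁, e⟩ := (ShortComplex.exact_iff_exact_up_to_refinements _).1 hex (t ≫ kernel.ι β) ht'
  dsimp at e
  have hα : t₁ ≫ α = 0 := by
    rw [← cancel_mono k, zero_comp, Category.assoc, h₁, ← Category.assoc, ← e]
    simp
  refine ⟨T', π, hπ, kernel.lift α t₁ hα, ?_⟩
  rw [← cancel_mono (kernel.ι β)]
  simp [e]

include h₂ in
theorem cokernel_map_exact (hkl : k ≫ l = 0) (hex : (ShortComplex.mk k l hkl).Exact) [Epi g] :
    ∃ hc : cokernel.map α β f k h₁ ≫ cokernel.map β γ g l h₂ = 0, (ShortComplex.mk _ _ hc).Exact := by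
  refine ⟨by ext; simp [reassoc_of% hkl], ?_⟩
  rw [ShortComplex.exact_iff_exact_up_to_refinements]
  intro T t ht
  dsimp at ht
  obtain ⟨T₁, π₁, hπ₁, v, hv⟩ := surjective_up_to_refinements_of_epi (cokernel.π β) t
  have hvl : (v ≫ l) ≫ cokernel.π γ = 0 := by
    have := congrArg (π₁ ≫ ·) ht
    rw [← Category.assoc, hv] at this
    simpa using this
  obtain ⟨T₂, π₂, hπ₂, z', hz⟩ := (ShortComplex.exact_iff_exact_up_to_refinements _).1
    (ShortComplex.exact_of_g_is_cokernel (ShortComplex.mk γ (cokernel.π γ) (cokernel.condition γ))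
      (cokernelIsCokernel γ)) (v ≫ l) hvl
  dsimp at hz
  obtain ⟨T₃, π₃, hπ₃, y', hy⟩ := surjective_up_to_refinements_of_epi g z'
  have hd : ((π₃ ≫ π₂ ≫ v) - y' ≫ β) ≫ l = 0 := by
    rw [Preadditive.sub_comp, Category.assoc, Category.assoc, Category.assoc, hz, h₂, ← Category.assoc π₃,
      hy, Category.assoc, sub_self]
  obtain ⟨T₄, π₄, hπ₄, u₁, hu⟩ := (ShortComplex.exact_iff_exact_up_to_refinements _).1 hex _ hd
  dsimp at hu
  refine ⟨T₄, π₄ ≫ π₃ ≫ π₂ ≫ π₁, inferInstance, u₁ ≫ cokernel.π α, ?_⟩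
  dsimp
  rw [Category.assoc, Category.assoc, Category.assoc, Category.assoc, cokernel.π_desc, hv,
    ← Category.assoc u₁, ← hu]
  simp

end

section
theorem prod_add_eq_sum_esymm (A : Type u) [CommRing A] (k : ℕ) (hk : 2 ≤ k) (τ : A) (h : ℕ → A)
    (hrel : ∀ i, i < k → h i ^ 2 + τ * h i = 0) :
    ∏ i ∈ Finset.range (k - 1), (h i + h (i + 1) + τ) =
      ∑ j ∈ Finset.range k, τ ^ (k - 1 - j) * (((Finset.range k).val.map h).esymm j) := by
  obtain ⟨m, rfl⟩ : ∃ m, k = m + 1 := ⟨k - 1, by omega⟩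
  clear hk
  have key : ∀ n, n ≤ m →
      (∏ i ∈ Finset.range n, (h i + h (i + 1) + τ) =
        ∑ j ∈ Finset.range (n + 1), τ ^ (n - j) * (((Finset.range (n + 1)).val.map h).esymm j)) ∧
      h n * ∏ i ∈ Finset.range n, (h i + h (i + 1) + τ) = ((Finset.range (n + 1)).val.map h).prod + 0 := by
    intro n
    induction n with
    | zero => intro _; simp [Multiset.esymm]
    | succ n ih =>
      intro hn
      obtain ⟨ih₁, ih₂⟩ := ih (by omega)
      have hmap : (Finset.range (n + 1 + 1)).val.map h = h (n + 1) ::ₘ (Finset.range (n + 1)).val.map h := by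
        simp [Finset.range_val, Multiset.range_succ]
      have hcard : ((Finset.range (n + 1)).val.map h).card = n + 1 := by simp
      have hself : ∀ s : Multiset A, s.esymm s.card = s.prod := fun s => by simp [Multiset.esymm]
      have hz0 : ∀ s : Multiset A, s.esymm 0 = 1 := fun s => by simp [Multiset.esymm]
      have htop : ((Finset.range (n + 1)).val.map h).esymm (n + 1) = ((Finset.range (n + 1)).val.map h).prod :=
        (congrArg _ hcard).symm.trans (hself _)
      rw [Finset.prod_range_succ, hmap]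
      set P := ∏ i ∈ Finset.range n, (h i + h (i + 1) + τ)
      set s := (Finset.range (n + 1)).val.map h
      constructor
      · rw [Finset.sum_range_succ']
        have hsucc : ∀ j, (h (n + 1) ::ₘ s).esymm (j + 1) = s.esymm (j + 1) + h (n + 1) * s.esymm j := fun j => by
          simp [Multiset.esymm, Multiset.powersetCard_cons, Multiset.map_map, Multiset.sum_map_mul_left]
        simp only [hsucc, mul_add, Finset.sum_add_distrib]
        have e1 : ∑ j ∈ Finset.range (n + 1), τ ^ (n + 1 - (j + 1)) * s.esymm (j + 1) + τ ^ (n + 1 - 0) * 1 =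
            τ * P + s.prod := by
          have := Finset.sum_range_succ' (fun j => τ ^ (n + 1 - j) * s.esymm j) (n + 1)
          rw [hz0] at this
          rw [← this, Finset.sum_range_succ, htop, ih₁, Finset.mul_sum, Nat.sub_self, pow_zero, one_mul]
          congr 1
          refine Finset.sum_congr rfl fun j hj => ?_
          rw [Nat.succ_sub (Nat.lt_succ_iff.1 (Finset.mem_range.1 hj)), pow_succ]
          ring
        have e2 : ∑ j ∈ Finset.range (n + 1), τ ^ (n + 1 - (j + 1)) * (h (n + 1) * s.esymm j) = h (n + 1) * P := by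
          rw [ih₁, Finset.mul_sum]
          refine Finset.sum_congr rfl fun j _ => ?_
          rw [Nat.succ_sub_succ]
          ring
        rw [hz0, e2]
        linear_combination ih₂ - e1
      · rw [Multiset.prod_cons]
        linear_combination P * (hrel (n + 1) (by omega)) + h (n + 1) * ih₂
  rw [show m + 1 - 1 = m from Nat.add_sub_cancel m 1]
  exact (key m le_rfl).1

end

end Groth.Agent.H4Easy
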