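import Mathlib
import Groth.Agent.H4Easy.Batch52

/-! Triangulated categories: idempotents, kernels, Verdier quotients. -/

set_option autoImplicit false
set_option linter.style.haveILetI false

open CategoryTheory CategoryTheory.Limits CategoryTheory.Pretriangulated Groth.Agent.H4Easy
open scoped ZeroObject

universe w v v' u u'

namespace Groth.Agent.H4Easy


section
variable {D : Type u} [Category.{v} D] [Preadditive D] [HasZeroObject D] [HasShift D ℤ]
  [∀ n : ℤ, (shiftFunctor D n).Additive] [Pretriangulated D]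

theorem exists_idempotent_middle (T : Triangle D) (hT : T ∈ distinguishedTriangles) (a : T.obj₁ ⟶ T.obj₁)
    (c : T.obj₃ ⟶ T.obj₃) (ha : a ≫ a = a) (hc : c ≫ c = c)
    (comm : T.mor₃ ≫ (shiftFunctor D (1 : ℤ)).map a = c ≫ T.mor₃) :
    ∃ b : T.obj₂ ⟶ T.obj₂, b ≫ b = b ∧ T.mor₁ ≫ b = a ≫ T.mor₁ ∧ T.mor₂ ≫ c = b ≫ T.mor₂ := by
  obtain ⟨x, hx₁, hx₂⟩ := complete_distinguished_triangle_morphism₂ T T hT hT a c comm
  let h := x ≫ x - x
  have h₁ : T.mor₁ ≫ h = 0 := by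
    simp only [h, Preadditive.comp_sub]
    rw [reassoc_of% hx₁, hx₁, reassoc_of% ha, sub_self]
  have h₂ : h ≫ T.mor₂ = 0 := by
    simp only [h, Preadditive.sub_comp, Category.assoc]
    rw [← hx₂, ← reassoc_of% hx₂, hc, sub_self]
  obtain ⟨w, hw⟩ := T.yoneda_exact₂ hT h h₁
  have hh : h ≫ h = 0 := by
    conv_lhs => arg 2; rw [hw]
    rw [reassoc_of% h₂, zero_comp]
  refine ⟨x + h - (x ≫ h) - (x ≫ h), ?_, ?_, ?_⟩
  · let X : End T.obj₂ := x
    have hh' : (X * X - X) * (X * X - X) = 0 := hh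
    have key : (X + (X * X - X) - (X * X - X) * X - (X * X - X) * X) * (X + (X * X - X) - (X * X - X) * X - (X * X - X) * X) -
        (X + (X * X - X) - (X * X - X) * X - (X * X - X) * X) =
        ((X * X - X) * (X * X - X)) * (4 * (X * X) - 4 * X - 3) := by noncomm_ring
    rw [hh', zero_mul, sub_eq_zero] at key
    exact key
  · simp only [Preadditive.comp_add, Preadditive.comp_sub]
    rw [reassoc_of% hx₁, h₁, hx₁]
    simp
  · simp only [Preadditive.add_comp, Preadditive.sub_comp, Category.assoc]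
    rw [h₂, hx₂]
    simp

theorem hasKernel_iff_decomposition {X Y : D} (f : X ⟶ Y) :
    HasKernel f ↔ ∃ (K Z Q : D) (e₁ : X ≅ K ⊞ Z) (e₂ : Y ≅ Z ⊞ Q),
      f = e₁.hom ≫ biprod.snd ≫ biprod.inl ≫ e₂.inv := by
  constructor
  · intro hk
    obtain ⟨Z, g, h, hT⟩ := distinguished_cocone_triangle (kernel.ι f)
    have h0 : (Triangle.mk (kernel.ι f) g h).mor₃ = 0 := Triangle.mor₃_eq_zero_of_mono₁ _ hT (inferInstanceAs (Mono (kernel.ι f)))
    obtain ⟨e, he₁, he₂⟩ := exists_iso_binaryBiproduct_of_distTriang _ hT h0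
    change X ≅ kernel f ⊞ Z at e
    change kernel.ι f ≫ e.hom = biprod.inl at he₁
    have hin : biprod.inl ≫ e.inv ≫ f = 0 := by
      rw [← Category.assoc, show biprod.inl ≫ e.inv = kernel.ι f by rw [Iso.comp_inv_eq, he₁], kernel.condition]
    let g' : Z ⟶ Y := biprod.inr ≫ e.inv ≫ f
    have hf : f = e.hom ≫ biprod.snd ≫ g' := by
      rw [← cancel_epi e.inv, Iso.inv_hom_id_assoc]
      refine biprod.hom_ext' _ _ ?_ ?_
      · simp [hin]
      · simp [g']
    have hmono : Mono g' := by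
      refine Preadditive.mono_of_cancel_zero _ fun {A} a ha => ?_
      obtain ⟨b, hb⟩ : ∃ b, b ≫ kernel.ι f = a ≫ biprod.inr ≫ e.inv :=
        ⟨kernel.lift f _ (by simpa [g'] using ha), kernel.lift_ι _ _ _⟩
      have := congrArg (fun q => q ≫ e.hom ≫ biprod.snd) hb
      simpa [reassoc_of% he₁] using this.symm
    obtain ⟨Q, q, d, hT'⟩ := distinguished_cocone_triangle g'
    obtain ⟨e', he₁', -⟩ := exists_iso_binaryBiproduct_of_distTriang _ hT'
      (Triangle.mor₃_eq_zero_of_mono₁ _ hT' hmono)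
    change Y ≅ Z ⊞ Q at e'
    change g' ≫ e'.hom = biprod.inl at he₁'
    refine ⟨kernel f, Z, Q, e, e', ?_⟩
    conv_lhs => rw [hf]
    rw [← he₁', Category.assoc, Iso.hom_inv_id, Category.comp_id]
  · rintro ⟨K, Z, Q, e₁, e₂, rfl⟩
    refine ⟨⟨⟨KernelFork.ofι (biprod.inl ≫ e₁.inv) (by simp), KernelFork.IsLimit.ofι _ _
      (fun {A} a _ => a ≫ e₁.hom ≫ biprod.fst) (fun {A} a ha => ?_) (fun {A} a _ b hb => by simp [← hb])⟩⟩⟩
    have h2 : a ≫ e₁.hom ≫ biprod.snd = 0 := by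
      simpa using congrArg (fun q => q ≫ e₂.hom ≫ biprod.fst) ha
    rw [← cancel_mono e₁.hom]
    refine biprod.hom_ext _ _ ?_ ?_ <;> simp [h2]

theorem kernel_isTriangulated {D' : Type u'} [Category.{v'} D'] [Preadditive D'] [HasZeroObject D'] [HasShift D' ℤ]
    [∀ n : ℤ, (shiftFunctor D' n).Additive] [Pretriangulated D'] (F : D ⥤ D') [F.Additive] [F.CommShift ℤ]
    [F.IsTriangulated] :
    (ObjectProperty.IsTriangulated (fun X : D => IsZero (F.obj X))) ∧
      (ObjectProperty.IsClosedUnderIsomorphisms (fun X : D => IsZero (F.obj X))) ∧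
      (∀ X Y : D, IsZero (F.obj (X ⊞ Y)) → IsZero (F.obj X) ∧ IsZero (F.obj Y)) := by
  let P : ObjectProperty D := fun X => IsZero (F.obj X)
  haveI hiso : P.IsClosedUnderIsomorphisms := ⟨fun e h => h.of_iso (F.mapIso e).symm⟩
  haveI : P.IsStableUnderShift ℤ := ⟨fun a => ⟨fun X hX =>
    (Functor.map_isZero (shiftFunctor D' a) hX).of_iso ((F.commShiftIso a).app X)⟩⟩
  haveI : P.IsTriangulatedClosed₂ := .mk' fun T hT h₁ h₃ =>
    Triangle.isZero₂_of_isZero₁₃ _ (F.map_distinguished T hT) h₁ h₃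
  haveI : P.ContainsZero := ⟨⟨0, isZero_zero D, F.map_isZero (isZero_zero D)⟩⟩
  refine ⟨{}, hiso, fun X Y h => ⟨?_, ?_⟩⟩
  · rw [IsZero.iff_id_eq_zero, ← F.map_id, ← biprod.inl_fst (X := X) (Y := Y), F.map_comp,
      h.eq_of_tgt (F.map biprod.inl) 0, zero_comp]
  · rw [IsZero.iff_id_eq_zero, ← F.map_id, ← biprod.inr_snd (X := X) (Y := Y), F.map_comp,
      h.eq_of_tgt (F.map biprod.inr) 0, zero_comp]

theorem homological_bounded_isTriangulated {A : Type u'} [Category.{v'} A] [Abelian A] (H : D ⥤ A) [H.IsHomological]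
    (R : ℤ → ℤ → Prop) (hadd : ∀ N n a, R N n → R (N + a) (n + a))
    (hdir : ∀ N₁ N₂, ∃ N, ∀ n, R N n → R N₁ n ∧ R N₂ n) :
    (ObjectProperty.IsTriangulated (fun X : D => ∃ N : ℤ, ∀ n : ℤ, R N n → IsZero (H.obj ((shiftFunctor D n).obj X)))) ∧
      (ObjectProperty.IsClosedUnderIsomorphisms
        (fun X : D => ∃ N : ℤ, ∀ n : ℤ, R N n → IsZero (H.obj ((shiftFunctor D n).obj X)))) ∧
      (∀ X Y : D, (∃ N : ℤ, ∀ n : ℤ, R N n → IsZero (H.obj ((shiftFunctor D n).obj (X ⊞ Y)))) →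
        (∃ N : ℤ, ∀ n : ℤ, R N n → IsZero (H.obj ((shiftFunctor D n).obj X))) ∧
          (∃ N : ℤ, ∀ n : ℤ, R N n → IsZero (H.obj ((shiftFunctor D n).obj Y)))) := by
  let P : ObjectProperty D := fun X => ∃ N : ℤ, ∀ n : ℤ, R N n → IsZero (H.obj ((shiftFunctor D n).obj X))
  haveI hiso : P.IsClosedUnderIsomorphisms :=
    ⟨fun e ⟨N, hN⟩ => ⟨N, fun n hn => (hN n hn).of_iso (H.mapIso ((shiftFunctor D n).mapIso e.symm))⟩⟩
  haveI : P.IsStableUnderShift ℤ := ⟨fun a => ⟨fun X ⟨N, hN⟩ => ⟨N - a, fun n hn =>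
    (hN (n + a) (by simpa using hadd _ _ a hn)).of_iso
      (H.mapIso ((shiftFunctorAdd' D a n (n + a) (by omega)).app X).symm)⟩⟩⟩
  haveI : P.IsTriangulatedClosed₂ := .mk' fun T hT ⟨N₁, h₁⟩ ⟨N₃, h₃⟩ => by
    obtain ⟨N, hN⟩ := hdir N₁ N₃
    exact ⟨N, fun n hn => (H.map_distinguished_exact _ (Triangle.shift_distinguished T hT n)).isZero_of_both_zeros
      ((h₁ n (hN n hn).1).eq_of_src _ _) ((h₃ n (hN n hn).2).eq_of_tgt _ _)⟩
  haveI : P.ContainsZero := ⟨⟨0, isZero_zero D, 0, fun n _ =>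
    H.map_isZero ((shiftFunctor D n).map_isZero (isZero_zero D))⟩⟩
  refine ⟨{}, hiso, fun X Y ⟨N, hN⟩ => ⟨⟨N, fun n hn => ?_⟩, ⟨N, fun n hn => ?_⟩⟩⟩
  · rw [IsZero.iff_id_eq_zero, ← H.map_id, ← (shiftFunctor D n).map_id, ← biprod.inl_fst (X := X) (Y := Y), Functor.map_comp,
      Functor.map_comp, (hN n hn).eq_of_tgt (H.map ((shiftFunctor D n).map biprod.inl)) 0, zero_comp]
  · rw [IsZero.iff_id_eq_zero, ← H.map_id, ← (shiftFunctor D n).map_id, ← biprod.inr_snd (X := X) (Y := Y), Functor.map_comp,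
      Functor.map_comp, (hN n hn).eq_of_tgt (H.map ((shiftFunctor D n).map biprod.inr)) 0, zero_comp]

theorem forall_triangEnvelope_iff [IsTriangulated D] (E K : D) :
    (∀ (i : ℤ) (f : E ⟶ (shiftFunctor D i).obj K), f = 0) ↔
      ∀ (E' : D), (ObjectProperty.singleton E).triangEnvelope E' → ∀ f : E' ⟶ K, f = 0 := by
  constructor
  · intro h E' hE' f
    let P : ObjectProperty D := fun Y => ∃ i : ℤ, Nonempty (Y ≅ (shiftFunctor D i).obj K)
    haveI : P.IsStableUnderShift ℤ := ⟨fun a => ⟨fun Y ⟨i, ⟨e⟩⟩ =>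
      ⟨i + a, ⟨(shiftFunctor D a).mapIso e ≪≫ ((shiftFunctorAdd D i a).app K).symm⟩⟩⟩⟩
    haveI : P.leftOrthogonal.IsStableUnderRetracts := ⟨fun {X Y} r hY Z g hZ => by
      rw [← Category.id_comp g, ← r.retract, Category.assoc, hY (r.r ≫ g) hZ, comp_zero]⟩
    have hle : (ObjectProperty.singleton E).triangEnvelope ≤ P.leftOrthogonal := by
      rw [ObjectProperty.triangEnvelope_le_iff]
      intro X hX Y g ⟨i, ⟨e⟩⟩
      obtain rfl : E = X := by simpa using hX
      rw [← cancel_mono e.hom, zero_comp]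
      exact h i _
    exact hle _ hE' f ⟨0, ⟨((shiftFunctorZero D ℤ).app K).symm⟩⟩
  · intro h i f
    have hE : (ObjectProperty.singleton E).triangEnvelope ((shiftFunctor D (-i)).obj E) :=
      (ObjectProperty.singleton E).triangEnvelope.le_shift (-i) _
        ((ObjectProperty.singleton E).le_triangEnvelope _ (by simp))
    obtain ⟨g, rfl⟩ := ((shiftEquiv D i).symm.toAdjunction.homEquiv _ _).surjective f
    rw [h _ hE g, Adjunction.homEquiv_unit]
    show _ ≫ (shiftFunctor D i).map 0 = 0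
    rw [Functor.map_zero, comp_zero]

theorem costructuredArrow_isFiltered (P : ObjectProperty D) [P.IsTriangulated] (X : D) :
    IsFiltered (CostructuredArrow P.ι X) := by
  obtain ⟨Z₀, hZ₀, hP₀⟩ := ObjectProperty.exists_prop_of_containsZero P
  haveI : IsFilteredOrEmpty (CostructuredArrow P.ι X) :=
    { cocone_objs := fun a b => by
        obtain ⟨A', hA', ⟨e⟩⟩ := P.ext_of_isTriangulatedClosed₂' _
          (binaryBiproductTriangle_distinguished a.left.obj b.left.obj) a.left.property b.left.property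
        change a.left.obj ⊞ b.left.obj ≅ A' at e
        exact ⟨CostructuredArrow.mk (Y := (⟨A', hA'⟩ : P.FullSubcategory)) (e.inv ≫ biprod.desc a.hom b.hom),
          CostructuredArrow.homMk (ObjectProperty.homMk (biprod.inl ≫ e.hom)) (by
            show (biprod.inl ≫ e.hom) ≫ e.inv ≫ biprod.desc a.hom b.hom = a.hom
            rw [Category.assoc, Iso.hom_inv_id_assoc, biprod.inl_desc]),
          CostructuredArrow.homMk (ObjectProperty.homMk (biprod.inr ≫ e.hom)) (by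
            show (biprod.inr ≫ e.hom) ≫ e.inv ≫ biprod.desc a.hom b.hom = b.hom
            rw [Category.assoc, Iso.hom_inv_id_assoc, biprod.inr_desc]), trivial⟩
      cocone_maps := fun a b f g => by
        obtain ⟨C, hC, q, d, hT⟩ := P.distinguished_cocone_triangle (f.left.hom - g.left.hom) a.left.property
          b.left.property
        have h0 : (f.left.hom - g.left.hom) ≫ (show b.left.obj ⟶ X from b.hom) = 0 := by
          have h1 : f.left.hom ≫ (show b.left.obj ⟶ X from b.hom) = a.hom := CostructuredArrow.w f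
          have h2 : g.left.hom ≫ (show b.left.obj ⟶ X from b.hom) = a.hom := CostructuredArrow.w g
          rw [Preadditive.sub_comp, h1, h2, sub_self]
        obtain ⟨t, ht⟩ := Triangle.yoneda_exact₂ _ hT _ h0
        refine ⟨CostructuredArrow.mk (Y := (⟨C, hC⟩ : P.FullSubcategory)) t,
          CostructuredArrow.homMk (ObjectProperty.homMk q) ht.symm, ?_⟩
        have h3 : (f.left.hom - g.left.hom) ≫ q = 0 := comp_distTriang_mor_zero₁₂ _ hT
        rw [Preadditive.sub_comp, sub_eq_zero] at h3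
        ext
        exact h3 }
  haveI : Nonempty (CostructuredArrow P.ι X) :=
    ⟨CostructuredArrow.mk (Y := (⟨Z₀, hP₀⟩ : P.FullSubcategory)) (0 : Z₀ ⟶ X)⟩
  exact {}

end

theorem isZero_equivalence_map {A : Type u} [Category.{v} A] {B : Type u'} [Category.{v'} B] (e : A ≌ B) {X : A}
    (h : IsZero X) : IsZero (e.functor.obj X) := by
  refine ⟨fun Y => ⟨⟨⟨e.functor.map (h.to_ (e.inverse.obj Y)) ≫ e.counit.app Y⟩, fun u => ?_⟩⟩,
    fun Y => ⟨⟨⟨e.counitInv.app Y ≫ e.functor.map (h.from_ (e.inverse.obj Y))⟩, fun u => ?_⟩⟩⟩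
  · exact (e.toAdjunction.homEquiv X Y).injective (h.eq_of_src _ _)
  · exact (e.symm.toAdjunction.homEquiv Y X).symm.injective (h.eq_of_tgt _ _)

section
variable {D : Type u} [Category.{v} D] [Preadditive D] [HasZeroObject D] [HasShift D ℤ]
  [∀ n : ℤ, (shiftFunctor D n).Additive] [Pretriangulated D]
  (S : MorphismProperty D) [S.HasLeftCalculusOfFractions] [S.HasRightCalculusOfFractions]
  [S.IsCompatibleWithTriangulation] {E : Type u'} [Category.{v'} E] (Q : D ⥤ E) [Q.IsLocalization S]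

theorem isZero_localization_congr (Z : D) : IsZero (Q.obj Z) ↔ IsZero (S.Q.obj Z) := by
  let e := Localization.uniq Q S.Q S
  let i : e.functor.obj (Q.obj Z) ≅ S.Q.obj Z := (Localization.compUniqFunctor Q S.Q S).app Z
  constructor
  · intro h
    exact (isZero_equivalence_map e h).of_iso i.symm
  · intro h
    exact (isZero_equivalence_map e.symm (h.of_iso i)).of_iso (e.unitIso.app _)

theorem isIso_localization_congr {X Y : D} (f : X ⟶ Y) : IsIso (Q.map f) ↔ IsIso (S.Q.map f) := by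
  let e := Localization.uniq Q S.Q S
  let i := Localization.compUniqFunctor Q S.Q S
  rw [← isIso_iff_of_reflects_iso (Q.map f) e.functor]
  exact NatIso.isIso_map_iff i f

include S in
theorem trW_kernel_iff_isIso {X Y : D} (f : X ⟶ Y) :
    ObjectProperty.trW (fun Z : D => IsZero (Q.obj Z)) f ↔ IsIso (Q.map f) := by
  rw [ObjectProperty.trW_iff, isIso_localization_congr S Q f]
  constructor
  · rintro ⟨Z, g, h, hT, hZ⟩
    exact (Triangle.isZero₃_iff_isIso₁ _ (S.Q.map_distinguished _ hT)).1 ((isZero_localization_congr S Q Z).1 hZ)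
  · intro hf
    obtain ⟨Z, g, h, hT⟩ := distinguished_cocone_triangle f
    exact ⟨Z, g, h, hT,
      (isZero_localization_congr S Q Z).2 ((Triangle.isZero₃_iff_isIso₁ _ (S.Q.map_distinguished _ hT)).2 hf)⟩

theorem isZero_localization_iff (Z : D) :
    (IsZero (Q.obj Z) ↔ ∃ Z' : D, S (0 : Z ⟶ Z')) ∧ (IsZero (Q.obj Z) ↔ ∃ Z' : D, S (0 : Z' ⟶ Z)) ∧
      (IsZero (Q.obj Z) ↔ ∃ (Z' X Y : D) (f : X ⟶ Y) (g : Y ⟶ Z ⊞ Z') (h : Z ⊞ Z' ⟶ (shiftFunctor D (1 : ℤ)).obj X),
        Triangle.mk f g h ∈ distinguishedTriangles ∧ S f) := by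
  obtain ⟨h₁, h₂⟩ := isZero_obj_iff_exists S Q Z
  refine ⟨h₁, h₂, ⟨fun hz => ?_, ?_⟩⟩
  · obtain ⟨W, hW⟩ := h₂.1 hz
    obtain ⟨C, g, h, hT⟩ := distinguished_cocone_triangle (0 : W ⟶ Z)
    obtain ⟨e, -, -⟩ := exists_iso_binaryBiproduct_of_distTriang _
      (rot_of_distTriang _ hT) (by
        show -(shiftFunctor D (1 : ℤ)).map (0 : W ⟶ Z) = 0
        rw [Functor.map_zero, neg_zero])
    change C ≅ Z ⊞ (shiftFunctor D (1 : ℤ)).obj W at e
    refine ⟨(shiftFunctor D (1 : ℤ)).obj W, W, Z, 0, g ≫ e.hom, e.inv ≫ h, ?_, hW⟩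
    exact isomorphic_distinguished _ hT _ (Triangle.isoMk _ _ (Iso.refl _) (Iso.refl _) e.symm
      (by show (0 : W ⟶ Z) ≫ 𝟙 Z = 𝟙 W ≫ 0; simp) (by show (g ≫ e.hom) ≫ e.inv = 𝟙 Z ≫ g; simp)
      (by show (e.inv ≫ h) ≫ (shiftFunctor D (1 : ℤ)).map (𝟙 W) = e.inv ≫ h; simp))
  · rintro ⟨Z', X, Y, f, g, h, hT, hf⟩
    haveI : IsIso (S.Q.map f) := Localization.inverts S.Q S _ hf
    have h0 : IsZero (S.Q.obj (Z ⊞ Z')) :=
      (Triangle.isZero₃_iff_isIso₁ _ (S.Q.map_distinguished _ hT)).2 (inferInstanceAs (IsIso (S.Q.map f)))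
    rw [isZero_localization_congr S Q, IsZero.iff_id_eq_zero, ← S.Q.map_id, ← biprod.inl_fst (X := Z) (Y := Z'),
      S.Q.map_comp, h0.eq_of_tgt (S.Q.map biprod.inl) 0, zero_comp]

end

section
variable {D : Type u} [Category.{v} D] [Preadditive D] [HasZeroObject D] [HasShift D ℤ]
  [∀ n : ℤ, (shiftFunctor D n).Additive] [Pretriangulated D] [IsTriangulated D]

theorem isZero_verdier_iff (B : ObjectProperty D) [B.IsTriangulated] {E : Type u'} [Category.{v'} E] (Q : D ⥤ E)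
    [Q.IsLocalization B.trW] (Z : D) : IsZero (Q.obj Z) ↔ ∃ (Z' Y : D), B Y ∧ Nonempty (Z ⊞ Z' ≅ Y) := by
  constructor
  · intro hz
    obtain ⟨W, hW⟩ := (isZero_obj_iff_exists B.trW Q Z).2.1 hz
    obtain ⟨C, g, h, hT, hC⟩ := (ObjectProperty.trW_iff _ _).1 hW
    obtain ⟨e, -, -⟩ := exists_iso_binaryBiproduct_of_distTriang _
      (rot_of_distTriang _ hT) (by
        show -(shiftFunctor D (1 : ℤ)).map (0 : W ⟶ Z) = 0
        rw [Functor.map_zero, neg_zero])
    change C ≅ Z ⊞ (shiftFunctor D (1 : ℤ)).obj W at e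
    exact ⟨(shiftFunctor D (1 : ℤ)).obj W, C, hC, ⟨e.symm⟩⟩
  · rintro ⟨Z', Y, hY, ⟨e⟩⟩
    rw [isZero_localization_congr B.trW Q, IsZero.iff_id_eq_zero]
    obtain ⟨Z₀, hZ₀, -⟩ := ObjectProperty.exists_prop_of_containsZero B
    have hW : B.trW (0 : Y ⟶ Z₀) :=
      (ObjectProperty.trW_iff' _ _).2 ⟨Y, 𝟙 Y, 0, isomorphic_distinguished _ (contractible_distinguished Y) _
        (Triangle.isoMk _ _ (Iso.refl _) (Iso.refl _) (hZ₀.iso (isZero_zero D))
          (by show 𝟙 Y ≫ 𝟙 Y = 𝟙 Y ≫ 𝟙 Y; rfl) ((isZero_zero D).eq_of_tgt _ _) (hZ₀.eq_of_src _ _)), hY⟩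
    haveI := Localization.inverts B.trW.Q B.trW _ hW
    have h0 : IsZero (B.trW.Q.obj Y) :=
      (B.trW.Q.map_isZero hZ₀).of_iso (asIso (B.trW.Q.map (0 : Y ⟶ Z₀)))
    rw [← B.trW.Q.map_id, show 𝟙 Z = (biprod.inl ≫ e.hom) ≫ (e.inv ≫ biprod.fst) by simp, B.trW.Q.map_comp,
      h0.eq_of_tgt (B.trW.Q.map (biprod.inl ≫ e.hom)) 0, zero_comp]

end

end Groth.Agent.H4Easy
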