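import Mathlib

/-! Connecting morphisms, a homotopy lemma, opens of cofiltered limits of spaces. -/

set_option autoImplicit false
set_option linter.style.haveILetI false

open CategoryTheory CategoryTheory.Limits TopologicalSpace Topology Opposite

universe w w' v v' u u'

namespace Groth.Agent.H4Easy


section
open CategoryTheory.Pretriangulated

theorem connecting_unique {C : Type u} [Category.{v} C] [Abelian C] [HasDerivedCategory.{w} C]
    {E F G : DerivedCategory C} (u : E ⟶ F) (v : F ⟶ G) [E.IsLE 0] [G.IsGE 0] (w₁ w₂ : G ⟶ E⟦(1 : ℤ)⟧)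
    (hw : Triangle.mk u v w₁ ∈ distTriang (DerivedCategory C))
    (hw' : Triangle.mk u v w₂ ∈ distTriang (DerivedCategory C)) : w₁ = w₂ := by
  obtain ⟨γ, h₂, h₃⟩ : ∃ γ : G ⟶ G, v ≫ γ = v ∧ w₁ = γ ≫ w₂ := by
    obtain ⟨γ, h₂, h₃⟩ := complete_distinguished_triangle_morphism _ _ hw hw' (𝟙 E) (𝟙 F)
      (by show u ≫ 𝟙 F = 𝟙 E ≫ u; simp)
    have h₃' : w₁ ≫ (shiftFunctor (DerivedCategory C) (1 : ℤ)).map (𝟙 E) = (γ : G ⟶ G) ≫ w₂ := h₃
    rw [CategoryTheory.Functor.map_id, Category.comp_id] at h₃'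
    exact ⟨γ, h₂.trans (Category.id_comp v), h₃'⟩
  obtain ⟨δ, hδ⟩ : ∃ δ : E⟦(1 : ℤ)⟧ ⟶ G, γ - 𝟙 G = w₁ ≫ δ :=
    Triangle.yoneda_exact₃ _ hw (γ - 𝟙 G)
      (show v ≫ (γ - 𝟙 G) = 0 by rw [Preadditive.comp_sub, h₂, Category.comp_id, sub_self])
  have hLE : (DerivedCategory.TStructure.t).IsLE (E⟦(1 : ℤ)⟧) (-1) :=
    (DerivedCategory.TStructure.t).isLE_shift E 0 1 (-1) (by omega)
  have hδ0 : δ = 0 := (DerivedCategory.TStructure.t).zero_of_isLE_of_isGE δ (-1) 0 (by omega) hLE ‹_›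
  rw [hδ0, comp_zero, sub_eq_zero] at hδ
  rw [hδ, Category.id_comp] at h₃
  exact h₃

end

section
variable {V : Type u} [Category.{v} V] [Preadditive V] [HasBinaryBiproducts V]

theorem homotopy_comp_zero_of_split (S : ShortComplex (CochainComplex V ℤ))
    (σ : ∀ n : ℤ, (S.map (HomologicalComplex.eval V (ComplexShape.up ℤ) n)).Splitting)
    {B₁ B₃ : CochainComplex V ℤ} (b : B₁ ⟶ S.X₂) (b' : S.X₂ ⟶ B₃) (hb : Nonempty (Homotopy (b ≫ S.g) 0))
    (hb' : Nonempty (Homotopy (S.f ≫ b') 0)) : Nonempty (Homotopy (b ≫ b') 0) := by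
  obtain ⟨h⟩ := hb
  obtain ⟨h'⟩ := hb'
  let r : ∀ n, S.X₂.X n ⟶ S.X₁.X n := fun n => (σ n).r
  let s : ∀ n, S.X₃.X n ⟶ S.X₂.X n := fun n => (σ n).s
  have s_g : ∀ n, s n ≫ S.g.f n = 𝟙 _ := fun n => (σ n).s_g
  have f_r : ∀ n, S.f.f n ≫ r n = 𝟙 _ := fun n => (σ n).f_r
  have hid : ∀ n, r n ≫ S.f.f n + S.g.f n ≫ s n = 𝟙 _ := fun n => (σ n).id
  let k : ∀ i j, B₁.X i ⟶ S.X₂.X j := fun i j => h.hom i j ≫ s j
  have hk0 : ∀ i j, ¬(ComplexShape.up ℤ).Rel j i → k i j = 0 := fun i j hij => by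
    simp [k, h.zero i j hij]
  let H₁ : Homotopy (Homotopy.nullHomotopicMap k) 0 := Homotopy.nullHomotopy k hk0
  let b₀ := b - Homotopy.nullHomotopicMap k
  have hg : b₀ ≫ S.g = 0 := by
    rw [Preadditive.sub_comp, Homotopy.nullHomotopicMap_comp, sub_eq_zero]
    ext n
    rw [h.comm n, show (0 : B₁ ⟶ S.X₃).f n = 0 from rfl, add_zero]
    have : (fun i j => k i j ≫ S.g.f j) = h.hom := by
      funext i j
      simp [k, s_g]
    rw [this]
    rfl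
  have hfac : ∀ n, (b₀.f n ≫ r n) ≫ S.f.f n = b₀.f n := fun n => by
    have h0 : b₀.f n ≫ S.g.f n = 0 := by rw [← HomologicalComplex.comp_f, hg]; rfl
    conv_rhs => rw [← Category.comp_id (b₀.f n), ← hid n, Preadditive.comp_add, reassoc_of% h0, zero_comp, add_zero]
    rw [Category.assoc]
  let a : B₁ ⟶ S.X₁ :=
    { f := fun n => b₀.f n ≫ r n
      comm' := fun i j _ => by
        haveI : Mono (S.f.f j) := mono_of_mono_fac (f_r j)
        rw [← cancel_mono (S.f.f j), Category.assoc (b₀.f i ≫ r i), ← S.f.comm i j,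
          ← Category.assoc, hfac i, Category.assoc (B₁.d i j), hfac j, b₀.comm] }
  have hb₀ : a ≫ S.f = b₀ := by ext n; exact hfac n
  have e : b ≫ b' = a ≫ S.f ≫ b' + Homotopy.nullHomotopicMap k ≫ b' := by
    rw [← Category.assoc, hb₀, ← Preadditive.add_comp, sub_add_cancel]
  refine ⟨(Homotopy.ofEq e).trans (((h'.compLeft a).add (H₁.compRight b')).trans (Homotopy.ofEq ?_))⟩
  simp

end

section
theorem cofiltered_limit_opens {J : Type u} [SmallCategory J] [IsCofiltered J] (F : J ⥤ TopCat.{u}) (c : Cone F)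
    (hc : IsLimit c) :
    (∀ W : Set c.pt, IsOpen W → ∃ S : Set (Σ j, Set (F.obj j)), (∀ s ∈ S, IsOpen s.2) ∧
      W = ⋃ s ∈ S, c.π.app s.1 ⁻¹' s.2) ∧
    (∀ W : Set c.pt, IsOpen W → IsCompact W →
      ∃ (i : J) (Ui : Set (F.obj i)), IsOpen Ui ∧ W = c.π.app i ⁻¹' Ui) := by
  have hb := TopCat.isTopologicalBasis_cofiltered_limit F c hc (fun j => {U | IsOpen U})
    (fun j => isTopologicalBasis_opens) (fun j => isOpen_univ) (fun j _ _ h₁ h₂ => h₁.inter h₂)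
    (fun i j f V hV => hV.preimage (F.map f).hom.continuous)
  have h1 : ∀ W : Set c.pt, IsOpen W → ∃ S : Set (Σ j, Set (F.obj j)), (∀ s ∈ S, IsOpen s.2) ∧
      W = ⋃ s ∈ S, c.π.app s.1 ⁻¹' s.2 := fun W hW => by
    refine ⟨{s | IsOpen s.2 ∧ c.π.app s.1 ⁻¹' s.2 ⊆ W}, fun s hs => hs.1, Set.Subset.antisymm ?_
      (Set.iUnion₂_subset fun s hs => hs.2)⟩
    intro x hx
    obtain ⟨_, ⟨j, V, hV, rfl⟩, hxV, hVW⟩ := hb.exists_subset_of_mem_open hx hW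
    exact Set.mem_biUnion (x := (⟨j, V⟩ : Σ j, Set (F.obj j))) ⟨hV, hVW⟩ hxV
  refine ⟨h1, fun W hW hWc => ?_⟩
  classical
  obtain ⟨S, hS, hWS⟩ := h1 W hW
  obtain ⟨T, hTS, hTfin, hWT⟩ := hWc.elim_finite_subcover_image (b := S)
    (c := fun s => c.π.app s.1 ⁻¹' s.2) (fun s hs => (hS s hs).preimage (c.π.app s.1).hom.continuous) hWS.subset
  obtain ⟨i, hi⟩ := IsCofiltered.inf_objs_exists (hTfin.toFinset.image Sigma.fst)
  let f : ∀ s : T, i ⟶ s.1.1 := fun s =>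
    (hi (Finset.mem_image_of_mem Sigma.fst (hTfin.mem_toFinset.2 s.2))).some
  refine ⟨i, ⋃ s : T, F.map (f s) ⁻¹' s.1.2, isOpen_iUnion fun s =>
    (hS _ (hTS s.2)).preimage (F.map (f s)).hom.continuous, ?_⟩
  have hw : ∀ (s : T) (x : c.pt), F.map (f s) (c.π.app i x) = c.π.app s.1.1 x := fun s x =>
    ConcreteCategory.congr_hom (c.w (f s)) x
  apply Set.Subset.antisymm
  · intro x hx
    obtain ⟨s, hs, hxs⟩ := Set.mem_iUnion₂.1 (hWT hx)
    exact Set.mem_iUnion.2 ⟨⟨s, hs⟩, (congrArg (· ∈ s.2) (hw ⟨s, hs⟩ x)).mpr hxs⟩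
  · intro x hx
    obtain ⟨s, hxs⟩ := Set.mem_iUnion.1 hx
    rw [hWS]
    exact Set.mem_biUnion (hTS s.2) ((congrArg (· ∈ s.1.2) (hw s x)).mp hxs)

end

end Groth.Agent.H4Easy
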