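import Mathlib
import Groth.Prelude.Def_Wider
import Groth.Agent.FibDepth.AB
import Groth.Agent.LocH.AdjDepthChange
import Groth.Agent.CotT.RegQuot
import Groth.Agent.FibDepth.AssFib

/-!
# Short statements: linear series on a nodal curve, a pairing lemma, a trigonometric sum,
Jacobson complements, associated primes and projective dimension
-/

set_option autoImplicit false
set_option linter.style.haveILetI false

open Polynomial

universe u

namespace Groth.Agent.H4Easy

theorem mem_V {k : Type*} [Field k] (a : ℕ) (V : Submodule k (Polynomial k))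
    (hV : V = Submodule.span k {(1 : Polynomial k)} ⊔
      ((Ideal.span {(X : Polynomial k) * (X + 1)}).restrictScalars k ⊓ Polynomial.degreeLE k ↑(a + 1))) (P : Polynomial k) :
    P ∈ V ↔ P.degree ≤ ↑(a + 1) ∧ P.eval 0 = P.eval (-1) := by
  subst hV
  constructor
  · intro h
    obtain ⟨c, hc, Q, hQ, rfl⟩ := Submodule.mem_sup.1 h
    obtain ⟨r, rfl⟩ := Submodule.mem_span_singleton.1 hc
    obtain ⟨hQ1, hQ2⟩ := hQ
    obtain ⟨G, rfl⟩ := Ideal.mem_span_singleton.1 hQ1
    refine ⟨(degree_add_le _ _).trans (max_le ?_ (mem_degreeLE.1 hQ2)), by simp⟩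
    exact (degree_smul_le _ _).trans (degree_one_le.trans (by exact_mod_cast Nat.zero_le _))
  · rintro ⟨hd, he⟩
    refine Submodule.mem_sup.2 ⟨P.eval 0 • 1, Submodule.smul_mem _ _ (Submodule.subset_span rfl), P - P.eval 0 • 1, ⟨?_, ?_⟩, add_sub_cancel _ _⟩
    · have h1 : (X - C (0 : k)) * (X - C (-1)) ∣ P - P.eval 0 • 1 :=
        IsCoprime.mul_dvd (isCoprime_X_sub_C_of_isUnit_sub (by simp))
          (dvd_iff_isRoot.2 (by simp)) (dvd_iff_isRoot.2 (by simp [he]))
      exact Ideal.mem_span_singleton.2 (by simpa using h1)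
    · exact mem_degreeLE.2 ((degree_sub_le _ _).trans
        (max_le hd ((degree_smul_le _ _).trans (degree_one_le.trans (by exact_mod_cast Nat.zero_le _)))))

theorem finrank_multiples {k : Type*} [Field k] (a N : ℕ) (V : Submodule k (Polynomial k))
    (hV : ∀ P, P ∈ V ↔ P.degree ≤ ↑(a + 1) ∧ P.eval 0 = P.eval (-1)) (D : Polynomial k) (hD : D.Monic)
    (hdeg : D.natDegree + N = a + 2) :
    (Module.finrank k ↥(V ⊓ (Ideal.span {D}).restrictScalars k) = N ↔
      ∀ L : Polynomial k, L.degree < N → D.eval 0 * L.eval 0 = D.eval (-1) * L.eval (-1)) ∧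
    Module.finrank k ↥(V ⊓ (Ideal.span {D}).restrictScalars k) ≤ N := by
  let W := Polynomial.degreeLT k N
  let φ : W →ₗ[k] k := (((aeval (0 : k)).toLinearMap.comp (LinearMap.mulLeft k D)) -
    ((aeval (-1 : k)).toLinearMap.comp (LinearMap.mulLeft k D))).comp W.subtype
  have hφ : ∀ L : W, φ L = D.eval 0 * (L : k[X]).eval 0 - D.eval (-1) * (L : k[X]).eval (-1) := fun L => by
    simp [φ, coe_aeval_eq_eval]
  let μ : LinearMap.ker φ →ₗ[k] k[X] := (LinearMap.mulLeft k D).comp (W.subtype.comp (LinearMap.ker φ).subtype)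
  have hμ : Function.Injective μ := fun x y h => Subtype.ext (Subtype.ext (mul_left_cancel₀ hD.ne_zero h))
  have hran : LinearMap.range μ = V ⊓ (Ideal.span {D}).restrictScalars k := by
    ext P
    constructor
    · rintro ⟨⟨⟨L, hL⟩, hk⟩, rfl⟩
      refine ⟨(hV _).2 ⟨?_, ?_⟩, Ideal.mem_span_singleton.2 (dvd_mul_right D L)⟩
      · change (D * L).degree ≤ _
        by_cases hL0 : L = 0
        · simp [hL0]
        rw [degree_mul, degree_eq_natDegree hD.ne_zero, degree_eq_natDegree hL0]
        have := mem_degreeLT.1 hL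
        rw [degree_eq_natDegree hL0, Nat.cast_lt] at this
        norm_cast; omega
      · have := hφ ⟨L, hL⟩
        rw [LinearMap.mem_ker.1 hk] at this
        change (D * L).eval 0 = (D * L).eval (-1)
        rw [eval_mul, eval_mul]
        exact sub_eq_zero.1 this.symm
    · rintro ⟨hP, hP'⟩
      obtain ⟨L, rfl⟩ := Ideal.mem_span_singleton.1 hP'
      obtain ⟨h1, h2⟩ := (hV _).1 hP
      have hL : L ∈ W := by
        by_cases hL0 : L = 0
        · simp [hL0]
        rw [mem_degreeLT, degree_eq_natDegree hL0, Nat.cast_lt]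
        rw [degree_mul, degree_eq_natDegree hD.ne_zero, degree_eq_natDegree hL0] at h1
        norm_cast at h1; omega
      refine ⟨⟨⟨L, hL⟩, ?_⟩, rfl⟩
      rw [LinearMap.mem_ker, hφ, sub_eq_zero]
      simpa [eval_mul] using h2
  haveI : Module.Finite k W := Module.Finite.equiv (Polynomial.degreeLTEquiv k N).symm
  have hW : Module.finrank k W = N := by rw [(Polynomial.degreeLTEquiv k N).finrank_eq, Module.finrank_fin_fun]
  rw [← hran, LinearMap.finrank_range_of_inj hμ]
  refine ⟨⟨fun h L hL => ?_, fun h => ?_⟩, (Submodule.finrank_le _).trans hW.le⟩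
  · have ht : LinearMap.ker φ = ⊤ := Submodule.eq_top_of_finrank_eq (h.trans hW.symm)
    have := hφ ⟨L, mem_degreeLT.2 hL⟩
    rw [LinearMap.mem_ker.1 (ht ▸ Submodule.mem_top : (⟨L, mem_degreeLT.2 hL⟩ : W) ∈ LinearMap.ker φ)] at this
    exact sub_eq_zero.1 this.symm
  · have ht : LinearMap.ker φ = ⊤ := eq_top_iff.2 fun L _ => by
      rw [LinearMap.mem_ker, hφ, sub_eq_zero]
      exact h _ (mem_degreeLT.1 L.2)
    rw [ht, finrank_top, hW]

theorem special_ramification {k : Type*} [Field k] (a : ℕ) (ha : 0 < a) (V : Submodule k (Polynomial k))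
    (hV : V = Submodule.span k {(1 : Polynomial k)} ⊔
      ((Ideal.span {(X : Polynomial k) * (X + 1)}).restrictScalars k ⊓ Polynomial.degreeLE k ↑(a + 1))) :
    (∀ p : k, Module.finrank k ↥(V ⊓ (Ideal.span {(X - C p) ^ a}).restrictScalars k) ≤ 1) ∧
      Module.finrank k ↥(V ⊓ Polynomial.degreeLT k 2) ≤ 1 := by
  refine ⟨fun p => ?_, ?_⟩
  · obtain ⟨h1, h2⟩ := finrank_multiples a 2 V (mem_V a V hV) ((X - C p) ^ a) ((monic_X_sub_C p).pow a)
      (by rw [natDegree_pow, natDegree_X_sub_C, mul_one])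
    by_contra hlt
    have h3 := h1.1 (by omega)
    have e1 := h3 1 (lt_of_le_of_lt degree_one_le (by norm_num))
    have e2 := h3 (X - C p) (by rw [degree_X_sub_C]; norm_num)
    simp only [eval_one, mul_one, eval_pow, eval_sub, eval_X, eval_C] at e1 e2
    rw [← e1] at e2
    by_cases h0 : (0 - p) ^ a = 0
    · rw [h0] at e1
      exact one_ne_zero (show (1 : k) = 0 by linear_combination (eq_zero_of_pow_eq_zero h0) - (eq_zero_of_pow_eq_zero e1.symm))
    · have := mul_left_cancel₀ h0 e2
      exact one_ne_zero (show (1 : k) = 0 by linear_combination this)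
  · refine (Submodule.finrank_mono (t := Submodule.span k {(1 : k[X])}) ?_).trans (finrank_span_singleton one_ne_zero).le
    rintro P ⟨hP, hP2⟩
    obtain ⟨-, he⟩ := (mem_V a V hV P).1 hP
    have hd : P.degree ≤ 1 := (natDegree_le_iff_degree_le (n := 1)).1 (by
      rcases eq_or_ne P 0 with rfl | h0
      · simp
      · have := mem_degreeLT.1 hP2
        rw [degree_eq_natDegree h0, Nat.cast_lt] at this
        omega)
    rw [eq_X_add_C_of_degree_le_one hd] at he ⊢
    simp at he
    exact Submodule.mem_span_singleton.2 ⟨P.coeff 0, by rw [show P.coeff 1 = 0 by linear_combination he]; simp [smul_eq_C_mul]⟩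

theorem ramification_pairs {k : Type*} [Field k] (a i j : ℕ) (hi : 0 < i) (hj : 0 < j) (hij : i + j + 1 = a)
    (V : Submodule k (Polynomial k))
    (hV : V = Submodule.span k {(1 : Polynomial k)} ⊔
      ((Ideal.span {(X : Polynomial k) * (X + 1)}).restrictScalars k ⊓ Polynomial.degreeLE k ↑(a + 1)))
    (p q : k) :
    3 ≤ Module.finrank k ↥(V ⊓ (Ideal.span {(X - C p) ^ i * (X - C q) ^ j}).restrictScalars k) ↔
      (p = 0 ∧ q = -1) ∨ (p = -1 ∧ q = 0) := by
  obtain ⟨h1, h2⟩ := finrank_multiples a 3 V (mem_V a V hV) ((X - C p) ^ i * (X - C q) ^ j)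
    (((monic_X_sub_C p).pow i).mul ((monic_X_sub_C q).pow j))
    (by rw [Monic.natDegree_mul ((monic_X_sub_C p).pow i) ((monic_X_sub_C q).pow j), natDegree_pow, natDegree_pow,
      natDegree_X_sub_C, natDegree_X_sub_C]; omega)
  constructor
  · intro h
    have h3 := h1.1 (le_antisymm h2 h)
    have e1 := h3 (X + C 1) (by rw [degree_X_add_C]; norm_num)
    have e2 := h3 X (by rw [degree_X]; norm_num)
    simp [hi.ne', hj.ne', sub_eq_zero] at e1 e2
    rcases e1 with e1 | e1 <;> rcases e2 with e2 | e2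
    · exact absurd (by linear_combination -e1 - e2 : (1 : k) = 0) one_ne_zero
    · exact Or.inl ⟨e1, e2.symm⟩
    · exact Or.inr ⟨e2.symm, e1⟩
    · exact absurd (by linear_combination -e1 - e2 : (1 : k) = 0) one_ne_zero
  · intro h
    refine (h1.2 fun L _ => ?_).ge
    rcases h with ⟨rfl, rfl⟩ | ⟨rfl, rfl⟩ <;> simp [zero_pow hi.ne', zero_pow hj.ne']

theorem triangle_pairing {α : Type u} [DecidableEq α] (e : ℕ) (he : 1 ≤ e) (x : Fin (2 * e + 1) → α)
    (hx : ∀ a : α, (Finset.univ.filter fun k => x k = a).card ≤ e) :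
    ∃ i j : Fin (2 * e + 1) → Fin (2 * e + 1),
      (∀ m : Fin (2 * e + 1),
        (Finset.univ.filter fun k => i k = m).card + (Finset.univ.filter fun k => j k = m).card = 2) ∧
      (∀ k, x (i k) ≠ x (j k)) ∧
      i 0 = j 2 ∧ i 1 = j 0 ∧ i 2 = j 1 := by
  classical
  letI : LinearOrder α := linearOrderOfSTO (WellOrderingRel : α → α → Prop)
  let cnt : α → ℕ := fun a => (Finset.univ.filter fun k => x k = a).card
  let Vs : Finset α := Finset.univ.image x
  have hsum : ∑ v ∈ Vs, cnt v = 2 * e + 1 := by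
    rw [← Finset.card_eq_sum_card_image x]; simp
  have hne : Vs.Nonempty := ⟨x 0, Finset.mem_image_of_mem _ (Finset.mem_univ _)⟩
  obtain ⟨v1, hv1, hm1⟩ := Finset.exists_max_image Vs cnt hne
  have hs1 : cnt v1 + ∑ v ∈ Vs.erase v1, cnt v = 2 * e + 1 := by rw [Finset.add_sum_erase _ _ hv1, hsum]
  have hne2 : (Vs.erase v1).Nonempty := by
    rw [Finset.nonempty_iff_ne_empty]; intro h
    rw [h, Finset.sum_empty] at hs1
    have : cnt v1 ≤ e := hx v1
    omega
  obtain ⟨v2, hv2, hm2⟩ := Finset.exists_max_image _ cnt hne2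
  have hs2 : cnt v2 + ∑ v ∈ (Vs.erase v1).erase v2, cnt v = ∑ v ∈ Vs.erase v1, cnt v := Finset.add_sum_erase _ _ hv2
  have hne3 : ((Vs.erase v1).erase v2).Nonempty := by
    rw [Finset.nonempty_iff_ne_empty]; intro h
    rw [h, Finset.sum_empty] at hs2
    have : cnt v1 ≤ e := hx v1
    have : cnt v2 ≤ e := hx v2
    omega
  obtain ⟨v3, hv3, hm3⟩ := Finset.exists_max_image _ cnt hne3
  have h12 : v1 ≠ v2 := (Finset.ne_of_mem_erase hv2).symm
  have h13 : v1 ≠ v3 := (Finset.ne_of_mem_erase (Finset.mem_of_mem_erase hv3)).symm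
  have h23 : v2 ≠ v3 := (Finset.ne_of_mem_erase hv3).symm
  obtain ⟨a, -, ha⟩ := Finset.mem_image.1 hv1
  obtain ⟨b, -, hb⟩ := Finset.mem_image.1 (Finset.mem_of_mem_erase hv2)
  obtain ⟨c, -, hc⟩ := Finset.mem_image.1 (Finset.mem_of_mem_erase (Finset.mem_of_mem_erase hv3))
  let R : Finset (Fin (2 * e + 1)) := Finset.univ \ {a, b, c}
  have h3card : ({a, b, c} : Finset (Fin (2 * e + 1))).card = 3 := by
    rw [Finset.card_eq_three]
    exact ⟨a, b, c, fun h => h12 (by rw [← ha, ← hb, h]), fun h => h13 (by rw [← ha, ← hc, h]), fun h => h23 (by rw [← hb, ← hc, h]), rfl⟩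
  set m := e - 1
  have hR : R.card = 2 * m := by
    rw [Finset.card_sdiff, Finset.inter_univ, h3card, Finset.card_univ, Fintype.card_fin]; omega
  -- every value occurs at most `m` times in the rest
  have hcount : ∀ v : α, (R.filter fun k => x k = v).card ≤ m := by
    intro v
    have hsub : (R.filter fun k => x k = v) ⊆ Finset.univ.filter (fun k => x k = v) := Finset.filter_subset_filter _ (Finset.subset_univ _)
    have key : ∀ w : Fin (2 * e + 1), w ∈ ({a, b, c} : Finset _) → x w = v → (R.filter fun k => x k = v).card ≤ m := by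
      intro w hw hwv
      have hss : (R.filter fun k => x k = v) ⊆ (Finset.univ.filter fun k => x k = v).erase w := fun k hk =>
        Finset.mem_erase.2 ⟨fun hkw => (Finset.mem_sdiff.1 (Finset.mem_filter.1 hk).1).2 (hkw ▸ hw), hsub hk⟩
      refine (Finset.card_le_card hss).trans ?_
      rw [Finset.card_erase_of_mem (show w ∈ Finset.univ.filter (fun k => x k = v) by simp [hwv])]
      have : (Finset.univ.filter fun k => x k = v).card ≤ e := hx v
      omega
    by_cases hv1' : v = v1
    · exact key a (by simp) (by rw [ha, hv1'])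
    by_cases hv2' : v = v2
    · exact key b (by simp) (by rw [hb, hv2'])
    by_cases hv3' : v = v3
    · exact key c (by simp) (by rw [hc, hv3'])
    by_cases hv : v ∈ Vs
    · have hv4 : v ∈ ((Vs.erase v1).erase v2).erase v3 := by simp [hv, hv1', hv2', hv3']
      have h4 := Finset.single_le_sum (f := cnt) (fun _ _ => Nat.zero_le _) hv4
      have h5 := Finset.add_sum_erase ((Vs.erase v1).erase v2) cnt hv3
      have l3 := hm3 v (Finset.mem_of_mem_erase hv4)
      have l2 := hm2 v3 (Finset.mem_of_mem_erase hv3)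
      have l1 := hm1 v2 (Finset.mem_of_mem_erase hv2)
      have h6 : cnt v ≤ m := by omega
      exact (Finset.card_le_card hsub).trans h6
    · rw [Finset.card_eq_zero.2 (Finset.filter_eq_empty_iff.2 fun k _ hk => hv (by rw [← hk]; exact Finset.mem_image_of_mem _ (Finset.mem_univ k)))]
      exact Nat.zero_le _
  let f0 : Fin (2 * m) ≃ R := (finCongr hR.symm).trans R.equivFin.symm
  let σ := Tuple.sort (fun k => x (f0 k).1)
  let g : Fin (2 * m) → Fin (2 * e + 1) := fun k => (f0 (σ k)).1
  have hginj : Function.Injective g := fun k l h => σ.injective (f0.injective (Subtype.ext h))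
  have hmono : Monotone (fun k => x (g k)) := Tuple.monotone_sort (fun k => x (f0 k).1)
  have hfar : ∀ k l : Fin (2 * m), k.val + m = l.val → x (g k) ≠ x (g l) := by
    intro k l hkl hEq
    have hle : (Finset.Icc k l).image g ⊆ R.filter fun i => x i = x (g k) := by
      intro i hi
      obtain ⟨q, hq, rfl⟩ := Finset.mem_image.1 hi
      obtain ⟨hq1, hq2⟩ := Finset.mem_Icc.1 hq
      exact Finset.mem_filter.2 ⟨(f0 (σ q)).2, le_antisymm (le_of_le_of_eq (hmono hq2) hEq.symm) (hmono hq1)⟩
    have := (Finset.card_le_card hle).trans (hcount _)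
    rw [Finset.card_image_of_injective _ hginj, Fin.card_Icc] at this
    omega
  have hn : 2 * e + 1 = 3 + 2 * m := by omega
  let tri : Fin 3 → Fin (2 * e + 1) := ![a, b, c]
  let E : Fin (2 * e + 1) → Fin (2 * e + 1) := fun k => Fin.append tri g (finCongr hn k)
  let P : Fin (3 + 2 * m) → Fin (3 + 2 * m) := fun k => Fin.append
    (fun t : Fin 3 => Fin.castAdd (2 * m) (t + 1))
    (fun t : Fin (2 * m) => Fin.natAdd 3 (if h : t.val < m then ⟨t.val + m, by omega⟩ else ⟨t.val - m, by omega⟩)) k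
  have happ : Function.Injective (Fin.append tri g) := by
    have htri : ∀ t, tri t ∈ ({a, b, c} : Finset (Fin (2 * e + 1))) := fun t => by fin_cases t <;> simp [tri]
    intro k l h
    induction k using Fin.addCases <;> induction l using Fin.addCases <;> simp only [Fin.append_left, Fin.append_right] at h
    · rename_i s t
      congr 1
      have hxi : x (tri s) = x (tri t) := congrArg x h
      fin_cases s <;> fin_cases t <;> simp [tri, ha, hb, hc, h12, h13, h23, h12.symm, h13.symm, h23.symm] at hxi ⊢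
    · rename_i s t
      exact absurd (htri s) (h ▸ (Finset.mem_sdiff.1 (f0 (σ t)).2).2)
    · rename_i s t
      exact absurd (htri t) (h.symm ▸ (Finset.mem_sdiff.1 (f0 (σ s)).2).2)
    · rw [hginj h]
  have hEinj : Function.Injective E := happ.comp (finCongr hn).injective
  have hPinj : Function.Injective P := by
    intro k l h
    induction k using Fin.addCases <;> induction l using Fin.addCases <;> simp only [P, Fin.append_left, Fin.append_right] at h
    · rename_i s t
      congr 1
      exact add_right_cancel (Fin.castAdd_injective _ _ h)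
    · rename_i s t
      exact absurd (congrArg Fin.val h) (by simp only [Fin.val_castAdd, Fin.val_natAdd]; omega)
    · rename_i s t
      exact absurd (congrArg Fin.val h) (by simp only [Fin.val_castAdd, Fin.val_natAdd]; omega)
    · rename_i s t
      have h' := Fin.natAdd_injective _ _ h
      split_ifs at h' <;> simp only [Fin.mk.injEq] at h' <;> congr 1 <;> exact Fin.ext (by omega)
  let J : Fin (2 * e + 1) → Fin (2 * e + 1) := fun k => Fin.append tri g (P (finCongr hn k))
  have hJinj : Function.Injective J := happ.comp (hPinj.comp (finCongr hn).injective)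
  refine ⟨E, J, fun q => ?_, fun k => ?_, ?_, ?_, ?_⟩
  · have hone : ∀ F : Fin (2 * e + 1) → Fin (2 * e + 1), Function.Injective F → (Finset.univ.filter fun k => F k = q).card = 1 := by
      intro F hF
      obtain ⟨k, hk⟩ := (Finite.injective_iff_surjective.1 hF) q
      rw [Finset.card_eq_one]
      exact ⟨k, Finset.eq_singleton_iff_unique_mem.2 ⟨by simp [hk], fun l hl => hF ((Finset.mem_filter.1 hl).2.trans hk.symm)⟩⟩
    rw [hone E hEinj, hone J hJinj]
  · simp only [E, J]
    induction (finCongr hn k) using Fin.addCases with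
    | left t =>
      simp only [P, Fin.append_left]
      fin_cases t <;> simp [tri, ha, hb, hc, h12, h13.symm, h23]
    | right t =>
      simp only [P, Fin.append_right]
      split_ifs with ht
      · exact hfar _ _ rfl
      · exact (hfar _ _ (by simp only; omega)).symm
  all_goals
    have f0' : finCongr hn (0 : Fin (2 * e + 1)) = Fin.castAdd (2 * m) (0 : Fin 3) := Fin.ext rfl
    have f1 : finCongr hn (1 : Fin (2 * e + 1)) = Fin.castAdd (2 * m) (1 : Fin 3) :=
      Fin.ext (by change 1 % (2 * e + 1) = 1; exact Nat.mod_eq_of_lt (by omega))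
    have f2 : finCongr hn (2 : Fin (2 * e + 1)) = Fin.castAdd (2 * m) (2 : Fin 3) :=
      Fin.ext (by change 2 % (2 * e + 1) = 2; exact Nat.mod_eq_of_lt (by omega))
    simp only [E, J, f0', f1, f2, P, Fin.append_left, tri]
    rfl

theorem trig_sum (K : Type u) [Field K] (h6 : (6 : K) ≠ 0) (N j : ℕ) (hj : j < N) (ζ : K) (hζ : IsPrimitiveRoot ζ N) :
    ∑ i ∈ Finset.Ioo 0 N, ζ ^ (i * j) / (2 - ζ ^ i - (ζ ^ i)⁻¹) =
      (j : K) * ((j : K) - (N : K)) / 2 + ((N : K) ^ 2 - 1) / 12 := by
  have h2 : (2 : K) ≠ 0 := fun h => h6 (by linear_combination 3 * h)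
  have h12 : (12 : K) ≠ 0 := fun h => (mul_ne_zero h6 h2) (by linear_combination h)
  haveI : NeZero N := ⟨by omega⟩
  have hN0 : (N : K) ≠ 0 := hζ.neZero'.out
  have hz : ∀ i, ζ ^ i ≠ 0 := fun i => pow_ne_zero _ (hζ.ne_zero (NeZero.ne N))
  have hne : ∀ i ∈ Finset.Ioo 0 N, ζ ^ i ≠ 1 := fun i hi =>
    hζ.pow_ne_one_of_pos_of_lt (Finset.mem_Ioo.1 hi).1.ne' (Finset.mem_Ioo.1 hi).2
  have hden : ∀ i ∈ Finset.Ioo 0 N, (2 - ζ ^ i - (ζ ^ i)⁻¹) ≠ 0 := fun i hi h => by
    apply hne i hi
    have h' : (ζ ^ i - 1) ^ 2 = 0 := by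
      linear_combination (-(ζ ^ i)) * h - (mul_inv_cancel₀ (hz i))
    exact sub_eq_zero.1 (eq_zero_of_pow_eq_zero h')
  have hins : insert 0 (Finset.Ioo 0 N) = Finset.range N := by
    ext i; simp only [Finset.mem_insert, Finset.mem_Ioo, Finset.mem_range]; omega
  have hgeo : ∀ l, 0 < l → l < N → ∑ i ∈ Finset.Ioo 0 N, ζ ^ (i * l) = -1 := fun l hl hlN => by
    have h1 : ∑ i ∈ Finset.range N, (ζ ^ l) ^ i = 0 := by
      refine eq_zero_of_ne_zero_of_mul_left_eq_zero (sub_ne_zero.2 (hζ.pow_ne_one_of_pos_of_lt hl.ne' hlN)) (?_ : (ζ ^ l - 1) * _ = 0)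
      rw [mul_geom_sum, ← pow_mul, mul_comm, pow_mul, hζ.pow_eq_one, one_pow, sub_self]
    rw [← hins, Finset.sum_insert (by simp)] at h1
    rw [Finset.sum_congr rfl fun i _ => show ζ ^ (i * l) = (ζ ^ l) ^ i by rw [← pow_mul, mul_comm]]
    linear_combination h1
  let g : ℕ → K := fun j => ∑ i ∈ Finset.Ioo 0 N, ζ ^ (i * j) / (2 - ζ ^ i - (ζ ^ i)⁻¹)
  let f : ℕ → K := fun j => (j : K) * ((j : K) - (N : K)) / 2 + ((N : K) ^ 2 - 1) / 12
  change g j = f j
  let h : ℕ → K := fun j => g j - f j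
  have hrec : ∀ l, l + 2 ≤ N → h (l + 2) = 2 * h (l + 1) - h l := by
    intro l hl
    have hg : g (l + 2) - 2 * g (l + 1) + g l = 1 := by
      simp only [g, Finset.mul_sum, ← Finset.sum_sub_distrib, ← Finset.sum_add_distrib]
      rw [← neg_neg (1 : K), ← hgeo (l + 1) (by omega) (by omega), ← Finset.sum_neg_distrib]
      refine Finset.sum_congr rfl fun i hi => ?_
      rw [mul_div_assoc', ← sub_div, ← add_div, div_eq_iff (hden i hi)]
      rw [show i * (l + 2) = i * l + i + i by ring, show i * (l + 1) = i * l + i by ring, pow_add, pow_add]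
      linear_combination (-(ζ ^ (i * l))) * (mul_inv_cancel₀ (hz i))
    have hf : f (l + 2) - 2 * f (l + 1) + f l = 1 := by
      simp only [f]; push_cast; field_simp; ring
    simp only [h]
    linear_combination hg - hf
  have hlin : ∀ l, l ≤ N → h l = h 0 + (l : K) * (h 1 - h 0) := by
    intro l
    induction l using Nat.strong_induction_on with
    | _ l ih =>
      intro hl
      match l, ih, hl with
      | 0, _, _ => simp
      | 1, _, _ => simp
      | l + 2, ih, hl =>
        rw [hrec l hl, ih (l + 1) (by omega) (by omega), ih l (by omega) (by omega)]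
        push_cast; ring
  have hN : h N = h 0 := by
    simp only [h, g, f]
    congr 1
    · refine Finset.sum_congr rfl fun i _ => ?_
      rw [mul_comm i N, pow_mul, hζ.pow_eq_one, one_pow, mul_zero, pow_zero]
    · simp
  have hc : h 1 - h 0 = 0 := by
    have h1 := hlin N le_rfl
    rw [hN] at h1
    exact (mul_eq_zero.1 (show (N : K) * (h 1 - h 0) = 0 by linear_combination -h1)).resolve_left hN0
  have hsum : ∑ l ∈ Finset.range N, h l = 0 := by
    have hg : ∑ l ∈ Finset.range N, g l = 0 := by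
      simp only [g]
      rw [Finset.sum_comm]
      refine Finset.sum_eq_zero fun i hi => ?_
      rw [← Finset.sum_div]
      have h1 : ∑ l ∈ Finset.range N, (ζ ^ i) ^ l = 0 := by
        refine eq_zero_of_ne_zero_of_mul_left_eq_zero (sub_ne_zero.2 (hne i hi)) (?_ : (ζ ^ i - 1) * _ = 0)
        rw [mul_geom_sum, ← pow_mul, mul_comm, pow_mul, hζ.pow_eq_one, one_pow, sub_self]
      simp [pow_mul, h1]
    have hF : ∀ M : ℕ, 12 * ∑ l ∈ Finset.range M, f l =
        ((M : K) - 1) * M * (2 * M - 1) - 3 * N * M * (M - 1) + M * ((N : K) ^ 2 - 1) := by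
      intro M
      induction M with
      | zero => simp
      | succ M ih =>
        rw [Finset.sum_range_succ, mul_add, ih]
        have e : 12 * f M = 6 * ((M : K) * ((M : K) - N)) + ((N : K) ^ 2 - 1) := by
          simp only [f]; field_simp; ring
        rw [e]; push_cast; ring
    have hf : ∑ l ∈ Finset.range N, f l = 0 := by
      have := hF N
      exact (mul_eq_zero.1 (show (12 : K) * ∑ l ∈ Finset.range N, f l = 0 by linear_combination this)).resolve_left h12
    simp only [h, Finset.sum_sub_distrib, hg, hf, sub_zero]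
  have h00 : h 0 = 0 := by
    rw [Finset.sum_congr rfl (fun l hl => by rw [hlin l (Finset.mem_range.1 hl).le, hc, mul_zero, add_zero] :
      ∀ l ∈ Finset.range N, h l = h 0), Finset.sum_const, Finset.card_range, nsmul_eq_mul] at hsum
    exact (mul_eq_zero.1 hsum).resolve_left hN0
  have := hlin j hj.le
  rw [hc, h00, mul_zero, add_zero] at this
  exact sub_eq_zero.1 this

theorem circulant_pos (N : ℕ) (hN : 0 < N) (ζ : ℂ) (hζ : IsPrimitiveRoot ζ N) (m : ℕ) :
    (∑ i ∈ Finset.range N,
        ((i : ℂ) * ((i : ℂ) - (N : ℂ)) / 2 + ((N : ℂ) ^ 2 - 1) / 12) / (N : ℂ) * ζ ^ (m * i)).im = 0 ∧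
    0 ≤ (∑ i ∈ Finset.range N,
        ((i : ℂ) * ((i : ℂ) - (N : ℂ)) / 2 + ((N : ℂ) ^ 2 - 1) / 12) / (N : ℂ) * ζ ^ (m * i)).re := by
  have hn : ∀ l : ℕ, 2 - ζ ^ l - (ζ ^ l)⁻¹ = (Complex.normSq (1 - ζ ^ l) : ℂ) := fun l => by
    have h1 : ‖ζ ^ l‖ = 1 := by rw [norm_pow, hζ.norm'_eq_one hN.ne', one_pow]
    have h2 : ζ ^ l ≠ 0 := pow_ne_zero _ (hζ.ne_zero hN.ne')
    rw [← Complex.mul_conj, map_sub, map_one, ← Complex.inv_eq_conj h1]
    field_simp; ring
  have e : (∑ i ∈ Finset.range N, ((i : ℂ) * ((i : ℂ) - (N : ℂ)) / 2 + ((N : ℂ) ^ 2 - 1) / 12) / (N : ℂ) * ζ ^ (m * i)) =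
      ((∑ l ∈ Finset.Ioo 0 N, (if N ∣ l + m then (1 : ℝ) else 0) / Complex.normSq (1 - ζ ^ l) : ℝ) : ℂ) := by
    rw [Finset.sum_congr rfl fun i hi => by rw [← trig_sum ℂ (by norm_num) N i (Finset.mem_range.1 hi) ζ hζ, Finset.sum_div, Finset.sum_mul],
      Finset.sum_comm, Complex.ofReal_sum]
    refine Finset.sum_congr rfl fun l _ => ?_
    rw [Complex.ofReal_div, ← hn l]
    have hN' : (N : ℂ) ≠ 0 := Nat.cast_ne_zero.2 hN.ne'
    have hs : ∑ i ∈ Finset.range N, (ζ ^ (l + m)) ^ i = if N ∣ l + m then (N : ℂ) else 0 := by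
      split_ifs with h
      · rw [(hζ.pow_eq_one_iff_dvd _).2 h]; simp
      · refine eq_zero_of_ne_zero_of_mul_left_eq_zero (sub_ne_zero.2 fun h1 => h ((hζ.pow_eq_one_iff_dvd _).1 h1)) (?_ : (ζ ^ (l + m) - 1) * _ = 0)
        rw [mul_geom_sum, ← pow_mul, mul_comm, pow_mul, hζ.pow_eq_one, one_pow, sub_self]
    have ep : ∀ i : ℕ, ζ ^ (l * i) / (2 - ζ ^ l - (ζ ^ l)⁻¹) / (N : ℂ) * ζ ^ (m * i) =
        (ζ ^ (l + m)) ^ i / (N : ℂ) / (2 - ζ ^ l - (ζ ^ l)⁻¹) := fun i => by
      rw [← pow_mul, add_mul, pow_add]; ring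
    rw [Finset.sum_congr rfl fun i _ => ep i, ← Finset.sum_div, ← Finset.sum_div, hs]
    split_ifs <;> simp [div_self hN']
  rw [e, Complex.ofReal_im, Complex.ofReal_re]
  exact ⟨rfl, Finset.sum_nonneg fun l _ => div_nonneg (by split_ifs <;> norm_num) (Complex.normSq_nonneg _)⟩

theorem jacobson_compl (R : Type u) [CommRing R] [IsNoetherianRing R] (I : Ideal R) (hI : I ≤ (⊥ : Ideal R).jacobson) :
    JacobsonSpace ↥((PrimeSpectrum.zeroLocus (I : Set R))ᶜ) := by
  let U : Set (PrimeSpectrum R) := (PrimeSpectrum.zeroLocus (I : Set R))ᶜ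
  change JacobsonSpace ↥U
  rw [jacobsonSpace_iff_locallyClosed]
  rintro Z ⟨⟨p, hpU⟩, hpZ⟩ ⟨O, C, hO, hC, rfl⟩
  obtain ⟨O', hO', rfl⟩ := isOpen_induced_iff.1 hO
  obtain ⟨C', hC', rfl⟩ := isClosed_induced_iff.1 hC
  obtain ⟨_, ⟨f, rfl⟩, hpf, hfO⟩ := PrimeSpectrum.isTopologicalBasis_basic_opens.exists_subset_of_mem_open hpZ.1 hO'
  obtain ⟨a, haI, hap⟩ := Set.not_subset.1 (show ¬ (I : Set R) ⊆ p.asIdeal from hpU)
  have hgp : f * a ∉ p.asIdeal := fun h => (p.2.mem_or_mem h).elim hpf hap
  let 𝒮 : Set (Ideal R) := {P | P.IsPrime ∧ p.asIdeal ≤ P ∧ f * a ∉ P}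
  obtain ⟨q, ⟨hqp, hpq, hgq⟩, hmax⟩ := set_has_maximal_iff_noetherian.2 (inferInstance : IsNoetherian R R) 𝒮
    ⟨p.asIdeal, p.2, le_rfl, hgp⟩
  haveI := hqp
  have hfq : f ∉ q := fun h => hgq (Ideal.mul_mem_right a q h)
  have haq : a ∉ q := fun h => hgq (Ideal.mul_mem_left q f h)
  let J : Ideal R := q ⊔ Ideal.span {f * a}
  have hJfin := Ideal.finite_minimalPrimes_of_isNoetherianRing R J
  have habove : ∀ P : Ideal R, P.IsPrime → q < P → f * a ∈ P := fun P hP hlt => by
    by_contra hn
    exact hmax P ⟨hP, hpq.trans hlt.le, hn⟩ hlt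
  have hmin : ∀ P ∈ J.minimalPrimes, q < P := fun P hP => lt_of_le_of_ne (le_sup_left.trans hP.1.2)
    fun h => hgq (h ▸ hP.1.2 (Ideal.mem_sup_right (Ideal.mem_span_singleton_self _)))
  have hall : ∀ P : Ideal R, P.IsPrime → q < P → P ∈ J.minimalPrimes := by
    intro P hP hlt
    by_contra hPJ
    have hnsub : ¬ ∀ x ∈ P, ∃ Q ∈ J.minimalPrimes, x ∈ Q := by
      intro hcov
      obtain ⟨Q, hQ, hle⟩ := (Ideal.subset_union_prime_finite (f := id) hJfin ⊥ ⊥ fun Q hQ _ _ => hQ.1.1).1
        (show (P : Set R) ⊆ ⋃ Q ∈ J.minimalPrimes, (id Q : Set R) from fun x hx => by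
          obtain ⟨Q, hQ, hxQ⟩ := hcov x hx; exact Set.mem_biUnion hQ hxQ)
      have hJP : J ≤ P := sup_le hlt.le (Ideal.span_le.2 (Set.singleton_subset_iff.2 (habove P hP hlt)))
      exact hPJ ((le_antisymm hle (hQ.2 ⟨hP, hJP⟩ hle)).symm ▸ hQ)
    push Not at hnsub
    obtain ⟨x, hxP, hx⟩ := hnsub
    obtain ⟨P', hP'm, hP'le⟩ := Ideal.exists_minimalPrimes_le (I := q ⊔ Ideal.span {x}) (J := P)
      (sup_le hlt.le (Ideal.span_le.2 (Set.singleton_subset_iff.2 hxP)))
    have hxP' : x ∈ P' := hP'm.1.2 (Ideal.mem_sup_right (Ideal.mem_span_singleton_self _))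
    have hqP' : q < P' := lt_of_le_of_ne (le_sup_left.trans hP'm.1.2) (fun h => by
      obtain ⟨Q, hQ, -⟩ := Ideal.exists_minimalPrimes_le (I := J) (J := P) (sup_le hlt.le (Ideal.span_le.2 (Set.singleton_subset_iff.2 (habove P hP hlt))))
      exact hx Q hQ ((hmin Q hQ).le (h ▸ hxP')))
    haveI : P'.IsPrime := hP'm.1.1
    obtain ⟨Q, hQm, hQle⟩ := Ideal.exists_minimalPrimes_le (I := J) (J := P')
      (sup_le hqP'.le (Ideal.span_le.2 (Set.singleton_subset_iff.2 (habove P' hP'm.1.1 hqP'))))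
    have hQlt : Q < P' := lt_of_le_of_ne hQle fun h => hx Q hQm (h ▸ hxP')
    -- pass to the quotient by `q`
    let π := Ideal.Quotient.mk q
    have hker : RingHom.ker π = q := Ideal.mk_ker
    have hmap : ∀ {T : Ideal R}, q ≤ T → (T.map π).comap π = T := fun {T} hT => by
      rw [Ideal.comap_map_of_surjective π Ideal.Quotient.mk_surjective, ← RingHom.ker_eq_comap_bot, hker, sup_eq_left.2 hT]
    haveI : (P'.map π).IsPrime := Ideal.map_isPrime_of_surjective (H := hP'm.1.1) Ideal.Quotient.mk_surjective (by rw [hker]; exact hqP'.le)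
    haveI : (Q.map π).IsPrime := Ideal.map_isPrime_of_surjective (H := hQm.1.1) Ideal.Quotient.mk_surjective (by rw [hker]; exact (hmin Q hQm).le)
    have hP'min : P'.map π ∈ (Ideal.span {π x}).minimalPrimes := by
      refine ⟨⟨inferInstance, Ideal.span_le.2 (Set.singleton_subset_iff.2 (Ideal.mem_map_of_mem π hxP'))⟩, fun T hT hTle => ?_⟩
      haveI := hT.1
      have h1 : P' ≤ T.comap π := hP'm.2 ⟨inferInstance, sup_le (fun y hy => by
          rw [Ideal.mem_comap, show π y = 0 from Ideal.Quotient.eq_zero_iff_mem.2 hy]; exact zero_mem _)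
          (Ideal.span_le.2 (Set.singleton_subset_iff.2 (hT.2 (Ideal.mem_span_singleton_self _))))⟩
        (by rw [← hmap hqP'.le]; exact Ideal.comap_mono hTle)
      exact Ideal.map_le_iff_le_comap.2 h1
    haveI : (Ideal.span {π x}).IsPrincipal := ⟨⟨π x, rfl⟩⟩
    have hh : (P'.map π).height ≤ 1 := Ideal.height_le_one_of_isPrincipal_of_mem_minimalPrimes _ _ hP'min
    have s1 : (⊥ : Ideal (R ⧸ q)) < Q.map π := bot_lt_iff_ne_bot.2 fun h => by
      have := hmap (hmin Q hQm).le
      rw [h, ← RingHom.ker_eq_comap_bot, hker] at this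
      exact (hmin Q hQm).ne this
    have s2 : Q.map π < P'.map π := lt_of_le_of_ne (Ideal.map_mono hQle) fun h => by
      have := congrArg (Ideal.comap π) h
      rw [hmap (hmin Q hQm).le, hmap hqP'.le] at this
      exact hQlt.ne this
    have t1 := Ideal.height_strict_mono_of_isPrime s1
    have t2 := Ideal.height_strict_mono_of_isPrime s2
    have t3 : (Q.map π).height = 0 := Order.lt_one_iff.1 (lt_of_lt_of_le t2 hh)
    rw [t3] at t1
    exact not_lt_zero t1
  have hmaximal : ∀ P : Ideal R, P.IsPrime → q < P → I ≤ P := by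
    intro P hP hlt
    refine hI.trans (sInf_le ⟨bot_le, ?_⟩)
    obtain ⟨M, hM, hPM⟩ := Ideal.exists_le_maximal P hP.ne_top
    rcases eq_or_lt_of_le hPM with h | h
    · rwa [h]
    · exact absurd ((hall M hM.isPrime (hlt.trans h)).2 (hall P hP hlt).1 hPM) (not_le_of_gt h)
  have hqU : (⟨q, hqp⟩ : PrimeSpectrum R) ∈ U := fun h => haq (h haI)
  refine ⟨⟨⟨q, hqp⟩, hqU⟩, ⟨hfO hfq, ?_⟩, ?_⟩
  · exact (PrimeSpectrum.le_iff_specializes p ⟨q, hqp⟩).1 hpq |>.mem_closed hC' hpZ.2
  · have hset : ({⟨⟨q, hqp⟩, hqU⟩} : Set ↥U) = Subtype.val ⁻¹' PrimeSpectrum.zeroLocus (q : Set R) := by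
      ext ⟨y, hy⟩
      constructor
      · intro h; cases h; exact fun z hz => hz
      · intro h
        rcases eq_or_lt_of_le (show q ≤ y.asIdeal from h) with h' | h'
        · exact Subtype.ext (PrimeSpectrum.ext h'.symm)
        · exact absurd (fun z hz => hmaximal _ y.2 h' hz) hy
    change IsClosed ({⟨⟨q, hqp⟩, hqU⟩} : Set ↥U)
    rw [hset]
    exact (PrimeSpectrum.isClosed_zeroLocus _).preimage continuous_subtype_val

open CategoryTheory in
theorem height_le_pd (B : Type u) [CommRing B] [IsRegularLocalRing B] (M : Type u) [AddCommGroup M] [Module B M]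
    [Module.Finite B M] (p : Ideal B) (hp : p ∈ associatedPrimes B M) (n : ℕ)
    (hn : HasProjectiveDimensionLE (ModuleCat.of B M) n) : p.height ≤ n := by
  haveI := hp.isPrime
  haveI : IsRegularRing B := Groth.Agent.CotT.isRegularRing_of_local B
  haveI := IsRegularRing.isRegularLocalRing_localization p
  haveI := hn
  have h1 := ModuleCat.localizedModule_hasProjectiveDimensionLE n p.primeCompl (ModuleCat.of B M)
  haveI := ModuleCat.localizedModule_isLocalizedModule (ModuleCat.of B M) p.primeCompl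
  let e : (ModuleCat.of B M).localizedModule p.primeCompl ≃ₗ[B] LocalizedModule p.primeCompl M :=
    IsLocalizedModule.linearEquiv p.primeCompl ((ModuleCat.of B M).localizedModuleMkLinearMap p.primeCompl)
      (LocalizedModule.mkLinearMap p.primeCompl M)
  have h2 : Groth.Agent.SerreReg.PdLE (Localization.AtPrime p) (LocalizedModule p.primeCompl M) n :=
    Groth.Agent.SerreReg.pdLE_of_equiv (LinearEquiv.extendScalarsOfIsLocalization p.primeCompl (Localization p.primeCompl) e) h1
  have hd : ringKrullDim (Localization.AtPrime p) = (p.height.toNat : ℕ) := by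
    rw [IsLocalization.AtPrime.ringKrullDim_eq_height p]
    rw [← ENat.coe_toNat (Ideal.height_ne_top (Ideal.IsPrime.ne_top inferInstance))]
    rfl
  have h3 := (Groth.Agent.FibDepth.pdLE_iff_le_depth _ hd n (LocalizedModule p.primeCompl M)).1 h2
  rw [Groth.Agent.LocH.depth_eq_zero_of_associated M hp] at h3
  rw [← ENat.coe_toNat (Ideal.height_ne_top (Ideal.IsPrime.ne_top ‹_›) : p.height ≠ ⊤), Nat.cast_le]
  have : p.height.toNat - n = 0 := by exact_mod_cast le_antisymm h3 bot_le
  omega

theorem associated_of_depth_zero {A : Type u} [CommRing A] [IsNoetherianRing A] (M : Type u) [AddCommGroup M]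
    [Module A M] [Module.Finite A M] (p : Ideal A) [p.IsPrime]
    (h : LocCoh.depth (Localization.AtPrime p) (LocalizedModule p.primeCompl M) = 0) : p ∈ associatedPrimes A M := by
  haveI : IsNoetherianRing (Localization.AtPrime p) := IsLocalization.isNoetherianRing p.primeCompl _ inferInstance
  have h1 := (Groth.Agent.FibDepth.isAssociatedPrime_maximalIdeal_iff (LocalizedModule p.primeCompl M)).2 h
  have h2 := AssociatedPrimes.mem_iff.2 h1
  rw [← Module.associatedPrimes.preimage_comap_associatedPrimes_eq_associatedPrimes_of_isLocalizedModule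
      p.primeCompl (Localization.AtPrime p) (LocalizedModule.mkLinearMap p.primeCompl M), Set.mem_preimage] at h2
  exact (show Ideal.comap (algebraMap A (Localization.AtPrime p)) (IsLocalRing.maximalIdeal (Localization.AtPrime p)) = p from
    IsLocalization.AtPrime.under_maximalIdeal (Localization.AtPrime p) p) ▸ h2

theorem quot_torsion (A : Type u) [CommRing A] [IsNoetherianRing A] (T : Set (PrimeSpectrum A))
    (hT : StableUnderSpecialization T) (M : Type u) [AddCommGroup M] [Module A M] [Module.Finite A M] :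
    ∃ (M' : Type u) (_ : AddCommGroup M') (_ : Module A M') (_ : Module.Finite A M') (f : M →ₗ[A] M'),
      Function.Surjective f ∧
      (∀ p : PrimeSpectrum A, p ∉ T → Function.Bijective (LocalizedModule.map p.asIdeal.primeCompl f)) ∧
      ∀ p : PrimeSpectrum A, p ∈ T → 1 ≤ LocCoh.depth (Localization.AtPrime p.asIdeal) (LocalizedModule p.asIdeal.primeCompl M') := by
  let ann : M → Ideal A := fun m => LinearMap.ker (LinearMap.toSpanSingleton A M m)
  have hann : ∀ (m : M) (r : A), r ∈ ann m ↔ r • m = 0 := fun m r => by simp [ann]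
  let N : Submodule A M :=
    { carrier := {m | PrimeSpectrum.zeroLocus (ann m : Set A) ⊆ T}
      add_mem' := fun {x y} hx hy P hP => by
        rcases P.2.mul_le.1 (show ann x * ann y ≤ P.asIdeal from fun r hr => hP ((Ideal.mul_le.2 fun a ha b hb => by
          rw [hann, smul_add, mul_smul, mul_smul, (hann y b).1 hb, smul_zero, add_zero, smul_comm, (hann x a).1 ha, smul_zero]) hr)) with h | h
        · exact hx h
        · exact hy h
      zero_mem' := fun P hP => absurd (hP (show (1 : A) ∈ ann 0 by rw [hann, smul_zero])) (fun h => P.2.ne_top ((Ideal.eq_top_iff_one _).2 h))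
      smul_mem' := fun c m hm P hP => hm fun r hr => hP (show r ∈ ann (c • m) by
        rw [hann, smul_comm, (hann m r).1 hr, smul_zero]) }
  have hNp : ∀ m ∈ N, ∀ p : PrimeSpectrum A, p ∉ T → ∃ s : A, s ∉ p.asIdeal ∧ s • m = 0 := fun m hm p hp => by
    by_contra hcon
    push Not at hcon
    exact hp (hm fun r hr => Classical.not_not.1 fun hrp => hcon r hrp ((hann m r).1 hr))
  refine ⟨M ⧸ N, inferInstance, inferInstance, inferInstance, N.mkQ, N.mkQ_surjective, fun p hp => ⟨?_, LocalizedModule.map_surjective _ _ N.mkQ_surjective⟩, fun p hp => ?_⟩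
  · rw [injective_iff_map_eq_zero]
    intro z hz
    induction z using LocalizedModule.induction_on with
    | h m s =>
      rw [LocalizedModule.map_mk, ← LocalizedModule.zero_mk s, LocalizedModule.mk_eq] at hz
      obtain ⟨t, ht⟩ := hz
      have hmem : ((t : A) * (s : A)) • m ∈ N := by
        rw [← Submodule.Quotient.mk_eq_zero, Submodule.Quotient.mk_smul, mul_smul]
        simpa [Submonoid.smul_def] using ht
      obtain ⟨u', hu', hu''⟩ := hNp _ hmem p hp
      rw [← LocalizedModule.zero_mk s, LocalizedModule.mk_eq]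
      refine ⟨⟨u', hu'⟩ * t, ?_⟩
      simp only [smul_zero, Submonoid.smul_def, Submonoid.coe_mul]
      rw [← mul_smul, mul_assoc, mul_smul]
      exact hu''
  · have hnass : p.asIdeal ∉ associatedPrimes A (M ⧸ N) := fun h => by
      obtain ⟨-, y, hy⟩ := (isAssociatedPrime_iff_exists_injective_linearMap p.asIdeal (M ⧸ N)).1 h
      obtain ⟨m, hm⟩ := N.mkQ_surjective (y (Ideal.Quotient.mk _ 1))
      have hpm : ∀ r ∈ p.asIdeal, r • m ∈ N := fun r hr => by
        rw [← Submodule.Quotient.mk_eq_zero, Submodule.Quotient.mk_smul, ← Submodule.mkQ_apply, hm, ← map_smul,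
          ← Ideal.Quotient.mk_eq_mk, ← Submodule.Quotient.mk_smul, smul_eq_mul, mul_one, (Submodule.Quotient.mk_eq_zero _).2 hr, map_zero]
      have hmN : m ∈ N := by
        intro P hP
        by_contra hPT
        have hple : ¬ p.asIdeal ≤ P.asIdeal := fun hle => hPT (hT ((PrimeSpectrum.le_iff_specializes p P).1 hle) hp)
        obtain ⟨r, hr, hrP⟩ := Set.not_subset.1 hple
        obtain ⟨s, hs, hs'⟩ := hNp _ (hpm r hr) P hPT
        exact (P.2.mem_or_mem (hP (show s * r ∈ ann m by rw [hann, mul_smul, hs']))).elim hs hrP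
      have h0 : y (Ideal.Quotient.mk _ 1) = 0 := by rw [← hm]; exact (Submodule.Quotient.mk_eq_zero N).2 hmN
      exact p.2.ne_top ((Ideal.eq_top_iff_one _).2 (Ideal.Quotient.eq_zero_iff_mem.1 (hy (h0.trans (map_zero y).symm))))
    haveI : Nonempty (Localization.AtPrime p.asIdeal) := ⟨0⟩
    rw [LocCoh.depth]
    by_contra hlt
    rw [not_le, ENat.lt_one_iff_eq_zero] at hlt
    exact hnass (associated_of_depth_zero (M ⧸ N) p.asIdeal hlt)

end Groth.Agent.H4Easy
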