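import Mathlib

/-! Sums, retracts and coproducts of distinguished triangles; finality from connected fibres; associativity of categorical pullbacks -/

set_option autoImplicit false
set_option linter.style.haveILetI false

open CategoryTheory CategoryTheory.Limits CategoryTheory.Pretriangulated

universe w v v' u u' v₁ v₂ v₃ u₁ u₂ u₃

namespace Groth.Agent.H4Easy


section
variable {D : Type u} [Category.{v} D] [Preadditive D] [HasZeroObject D] [HasShift D ℤ]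
  [∀ n : ℤ, (shiftFunctor D n).Additive] [Pretriangulated D]

theorem dist_of_exact (T : Triangle D) {Z : D} {g : T.obj₂ ⟶ Z} {h : Z ⟶ T.obj₁⟦(1 : ℤ)⟧}
    (hz : Triangle.mk T.mor₁ g h ∈ distTriang D) (a : Z ⟶ T.obj₃) (ha₁ : g ≫ a = T.mor₂)
    (ha₂ : a ≫ T.mor₃ = h)
    (ex₂ : ∀ {W : D} (y : W ⟶ T.obj₂), y ≫ T.mor₂ = 0 → ∃ z, y = z ≫ T.mor₁)
    (ex₃ : ∀ {W : D} (x : W ⟶ T.obj₃), x ≫ T.mor₃ = 0 → ∃ y, x = y ≫ T.mor₂)
    (z₃₁ : T.mor₃ ≫ T.mor₁⟦(1 : ℤ)⟧' = 0) : T ∈ distTriang D := by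
  haveI : IsIso a := by
    refine isIso_of_yoneda_map_bijective _ fun W => ⟨fun x₁ x₂ hx => ?_, fun x => ?_⟩
    · have h0 : (x₁ - x₂) ≫ a = 0 := by
        rw [Preadditive.sub_comp, sub_eq_zero]; exact hx
      obtain ⟨y, hy⟩ : ∃ y : W ⟶ T.obj₂, x₁ - x₂ = y ≫ g := Triangle.coyoneda_exact₃ _ hz (x₁ - x₂) (by
        show (x₁ - x₂) ≫ h = 0
        rw [← ha₂, reassoc_of% h0, zero_comp])
      obtain ⟨z, hz'⟩ := ex₂ y (by rw [← ha₁, ← Category.assoc, ← hy, h0])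
      have h12 : T.mor₁ ≫ g = 0 := comp_distTriang_mor_zero₁₂ _ hz
      rw [← sub_eq_zero, hy, hz', Category.assoc, h12, comp_zero]
    · obtain ⟨w, hw⟩ : ∃ w : W ⟶ Z, x ≫ T.mor₃ = w ≫ h := Triangle.coyoneda_exact₁ _ hz (x ≫ T.mor₃) (by
        show (x ≫ T.mor₃) ≫ T.mor₁⟦(1 : ℤ)⟧' = 0
        rw [Category.assoc, z₃₁, comp_zero])
      obtain ⟨y, hy⟩ := ex₃ (x - w ≫ a) (by rw [Preadditive.sub_comp, Category.assoc, ha₂, hw, sub_self])
      refine ⟨w + y ≫ g, ?_⟩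
      show (w + y ≫ g) ≫ a = x
      rw [Preadditive.add_comp, Category.assoc, ha₁, ← hy, add_sub_cancel]
  exact isomorphic_distinguished _ hz _ (Iso.symm (Triangle.isoMk (Triangle.mk T.mor₁ g h) T (Iso.refl _) (Iso.refl _)
    (@asIso D _ Z T.obj₃ a ‹IsIso a›) ((Category.comp_id _).trans (Category.id_comp _).symm)
    (ha₁.trans (Category.id_comp _).symm)
    ((congrArg (h ≫ ·) ((shiftFunctor D (1 : ℤ)).map_id _)).trans ((Category.comp_id _).trans ha₂.symm))))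

theorem dist_of_retract (T T' : Triangle D) (hT' : T' ∈ distTriang D) (i : T ⟶ T') (r : T' ⟶ T)
    (h₁ : i.hom₁ ≫ r.hom₁ = 𝟙 _) (h₂ : i.hom₂ ≫ r.hom₂ = 𝟙 _) (h₃ : i.hom₃ ≫ r.hom₃ = 𝟙 _) :
    T ∈ distTriang D := by
  obtain ⟨Z, g, h, hz⟩ := distinguished_cocone_triangle T.mor₁
  obtain ⟨φ, c₂, c₃⟩ : ∃ φ : Z ⟶ T'.obj₃, g ≫ φ = i.hom₂ ≫ T'.mor₂ ∧ h ≫ i.hom₁⟦(1 : ℤ)⟧' = φ ≫ T'.mor₃ :=
    complete_distinguished_triangle_morphism (Triangle.mk T.mor₁ g h) T' hz hT' i.hom₁ i.hom₂ i.comm₁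
  refine dist_of_exact T hz (φ ≫ r.hom₃) ?_ ?_ (fun y hy => ?_) (fun x hx => ?_) ?_
  · rw [reassoc_of% c₂, r.comm₂, reassoc_of% h₂]
  · rw [Category.assoc, ← r.comm₃, ← reassoc_of% c₃, ← Functor.map_comp, h₁, CategoryTheory.Functor.map_id, Category.comp_id]
  · obtain ⟨z, hz'⟩ := T'.coyoneda_exact₂ hT' (y ≫ i.hom₂) (by
      rw [Category.assoc, ← i.comm₂, reassoc_of% hy, zero_comp])
    refine ⟨z ≫ r.hom₁, ?_⟩
    rw [Category.assoc, ← r.comm₁, ← reassoc_of% hz', h₂, Category.comp_id]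
  · obtain ⟨z, hz'⟩ := T'.coyoneda_exact₃ hT' (x ≫ i.hom₃) (by
      rw [Category.assoc, ← i.comm₃, reassoc_of% hx, zero_comp])
    refine ⟨z ≫ r.hom₂, ?_⟩
    rw [Category.assoc, ← r.comm₂, ← reassoc_of% hz', h₃, Category.comp_id]
  · calc T.mor₃ ≫ T.mor₁⟦(1 : ℤ)⟧' = T.mor₃ ≫ T.mor₁⟦(1 : ℤ)⟧' ≫ (i.hom₂ ≫ r.hom₂)⟦(1 : ℤ)⟧' := by
          rw [h₂, CategoryTheory.Functor.map_id, Category.comp_id]
      _ = i.hom₃ ≫ (T'.mor₃ ≫ T'.mor₁⟦(1 : ℤ)⟧') ≫ r.hom₂⟦(1 : ℤ)⟧' := by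
          rw [Category.assoc, ← reassoc_of% i.comm₃, ← Functor.map_comp, ← Functor.map_comp, ← Functor.map_comp,
            ← reassoc_of% i.comm₁]
      _ = 0 := by rw [comp_distTriang_mor_zero₃₁ _ hT', zero_comp, comp_zero]

theorem biprod_triangle_iff (T T' : Triangle D) :
    Triangle.mk (biprod.map T.mor₁ T'.mor₁) (biprod.map T.mor₂ T'.mor₂)
      (biprod.desc (T.mor₃ ≫ (shiftFunctor D (1 : ℤ)).map biprod.inl)
        (T'.mor₃ ≫ (shiftFunctor D (1 : ℤ)).map biprod.inr)) ∈ distTriang D ↔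
      (T ∈ distTriang D ∧ T' ∈ distTriang D) := by
  set m₃ := (biprod.desc (T.mor₃ ≫ (shiftFunctor D (1 : ℤ)).map biprod.inl)
        (T'.mor₃ ≫ (shiftFunctor D (1 : ℤ)).map biprod.inr) : T.obj₃ ⊞ T'.obj₃ ⟶ _) with hm₃
  have p₁ : m₃ ≫ biprod.fst⟦(1 : ℤ)⟧' = biprod.fst ≫ T.mor₃ := by
    apply biprod.hom_ext' <;> simp [hm₃, ← Functor.map_comp]
  have p₂ : m₃ ≫ biprod.snd⟦(1 : ℤ)⟧' = biprod.snd ≫ T'.mor₃ := by
    apply biprod.hom_ext' <;> simp [hm₃, ← Functor.map_comp]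
  constructor
  · intro hS
    let S := Triangle.mk (biprod.map T.mor₁ T'.mor₁) (biprod.map T.mor₂ T'.mor₂) m₃
    exact ⟨dist_of_retract T S hS
        { hom₁ := biprod.inl, hom₂ := biprod.inl, hom₃ := biprod.inl
          comm₁ := (biprod.inl_map _ _).symm, comm₂ := (biprod.inl_map _ _).symm,
          comm₃ := (biprod.inl_desc _ _).symm }
        { hom₁ := biprod.fst, hom₂ := biprod.fst, hom₃ := biprod.fst
          comm₁ := biprod.map_fst _ _, comm₂ := biprod.map_fst _ _, comm₃ := p₁ }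
        biprod.inl_fst biprod.inl_fst biprod.inl_fst,
      dist_of_retract T' S hS
        { hom₁ := biprod.inr, hom₂ := biprod.inr, hom₃ := biprod.inr
          comm₁ := (biprod.inr_map _ _).symm, comm₂ := (biprod.inr_map _ _).symm,
          comm₃ := (biprod.inr_desc _ _).symm }
        { hom₁ := biprod.snd, hom₂ := biprod.snd, hom₃ := biprod.snd
          comm₁ := biprod.map_snd _ _, comm₂ := biprod.map_snd _ _, comm₃ := p₂ }
        biprod.inr_snd biprod.inr_snd biprod.inr_snd⟩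
  · rintro ⟨hT, hT'⟩
    obtain ⟨Z, g, h, hz⟩ := distinguished_cocone_triangle (biprod.map T.mor₁ T'.mor₁)
    obtain ⟨φ, c₂, c₃⟩ : ∃ φ : Z ⟶ T.obj₃, g ≫ φ = biprod.fst ≫ T.mor₂ ∧
        h ≫ biprod.fst⟦(1 : ℤ)⟧' = φ ≫ T.mor₃ :=
      complete_distinguished_triangle_morphism _ T hz hT biprod.fst biprod.fst (biprod.map_fst _ _)
    obtain ⟨φ', c₂', c₃'⟩ : ∃ φ' : Z ⟶ T'.obj₃, g ≫ φ' = biprod.snd ≫ T'.mor₂ ∧
        h ≫ biprod.snd⟦(1 : ℤ)⟧' = φ' ≫ T'.mor₃ :=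
      complete_distinguished_triangle_morphism _ T' hz hT' biprod.snd biprod.snd (biprod.map_snd _ _)
    have ext₁ : ∀ {W : D} (a b : W ⟶ (T.obj₁ ⊞ T'.obj₁)⟦(1 : ℤ)⟧),
        a ≫ biprod.fst⟦(1 : ℤ)⟧' = b ≫ biprod.fst⟦(1 : ℤ)⟧' →
        a ≫ biprod.snd⟦(1 : ℤ)⟧' = b ≫ biprod.snd⟦(1 : ℤ)⟧' → a = b := by
      intro W a b e₁ e₂
      have : 𝟙 ((T.obj₁ ⊞ T'.obj₁)⟦(1 : ℤ)⟧) = biprod.fst⟦(1 : ℤ)⟧' ≫ biprod.inl⟦(1 : ℤ)⟧' +
          biprod.snd⟦(1 : ℤ)⟧' ≫ biprod.inr⟦(1 : ℤ)⟧' := by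
        rw [← Functor.map_comp, ← Functor.map_comp, ← Functor.map_add, biprod.total, CategoryTheory.Functor.map_id]
      rw [← Category.comp_id a, ← Category.comp_id b, this, Preadditive.comp_add, Preadditive.comp_add,
        reassoc_of% e₁, reassoc_of% e₂]
    have ex₂ : ∀ {W : D} (y : W ⟶ T.obj₂ ⊞ T'.obj₂), y ≫ biprod.map T.mor₂ T'.mor₂ = 0 →
        ∃ z, y = z ≫ biprod.map T.mor₁ T'.mor₁ := by
      intro W y hy
      obtain ⟨z, hz₁⟩ := T.coyoneda_exact₂ hT (y ≫ biprod.fst) (by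
        rw [Category.assoc, ← biprod.map_fst T.mor₂ T'.mor₂, reassoc_of% hy, zero_comp])
      obtain ⟨z', hz₂⟩ := T'.coyoneda_exact₂ hT' (y ≫ biprod.snd) (by
        rw [Category.assoc, ← biprod.map_snd T.mor₂ T'.mor₂, reassoc_of% hy, zero_comp])
      refine ⟨biprod.lift z z', ?_⟩
      apply biprod.hom_ext <;> simp [hz₁, hz₂]
    have ex₃ : ∀ {W : D} (x : W ⟶ T.obj₃ ⊞ T'.obj₃), x ≫ m₃ = 0 →
        ∃ y, x = y ≫ biprod.map T.mor₂ T'.mor₂ := by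
      intro W x hx
      obtain ⟨z, hz₁⟩ := T.coyoneda_exact₃ hT (x ≫ biprod.fst) (by
        rw [Category.assoc, ← p₁, reassoc_of% hx, zero_comp])
      obtain ⟨z', hz₂⟩ := T'.coyoneda_exact₃ hT' (x ≫ biprod.snd) (by
        rw [Category.assoc, ← p₂, reassoc_of% hx, zero_comp])
      refine ⟨biprod.lift z z', ?_⟩
      apply biprod.hom_ext <;> simp [hz₁, hz₂]
    have z₃₁ : m₃ ≫ (biprod.map T.mor₁ T'.mor₁)⟦(1 : ℤ)⟧' = 0 := by
      apply biprod.hom_ext'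
      · rw [hm₃, biprod.inl_desc_assoc, Category.assoc, ← Functor.map_comp, biprod.inl_map, Functor.map_comp,
          comp_distTriang_mor_zero₃₁_assoc _ hT, zero_comp, comp_zero]
      · rw [hm₃, biprod.inr_desc_assoc, Category.assoc, ← Functor.map_comp, biprod.inr_map, Functor.map_comp,
          comp_distTriang_mor_zero₃₁_assoc _ hT', zero_comp, comp_zero]
    have ha₁ : g ≫ biprod.lift φ φ' = biprod.map T.mor₂ T'.mor₂ := by
      apply biprod.hom_ext <;> simp [c₂, c₂']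
    have ha₂ : biprod.lift φ φ' ≫ m₃ = h := by
      apply ext₁
      · rw [Category.assoc, p₁, biprod.lift_fst_assoc, c₃]
      · rw [Category.assoc, p₂, biprod.lift_snd_assoc, c₃']
    exact dist_of_exact (Triangle.mk _ _ m₃) hz (biprod.lift φ φ') ha₁ ha₂ ex₂ ex₃ z₃₁

theorem coproduct_triangle {J : Type w} (T : J → Triangle D) (hT : ∀ j, T j ∈ distTriang D)
    [HasCoproduct (fun j => (T j).obj₁)] [HasCoproduct (fun j => (T j).obj₂)] [HasCoproduct (fun j => (T j).obj₃)] :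
    Triangle.mk (Limits.Sigma.map (fun j => (T j).mor₁)) (Limits.Sigma.map (fun j => (T j).mor₂))
      (Sigma.desc (fun j => (T j).mor₃ ≫ (shiftFunctor D (1 : ℤ)).map (Sigma.ι (fun j => (T j).obj₁) j))) ∈
      distTriang D := by
  set F₁ := Limits.Sigma.map (fun j => (T j).mor₁) with hF₁
  set F₂ := Limits.Sigma.map (fun j => (T j).mor₂) with hF₂
  set F₃ := Sigma.desc (fun j => (T j).mor₃ ≫ (shiftFunctor D (1 : ℤ)).map (Sigma.ι (fun j => (T j).obj₁) j)) with hF₃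
  obtain ⟨Z, g, h, hz⟩ := distinguished_cocone_triangle F₁
  have hφ : ∀ j, ∃ φ : (T j).obj₃ ⟶ Z, (T j).mor₂ ≫ φ = Sigma.ι (fun j => (T j).obj₂) j ≫ g ∧
      (T j).mor₃ ≫ (Sigma.ι (fun j => (T j).obj₁) j)⟦(1 : ℤ)⟧' = φ ≫ h := fun j =>
    complete_distinguished_triangle_morphism (T j) _ (hT j) hz
      (Sigma.ι (fun j => (T j).obj₁) j) (Sigma.ι (fun j => (T j).obj₂) j) (Sigma.ι_map (fun j => (T j).mor₁) j).symm
  choose φ c₂ c₃ using hφ
  let a : (∐ fun j => (T j).obj₃) ⟶ Z := Sigma.desc φ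
  have hιa : ∀ j, Sigma.ι (fun j => (T j).obj₃) j ≫ a = φ j := fun j => Sigma.ι_desc _ _
  have ha₂ : F₂ ≫ a = g := Sigma.hom_ext _ _ fun j => by simp [hF₂, a, c₂]
  have ha₃ : a ≫ h = F₃ := Sigma.hom_ext _ _ fun j => by simp [hF₃, a, c₃]
  have h12 : F₁ ≫ g = 0 := comp_distTriang_mor_zero₁₂ _ hz
  have h31 : h ≫ F₁⟦(1 : ℤ)⟧' = 0 := comp_distTriang_mor_zero₃₁ _ hz
  haveI : IsIso a := by
    refine isIso_of_coyoneda_map_bijective _ fun W => ⟨fun x₁ x₂ hx => ?_, fun x => ?_⟩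
    · have h0 : a ≫ (x₁ - x₂) = 0 := by
        rw [Preadditive.comp_sub, sub_eq_zero]; exact hx
      obtain ⟨y, hy⟩ : ∃ y, x₁ - x₂ = h ≫ y := Triangle.yoneda_exact₃ _ hz (x₁ - x₂) (by
        show g ≫ (x₁ - x₂) = 0
        rw [← ha₂, Category.assoc, h0, comp_zero])
      let W' := W⟦(-1 : ℤ)⟧
      let e : W'⟦(1 : ℤ)⟧ ≅ W := (shiftEquiv D (1 : ℤ)).counitIso.app W
      let y₀ : (∐ fun j => (T j).obj₁) ⟶ W' := (shiftFunctor D (1 : ℤ)).preimage (y ≫ e.inv)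
      have hy₀ : y₀⟦(1 : ℤ)⟧' = y ≫ e.inv := Functor.map_preimage _ _
      have hc : ∀ j, ∃ z : (T j).obj₂ ⟶ W', Sigma.ι (fun j => (T j).obj₁) j ≫ y₀ = (T j).mor₁ ≫ z := by
        intro j
        obtain ⟨z', hz'⟩ : ∃ z' : (T j).obj₂⟦(1 : ℤ)⟧ ⟶ W'⟦(1 : ℤ)⟧,
            (Sigma.ι (fun j => (T j).obj₁) j ≫ y₀)⟦(1 : ℤ)⟧' = (-(T j).mor₁⟦(1 : ℤ)⟧') ≫ z' :=
          Triangle.yoneda_exact₃ _ (rot_of_distTriang _ (hT j)) _ (by
            show (T j).mor₃ ≫ (Sigma.ι (fun j => (T j).obj₁) j ≫ y₀)⟦(1 : ℤ)⟧' = 0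
            rw [Functor.map_comp, reassoc_of% (c₃ j), hy₀, ← reassoc_of% hy, ← hιa j, Category.assoc,
              reassoc_of% h0]
            simp)
        refine ⟨-(shiftFunctor D (1 : ℤ)).preimage z', (shiftFunctor D (1 : ℤ)).map_injective ?_⟩
        simp [hz']
      choose z hz' using hc
      have : y₀ = F₁ ≫ Sigma.desc z := Sigma.hom_ext _ _ fun j => by simp [hF₁, hz']
      rw [← sub_eq_zero, hy, ← cancel_mono e.inv, Category.assoc, ← hy₀, this, Functor.map_comp,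
        reassoc_of% h31, zero_comp, zero_comp]
    · obtain ⟨w, hw⟩ : ∃ w : Z ⟶ W, F₂ ≫ x = g ≫ w := Triangle.yoneda_exact₂ _ hz (F₂ ≫ x) (by
        show F₁ ≫ F₂ ≫ x = 0
        have : F₁ ≫ F₂ = 0 := Sigma.hom_ext _ _ fun j => by
          simp [hF₁, hF₂, comp_distTriang_mor_zero₁₂_assoc _ (hT j)]
        rw [reassoc_of% this, zero_comp])
      let W' := W⟦(-1 : ℤ)⟧
      let e : W'⟦(1 : ℤ)⟧ ≅ W := (shiftEquiv D (1 : ℤ)).counitIso.app W
      have hc : ∀ j, ∃ u : (T j).obj₁⟦(1 : ℤ)⟧ ⟶ W,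
          Sigma.ι (fun j => (T j).obj₃) j ≫ (x - a ≫ w) = (T j).mor₃ ≫ u := fun j =>
        Triangle.yoneda_exact₃ _ (hT j) _ (by
          have : F₂ ≫ (x - a ≫ w) = 0 := by rw [Preadditive.comp_sub, hw, reassoc_of% ha₂, sub_self]
          have := congrArg (Sigma.ι (fun j => (T j).obj₂) j ≫ ·) this
          simpa [hF₂] using this)
      choose u hu using hc
      let u₀ : (∐ fun j => (T j).obj₁) ⟶ W' :=
        Sigma.desc fun j => (shiftFunctor D (1 : ℤ)).preimage (u j ≫ e.inv)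
      refine ⟨w + h ≫ u₀⟦(1 : ℤ)⟧' ≫ e.hom, ?_⟩
      show a ≫ (w + h ≫ u₀⟦(1 : ℤ)⟧' ≫ e.hom) = x
      rw [Preadditive.comp_add, reassoc_of% ha₃, ← eq_sub_iff_add_eq']
      refine Sigma.hom_ext _ _ fun j => ?_
      rw [hu j, hF₃, Sigma.ι_desc_assoc, Category.assoc, ← Functor.map_comp_assoc, Sigma.ι_desc,
        Functor.map_preimage, Category.assoc, e.inv_hom_id, Category.comp_id]
  exact isomorphic_distinguished _ hz _ (Triangle.isoMk (Triangle.mk F₁ F₂ F₃) (Triangle.mk F₁ g h) (Iso.refl _) (Iso.refl _)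
    (@asIso D _ _ Z a ‹IsIso a›) ((Category.comp_id _).trans (Category.id_comp _).symm)
    (ha₂.trans (Category.id_comp _).symm)
    ((congrArg (F₃ ≫ ·) ((shiftFunctor D (1 : ℤ)).map_id _)).trans ((Category.comp_id _).trans ha₃.symm)))

end

section
variable {D : Type u} [Category.{v} D] [Preadditive D] [HasZeroObject D] [HasShift D ℤ]
  [∀ n : ℤ, (shiftFunctor D n).Additive] [Pretriangulated D] {D' : Type u'} [Category.{v'} D'] [Preadditive D']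
  [HasZeroObject D'] [HasShift D' ℤ] [∀ n : ℤ, (shiftFunctor D' n).Additive] [Pretriangulated D']

theorem isEquivalence_of_kernel_zero (F : D ⥤ D') (G : D' ⥤ D) [G.CommShift ℤ] [G.IsTriangulated]
    (adj : F ⊣ G) [F.Full] [F.Faithful] (hG : ∀ X : D', IsZero (G.obj X) → IsZero X) : F.IsEquivalence := by
  haveI : ∀ X, IsIso (adj.counit.app X) := by
    intro X
    obtain ⟨C, g, h, hT⟩ := distinguished_cocone_triangle (adj.counit.app X)
    haveI : IsIso (G.map (adj.counit.app X)) := by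
      have := adj.right_triangle_components X
      exact IsIso.of_isIso_fac_left this
    have : IsZero (G.obj C) := Triangle.isZero₃_of_isIso₁ _ (G.map_distinguished _ hT) (by
      show IsIso (G.map (adj.counit.app X)); infer_instance)
    exact (Triangle.isZero₃_iff_isIso₁ _ hT).1 (hG C this)
  exact adj.toEquivalence.isEquivalence_functor

end

section
variable {I : Type u₁} [Category.{v₁} I] {I' : Type u₂} [Category.{v₂} I'] {C : Type u₃} [Category.{v₃} C]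

def fiberToArrow (F : I ⥤ I') {d x' : I'} (g : d ⟶ x') : F.Fiber x' ⥤ StructuredArrow d F where
  obj a := StructuredArrow.mk (Y := a.1) (g ≫ eqToHom a.2.symm)
  map {a b} φ := StructuredArrow.homMk φ.1 (by
    haveI := φ.2
    have e := CategoryTheory.IsHomLift.fac' F (𝟙 x') φ.1
    show (g ≫ eqToHom a.2.symm) ≫ F.map φ.1 = g ≫ eqToHom b.2.symm
    rw [e]
    simp)
  map_id a := by ext; rfl
  map_comp φ ψ := by ext; rfl

theorem final_of_connected_fibers (F : I ⥤ I') (h1 : ∀ x' : I', IsConnected (F.Fiber x'))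
    (h2 : ∀ ⦃x' y' : I'⦄ (α' : x' ⟶ y'), ∃ (x y : I) (hx : F.obj x = x') (hy : F.obj y = y') (α : x ⟶ y),
      F.map α = eqToHom hx ≫ α' ≫ eqToHom hy.symm) : F.Final := by
  refine ⟨fun d => ?_⟩
  haveI := h1 d
  let base := (fiberToArrow F (𝟙 d)).obj (Classical.arbitrary (F.Fiber d))
  haveI : Nonempty (StructuredArrow d F) := ⟨base⟩
  refine zigzag_isConnected ?_
  have key : ∀ s : StructuredArrow d F, Zigzag s base := by
    intro s
    obtain ⟨a, b, ha, hb, α, hα⟩ := h2 s.hom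
    haveI := h1 (F.obj s.right)
    have z₁ : Zigzag ((fiberToArrow F s.hom).obj ⟨s.right, rfl⟩) ((fiberToArrow F s.hom).obj ⟨b, hb⟩) :=
      zigzag_obj_of_zigzag _ (isPreconnected_zigzag _ _)
    have e : (fiberToArrow F s.hom).obj ⟨s.right, rfl⟩ ⟶ s := StructuredArrow.homMk (𝟙 _) (by simp [fiberToArrow])
    have f : (fiberToArrow F (𝟙 d)).obj ⟨a, ha⟩ ⟶ (fiberToArrow F s.hom).obj ⟨b, hb⟩ :=
      StructuredArrow.homMk α (by simp [fiberToArrow, hα])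
    have z₂ : Zigzag ((fiberToArrow F (𝟙 d)).obj ⟨a, ha⟩) base :=
      zigzag_obj_of_zigzag _ (isPreconnected_zigzag _ _)
    exact ((Zigzag.of_inv e).trans z₁).trans ((Zigzag.of_inv f).trans z₂)
  exact fun s t => (key s).trans (Zigzag.symm (key t))

theorem hasColimit_iff_of_connected_fibers (F : I ⥤ I') (h1 : ∀ x' : I', IsConnected (F.Fiber x'))
    (h2 : ∀ ⦃x' y' : I'⦄ (α' : x' ⟶ y'), ∃ (x y : I) (hx : F.obj x = x') (hy : F.obj y = y') (α : x ⟶ y),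
      F.map α = eqToHom hx ≫ α' ≫ eqToHom hy.symm) (M : I' ⥤ C) :
    (HasColimit (F ⋙ M) ↔ HasColimit M) ∧ ∀ [HasColimit (F ⋙ M)] [HasColimit M], IsIso (colimit.pre M F) := by
  haveI := final_of_connected_fibers F h1 h2
  exact ⟨Functor.Final.hasColimit_comp_iff F, fun {_ _} => inferInstance⟩

end

section
variable {A B C D E : Type u} [Category.{v} A] [Category.{v} B] [Category.{v} C] [Category.{v} D] [Category.{v} E]

theorem categoricalPullback_assoc (F : A ⥤ B) (G : C ⥤ B) (H : C ⥤ D) (K : E ⥤ D) :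
    ∃ e : CategoricalPullback (CategoricalPullback.π₂ F G ⋙ H) K ≌
        CategoricalPullback F (CategoricalPullback.π₁ H K ⋙ G),
      e.functor ⋙ e.inverse = 𝟭 _ ∧ e.inverse ⋙ e.functor = 𝟭 _ ∧
      ∀ x, (e.functor.obj x).fst = x.fst.fst ∧ (e.functor.obj x).snd.fst = x.fst.snd ∧
        (e.functor.obj x).snd.snd = x.snd := by
  let P : CategoricalPullback (CategoricalPullback.π₂ F G ⋙ H) K ⥤
      CategoricalPullback F (CategoricalPullback.π₁ H K ⋙ G) :=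
    { obj := fun x => ⟨x.fst.fst, ⟨x.fst.snd, x.snd, x.iso⟩, x.fst.iso⟩
      map := fun f => ⟨f.fst.fst, ⟨f.fst.snd, f.snd, f.w⟩, f.fst.w⟩ }
  let Q : CategoricalPullback F (CategoricalPullback.π₁ H K ⋙ G) ⥤
      CategoricalPullback (CategoricalPullback.π₂ F G ⋙ H) K :=
    { obj := fun y => ⟨⟨y.fst, y.snd.fst, y.iso⟩, y.snd.snd, y.snd.iso⟩
      map := fun f => ⟨⟨f.fst, f.snd.fst, f.w⟩, f.snd.snd, f.snd.w⟩ }
  have hPQ : P ⋙ Q = 𝟭 _ := rfl
  have hQP : Q ⋙ P = 𝟭 _ := rfl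
  exact ⟨CategoryTheory.Equivalence.mk P Q (eqToIso hPQ.symm) (eqToIso hQP),
    hPQ, hQP, fun x => ⟨rfl, rfl, rfl⟩⟩

end

end Groth.Agent.H4Easy
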