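import Mathlib

/-! Homotopies of boundary maps, maps out of bounded projective complexes, negative objects -/

set_option autoImplicit false
set_option linter.style.haveILetI false

open CategoryTheory CategoryTheory.Limits CategoryTheory.Pretriangulated

universe w v u

namespace Groth.Agent.H4Easy


section
open HomologicalComplex CochainComplex
variable {C : Type u} [Category.{v} C] [Preadditive C] [HasBinaryBiproducts C]

theorem homotopy_homOfDegreewiseSplit (S : ShortComplex (CochainComplex C ℤ))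
    (σ σ' : ∀ n : ℤ, (S.map (HomologicalComplex.eval C (ComplexShape.up ℤ) n)).Splitting) :
    Nonempty (Homotopy (CochainComplex.homOfDegreewiseSplit S σ) (CochainComplex.homOfDegreewiseSplit S σ')) := by
  let s : ∀ n, S.X₃.X n ⟶ S.X₂.X n := fun n => (σ n).s
  let r : ∀ n, S.X₂.X n ⟶ S.X₁.X n := fun n => (σ n).r
  let s' : ∀ n, S.X₃.X n ⟶ S.X₂.X n := fun n => (σ' n).s
  let r' : ∀ n, S.X₂.X n ⟶ S.X₁.X n := fun n => (σ' n).r
  let u : ∀ n, S.X₃.X n ⟶ S.X₁.X n := fun n => (s' n - s n) ≫ r n
  have hsg : ∀ n, s n ≫ S.g.f n = 𝟙 _ := fun n => (σ n).s_g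
  have hsg' : ∀ n, s' n ≫ S.g.f n = 𝟙 _ := fun n => (σ' n).s_g
  have hfr : ∀ n, S.f.f n ≫ r n = 𝟙 _ := fun n => (σ n).f_r
  have hfr' : ∀ n, S.f.f n ≫ r' n = 𝟙 _ := fun n => (σ' n).f_r
  have hid : ∀ n, r n ≫ S.f.f n + S.g.f n ≫ s n = 𝟙 _ := fun n => (σ n).id
  have hid' : ∀ n, r' n ≫ S.f.f n + S.g.f n ≫ s' n = 𝟙 _ := fun n => (σ' n).id
  have hs' : ∀ n, s' n = s n + u n ≫ S.f.f n := fun n => by
    have h := congrArg ((s' n - s n) ≫ ·) (hid n)
    simp only [Preadditive.comp_add, Category.comp_id, ← Category.assoc, Preadditive.sub_comp, hsg, hsg',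
      sub_self, zero_comp, add_zero] at h
    simp only [u, Preadditive.sub_comp, Category.assoc] at h ⊢
    rw [h, add_sub_cancel]
  have hr' : ∀ n, r' n = r n - S.g.f n ≫ u n := fun n => by
    have h := congrArg (· ≫ r' n) (hid n)
    simp only [Preadditive.add_comp, Category.assoc, hfr', Category.comp_id, Category.id_comp] at h
    have h2 := congrArg (s n ≫ ·) (hid' n)
    simp only [Preadditive.comp_add, Category.comp_id, reassoc_of% (hsg n)] at h2
    have h3 := congrArg (· ≫ r n) h2
    simp only [Preadditive.add_comp, Category.assoc, hfr, Category.comp_id] at h3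
    have h4 : s n ≫ r' n = -u n := by
      rw [eq_neg_iff_add_eq_zero]
      simp only [u, Preadditive.sub_comp]
      rw [← add_sub_assoc, h3, sub_self]
    rw [← h, h4, Preadditive.comp_neg, sub_eq_add_neg]
  refine ⟨{ hom := fun i j => if h : j + 1 = i then u i ≫ (S.X₁.XIsoOfEq h.symm).hom else 0
            zero := fun i j hij => dif_neg hij
            comm := fun p => ?_ }⟩
  rw [dNext_eq _ (show (ComplexShape.up ℤ).Rel p (p + 1) from rfl),
    prevD_eq _ (show (ComplexShape.up ℤ).Rel (p - 1) p from by simp), dif_pos (rfl : p + 1 = p + 1),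
    dif_pos (show p - 1 + 1 = p by lia)]
  simp only [CochainComplex.homOfDegreewiseSplit_f, CochainComplex.cocycleOfDegreewiseSplit, HomComplex.Cocycle.mk_coe,
    HomComplex.Cochain.mk_v, CochainComplex.shiftFunctor_obj_d', Int.negOnePow_one, Units.neg_smul, one_smul]
  show s p ≫ S.X₂.d p (p + 1) ≫ r (p + 1) = S.X₃.d p (p + 1) ≫ u (p + 1) ≫ (S.X₁.XIsoOfEq rfl).hom +
      (u p ≫ (S.X₁.XIsoOfEq (by lia : p = p - 1 + 1)).hom) ≫ (-S.X₁.d (p - 1 + 1) (p + 1)) +
      s' p ≫ S.X₂.d p (p + 1) ≫ r' (p + 1)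
  rw [hs', hr']
  simp only [XIsoOfEq_rfl, Iso.refl_hom, Category.comp_id, Category.assoc, Preadditive.comp_neg, XIsoOfEq_hom_comp_d,
    Preadditive.add_comp, Preadditive.comp_sub, S.f.comm_assoc, hfr]
  rw [← S.g.comm_assoc, reassoc_of% (hsg p)]
  have : S.f.f (p + 1) ≫ S.g.f (p + 1) = 0 := by rw [← HomologicalComplex.comp_f, S.zero, HomologicalComplex.zero_f]
  rw [reassoc_of% this]
  simp only [zero_comp, comp_zero]
  abel

end

section
variable {A : Type u} [Category.{v} A] [Abelian A]

theorem Qhom_eq_zero [HasDerivedCategory.{w} A] (P K : CochainComplex A ℤ) (n b : ℤ) [P.IsStrictlyGE n]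
    [P.IsStrictlyLE b] (hP : ∀ i : ℤ, Projective (P.X i)) (hK : ∀ i : ℤ, n ≤ i → IsZero (K.homology i)) :
    (∀ φ : (HomotopyCategory.quotient A (ComplexShape.up ℤ)).obj P ⟶ (HomotopyCategory.quotient A (ComplexShape.up ℤ)).obj K, φ = 0) ∧
      (∀ φ : DerivedCategory.Q.obj P ⟶ DerivedCategory.Q.obj K, φ = 0) := by
  haveI : ∀ i, Projective (P.X i) := hP
  haveI : P.IsKProjective := CochainComplex.isKProjective_of_projective P b
  have key : ∀ φ : DerivedCategory.Q.obj P ⟶ DerivedCategory.Q.obj K, φ = 0 := by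
    haveI : (DerivedCategory.Q.obj K).IsLE (n - 1) := by
      rw [DerivedCategory.isLE_Q_obj_iff, CochainComplex.isLE_iff]
      exact fun i hi => (HomologicalComplex.exactAt_iff_isZero_homology _ _).2 (hK i (by lia))
    obtain ⟨K'', hK'', ⟨e⟩⟩ := (DerivedCategory.Q.obj K).exists_iso_Q_obj_of_isLE (n - 1)
    intro φ
    rw [← cancel_mono e.hom, zero_comp]
    obtain ⟨ψ, hψ⟩ := (CochainComplex.IsKProjective.Qh_map_bijective P
      ((HomotopyCategory.quotient A (ComplexShape.up ℤ)).obj K'')).2 (φ ≫ e.hom)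
    obtain ⟨c, rfl⟩ := (HomotopyCategory.quotient A (ComplexShape.up ℤ)).map_surjective ψ
    have : c = 0 := by
      ext i
      rcases lt_or_ge i n with hi | hi
      · exact (P.isZero_of_isStrictlyGE n i hi).eq_of_src _ _
      · exact (K''.isZero_of_isStrictlyLE (n - 1) i (by lia)).eq_of_tgt _ _
    exact hψ.symm.trans (by rw [this, Functor.map_zero, Functor.map_zero]; rfl)
  refine ⟨fun φ => (CochainComplex.IsKProjective.Qh_map_bijective P _).1 ?_, key⟩
  rw [Functor.map_zero]
  exact key (DerivedCategory.Qh.map φ)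

theorem exists_lift_of_bounded_projective (P E L : CochainComplex A ℤ) (β : P ⟶ L) (α : E ⟶ L) (n b : ℤ)
    [P.IsStrictlyGE n] [P.IsStrictlyLE b] (hP : ∀ i : ℤ, Projective (P.X i))
    (hiso : ∀ i : ℤ, n < i → IsIso (HomologicalComplex.homologyMap α i))
    (hepi : Epi (HomologicalComplex.homologyMap α n)) : ∃ γ : P ⟶ E, Nonempty (Homotopy (γ ≫ α) β) := by
  letI := HasDerivedCategory.standard A
  have hT := DerivedCategory.mappingCone_triangle_distinguished α
  set T := DerivedCategory.Q.mapTriangle.obj (CochainComplex.mappingCone.triangle α)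
  have hmor : ∀ i, Nonempty (Arrow.mk ((DerivedCategory.homologyFunctor A i).map T.mor₁) ≅
      Arrow.mk (HomologicalComplex.homologyMap α i)) := fun i =>
    ⟨((Functor.mapArrowFunctor _ _).mapIso (DerivedCategory.homologyFunctorFactors A i)).app (Arrow.mk α)⟩
  have hC : ∀ i, n ≤ i → IsZero ((CochainComplex.mappingCone α).homology i) := by
    intro i hi
    have e₁ : Epi ((DerivedCategory.homologyFunctor A i).map T.mor₁) := by
      obtain ⟨e⟩ := hmor i
      refine ((MorphismProperty.epimorphisms A).arrow_mk_iso_iff e).2 ?_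
      show Epi _
      rcases hi.lt_or_eq with h | rfl
      · haveI := hiso i h; infer_instance
      · exact hepi
    have e₂ : Mono ((DerivedCategory.homologyFunctor A (i + 1)).map T.mor₁) := by
      obtain ⟨e⟩ := hmor (i + 1)
      refine ((MorphismProperty.monomorphisms A).arrow_mk_iso_iff e).2 ?_
      show Mono _
      haveI := hiso (i + 1) (by lia)
      infer_instance
    have z₁ := (DerivedCategory.HomologySequence.epi_homologyMap_mor₁_iff T hT i).1 e₁
    have z₂ := (DerivedCategory.HomologySequence.mono_homologyMap_mor₁_iff T hT i (i + 1) rfl).1 e₂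
    have hz : IsZero ((DerivedCategory.homologyFunctor A i).obj T.obj₃) :=
      (DerivedCategory.HomologySequence.exact₃ T hT i (i + 1) rfl).isZero_of_both_zeros z₁ z₂
    exact hz.of_iso ((DerivedCategory.homologyFunctorFactors A i).app (CochainComplex.mappingCone α)).symm
  have h0 := (Qhom_eq_zero P (CochainComplex.mappingCone α) n b hP hC).1
    ((HomotopyCategory.quotient A _).map (β ≫ CochainComplex.mappingCone.inr α))
  obtain ⟨g, hg⟩ : ∃ g : (HomotopyCategory.quotient A (ComplexShape.up ℤ)).obj P ⟶ (HomotopyCategory.quotient A _).obj E,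
      (HomotopyCategory.quotient A (ComplexShape.up ℤ)).map β = g ≫ (HomotopyCategory.quotient A _).map α :=
    Triangle.coyoneda_exact₂ _ (HomotopyCategory.mappingCone_triangleh_distinguished α)
      ((HomotopyCategory.quotient A (ComplexShape.up ℤ)).map β) (by
        rw [Functor.map_comp] at h0
        exact h0)
  obtain ⟨γ, rfl⟩ := (HomotopyCategory.quotient A (ComplexShape.up ℤ)).map_surjective g
  exact ⟨γ, ⟨HomotopyCategory.homotopyOfEq _ _ (by rw [Functor.map_comp, ← hg])⟩⟩

theorem exists_negative_map [HasDerivedCategory.{w} A]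
    (hneg : ∀ X : A, ∃ (N : A) (p : N ⟶ X), Epi p ∧ ∀ f : X ⟶ N, f = 0) (X X' : DerivedCategory A) (f : X ⟶ X')
    (b : ℤ) [X.IsLE b] [X'.IsLE (b - 1)] :
    ∃ (N : A) (g : (DerivedCategory.singleFunctor A b).obj N ⟶ X), Epi ((DerivedCategory.homologyFunctor A b).map g) ∧
      (∀ φ : (DerivedCategory.homologyFunctor A b).obj X ⟶ N, φ = 0) ∧ g ≫ f = 0 := by
  obtain ⟨K, hK, ⟨e⟩⟩ := X.exists_iso_Q_obj_of_isLE b
  obtain ⟨K', hK', ⟨e'⟩⟩ := X'.exists_iso_Q_obj_of_isLE (b - 1)
  obtain ⟨X'', hX'', s, hs, g₀, hfac⟩ := DerivedCategory.right_fac_of_isStrictlyLE (e.inv ≫ f ≫ e'.hom) b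
  obtain ⟨N, p, hp, hN⟩ := hneg (X''.X b ⊞ (DerivedCategory.homologyFunctor A b).obj X)
  haveI := hp
  have hd : ∀ k, (ComplexShape.up ℤ).Rel b k → X''.d b k = 0 := fun k hk =>
    (X''.isZero_of_isStrictlyLE b k (by simp at hk; lia)).eq_of_tgt _ _
  let m : (HomologicalComplex.single A (ComplexShape.up ℤ) b).obj N ⟶ X'' :=
    HomologicalComplex.mkHomFromSingle (p ≫ biprod.fst) (fun k hk => by rw [hd k hk, comp_zero])
  let g : (DerivedCategory.singleFunctor A b).obj N ⟶ X := DerivedCategory.Q.map m ≫ DerivedCategory.Q.map s ≫ e.inv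
  refine ⟨N, g, ?_, fun φ => ?_, ?_⟩
  · haveI : Epi (HomologicalComplex.homologyMap m b) := by
      haveI : IsIso (X''.iCycles b) := HomologicalComplex.isIso_iCycles _ b _ rfl (hd _ (by simp))
      haveI : IsIso (((HomologicalComplex.single A (ComplexShape.up ℤ) b).obj N).iCycles b) :=
        HomologicalComplex.isIso_iCycles _ b _ rfl (by simp)
      haveI : Epi (m.f b) := by
        rw [HomologicalComplex.mkHomFromSingle_f]; infer_instance
      haveI : Epi (HomologicalComplex.cyclesMap m b) := by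
        haveI : Epi (HomologicalComplex.cyclesMap m b ≫ X''.iCycles b) := by
          rw [HomologicalComplex.cyclesMap_i]; infer_instance
        exact ((MorphismProperty.epimorphisms A).cancel_right_of_respectsIso _ (X''.iCycles b)).1 this
      exact epi_of_epi_fac (HomologicalComplex.homologyπ_naturality m b)
    haveI : Epi ((DerivedCategory.homologyFunctor A b).map (DerivedCategory.Q.map m)) :=
      ((MorphismProperty.epimorphisms A).arrow_mk_iso_iff
        (((Functor.mapArrowFunctor _ _).mapIso (DerivedCategory.homologyFunctorFactors A b)).app (Arrow.mk m))).2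
        (show Epi (HomologicalComplex.homologyMap m b) from inferInstance)
    show Epi ((DerivedCategory.homologyFunctor A b).map (DerivedCategory.Q.map m ≫ DerivedCategory.Q.map s ≫ e.inv))
    rw [Functor.map_comp]
    infer_instance
  · have := hN (biprod.snd ≫ φ)
    rw [← cancel_epi (biprod.snd : X''.X b ⊞ _ ⟶ _), this, comp_zero]
  · have hm : m ≫ g₀ = 0 :=
      HomologicalComplex.from_single_hom_ext ((K'.isZero_of_isStrictlyLE (b - 1) b (by lia)).eq_of_tgt _ _)
    rw [← cancel_mono e'.hom, zero_comp]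
    show ((DerivedCategory.Q.map m ≫ DerivedCategory.Q.map s ≫ e.inv) ≫ f) ≫ e'.hom = 0
    rw [Category.assoc, Category.assoc, Category.assoc, hfac, IsIso.hom_inv_id_assoc, ← Functor.map_comp, hm,
      Functor.map_zero]

end

end Groth.Agent.H4Easy
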