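import Mathlib

/-! Termwise split factorizations, products of simplicial homotopies, adjoints from generators -/

set_option autoImplicit false
set_option linter.style.haveILetI false

open CategoryTheory CategoryTheory.Limits Opposite

universe w v u u' t

namespace Groth.Agent.H4Easy


section
open CochainComplex
variable {V : Type u} [Category.{v} V] [Preadditive V] [HasBinaryBiproducts V] [HasZeroObject V]

theorem isZero_biprod' {X Y : V} (hX : IsZero X) (hY : IsZero Y) : IsZero (X ⊞ Y) := by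
  rw [IsZero.iff_id_eq_zero]
  exact biprod.hom_ext _ _ (hX.eq_of_tgt _ _) (hY.eq_of_tgt _ _)

theorem isZero_quotient_mappingCone_id (K : CochainComplex V ℤ) :
    IsZero ((HomotopyCategory.quotient V (ComplexShape.up ℤ)).obj (mappingCone (𝟙 K))) := by
  refine Pretriangulated.Triangle.isZero₃_of_isIso₁ _ (HomotopyCategory.mappingCone_triangleh_distinguished (𝟙 K)) ?_
  show IsIso ((HomotopyCategory.quotient V (ComplexShape.up ℤ)).map (𝟙 K))
  infer_instance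

theorem exists_injective_factorization (K L : CochainComplex V ℤ) (α : K ⟶ L) :
    ∃ (L' : CochainComplex V ℤ) (α' : K ⟶ L') (π : L' ⟶ L) (s : L ⟶ L'), α' ≫ π = α ∧ s ≫ π = 𝟙 L ∧
      Nonempty (Homotopy (π ≫ s) (𝟙 L')) ∧ (∀ n : ℤ, ∃ (C : V) (e : L'.X n ≅ K.X n ⊞ C), α'.f n ≫ e.hom = biprod.inl) ∧
      (∀ a : ℤ, K.IsStrictlyGE a → L.IsStrictlyGE a → ∃ a' : ℤ, L'.IsStrictlyGE a') ∧
      (∀ a : ℤ, K.IsStrictlyLE a → L.IsStrictlyLE a → ∃ a' : ℤ, L'.IsStrictlyLE a') := by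
  let a : K ⟶ (mappingCone (𝟙 K)) ⊞ L := biprod.lift (mappingCone.inr (𝟙 K)) α
  let p₁ : (mappingCone (𝟙 K)) ⊞ L ⟶ (mappingCone (𝟙 K)) := biprod.fst
  let p₂ : (mappingCone (𝟙 K)) ⊞ L ⟶ L := biprod.snd
  let j₁ : (mappingCone (𝟙 K)) ⟶ (mappingCone (𝟙 K)) ⊞ L := biprod.inl
  let j₂ : L ⟶ (mappingCone (𝟙 K)) ⊞ L := biprod.inr
  have a₁ : ∀ n, a.f n ≫ p₁.f n = (mappingCone.inr (𝟙 K)).f n := fun n => by
    rw [← HomologicalComplex.comp_f]; exact HomologicalComplex.congr_hom ((biprod.lift_fst _ _)) n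
  have a₂ : ∀ n, a.f n ≫ p₂.f n = α.f n := fun n => by
    rw [← HomologicalComplex.comp_f]; exact HomologicalComplex.congr_hom ((biprod.lift_snd _ _)) n
  have j₁₁ : ∀ n, j₁.f n ≫ p₁.f n = 𝟙 _ := fun n => by
    rw [← HomologicalComplex.comp_f]; exact HomologicalComplex.congr_hom (biprod.inl_fst) n
  have j₁₂ : ∀ n, j₁.f n ≫ p₂.f n = 0 := fun n => by
    rw [← HomologicalComplex.comp_f]; exact HomologicalComplex.congr_hom (biprod.inl_snd) n
  have j₂₁ : ∀ n, j₂.f n ≫ p₁.f n = 0 := fun n => by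
    rw [← HomologicalComplex.comp_f]; exact HomologicalComplex.congr_hom (biprod.inr_fst) n
  have j₂₂ : ∀ n, j₂.f n ≫ p₂.f n = 𝟙 _ := fun n => by
    rw [← HomologicalComplex.comp_f]; exact HomologicalComplex.congr_hom (biprod.inr_snd) n
  have tot : ∀ n, p₁.f n ≫ j₁.f n + p₂.f n ≫ j₂.f n = 𝟙 _ := fun n => by
    rw [← HomologicalComplex.comp_f, ← HomologicalComplex.comp_f, ← HomologicalComplex.add_f_apply]
    exact HomologicalComplex.congr_hom (biprod.total) n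
  let e : ∀ n, ((mappingCone (𝟙 K)) ⊞ L).X n ≅ K.X n ⊞ (K.X (n + 1) ⊞ L.X n) := fun n =>
    { hom := biprod.lift (p₁.f n ≫ (mappingCone.snd (𝟙 K)).v n n (add_zero n))
        (biprod.lift (p₁.f n ≫ (mappingCone.fst (𝟙 K)).1.v n (n + 1) rfl)
          (p₂.f n - p₁.f n ≫ (mappingCone.snd (𝟙 K)).v n n (add_zero n) ≫ α.f n))
      inv := biprod.desc ((mappingCone.inr (𝟙 K)).f n ≫ j₁.f n + α.f n ≫ j₂.f n)
        (biprod.desc ((mappingCone.inl (𝟙 K)).v (n + 1) n (by lia) ≫ j₁.f n) (j₂.f n))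
      hom_inv_id := by
        rw [biprod.lift_desc, biprod.lift_desc, ← tot n]
        have h := congrArg (fun q => p₁.f n ≫ q ≫ j₁.f n) (mappingCone.id_X (𝟙 K) n (n + 1) rfl)
        simp only [Preadditive.add_comp, Preadditive.comp_add, Category.id_comp, Category.assoc] at h
        simp only [Preadditive.comp_add, Preadditive.sub_comp, Category.assoc]
        rw [← h]
        abel
      inv_hom_id := by
        ext <;> simp [reassoc_of% (j₁₁ n), reassoc_of% (j₁₂ n), reassoc_of% (j₂₁ n), reassoc_of% (j₂₂ n), j₁₁, j₁₂, j₂₁, j₂₂] }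
  have hzero : ∀ i, IsZero (K.X i) → IsZero (K.X (i + 1)) → IsZero (L.X i) → IsZero (((mappingCone (𝟙 K)) ⊞ L).X i) := fun i h₁ h₂ h₃ =>
    IsZero.of_iso (isZero_biprod' h₁ (isZero_biprod' h₂ h₃)) (e i)
  refine ⟨(mappingCone (𝟙 K)) ⊞ L, a, p₂, j₂, biprod.lift_snd _ _, biprod.inr_snd, ⟨HomotopyCategory.homotopyOfEq _ _ ?_⟩,
    fun n => ⟨_, e n, ?_⟩, fun c hK hL => ⟨c - 1, ?_⟩, fun c hK hL => ⟨c, ?_⟩⟩
  · have : (HomotopyCategory.quotient V (ComplexShape.up ℤ)).map (p₁ ≫ j₁) = 0 := by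
      rw [Functor.map_comp, (isZero_quotient_mappingCone_id K).eq_of_tgt ((HomotopyCategory.quotient V _).map p₁) 0, zero_comp]
    rw [show 𝟙 ((mappingCone (𝟙 K)) ⊞ L) = p₁ ≫ j₁ + p₂ ≫ j₂ from biprod.total.symm, Functor.map_add, this, zero_add]
  · show a.f n ≫ biprod.lift _ (biprod.lift _ _) = _
    ext <;> simp [reassoc_of% (a₁ n), a₂]
  · rw [CochainComplex.isStrictlyGE_iff]
    exact fun i hi => hzero i (K.isZero_of_isStrictlyGE c i (by lia)) (K.isZero_of_isStrictlyGE c _ (by lia))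
      (L.isZero_of_isStrictlyGE c i (by lia))
  · rw [CochainComplex.isStrictlyLE_iff]
    exact fun i hi => hzero i (K.isZero_of_isStrictlyLE c i hi) (K.isZero_of_isStrictlyLE c _ (by lia))
      (L.isZero_of_isStrictlyLE c i hi)

theorem exists_surjective_factorization (K L : CochainComplex V ℤ) (α : K ⟶ L) :
    ∃ (K' : CochainComplex V ℤ) (i : K ⟶ K') (α' : K' ⟶ L) (s : K' ⟶ K), i ≫ α' = α ∧ i ≫ s = 𝟙 K ∧
      Nonempty (Homotopy (s ≫ i) (𝟙 K')) ∧ (∀ n : ℤ, ∃ (C : V) (e : K'.X n ≅ C ⊞ L.X n), e.inv ≫ α'.f n = biprod.snd) ∧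
      (∀ a : ℤ, K.IsStrictlyGE a → L.IsStrictlyGE a → ∃ a' : ℤ, K'.IsStrictlyGE a') ∧
      (∀ a : ℤ, K.IsStrictlyLE a → L.IsStrictlyLE a → ∃ a' : ℤ, K'.IsStrictlyLE a') := by
  let b : K ⊞ (mappingCocone (𝟙 L)) ⟶ L := biprod.desc α (mappingCocone.fst (𝟙 L))
  let p₁ : K ⊞ (mappingCocone (𝟙 L)) ⟶ K := biprod.fst
  let p₂ : K ⊞ (mappingCocone (𝟙 L)) ⟶ (mappingCocone (𝟙 L)) := biprod.snd
  let j₁ : K ⟶ K ⊞ (mappingCocone (𝟙 L)) := biprod.inl
  let j₂ : (mappingCocone (𝟙 L)) ⟶ K ⊞ (mappingCocone (𝟙 L)) := biprod.inr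
  have b₁ : ∀ n, j₁.f n ≫ b.f n = α.f n := fun n => by
    rw [← HomologicalComplex.comp_f]; exact HomologicalComplex.congr_hom ((biprod.inl_desc _ _)) n
  have b₂ : ∀ n, j₂.f n ≫ b.f n = (mappingCocone.fst (𝟙 L)).f n := fun n => by
    rw [← HomologicalComplex.comp_f]; exact HomologicalComplex.congr_hom ((biprod.inr_desc _ _)) n
  have j₁₁ : ∀ n, j₁.f n ≫ p₁.f n = 𝟙 _ := fun n => by
    rw [← HomologicalComplex.comp_f]; exact HomologicalComplex.congr_hom (biprod.inl_fst) n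
  have j₁₂ : ∀ n, j₁.f n ≫ p₂.f n = 0 := fun n => by
    rw [← HomologicalComplex.comp_f]; exact HomologicalComplex.congr_hom (biprod.inl_snd) n
  have j₂₁ : ∀ n, j₂.f n ≫ p₁.f n = 0 := fun n => by
    rw [← HomologicalComplex.comp_f]; exact HomologicalComplex.congr_hom (biprod.inr_fst) n
  have j₂₂ : ∀ n, j₂.f n ≫ p₂.f n = 𝟙 _ := fun n => by
    rw [← HomologicalComplex.comp_f]; exact HomologicalComplex.congr_hom (biprod.inr_snd) n
  have tot : ∀ n, p₁.f n ≫ j₁.f n + p₂.f n ≫ j₂.f n = 𝟙 _ := fun n => by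
    rw [← HomologicalComplex.comp_f, ← HomologicalComplex.comp_f, ← HomologicalComplex.add_f_apply]
    exact HomologicalComplex.congr_hom (biprod.total) n
  have bdec : ∀ n, b.f n = p₁.f n ≫ α.f n + p₂.f n ≫ (mappingCocone.fst (𝟙 L)).f n := fun n => by
    rw [← b₁ n, ← b₂ n, ← Category.assoc, ← Category.assoc, ← Preadditive.add_comp, tot n, Category.id_comp]
  let e : ∀ n, (K ⊞ (mappingCocone (𝟙 L))).X n ≅ (K.X n ⊞ L.X (n + -1)) ⊞ L.X n := fun n =>
    { hom := biprod.lift (biprod.lift (p₁.f n) (p₂.f n ≫ (mappingCocone.snd (𝟙 L)).v n (n + -1) rfl)) (b.f n)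
      inv := biprod.desc (biprod.desc (j₁.f n - α.f n ≫ (mappingCocone.inl (𝟙 L)).v n n (add_zero n) ≫ j₂.f n)
          ((mappingCocone.inr (𝟙 L)).1.v (n + -1) n (by lia) ≫ j₂.f n))
        ((mappingCocone.inl (𝟙 L)).v n n (add_zero n) ≫ j₂.f n)
      hom_inv_id := by
        rw [biprod.lift_desc, biprod.lift_desc, bdec n, ← tot n]
        have h := congrArg (fun q => p₂.f n ≫ q ≫ j₂.f n) (mappingCocone.id_X (𝟙 L) n (n + -1) rfl)
        simp only [Preadditive.add_comp, Preadditive.comp_add, Category.id_comp, Category.assoc] at h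
        simp only [Preadditive.comp_sub, Preadditive.add_comp, Category.assoc]
        rw [← h]
        abel
      inv_hom_id := by
        ext <;> simp [reassoc_of% (j₁₁ n), reassoc_of% (j₁₂ n), reassoc_of% (j₂₁ n), reassoc_of% (j₂₂ n), j₁₁, j₁₂, j₂₁, j₂₂,
          b₁, b₂, reassoc_of% (b₁ n), reassoc_of% (b₂ n)] }
  have hzero : ∀ i, IsZero (K.X i) → IsZero (L.X (i + -1)) → IsZero (L.X i) → IsZero ((K ⊞ (mappingCocone (𝟙 L))).X i) := fun i h₁ h₂ h₃ =>
    IsZero.of_iso (isZero_biprod' (isZero_biprod' h₁ h₂) h₃) (e i)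
  refine ⟨K ⊞ (mappingCocone (𝟙 L)), j₁, b, p₁, biprod.inl_desc _ _, biprod.inl_fst, ⟨HomotopyCategory.homotopyOfEq _ _ ?_⟩,
    fun n => ⟨_, e n, ?_⟩, fun c hK hL => ⟨c, ?_⟩, fun c hK hL => ⟨c + 1, ?_⟩⟩
  · have hz : IsZero ((HomotopyCategory.quotient V (ComplexShape.up ℤ)).obj (mappingCocone (𝟙 L))) :=
      IsZero.of_iso ((CategoryTheory.shiftFunctor (HomotopyCategory V (ComplexShape.up ℤ)) (-1 : ℤ)).map_isZero
        (isZero_quotient_mappingCone_id L))
        (((HomotopyCategory.quotient V (ComplexShape.up ℤ)).commShiftIso (-1 : ℤ)).app (mappingCone (𝟙 L)))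
    have : (HomotopyCategory.quotient V (ComplexShape.up ℤ)).map (p₂ ≫ j₂) = 0 := by
      rw [Functor.map_comp, hz.eq_of_tgt ((HomotopyCategory.quotient V _).map p₂) 0, zero_comp]
    rw [show 𝟙 (K ⊞ (mappingCocone (𝟙 L))) = p₁ ≫ j₁ + p₂ ≫ j₂ from biprod.total.symm, Functor.map_add, this, add_zero]
  · show biprod.desc (biprod.desc _ _) _ ≫ b.f n = _
    ext <;> simp [b₁, b₂, reassoc_of% (b₁ n), reassoc_of% (b₂ n)]
  · rw [CochainComplex.isStrictlyGE_iff]
    exact fun i hi => hzero i (K.isZero_of_isStrictlyGE c i hi) (L.isZero_of_isStrictlyGE c _ (by lia))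
      (L.isZero_of_isStrictlyGE c i hi)
  · rw [CochainComplex.isStrictlyLE_iff]
    exact fun i hi => hzero i (K.isZero_of_isStrictlyLE c i (by lia)) (L.isZero_of_isStrictlyLE c _ (by lia))
      (L.isZero_of_isStrictlyLE c i (by lia))

end

section
variable {C : Type u} [Category.{v} C] {T : Type w} [HasLimitsOfShape (Discrete T) C]

theorem homotopy_piMap {X Y : T → SimplicialObject C} (a b : ∀ t, X t ⟶ Y t)
    (h : ∀ t, Nonempty (SimplicialObject.Homotopy (a t) (b t))) :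
    Nonempty (SimplicialObject.Homotopy (Limits.Pi.map a) (Limits.Pi.map b)) := by
  let H := fun t => (h t).some
  have lim : ∀ k, IsLimit (Fan.mk ((∏ᶜ Y).obj k) (fun t => (Pi.π Y t).app k) : Fan fun t => (Y t).obj k) :=
    fun k => isLimitFanMkObjOfIsLimit ((evaluation _ C).obj k) Y (Pi.π Y) (productIsProduct Y)
  have ext' : ∀ k {W : C} (f g : W ⟶ (∏ᶜ Y).obj k), (∀ t, f ≫ (Pi.π Y t).app k = g ≫ (Pi.π Y t).app k) → f = g :=
    fun k _ f g hfg => Fan.IsLimit.hom_ext (lim k) f g hfg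
  let hh : ∀ {n : ℕ} (i : Fin (n + 1)), (∏ᶜ X).obj (op (SimplexCategory.mk n)) ⟶ (∏ᶜ Y).obj (op (SimplexCategory.mk (n + 1))) :=
    fun {n} i => Fan.IsLimit.lift (lim _) fun t => (Pi.π X t).app _ ≫ (H t).h i
  have hπ : ∀ {n : ℕ} (i : Fin (n + 1)) t, hh i ≫ (Pi.π Y t).app _ = (Pi.π X t).app _ ≫ (H t).h i :=
    fun i t => Fan.IsLimit.fac (lim _) _ t
  have nδ : ∀ {n : ℕ} (i : Fin (n + 2)) (Z : T → SimplicialObject C) (t : T), (∏ᶜ Z).δ i ≫ (Pi.π Z t).app _ =
      (Pi.π Z t).app _ ≫ (Z t).δ i := fun i Z t => (Pi.π Z t).naturality _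
  have nσ : ∀ {n : ℕ} (i : Fin (n + 1)) (Z : T → SimplicialObject C) (t : T), (∏ᶜ Z).σ i ≫ (Pi.π Z t).app _ =
      (Pi.π Z t).app _ ≫ (Z t).σ i := fun i Z t => (Pi.π Z t).naturality _
  have hmap : ∀ (f : ∀ t, X t ⟶ Y t) k t, (Limits.Pi.map f).app k ≫ (Pi.π Y t).app k = (Pi.π X t).app k ≫ (f t).app k := by
    intro f k t
    rw [← NatTrans.comp_app, ← NatTrans.comp_app, Limits.Pi.map_π]
  refine ⟨{ h := hh, h_zero_comp_δ_zero := fun n => ext' _ _ _ fun t => ?_,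
            h_last_comp_δ_last := fun n => ext' _ _ _ fun t => ?_,
            h_succ_comp_δ_castSucc_of_lt := fun i j hij => ext' _ _ _ fun t => ?_,
            h_succ_comp_δ_castSucc_succ := fun j => ext' _ _ _ fun t => ?_,
            h_castSucc_comp_δ_succ_of_lt := fun i j hij => ext' _ _ _ fun t => ?_,
            h_comp_σ_castSucc_of_le := fun i j hij => ext' _ _ _ fun t => ?_,
            h_comp_σ_succ_of_lt := fun i j hij => ext' _ _ _ fun t => ?_ }⟩
  · rw [Category.assoc, nδ, reassoc_of% (hπ (n := n) 0 t), (H t).h_zero_comp_δ_zero, hmap]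
  · rw [Category.assoc, nδ, reassoc_of% (hπ (n := n) (Fin.last n) t), (H t).h_last_comp_δ_last, hmap]
  · rw [Category.assoc, nδ, reassoc_of% (hπ j.succ t), (H t).h_succ_comp_δ_castSucc_of_lt i j hij, Category.assoc, hπ,
      reassoc_of% (nδ i X t)]
  · rw [Category.assoc, nδ, reassoc_of% (hπ j.succ t), Category.assoc, nδ, reassoc_of% (hπ j.castSucc t),
      (H t).h_succ_comp_δ_castSucc_succ]
  · rw [Category.assoc, nδ, reassoc_of% (hπ j.castSucc t), (H t).h_castSucc_comp_δ_succ_of_lt i j hij, Category.assoc, hπ,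
      reassoc_of% (nδ i X t)]
  · rw [Category.assoc, nσ, reassoc_of% (hπ j t), (H t).h_comp_σ_castSucc_of_le i j hij, Category.assoc, hπ,
      reassoc_of% (nσ i X t)]
  · rw [Category.assoc, nσ, reassoc_of% (hπ j t), (H t).h_comp_σ_succ_of_lt i j hij, Category.assoc, hπ,
      reassoc_of% (nσ i X t)]

end

section
variable {A : Type u} [Category.{v} A] [Abelian A] {B : Type u'} [Category.{v} B] [Abelian B]

theorem isRightAdjoint_of_partial (u : A ⥤ B) {ι : Type t} (P : ι → B)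
    (h1 : ∀ X : B, ∃ (i : ι) (π : P i ⟶ X), Epi π)
    (h2 : ∀ i : ι, ∃ Q : A, Nonempty (coyoneda.obj (op Q) ≅ u ⋙ coyoneda.obj (op (P i)))) : u.IsRightAdjoint := by
  refine Functor.isRightAdjoint_of_leftAdjointObjIsDefined_eq_top ?_
  ext X
  simp only [Pi.top_apply, Prop.top_eq_true, iff_true]
  have hP : ∀ i, u.leftAdjointObjIsDefined (P i) := fun i => by
    obtain ⟨Q, ⟨e⟩⟩ := h2 i
    exact (Functor.corepresentableByEquiv.symm e).isCorepresentable
  obtain ⟨i, π, hπ⟩ := h1 X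
  obtain ⟨j, π', hπ'⟩ := h1 (kernel π)
  have hc := isCokernelEpiComp (Abelian.epiIsCokernelOfKernel _ (kernelIsKernel π)) π' (h := π' ≫ kernel.ι π) rfl
  exact Functor.leftAdjointObjIsDefined_of_isColimit hc fun k => by
    cases k
    · exact hP j
    · exact hP i

end

end Groth.Agent.H4Easy
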