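import Mathlib

/-! Right derived functors and bounds, Serre quotient faithfulness, hearts of t-structures -/

set_option autoImplicit false
set_option linter.style.haveILetI false

open CategoryTheory CategoryTheory.Limits

universe w w' v v' u u'

namespace Groth.Agent.H4Easy


section
variable {A : Type u} [Category.{v} A] [Abelian A] [HasDerivedCategory.{w} A] [EnoughInjectives A]
  {B : Type u'} [Category.{v'} B] [Abelian B] [HasDerivedCategory.{w'} B] (F : A ⥤ B) [F.Additive]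

theorem rightDerivedFunctorPlus_isGE (K : DerivedCategory.Plus A) (a : ℤ) [K.IsGE a] :
    (F.rightDerivedFunctorPlus.obj K).IsGE a := by
  obtain ⟨L, hL, ⟨e⟩⟩ := DerivedCategory.Plus.exists_injective_nonempty_iso K a
  let X : HomotopyCategory.Plus A := (HomotopyCategory.Plus.quotient A).obj ((InjectiveObject.ι A).mapCochainComplexPlus.obj L)
  haveI : IsIso (F.rightDerivedFunctorPlusUnit.app X) := inferInstance
  let M : CochainComplex B ℤ := (F.mapHomologicalComplex _).obj (((InjectiveObject.ι A).mapHomologicalComplex _).obj L.obj)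
  haveI := hL
  haveI : M.IsStrictlyGE a := inferInstance
  let e₂ : DerivedCategory.Plus.ι.obj (F.rightDerivedFunctorPlus.obj K) ≅ DerivedCategory.Q.obj M :=
    DerivedCategory.Plus.ι.mapIso ((F.rightDerivedFunctorPlus.mapIso e.symm) ≪≫ (asIso (F.rightDerivedFunctorPlusUnit.app X)).symm) ≪≫
      DerivedCategory.Qh.mapIso ((F.mapHomotopyCategoryFactors _).app (((InjectiveObject.ι A).mapHomologicalComplex _).obj L.obj)) ≪≫
      (DerivedCategory.quotientCompQhIso B).app M
  rw [← DerivedCategory.Plus.isGE_ι_obj_iff]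
  exact DerivedCategory.TStructure.t.isGE_of_iso e₂.symm a

end

section
open Abelian
variable {A : Type u} [Category.{v} A] [Abelian A] {B : Type u'} [Category.{v'} B] [Abelian B]

theorem serre_faithful_iff (F : A ⥤ B) [F.Additive] [PreservesFiniteLimits F] [PreservesFiniteColimits F]
    (P : ObjectProperty A) [P.IsSerreClass] {Q : Type w} [Category.{w'} Q] [Abelian Q] (L : A ⥤ Q)
    [L.IsLocalization P.isoModSerre] [L.Additive] (Fbar : Q ⥤ B) (e : L ⋙ Fbar ≅ F) :
    (∀ X : A, IsZero (F.obj X) → P X) ↔ Fbar.Faithful := by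
  haveI : (L ⋙ Fbar).Additive := Functor.additive_of_iso e.symm
  haveI : Fbar.Additive := (Localization.functor_additive_iff L P.isoModSerre Fbar).2 inferInstance
  constructor
  · intro h
    refine ⟨fun {W W'} g₁ g₂ hg => ?_⟩
    rw [← sub_eq_zero] at hg ⊢
    rw [← Functor.map_sub] at hg
    generalize g₁ - g₂ = g at hg ⊢
    haveI := Localization.essSurj_mapArrow L P.isoModSerre
    let f := L.mapArrow.objPreimage (Arrow.mk g)
    let iso : L.mapArrow.obj f ≅ Arrow.mk g := L.mapArrow.objObjPreimageIso (Arrow.mk g)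
    obtain ⟨a, b, hab⟩ : ∃ (a : L.obj f.left ≅ W) (b : L.obj f.right ≅ W'), a.hom ≫ g = L.map f.hom ≫ b.hom :=
      ⟨Arrow.leftFunc.mapIso iso, Arrow.rightFunc.mapIso iso, iso.hom.w⟩
    have h1 : g = a.inv ≫ L.map f.hom ≫ b.hom := by rw [← hab, a.inv_hom_id_assoc]
    have h2 : Fbar.map (L.map f.hom) = 0 := by
      rw [h1, Functor.map_comp, Functor.map_comp] at hg
      exact (Preadditive.IsIso.comp_right_eq_zero _ _).1 ((Preadditive.IsIso.comp_left_eq_zero _ _).1 hg)
    have h3 : F.map f.hom = 0 := by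
      have := e.hom.naturality f.hom
      simp only [Functor.comp_map, h2, zero_comp] at this
      exact (Preadditive.IsIso.comp_left_eq_zero _ _).1 this.symm
    have h4 : IsZero (F.obj (Abelian.image f.hom)) := by
      rw [IsZero.iff_id_eq_zero, ← cancel_epi (F.map (Abelian.factorThruImage f.hom)),
        ← cancel_mono (F.map (Abelian.image.ι f.hom))]
      rw [Category.comp_id, ← Functor.map_comp, Abelian.image.fac, h3, comp_zero, zero_comp]
    rw [h1, (ObjectProperty.SerreClassLocalization.map_eq_zero_iff L P f.hom).2 (h _ h4), zero_comp, comp_zero]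
  · intro _ X hX
    rw [← ObjectProperty.SerreClassLocalization.isZero_obj_iff L P X, IsZero.iff_id_eq_zero]
    exact Fbar.map_injective ((hX.of_iso (e.app X)).eq_of_src _ _)

end

section
open CategoryTheory.Pretriangulated CategoryTheory.Triangulated ZeroObject
variable {C : Type u} [Category.{v} C] [Preadditive C] [HasZeroObject C] [HasShift C ℤ]
  [∀ n : ℤ, (shiftFunctor C n).Additive] [Pretriangulated C] [IsTriangulated C] (t : TStructure C)
  {H : Type u'} [Category.{v'} H]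

theorem heart_hom_neg [Preadditive H] [t.Heart H] ⦃X Y : H⦄ ⦃n : ℤ⦄
    (f : t.ιHeart.obj X ⟶ (t.ιHeart.obj Y)⟦n⟧) (hn : n < 0) : f = 0 := by
  haveI := t.isGE_shift (t.ιHeart.obj Y) 0 n (-n)
  exact t.zero f 0 (-n)

theorem heart_preimage [Preadditive H] [t.Heart H] (W : C) [t.IsLE W 0] [t.IsGE W 0] :
    ∃ K : H, Nonempty (t.ιHeart.obj K ≅ W) := by
  have : (t.ιHeart (H := H)).essImage W := by
    rw [t.essImage_ιHeart H, t.mem_heart_iff]; exact ⟨inferInstance, inferInstance⟩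
  exact ⟨_, ⟨Functor.essImage.getIso this⟩⟩

theorem heart_admissible [Preadditive H] [t.Heart H] :
    AbelianSubcategory.admissibleMorphism (t.ιHeart (H := H)) = ⊤ := by
  refine eq_top_iff.2 fun X₁ X₂ f₁ _ X₃ f₂ f₃ hT => ?_
  haveI hle : t.IsLE X₃ 0 := by
    haveI := t.isLE_shift (t.ιHeart.obj X₁) 0 1 (-1)
    exact t.isLE₂ _ (rot_of_distTriang _ hT) 0 (inferInstanceAs (t.IsLE (t.ιHeart.obj X₂) 0))
      (t.isLE_of_le ((t.ιHeart.obj X₁)⟦(1 : ℤ)⟧) (-1) 0)
  haveI hge : t.IsGE X₃ (-1) := by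
    haveI := t.isGE_shift (t.ιHeart.obj X₁) 0 1 (-1)
    exact t.isGE₂ _ (rot_of_distTriang _ hT) (-1) (t.isGE_of_ge (t.ιHeart.obj X₂) (-1) 0)
      (by assumption)
  have hD := t.triangleLTGE_distinguished 0 X₃
  haveI hK1 : t.IsLE ((t.truncLT 0).obj X₃) (-1) := t.isLE_truncLT_obj X₃ 0 (-1)
  haveI hQ0 : t.IsGE ((t.truncGE 0).obj X₃) 0 := t.isGE_truncGE_obj X₃ 0 0
  haveI hK2 : t.IsGE ((t.truncLT 0).obj X₃) (-1) := by
    refine t.isGE₂ _ (inv_rot_of_distTriang _ hD) (-1) ?_ hge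
    haveI := t.isGE_shift ((t.truncGE 0).obj X₃) 0 (-1) 1
    exact t.isGE_of_ge (((t.truncGE 0).obj X₃)⟦(-1 : ℤ)⟧) (-1) 1
  haveI hQ2 : t.IsLE ((t.truncGE 0).obj X₃) 0 := by
    refine t.isLE₂ _ (rot_of_distTriang _ hD) 0 hle ?_
    haveI := t.isLE_shift ((t.truncLT 0).obj X₃) (-1) 1 (-2)
    exact t.isLE_of_le (((t.truncLT 0).obj X₃)⟦(1 : ℤ)⟧) (-2) 0
  haveI := t.isLE_shift ((t.truncLT 0).obj X₃) (-1) (-1) 0
  haveI := t.isGE_shift ((t.truncLT 0).obj X₃) (-1) (-1) 0
  obtain ⟨K, ⟨eK⟩⟩ := heart_preimage t (H := H) (((t.truncLT 0).obj X₃)⟦(-1 : ℤ)⟧)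
  obtain ⟨Q, ⟨eQ⟩⟩ := heart_preimage t (H := H) ((t.truncGE 0).obj X₃)
  let e : (t.ιHeart.obj K)⟦(1 : ℤ)⟧ ≅ (t.truncLT 0).obj X₃ :=
    (shiftFunctor C (1 : ℤ)).mapIso eK ≪≫ (shiftEquiv C (1 : ℤ)).counitIso.app _
  refine ⟨K, Q, e.hom ≫ (t.truncLTι 0).app X₃, (t.truncGEπ 0).app X₃ ≫ eQ.inv,
    eQ.hom ≫ (t.truncGEδLT 0).app X₃ ≫ e.inv⟦(1 : ℤ)⟧', isomorphic_distinguished _ hD _ ?_⟩
  refine Triangle.isoMk _ _ e (Iso.refl _) eQ.symm.symm ?_ ?_ ?_
  · exact Category.comp_id _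
  · show ((t.truncGEπ 0).app X₃ ≫ eQ.inv) ≫ eQ.hom = 𝟙 _ ≫ (t.truncGEπ 0).app X₃
    simp
  · show (eQ.hom ≫ (t.truncGEδLT 0).app X₃ ≫ e.inv⟦(1 : ℤ)⟧') ≫ e.hom⟦(1 : ℤ)⟧' = eQ.hom ≫ (t.truncGEδLT 0).app X₃
    simp [← Functor.map_comp]

theorem heart_abelian [inst : Preadditive H] [t.Heart H] : ∃ a : Abelian H, @Abelian.toPreadditive H _ a = inst := by
  obtain ⟨Z, ⟨eZ⟩⟩ := by
    haveI := t.isLE_of_isZero (isZero_zero C) 0
    haveI := t.isGE_of_isZero (isZero_zero C) 0
    exact heart_preimage t (H := H) (0 : C)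
  have hZ : IsZero Z := by
    rw [IsZero.iff_id_eq_zero]
    exact t.ιHeart.map_injective (((isZero_zero C).of_iso eZ).eq_of_src _ _)
  haveI : HasTerminal H := hZ.hasZeroObject.hasTerminal
  haveI : HasBinaryProducts H := by
    haveI : ∀ X Y : H, HasBinaryBiproduct X Y := by
      intro X Y
      haveI : t.IsLE (t.ιHeart.obj X ⊞ t.ιHeart.obj Y) 0 :=
        t.isLE₂ _ (binaryBiproductTriangle_distinguished (t.ιHeart.obj X) (t.ιHeart.obj Y)) 0
          (inferInstanceAs (t.IsLE (t.ιHeart.obj X) 0)) (inferInstanceAs (t.IsLE (t.ιHeart.obj Y) 0))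
      haveI : t.IsGE (t.ιHeart.obj X ⊞ t.ιHeart.obj Y) 0 :=
        t.isGE₂ _ (binaryBiproductTriangle_distinguished (t.ιHeart.obj X) (t.ιHeart.obj Y)) 0
          (inferInstanceAs (t.IsGE (t.ιHeart.obj X) 0)) (inferInstanceAs (t.IsGE (t.ιHeart.obj Y) 0))
      obtain ⟨W, ⟨e⟩⟩ := heart_preimage t (H := H) (t.ιHeart.obj X ⊞ t.ιHeart.obj Y)
      let b : BinaryBicone X Y :=
        { pt := W
          fst := t.ιHeart.preimage (e.hom ≫ biprod.fst)
          snd := t.ιHeart.preimage (e.hom ≫ biprod.snd)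
          inl := t.ιHeart.preimage (biprod.inl ≫ e.inv)
          inr := t.ιHeart.preimage (biprod.inr ≫ e.inv)
          inl_fst := t.ιHeart.map_injective (by simp)
          inl_snd := t.ιHeart.map_injective (by simp)
          inr_fst := t.ιHeart.map_injective (by simp)
          inr_snd := t.ιHeart.map_injective (by simp) }
      refine HasBinaryBiproduct.mk ⟨b, isBinaryBilimitOfTotal b (t.ιHeart.map_injective ?_)⟩
      show t.ιHeart.map (t.ιHeart.preimage (e.hom ≫ biprod.fst) ≫ t.ιHeart.preimage (biprod.inl ≫ e.inv) +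
        t.ιHeart.preimage (e.hom ≫ biprod.snd) ≫ t.ιHeart.preimage (biprod.inr ≫ e.inv)) = t.ιHeart.map (𝟙 W)
      simp only [Functor.map_add, Functor.map_comp, Functor.map_preimage, CategoryTheory.Functor.map_id, Category.assoc]
      rw [← Preadditive.comp_add, ← Category.assoc biprod.fst, ← Category.assoc biprod.snd, ← Preadditive.add_comp,
        biprod.total, Category.id_comp, e.hom_inv_id]
    exact hasBinaryProducts_of_hasLimit_pair _
  haveI : HasFiniteProducts H := hasFiniteProducts_of_has_binary_and_terminal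
  exact ⟨AbelianSubcategory.abelian (t.ιHeart (H := H)) (heart_hom_neg t) (heart_admissible t), rfl⟩

theorem heart_shortExact_iff [Abelian H] [t.Heart H] {X Y Z : H} (u : X ⟶ Y) (v : Y ⟶ Z) :
    (∃ huv : u ≫ v = 0, (ShortComplex.mk u v huv).ShortExact) ↔
      ∃ (w : t.ιHeart.obj Z ⟶ (t.ιHeart.obj X)⟦(1 : ℤ)⟧),
        Triangle.mk (t.ιHeart.map u) (t.ιHeart.map v) w ∈ distTriang C := by
  constructor
  · rintro ⟨huv, hS⟩
    haveI : Epi v := hS.epi_g
    obtain ⟨X₁, i, δ, hT⟩ := AbelianSubcategory.exists_distinguished_triangle_of_epi (heart_hom_neg t) (heart_admissible t) v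
    let hl := AbelianSubcategory.isLimitKernelForkOfDistTriang (heart_hom_neg t) i v δ hT
    let e : X ≅ X₁ := hS.fIsKernel.conePointUniqueUpToIso hl
    have he : e.hom ≫ i = u := hS.fIsKernel.conePointUniqueUpToIso_hom_comp hl WalkingParallelPair.zero
    refine ⟨δ ≫ (t.ιHeart.map e.inv)⟦(1 : ℤ)⟧', isomorphic_distinguished _ hT _ ?_⟩
    refine Triangle.isoMk _ _ (t.ιHeart.mapIso e) (Iso.refl _) (Iso.refl _) ?_ ?_ ?_
    · show t.ιHeart.map u ≫ 𝟙 _ = t.ιHeart.map e.hom ≫ t.ιHeart.map i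
      rw [Category.comp_id, ← Functor.map_comp, he]
    · exact (Category.comp_id _).trans (Category.id_comp _).symm
    · show (δ ≫ (t.ιHeart.map e.inv)⟦(1 : ℤ)⟧') ≫ (t.ιHeart.map e.hom)⟦(1 : ℤ)⟧' = 𝟙 _ ≫ δ
      rw [Category.assoc, ← Functor.map_comp, ← Functor.map_comp, e.inv_hom_id]
      simp
  · rintro ⟨w, hT⟩
    have huv : u ≫ v = 0 := t.ιHeart.map_injective (by
      rw [Functor.map_comp, Functor.map_zero]
      exact comp_distTriang_mor_zero₁₂ _ hT)
    let hl := AbelianSubcategory.isLimitKernelForkOfDistTriang (heart_hom_neg t) u v w hT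
    let hc := AbelianSubcategory.isColimitCokernelCoforkOfDistTriang (heart_hom_neg t) u v w hT
    haveI : Mono u := Fork.IsLimit.mono hl
    haveI : Epi v := Cofork.IsColimit.epi hc
    exact ⟨huv, { exact := ShortComplex.exact_of_f_is_kernel _ hl, mono_f := inferInstance, epi_g := inferInstance }⟩

end

end Groth.Agent.H4Easy
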