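import Mathlib

/-! Compactifications, Postnikov vanishing, uniqueness of Serre functors, mono counits -/

set_option autoImplicit false
set_option linter.style.haveILetI false

open CategoryTheory CategoryTheory.Limits

universe w v v' u u'

namespace Groth.Agent.H4Easy


section
open AlgebraicGeometry
variable {k : Type u} [Field k] {X Y Xb Yb : Scheme.{u}}

theorem preimage_opensRange (a : Xb ⟶ Spec (CommRingCat.of k)) (b : Yb ⟶ Spec (CommRingCat.of k)) [IsProper a] [IsProper b]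
    (j : X ⟶ Xb) [IsOpenImmersion j] (hj : Dense (Set.range j.base)) (v : Y ⟶ Yb) [IsOpenImmersion v] (f : X ⟶ Y)
    [IsProper f] (fb : Xb ⟶ Yb) (hfb : fb ≫ b = a) (hsq : j ≫ fb = f ≫ v) : fb ⁻¹ᵁ v.opensRange = j.opensRange := by
  haveI : IsSeparated fb := by
    haveI : IsSeparated (fb ≫ b) := by rw [hfb]; infer_instance
    exact IsSeparated.of_comp fb b
  let W := fb ⁻¹ᵁ v.opensRange
  have hsub : Set.range j.base ⊆ (W : Set Xb) := by
    rintro _ ⟨x, rfl⟩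
    show fb.base (j.base x) ∈ v.opensRange
    rw [← Scheme.Hom.comp_apply, hsq, Scheme.Hom.comp_apply]
    exact ⟨_, rfl⟩
  have hsub' : Set.range j.base ⊆ Set.range W.ι.base := by rw [Scheme.Opens.range_ι]; exact hsub
  let j' : X ⟶ (W : Scheme) := IsOpenImmersion.lift W.ι j hsub'
  have hj' : j' ≫ W.ι = j := IsOpenImmersion.lift_fac _ _ _
  have hfac : j' ≫ (fb ∣_ v.opensRange) ≫ v.isoOpensRange.inv = f := by
    rw [← cancel_mono v, Category.assoc, Category.assoc, Scheme.Hom.isoOpensRange_inv_comp, morphismRestrict_ι,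
      ← Category.assoc, hj', hsq]
  haveI : IsSeparated ((fb ∣_ v.opensRange) ≫ v.isoOpensRange.inv) := by
    haveI : IsSeparated (fb ∣_ v.opensRange) := IsZariskiLocalAtTarget.restrict (P := @IsSeparated) ‹IsSeparated fb› _
    infer_instance
  haveI : UniversallyClosed (j' ≫ (fb ∣_ v.opensRange) ≫ v.isoOpensRange.inv) := by rw [hfac]; infer_instance
  haveI : UniversallyClosed j' := UniversallyClosed.of_comp_of_isSeparated j' ((fb ∣_ v.opensRange) ≫ v.isoOpensRange.inv)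
  have hc : IsClosed (Set.range j'.base) := j'.isClosedMap.isClosed_range
  refine le_antisymm (fun x hx => ?_) hsub
  by_contra hnx
  have hopen : IsOpen (W.ι.base '' (Set.range j'.base)ᶜ) := W.ι.isOpenEmbedding.isOpenMap _ hc.isOpen_compl
  have hne : (W.ι.base '' (Set.range j'.base)ᶜ).Nonempty := by
    refine ⟨x, ⟨x, hx⟩, ?_, rfl⟩
    rintro ⟨z, hz⟩
    exact hnx ⟨z, by rw [← hj', Scheme.Hom.comp_apply, hz]; rfl⟩
  obtain ⟨y, ⟨y', hy', rfl⟩, z, hz⟩ := hj.inter_open_nonempty _ hopen hne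
  refine hy' ⟨z, W.ι.isOpenEmbedding.injective ?_⟩
  rw [← Scheme.Hom.comp_apply, hj']
  exact hz

end

section
open CategoryTheory.Pretriangulated
variable {D : Type u} [Category.{v} D] [Preadditive D] [HasZeroObject D] [HasShift D ℤ] [∀ n : ℤ, (shiftFunctor D n).Additive]
  [Pretriangulated D]

theorem postnikov_vanishing (X X' : ChainComplex D ℕ) (n : ℕ) (Y : ℕ → D) (a : ∀ k, Y k ⟶ X'.X k)
    (b : ∀ k, X'.X (k + 1) ⟶ Y k) (c : ∀ k, Y k ⟶ (shiftFunctor D (1 : ℤ)).obj (Y (k + 1))) (h0 : IsIso (a 0))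
    (hP : ∀ k, k < n → Triangle.mk (a (k + 1)) (b k) (c k) ∈ distTriang D)
    (hX : ∀ i j : ℕ, j + 1 < i → i ≤ n → ∀ ψ : (shiftFunctor D ((i : ℤ) - j - 1)).obj (X.X i) ⟶ X'.X j, ψ = 0) :
    ∀ (j i : ℕ) (m : ℤ), j + 1 < i → i ≤ n → m = (i : ℤ) - j - 1 → ∀ ψ : (shiftFunctor D m).obj (X.X i) ⟶ Y j, ψ = 0 := by
  intro j
  induction j with
  | zero =>
    intro i m hij hi hm ψ
    subst hm
    rw [← cancel_mono (a 0), zero_comp]
    exact hX i 0 hij hi _
  | succ j ih =>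
    intro i m hij hi hm ψ
    have ha : ψ ≫ a (j + 1) = 0 := by
      subst hm
      exact hX i (j + 1) hij hi _
    obtain ⟨g, hg⟩ : ∃ g, ψ = g ≫ (Triangle.mk (a (j + 1)) (b j) (c j)).invRotate.mor₁ :=
      Triangle.coyoneda_exact₂ _ (inv_rot_of_distTriang _ (hP j (by lia))) ψ ha
    suffices hg0 : g = 0 by rw [hg, hg0, zero_comp]; rfl
    apply (shiftFunctor D (1 : ℤ)).map_injective
    rw [Functor.map_zero]
    let e₁ : (X.X i)⟦m⟧⟦(1 : ℤ)⟧ ≅ (X.X i)⟦(i : ℤ) - j - 1⟧ :=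
      ((shiftFunctorAdd' D m (1 : ℤ) ((i : ℤ) - j - 1) (by lia)).app (X.X i)).symm
    let e₂ : (Y j)⟦(-1 : ℤ)⟧⟦(1 : ℤ)⟧ ≅ Y j := (shiftEquiv D (1 : ℤ)).counitIso.app _
    have h : e₁.inv ≫ g⟦(1 : ℤ)⟧' ≫ e₂.hom = 0 := ih i _ (by lia) hi rfl _
    exact (Preadditive.IsIso.comp_right_eq_zero _ e₂.hom).1 ((Preadditive.IsIso.comp_left_eq_zero e₁.inv _).1 h)

end

section
variable {k : Type w} [Field k] {T : Type u} [Category.{v} T] [Preadditive T] [Linear k T] [∀ X Y : T, Module.Finite k (X ⟶ Y)]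

theorem serre_exists_hom (S S' : T ⥤ T) (c : ∀ X Y : T, (X ⟶ Y) ≃ₗ[k] Module.Dual k (Y ⟶ S.obj X))
    (c' : ∀ X Y : T, (X ⟶ Y) ≃ₗ[k] Module.Dual k (Y ⟶ S'.obj X))
    (hc₁ : ∀ (X Y Y' : T) (f : X ⟶ Y) (g : Y ⟶ Y'), c X Y' (f ≫ g) = (c X Y f) ∘ₗ Linear.leftComp k (S.obj X) g)
    (hc'₁ : ∀ (X Y Y' : T) (f : X ⟶ Y) (g : Y ⟶ Y'), c' X Y' (f ≫ g) = (c' X Y f) ∘ₗ Linear.leftComp k (S'.obj X) g)
    (X : T) : ∃ φ : S.obj X ⟶ S'.obj X, ∀ (Y : T) (f : X ⟶ Y) (g : Y ⟶ S.obj X), c' X Y f (g ≫ φ) = c X Y f g := by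
  let ev : Module.Dual k (X ⟶ S.obj X) := (c X (S.obj X)).toLinearMap.flip (𝟙 _)
  obtain ⟨φ, hφ⟩ : ∃ φ : S.obj X ⟶ S'.obj X, ∀ f : X ⟶ S.obj X, c' X (S.obj X) f φ = ev f := by
    obtain ⟨φ, hφ⟩ := (Module.evalEquiv k (S.obj X ⟶ S'.obj X)).surjective (ev ∘ₗ (c' X (S.obj X)).symm.toLinearMap)
    refine ⟨φ, fun f => ?_⟩
    have := LinearMap.congr_fun hφ (c' X (S.obj X) f)
    simpa using this
  refine ⟨φ, fun Y f g => ?_⟩
  have h₁ := LinearMap.congr_fun (hc'₁ X Y (S.obj X) f g) φ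
  have h₂ := LinearMap.congr_fun (hc₁ X Y (S.obj X) f g) (𝟙 _)
  simp only [LinearMap.comp_apply, Linear.leftComp_apply, Category.comp_id] at h₁ h₂
  rw [← h₁, hφ, ← h₂]
  rfl

theorem serre_hom_ext (S : T ⥤ T) (c : ∀ X Y : T, (X ⟶ Y) ≃ₗ[k] Module.Dual k (Y ⟶ S.obj X)) {X Y : T}
    (g g' : Y ⟶ S.obj X) (h : ∀ f, c X Y f g = c X Y f g') : g = g' := by
  rw [← sub_eq_zero]
  refine (Module.forall_dual_apply_eq_zero_iff k _).1 fun φ => ?_
  obtain ⟨f, rfl⟩ := (c X Y).surjective φ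
  rw [map_sub, h, sub_self]

theorem serre_unique (S S' : T ⥤ T) (c : ∀ X Y : T, (X ⟶ Y) ≃ₗ[k] Module.Dual k (Y ⟶ S.obj X))
    (hc₁ : ∀ (X Y Y' : T) (f : X ⟶ Y) (g : Y ⟶ Y'), c X Y' (f ≫ g) = (c X Y f) ∘ₗ Linear.leftComp k (S.obj X) g)
    (hc₂ : ∀ (X' X Y : T) (a : X' ⟶ X) (f : X ⟶ Y), c X' Y (a ≫ f) = (c X Y f) ∘ₗ Linear.rightComp k Y (S.map a))
    (c' : ∀ X Y : T, (X ⟶ Y) ≃ₗ[k] Module.Dual k (Y ⟶ S'.obj X))
    (hc'₁ : ∀ (X Y Y' : T) (f : X ⟶ Y) (g : Y ⟶ Y'), c' X Y' (f ≫ g) = (c' X Y f) ∘ₗ Linear.leftComp k (S'.obj X) g)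
    (hc'₂ : ∀ (X' X Y : T) (a : X' ⟶ X) (f : X ⟶ Y), c' X' Y (a ≫ f) = (c' X Y f) ∘ₗ Linear.rightComp k Y (S'.map a)) :
    ∃! φ : S ≅ S', ∀ (X Y : T) (f : X ⟶ Y), c X Y f = (c' X Y f) ∘ₗ Linear.rightComp k Y (φ.hom.app X) := by
  choose φ hφ using serre_exists_hom S S' c c' hc₁ hc'₁
  choose ψ hψ using serre_exists_hom S' S c' c hc'₁ hc₁
  refine ⟨NatIso.ofComponents (fun X => ⟨φ X, ψ X, serre_hom_ext S c _ _ fun f => ?_, serre_hom_ext S' c' _ _ fun f => ?_⟩)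
    (fun {X X'} a => serre_hom_ext S' c' _ _ fun f => ?_), fun X Y f => ?_, fun θ hθ => ?_⟩
  · rw [hψ, ← Category.id_comp (φ X), hφ]
  · rw [hφ, ← Category.id_comp (ψ X), hψ]
  · have e₁ := LinearMap.congr_fun (hc₂ X X' _ a f) (𝟙 _)
    have e₂ := LinearMap.congr_fun (hc'₂ X X' _ a f) (φ X)
    simp only [LinearMap.comp_apply, Linear.rightComp_apply, Category.id_comp] at e₁ e₂
    show c' X' _ f (S.map a ≫ φ X') = c' X' _ f (φ X ≫ S'.map a)
    rw [hφ, ← e₁, ← e₂, ← hφ X _ (a ≫ f) (𝟙 _), Category.id_comp]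
  · refine LinearMap.ext fun g => ?_
    show c X Y f g = c' X Y f (g ≫ φ X)
    rw [hφ]
  · refine Iso.ext (NatTrans.ext (funext fun X => serre_hom_ext S' c' _ _ fun f => ?_))
    have := LinearMap.congr_fun (hθ X _ f) (𝟙 _)
    simp only [LinearMap.comp_apply, Linear.rightComp_apply, Category.id_comp] at this
    show c' X _ f (θ.hom.app X) = c' X _ f (φ X)
    rw [← this, ← hφ X _ f (𝟙 _), Category.id_comp]

end

section
variable {A : Type u} [Category.{v} A] [Abelian A] {B : Type u'} [Category.{v'} B] [Abelian B]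

theorem exists_image_in_subobject (u : A ⥤ B) [u.Full] [u.Faithful] [PreservesFiniteLimits u] [PreservesFiniteColimits u]
    (hlen : ∀ X : A, IsArtinianObject X ∧ IsNoetherianObject X) (hsimple : ∀ X : A, Simple X → Simple (u.obj X))
    (X : A) {K : B} (k : K ⟶ u.obj X) [Mono k] (hK : ¬ IsZero K) :
    ∃ (W : A) (s : W ⟶ X) (h : u.obj W ⟶ K), s ≠ 0 ∧ h ≫ k = u.map s := by
  haveI : u.PreservesZeroMorphisms := Functor.preservesZeroMorphisms_of_full u
  haveI := (hlen X).2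
  suffices H : ∀ (N : Subobject X) (Q : A) (p : X ⟶ Q), Epi p → kernelSubobject p = N → ∀ (K : B) (k : K ⟶ u.obj Q),
      Mono k → ¬ IsZero K → ∃ (W : A) (s : W ⟶ Q) (h : u.obj W ⟶ K), s ≠ 0 ∧ h ≫ k = u.map s from
    H _ X (𝟙 X) inferInstance rfl K k inferInstance hK
  intro N
  induction N using WellFoundedGT.induction with
  | _ N ih =>
  intro Q p _ hN K k _ hK
  have hQ : ¬ IsZero Q := fun hQ => hK (IsZero.of_mono k (u.map_isZero hQ))
  haveI := (hlen Q).1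
  obtain ⟨S, hS⟩ := exists_simple_subobject hQ
  let π := cokernel.π S.arrow
  by_cases hm : Mono (k ≫ u.map π)
  · have hlt : N < kernelSubobject (p ≫ π) := by
      refine lt_of_le_of_ne (hN ▸ kernelSubobject_comp_le p π) fun e => ?_
      have h0 : (kernelSubobject (p ≫ π)).arrow ≫ p = 0 := by
        subst hN
        rw [← Subobject.ofLE_arrow e.ge, Category.assoc, kernelSubobject_arrow_comp, comp_zero]
      obtain ⟨r, hr⟩ : ∃ r, (p ≫ π) ≫ r = p := by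
        have h0' : kernel.ι (p ≫ π) ≫ p = 0 := by
          rw [← kernelSubobject_arrow' (p ≫ π), Category.assoc, h0, comp_zero]
        exact ⟨_, (CokernelCofork.IsColimit.desc' (Abelian.epiIsCokernelOfKernel _ (kernelIsKernel (p ≫ π))) p h0').2⟩
      rw [Category.assoc] at hr
      have hπr : π ≫ r = 𝟙 Q := by rw [← cancel_epi p, hr, Category.comp_id]
      haveI : Mono π := mono_of_mono_fac hπr
      have : S.arrow = 0 := by rw [← cancel_mono π, cokernel.condition, zero_comp]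
      exact Simple.not_isZero (S : A) (IsZero.of_mono_eq_zero _ this)
    obtain ⟨W, s, h, hs, hh⟩ := ih _ hlt _ (p ≫ π) inferInstance rfl K (k ≫ u.map π) hm hK
    refine ⟨W, u.preimage (h ≫ k), h, fun h0 => hs (u.map_injective ?_), (u.map_preimage _).symm⟩
    have := congrArg u.map h0
    rw [Functor.map_preimage, Functor.map_zero] at this
    rw [← hh, reassoc_of% this, zero_comp, Functor.map_zero]
  · have hc : (cokernel.π S.arrow) = π := rfl
    let κ := kernel.ι (k ≫ u.map π)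
    have hκ : κ ≠ 0 := fun h => hm (Preadditive.mono_of_kernel_iso_zero ((IsZero.of_mono_eq_zero κ h).isoZero))
    have hl := KernelFork.mapIsLimit _ (Abelian.monoIsKernelOfCokernel _ (cokernelIsCokernel S.arrow)) u
    obtain ⟨t, ht⟩ : ∃ t : kernel (k ≫ u.map π) ⟶ u.obj (S : A), t ≫ u.map S.arrow = κ ≫ k :=
      ⟨_, (KernelFork.IsLimit.lift' hl (κ ≫ k) (by
        show (κ ≫ k) ≫ u.map π = 0
        rw [Category.assoc, kernel.condition])).2⟩
    haveI := hsimple _ hS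
    have hκk : κ ≫ k ≠ 0 := fun h => hκ (by rw [← cancel_mono k, h, zero_comp])
    haveI : Mono (t ≫ u.map S.arrow) := by rw [ht]; infer_instance
    haveI : Mono t := mono_of_mono t (u.map S.arrow)
    haveI : IsIso t := isIso_of_mono_of_nonzero fun h => hκk (by rw [← ht, h, zero_comp])
    refine ⟨S, S.arrow, inv t ≫ κ, fun h => Simple.not_isZero (S : A) (IsZero.of_mono_eq_zero _ h), ?_⟩
    rw [Category.assoc, ← ht, IsIso.inv_hom_id_assoc]

theorem mono_counit (u : A ⥤ B) [u.Full] [u.Faithful] [PreservesFiniteLimits u] [PreservesFiniteColimits u]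
    (uStar : B ⥤ A) (adj : u ⊣ uStar) (hlen : ∀ X : A, IsArtinianObject X ∧ IsNoetherianObject X)
    (hsimple : ∀ X : A, Simple X → Simple (u.obj X)) (Y : B) : Mono (adj.counit.app Y) := by
  haveI : u.PreservesZeroMorphisms := Functor.preservesZeroMorphisms_of_full u
  by_contra hm
  have hK : ¬ IsZero (kernel (adj.counit.app Y)) := fun h => hm (Preadditive.mono_of_kernel_iso_zero h.isoZero)
  obtain ⟨W, s, h, hs, hh⟩ := exists_image_in_subobject u hlen hsimple (uStar.obj Y) (kernel.ι (adj.counit.app Y)) hK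
  refine hs ((adj.homEquiv W Y).symm.injective ?_)
  rw [Adjunction.homEquiv_counit, Adjunction.homEquiv_counit, ← hh, Category.assoc, kernel.condition, comp_zero,
    Functor.map_zero, zero_comp]

end

end Groth.Agent.H4Easy
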