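import Mathlib

/-! The lemma on way-out functors -/

set_option autoImplicit false
set_option linter.style.haveILetI false

open CategoryTheory CategoryTheory.Limits CategoryTheory.Pretriangulated

universe w w' v v' u u'

namespace Groth.Agent.H4Easy


section
variable {A : Type u} [Category.{v} A] [Abelian A] [HasDerivedCategory.{w} A]

theorem homology_exact₂ {B : Type u'} [Category.{v'} B] [Abelian B] [HasDerivedCategory.{w'} B]
    (F : DerivedCategory A ⥤ DerivedCategory B) [F.CommShift ℤ] [F.IsTriangulated]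
    (T : Triangle (DerivedCategory A)) (hT : T ∈ distTriang _) (i : ℤ) {W : B}
    (x : W ⟶ (DerivedCategory.homologyFunctor B i).obj (F.obj T.obj₂))
    (hx : x ≫ (DerivedCategory.homologyFunctor B i).map (F.map T.mor₂) = 0) :
    ∃ (W' : B) (π : W' ⟶ W) (_ : Epi π) (y : W' ⟶ (DerivedCategory.homologyFunctor B i).obj (F.obj T.obj₁)),
      π ≫ x = y ≫ (DerivedCategory.homologyFunctor B i).map (F.map T.mor₁) :=
  (DerivedCategory.HomologySequence.exact₂ _ (F.map_distinguished _ hT) i).exact_up_to_refinements x hx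

variable {B : Type u'} [Category.{v'} B] [Abelian B] [HasDerivedCategory.{w'} B]
  {F G : DerivedCategory A ⥤ DerivedCategory B} [F.CommShift ℤ] [G.CommShift ℤ] [F.IsTriangulated] [G.IsTriangulated]
  (η : F ⟶ G)

local notation "𝖧" => DerivedCategory.homologyFunctor B

omit [F.CommShift ℤ] [G.CommShift ℤ] [F.IsTriangulated] [G.IsTriangulated] in
theorem hη_naturality (i : ℤ) {X Y : DerivedCategory A} (f : X ⟶ Y) :
    (𝖧 i).map (F.map f) ≫ (𝖧 i).map (η.app Y) = (𝖧 i).map (η.app X) ≫ (𝖧 i).map (G.map f) := by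
  rw [← Functor.map_comp, ← Functor.map_comp, η.naturality]

omit [F.CommShift ℤ] [G.CommShift ℤ] [F.IsTriangulated] [G.IsTriangulated] in
theorem mono_gen (i : ℤ) {A₀ A₁ A₂ A₃ : DerivedCategory A} (w : A₀ ⟶ A₁) (u : A₁ ⟶ A₂) (v : A₂ ⟶ A₃)
    (hwu : (𝖧 i).map (F.map w) ≫ (𝖧 i).map (F.map u) = 0)
    (eF : ∀ {W : B} (x : W ⟶ (𝖧 i).obj (F.obj A₂)), x ≫ (𝖧 i).map (F.map v) = 0 →
      ∃ (W' : B) (π : W' ⟶ W) (_ : Epi π) (y : W' ⟶ (𝖧 i).obj (F.obj A₁)), π ≫ x = y ≫ (𝖧 i).map (F.map u))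
    (eG : ∀ {W : B} (x : W ⟶ (𝖧 i).obj (G.obj A₁)), x ≫ (𝖧 i).map (G.map u) = 0 →
      ∃ (W' : B) (π : W' ⟶ W) (_ : Epi π) (y : W' ⟶ (𝖧 i).obj (G.obj A₀)), π ≫ x = y ≫ (𝖧 i).map (G.map w))
    (h₁ : Mono ((𝖧 i).map (η.app A₁))) (h₃ : Mono ((𝖧 i).map (η.app A₃))) (h₀ : Epi ((𝖧 i).map (η.app A₀))) :
    Mono ((𝖧 i).map (η.app A₂)) := by
  refine Preadditive.mono_of_cancel_zero _ fun {W} x hx => ?_
  obtain ⟨W₁, π₁, _, a, ha⟩ := eF x (by
    rw [← cancel_mono ((𝖧 i).map (η.app A₃)), Category.assoc, hη_naturality, reassoc_of% hx, zero_comp, zero_comp])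
  obtain ⟨W₂, π₂, _, c, hc⟩ := eG (a ≫ (𝖧 i).map (η.app A₁)) (by
    rw [Category.assoc, ← hη_naturality, ← reassoc_of% ha, hx, comp_zero])
  obtain ⟨W₃, π₃, _, c₀, hc₀⟩ := surjective_up_to_refinements_of_epi ((𝖧 i).map (η.app A₀)) c
  have ha' : π₃ ≫ π₂ ≫ a = c₀ ≫ (𝖧 i).map (F.map w) := by
    rw [← cancel_mono ((𝖧 i).map (η.app A₁)), Category.assoc, Category.assoc, Category.assoc, hc, reassoc_of% hc₀,
      hη_naturality]
  rw [← cancel_epi π₁, ← cancel_epi π₂, ← cancel_epi π₃, comp_zero, comp_zero, comp_zero, ha, reassoc_of% ha', hwu, comp_zero]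

omit [F.CommShift ℤ] [G.CommShift ℤ] [F.IsTriangulated] [G.IsTriangulated] in
theorem epi_gen (i : ℤ) {A₁ A₂ A₃ A₄ : DerivedCategory A} (u : A₁ ⟶ A₂) (v : A₂ ⟶ A₃) (w : A₃ ⟶ A₄)
    (hvw : (𝖧 i).map (G.map v) ≫ (𝖧 i).map (G.map w) = 0)
    (eF : ∀ {W : B} (x : W ⟶ (𝖧 i).obj (F.obj A₃)), x ≫ (𝖧 i).map (F.map w) = 0 →
      ∃ (W' : B) (π : W' ⟶ W) (_ : Epi π) (y : W' ⟶ (𝖧 i).obj (F.obj A₂)), π ≫ x = y ≫ (𝖧 i).map (F.map v))
    (eG : ∀ {W : B} (x : W ⟶ (𝖧 i).obj (G.obj A₂)), x ≫ (𝖧 i).map (G.map v) = 0 →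
      ∃ (W' : B) (π : W' ⟶ W) (_ : Epi π) (y : W' ⟶ (𝖧 i).obj (G.obj A₁)), π ≫ x = y ≫ (𝖧 i).map (G.map u))
    (h₁ : Epi ((𝖧 i).map (η.app A₁))) (h₃ : Epi ((𝖧 i).map (η.app A₃))) (h₄ : Mono ((𝖧 i).map (η.app A₄))) :
    Epi ((𝖧 i).map (η.app A₂)) := by
  rw [epi_iff_surjective_up_to_refinements]
  intro W y
  obtain ⟨W₁, π₁, _, c, hc⟩ := surjective_up_to_refinements_of_epi ((𝖧 i).map (η.app A₃)) (y ≫ (𝖧 i).map (G.map v))
  obtain ⟨W₂, π₂, _, b, hb⟩ := eF c (by
    rw [← cancel_mono ((𝖧 i).map (η.app A₄)), Category.assoc, hη_naturality, ← reassoc_of% hc, hvw, comp_zero, comp_zero,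
      zero_comp])
  obtain ⟨W₃, π₃, _, a', ha'⟩ := eG (π₂ ≫ π₁ ≫ y - b ≫ (𝖧 i).map (η.app A₂)) (by
    rw [Preadditive.sub_comp, Category.assoc, Category.assoc, hc, reassoc_of% hb, Category.assoc, hη_naturality, sub_self])
  obtain ⟨W₄, π₄, _, a, ha⟩ := surjective_up_to_refinements_of_epi ((𝖧 i).map (η.app A₁)) a'
  refine ⟨W₄, π₄ ≫ π₃ ≫ π₂ ≫ π₁, inferInstance, π₄ ≫ π₃ ≫ b + a ≫ (𝖧 i).map (F.map u), ?_⟩
  rw [Preadditive.add_comp, Category.assoc, Category.assoc, Category.assoc, Category.assoc, Category.assoc, Category.assoc,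
    hη_naturality, ← reassoc_of% ha, ← ha', ← Preadditive.comp_add, ← Preadditive.comp_add, add_sub_cancel]

theorem mono_mid (T : Triangle (DerivedCategory A)) (hT : T ∈ distTriang _) (i : ℤ)
    (h₁ : Mono ((𝖧 i).map (η.app T.obj₁))) (h₃ : Mono ((𝖧 i).map (η.app T.obj₃)))
    (h₀ : Epi ((𝖧 i).map (η.app T.invRotate.obj₁))) : Mono ((𝖧 i).map (η.app T.obj₂)) := by
  have hz : (𝖧 i).map (F.map T.invRotate.mor₁) ≫ (𝖧 i).map (F.map T.invRotate.mor₂) = 0 := by
    rw [← Functor.map_comp, ← Functor.map_comp, comp_distTriang_mor_zero₁₂ _ (inv_rot_of_distTriang _ hT),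
      Functor.map_zero, Functor.map_zero]
  exact mono_gen η i (A₁ := T.obj₁) T.invRotate.mor₁ T.mor₁ T.mor₂ hz (homology_exact₂ F T hT i)
    (homology_exact₂ G T.invRotate (inv_rot_of_distTriang _ hT) i) h₁ h₃ h₀

theorem epi_mid (T : Triangle (DerivedCategory A)) (hT : T ∈ distTriang _) (i : ℤ)
    (h₁ : Epi ((𝖧 i).map (η.app T.obj₁))) (h₃ : Epi ((𝖧 i).map (η.app T.obj₃)))
    (h₄ : Mono ((𝖧 i).map (η.app T.rotate.obj₃))) : Epi ((𝖧 i).map (η.app T.obj₂)) := by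
  have hz : (𝖧 i).map (G.map T.mor₂) ≫ (𝖧 i).map (G.map T.mor₃) = 0 := by
    rw [← Functor.map_comp, ← Functor.map_comp, comp_distTriang_mor_zero₂₃ _ hT, Functor.map_zero, Functor.map_zero]
  exact epi_gen η i T.mor₁ T.mor₂ T.mor₃ hz (homology_exact₂ F T.rotate (rot_of_distTriang _ hT) i)
    (homology_exact₂ G T hT i) h₁ h₃ h₄

theorem iso_mid (T : Triangle (DerivedCategory A)) (hT : T ∈ distTriang _) (i : ℤ)
    (h₁ : IsIso ((𝖧 i).map (η.app T.obj₁))) (h₃ : IsIso ((𝖧 i).map (η.app T.obj₃)))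
    (h₀ : Epi ((𝖧 i).map (η.app T.invRotate.obj₁))) (h₄ : Mono ((𝖧 i).map (η.app T.rotate.obj₃))) :
    IsIso ((𝖧 i).map (η.app T.obj₂)) := by
  haveI := mono_mid η T hT i inferInstance inferInstance h₀
  haveI := epi_mid η T hT i inferInstance inferInstance h₄
  exact isIso_of_mono_of_epi _

omit [F.CommShift ℤ] [G.CommShift ℤ] [F.IsTriangulated] [G.IsTriangulated] in
theorem isIso_of_isZero (i : ℤ) (X : DerivedCategory A) (h₁ : IsZero ((𝖧 i).obj (F.obj X))) (h₂ : IsZero ((𝖧 i).obj (G.obj X))) :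
    IsIso ((𝖧 i).map (η.app X)) :=
  ⟨0, h₁.eq_of_src _ _, h₂.eq_of_src _ _⟩

omit [F.CommShift ℤ] [G.CommShift ℤ] [F.IsTriangulated] [G.IsTriangulated] in
theorem isIso_app_of_iso' {X Y : DerivedCategory A} (e : X ≅ Y) [IsIso (η.app X)] : IsIso (η.app Y) := by
  have : η.app Y = F.map e.inv ≫ η.app X ≫ G.map e.hom := by
    rw [← η.naturality e.hom, ← Functor.map_comp_assoc, e.inv_hom_id, CategoryTheory.Functor.map_id, Category.id_comp]
  rw [this]; infer_instance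

variable [NatTrans.CommShift η ℤ]

omit [F.IsTriangulated] [G.IsTriangulated] in
theorem isIso_app_shift (X : DerivedCategory A) (n : ℤ) [IsIso (η.app X)] : IsIso (η.app (X⟦n⟧)) := by
  rw [NatTrans.app_shift]; infer_instance

omit [F.IsTriangulated] [G.IsTriangulated] in
theorem isIso_shift_iff (X : DerivedCategory A) (a i i' : ℤ) (h : a + i = i') (h' : IsIso ((𝖧 i').map (η.app X))) :
    IsIso ((𝖧 i).map (η.app (X⟦a⟧))) := by
  haveI : IsIso ((𝖧 i).map ((η.app X)⟦a⟧')) := by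
    have e := ((DerivedCategory.homologyFunctor B 0).shiftIso a i i' h)
    exact (NatIso.isIso_map_iff e (η.app X)).2 h'
  rw [NatTrans.app_shift, Functor.map_comp, Functor.map_comp]
  infer_instance

theorem isIso_single (P : ObjectProperty A) (hη : ∀ X : A, P X → IsIso (η.app ((DerivedCategory.singleFunctor A 0).obj X)))
    (X : A) (hX : P X) (n : ℤ) : IsIso (η.app ((DerivedCategory.singleFunctor A n).obj X)) := by
  haveI := hη X hX
  haveI := isIso_app_shift η ((DerivedCategory.singleFunctor A 0).obj X) (-n)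
  haveI : IsIso (η.app (((DerivedCategory.singleFunctors A).functor 0 ⋙ shiftFunctor (DerivedCategory A) (-n)).obj X)) := this
  exact isIso_app_of_iso' η (((DerivedCategory.singleFunctors A).shiftIso (-n) n 0 (by lia)).app X)

theorem isIso_of_triangle_iso (T : Triangle (DerivedCategory A)) (hT : T ∈ distTriang _) (h₁ : IsIso (η.app T.obj₁))
    (h₃ : IsIso (η.app T.obj₃)) : IsIso (η.app T.obj₂) := by
  rw [DerivedCategory.isIso_iff]
  intro i
  haveI := isIso_app_shift η T.obj₃ (-1)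
  haveI := isIso_app_shift η T.obj₁ 1
  exact iso_mid η T hT i inferInstance inferInstance (inferInstanceAs (Epi ((𝖧 i).map (η.app (T.obj₃⟦(-1 : ℤ)⟧)))))
    (inferInstanceAs (Mono ((𝖧 i).map (η.app (T.obj₁⟦(1 : ℤ)⟧)))))

end

section
variable {A : Type u} [Category.{v} A] [Abelian A] [HasDerivedCategory.{w} A]

open DerivedCategory.TStructure

theorem trunc_homology (X : DerivedCategory A) (n i : ℤ) :
    (i < n → IsZero ((DerivedCategory.homologyFunctor A i).obj ((t.truncGE n).obj X)) ∧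
      Nonempty ((DerivedCategory.homologyFunctor A i).obj ((t.truncLT n).obj X) ≅ (DerivedCategory.homologyFunctor A i).obj X)) ∧
    (n ≤ i → IsZero ((DerivedCategory.homologyFunctor A i).obj ((t.truncLT n).obj X)) ∧
      Nonempty ((DerivedCategory.homologyFunctor A i).obj ((t.truncGE n).obj X) ≅ (DerivedCategory.homologyFunctor A i).obj X)) := by
  have hT := t.triangleLTGE_distinguished n X
  have hL : ((t.truncLT n).obj X).IsLE (n - 1) := t.isLE_truncLT_obj X n (n - 1)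
  have hG : ((t.truncGE n).obj X).IsGE n := t.isGE_truncGE_obj X n n
  have zL : ∀ j, n ≤ j → IsZero ((DerivedCategory.homologyFunctor A j).obj ((t.truncLT n).obj X)) :=
    fun j hj => ((DerivedCategory.isLE_iff _ _).1 hL) j (by lia)
  have zG : ∀ j, j < n → IsZero ((DerivedCategory.homologyFunctor A j).obj ((t.truncGE n).obj X)) :=
    fun j hj => ((DerivedCategory.isGE_iff _ _).1 hG) j hj
  refine ⟨fun hi => ⟨zG i hi, ?_⟩, fun hi => ⟨zL i hi, ?_⟩⟩
  · haveI := (DerivedCategory.HomologySequence.epi_homologyMap_mor₁_iff _ hT i).2 ((zG i hi).eq_of_tgt _ _)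
    haveI := (DerivedCategory.HomologySequence.mono_homologyMap_mor₁_iff _ hT (i - 1) i (by lia)).2
      ((zG (i - 1) (by lia)).eq_of_src _ _)
    haveI := isIso_of_mono_of_epi ((DerivedCategory.homologyFunctor A i).map ((t.triangleLTGE n).obj X).mor₁)
    exact ⟨@asIso _ _ _ _ ((DerivedCategory.homologyFunctor A i).map ((t.triangleLTGE n).obj X).mor₁) this⟩
  · haveI := (DerivedCategory.HomologySequence.mono_homologyMap_mor₂_iff _ hT i).2 ((zL i hi).eq_of_src _ _)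
    haveI := (DerivedCategory.HomologySequence.epi_homologyMap_mor₂_iff _ hT i (i + 1) rfl).2
      ((zL (i + 1) (by lia)).eq_of_tgt _ _)
    haveI := isIso_of_mono_of_epi ((DerivedCategory.homologyFunctor A i).map ((t.triangleLTGE n).obj X).mor₂)
    exact ⟨(@asIso _ _ _ _ ((DerivedCategory.homologyFunctor A i).map ((t.triangleLTGE n).obj X).mor₂) this).symm⟩

variable (P : ObjectProperty A) [P.IsClosedUnderIsomorphisms] (hP : ∀ Z : A, IsZero Z → P Z)

include hP in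
theorem trunc_mem (X : DerivedCategory A) (hX : ∀ i : ℤ, P ((DerivedCategory.homologyFunctor A i).obj X)) (n : ℤ) :
    (∀ i, P ((DerivedCategory.homologyFunctor A i).obj ((t.truncLT n).obj X))) ∧
      (∀ i, P ((DerivedCategory.homologyFunctor A i).obj ((t.truncGE n).obj X))) := by
  refine ⟨fun i => ?_, fun i => ?_⟩
  all_goals rcases lt_or_ge i n with h | h
  · obtain ⟨-, ⟨e⟩⟩ := (trunc_homology X n i).1 h; exact P.prop_of_iso e.symm (hX i)
  · exact hP _ ((trunc_homology X n i).2 h).1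
  · exact hP _ ((trunc_homology X n i).1 h).1
  · obtain ⟨-, ⟨e⟩⟩ := (trunc_homology X n i).2 h; exact P.prop_of_iso e.symm (hX i)

theorem trunc_isGE (X : DerivedCategory A) (a n : ℤ) [X.IsGE a] : ((t.truncLT n).obj X).IsGE a := by
  rw [DerivedCategory.isGE_iff]
  intro i hi
  rcases lt_or_ge i n with h | h
  · obtain ⟨-, ⟨e⟩⟩ := (trunc_homology X n i).1 h
    exact ((DerivedCategory.isGE_iff X a).1 inferInstance i hi).of_iso e
  · exact ((trunc_homology X n i).2 h).1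

theorem trunc_isLE (X : DerivedCategory A) (b n : ℤ) [X.IsLE b] : ((t.truncGE n).obj X).IsLE b := by
  rw [DerivedCategory.isLE_iff]
  intro i hi
  rcases lt_or_ge i n with h | h
  · exact ((trunc_homology X n i).1 h).1
  · obtain ⟨-, ⟨e⟩⟩ := (trunc_homology X n i).2 h
    exact ((DerivedCategory.isLE_iff X b).1 inferInstance i hi).of_iso e

variable {B : Type u'} [Category.{v'} B] [Abelian B] [HasDerivedCategory.{w'} B]
  {F G : DerivedCategory A ⥤ DerivedCategory B} [F.CommShift ℤ] [G.CommShift ℤ] [F.IsTriangulated] [G.IsTriangulated]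
  (η : F ⟶ G) [NatTrans.CommShift η ℤ]
  (hη : ∀ X : A, P X → IsIso (η.app ((DerivedCategory.singleFunctor A 0).obj X)))

include hη in
theorem isIso_app_of_bounded (X : DerivedCategory A) (a b : ℤ) [X.IsGE a] [X.IsLE b]
    (hX : ∀ i : ℤ, P ((DerivedCategory.homologyFunctor A i).obj X)) : IsIso (η.app X) := by
  have hP : ∀ Z : A, IsZero Z → P Z := fun Z hZ =>
    P.prop_of_iso (((DerivedCategory.isLE_iff X b).1 inferInstance (b + 1) (by lia)).iso hZ) (hX _)
  suffices H : ∀ (d : ℕ) (Y : DerivedCategory A), Y.IsGE a → Y.IsLE (a + d) →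
      (∀ i : ℤ, P ((DerivedCategory.homologyFunctor A i).obj Y)) → IsIso (η.app Y) from
    H (b - a).toNat X inferInstance (t.isLE_of_le X b _ (by lia)) hX
  intro d
  induction d with
  | zero =>
    intro Y _ hY hPY
    haveI : Y.IsLE a := by simpa using hY
    obtain ⟨Z, ⟨e⟩⟩ := Y.exists_iso_singleFunctor_obj_of_isGE_of_isLE a
    haveI := isIso_single η P hη Z (P.prop_of_iso ((DerivedCategory.homologyFunctor A a).mapIso e ≪≫
      (DerivedCategory.singleFunctorCompHomologyFunctorIso A a).app Z) (hPY a)) a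
    exact isIso_app_of_iso' η e.symm
  | succ d ih =>
    intro Y _ hY hPY
    let n : ℤ := a + (d + 1 : ℕ)
    have hL : IsIso (η.app ((t.truncLT n).obj Y)) :=
      ih _ (trunc_isGE Y a n) (t.isLE_truncLT_obj Y n (a + d)) (trunc_mem P hP Y hPY n).1
    haveI := trunc_isLE Y n n
    haveI : ((t.truncGE n).obj Y).IsGE n := t.isGE_truncGE_obj Y n n
    obtain ⟨Z, ⟨e⟩⟩ := ((t.truncGE n).obj Y).exists_iso_singleFunctor_obj_of_isGE_of_isLE n
    haveI := isIso_single η P hη Z (P.prop_of_iso ((DerivedCategory.homologyFunctor A n).mapIso e ≪≫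
      (DerivedCategory.singleFunctorCompHomologyFunctorIso A n).app Z) ((trunc_mem P hP Y hPY n).2 n)) n
    exact isIso_of_triangle_iso η _ (t.triangleLTGE_distinguished n Y) hL (isIso_app_of_iso' η e.symm)

include hη in
theorem isIso_app_of_isGE (hF : ∀ n₁ : ℤ, ∃ n₂ : ℤ, ∀ Y : DerivedCategory A, Y.IsGE n₂ → (F.obj Y).IsGE n₁)
    (hG : ∀ n₁ : ℤ, ∃ n₂ : ℤ, ∀ Y : DerivedCategory A, Y.IsGE n₂ → (G.obj Y).IsGE n₁) (X : DerivedCategory A) (a : ℤ)
    [X.IsGE a] (hX : ∀ i : ℤ, P ((DerivedCategory.homologyFunctor A i).obj X)) : IsIso (η.app X) := by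
  have hP : ∀ Z : A, IsZero Z → P Z := fun Z hZ =>
    P.prop_of_iso (((DerivedCategory.isGE_iff X a).1 inferInstance (a - 1) (by lia)).iso hZ) (hX _)
  rw [DerivedCategory.isIso_iff]
  intro i
  obtain ⟨m₁, hm₁⟩ := hF (i + 2)
  obtain ⟨m₂, hm₂⟩ := hG (i + 2)
  let n := max m₁ m₂
  have z : ∀ Y : DerivedCategory A, Y.IsGE n → IsIso ((DerivedCategory.homologyFunctor B i).map (η.app Y)) := fun Y hY =>
    isIso_of_isZero η i Y
      ((DerivedCategory.isGE_iff _ _).1 (hm₁ Y (t.isGE_of_ge Y m₁ n (le_max_left _ _))) i (by lia))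
      ((DerivedCategory.isGE_iff _ _).1 (hm₂ Y (t.isGE_of_ge Y m₂ n (le_max_right _ _))) i (by lia))
  haveI := trunc_isGE X a n
  haveI := t.isLE_truncLT_obj X n (n - 1)
  haveI hL : IsIso (η.app ((t.truncLT n).obj X)) :=
    isIso_app_of_bounded P η hη _ a (n - 1) (trunc_mem P hP X hX n).1
  haveI hL' := isIso_app_shift η ((t.truncLT n).obj X) 1
  haveI hG' : ((t.truncGE n).obj X).IsGE n := t.isGE_truncGE_obj X n n
  haveI := t.isGE_shift ((t.truncGE n).obj X) n (-1) (n + 1)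
  haveI := z (((t.truncGE n).obj X)⟦(-1 : ℤ)⟧) (t.isGE_of_ge _ n (n + 1))
  exact iso_mid η _ (t.triangleLTGE_distinguished n X) i
    (inferInstanceAs (IsIso ((DerivedCategory.homologyFunctor B i).map (η.app ((t.truncLT n).obj X))))) (z _ hG')
    (inferInstanceAs (Epi ((DerivedCategory.homologyFunctor B i).map (η.app (((t.truncGE n).obj X)⟦(-1 : ℤ)⟧)))))
    (inferInstanceAs (Mono ((DerivedCategory.homologyFunctor B i).map (η.app (((t.truncLT n).obj X)⟦(1 : ℤ)⟧)))))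

include hη in
theorem isIso_app_of_isLE (hF : ∀ n₁ : ℤ, ∃ n₂ : ℤ, ∀ Y : DerivedCategory A, Y.IsLE n₂ → (F.obj Y).IsLE n₁)
    (hG : ∀ n₁ : ℤ, ∃ n₂ : ℤ, ∀ Y : DerivedCategory A, Y.IsLE n₂ → (G.obj Y).IsLE n₁) (X : DerivedCategory A) (b : ℤ)
    [X.IsLE b] (hX : ∀ i : ℤ, P ((DerivedCategory.homologyFunctor A i).obj X)) : IsIso (η.app X) := by
  have hP : ∀ Z : A, IsZero Z → P Z := fun Z hZ =>
    P.prop_of_iso (((DerivedCategory.isLE_iff X b).1 inferInstance (b + 1) (by lia)).iso hZ) (hX _)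
  rw [DerivedCategory.isIso_iff]
  intro i
  obtain ⟨m₁, hm₁⟩ := hF (i - 2)
  obtain ⟨m₂, hm₂⟩ := hG (i - 2)
  let n := min m₁ m₂
  have z : ∀ Y : DerivedCategory A, Y.IsLE n → IsIso ((DerivedCategory.homologyFunctor B i).map (η.app Y)) := fun Y hY =>
    isIso_of_isZero η i Y
      ((DerivedCategory.isLE_iff _ _).1 (hm₁ Y (t.isLE_of_le Y n m₁ (min_le_left _ _))) i (by lia))
      ((DerivedCategory.isLE_iff _ _).1 (hm₂ Y (t.isLE_of_le Y n m₂ (min_le_right _ _))) i (by lia))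
  haveI := trunc_isLE X b (n + 1)
  haveI := t.isGE_truncGE_obj X (n + 1) (n + 1)
  haveI hG' : IsIso (η.app ((t.truncGE (n + 1)).obj X)) :=
    isIso_app_of_bounded P η hη _ (n + 1) b (trunc_mem P hP X hX (n + 1)).2
  haveI := isIso_app_shift η ((t.truncGE (n + 1)).obj X) (-1)
  haveI hL : ((t.truncLT (n + 1)).obj X).IsLE n := t.isLE_truncLT_obj X (n + 1) n
  haveI := t.isLE_shift ((t.truncLT (n + 1)).obj X) n 1 (n - 1)
  haveI := z (((t.truncLT (n + 1)).obj X)⟦(1 : ℤ)⟧) (t.isLE_of_le _ (n - 1) n)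
  exact iso_mid η _ (t.triangleLTGE_distinguished (n + 1) X) i (z _ hL)
    (inferInstanceAs (IsIso ((DerivedCategory.homologyFunctor B i).map (η.app ((t.truncGE (n + 1)).obj X)))))
    (inferInstanceAs (Epi ((DerivedCategory.homologyFunctor B i).map (η.app (((t.truncGE (n + 1)).obj X)⟦(-1 : ℤ)⟧)))))
    (inferInstanceAs (Mono ((DerivedCategory.homologyFunctor B i).map (η.app (((t.truncLT (n + 1)).obj X)⟦(1 : ℤ)⟧)))))

include hη hP in
theorem isIso_app_of_wayOutBoth (hF : ∀ n₁ : ℤ, ∃ n₂ : ℤ, ∀ Y : DerivedCategory A, Y.IsGE n₂ → (F.obj Y).IsGE n₁)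
    (hF' : ∀ n₁ : ℤ, ∃ n₂ : ℤ, ∀ Y : DerivedCategory A, Y.IsLE n₂ → (F.obj Y).IsLE n₁)
    (hG : ∀ n₁ : ℤ, ∃ n₂ : ℤ, ∀ Y : DerivedCategory A, Y.IsGE n₂ → (G.obj Y).IsGE n₁)
    (hG' : ∀ n₁ : ℤ, ∃ n₂ : ℤ, ∀ Y : DerivedCategory A, Y.IsLE n₂ → (G.obj Y).IsLE n₁)
    (X : DerivedCategory A) (hX : ∀ i : ℤ, P ((DerivedCategory.homologyFunctor A i).obj X)) : IsIso (η.app X) := by
  haveI := t.isLE_truncLT_obj X 0 (-1)
  haveI := t.isGE_truncGE_obj X 0 0
  exact isIso_of_triangle_iso η _ (t.triangleLTGE_distinguished 0 X)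
    (isIso_app_of_isLE P η hη hF' hG' ((t.truncLT 0).obj X) (-1) (trunc_mem P hP X hX 0).1)
    (isIso_app_of_isGE P η hη hF hG ((t.truncGE 0).obj X) 0 (trunc_mem P hP X hX 0).2)

omit [P.IsClosedUnderIsomorphisms] in
include hη in
theorem isIso_app_single_of_cogenerating (hgen : ∀ X : A, ∃ (Y : A) (i : X ⟶ Y), P Y ∧ Mono i)
    (hF : ∀ n₁ : ℤ, ∃ n₂ : ℤ, ∀ Y : DerivedCategory A, Y.IsGE n₂ → (F.obj Y).IsGE n₁)
    (hG : ∀ n₁ : ℤ, ∃ n₂ : ℤ, ∀ Y : DerivedCategory A, Y.IsGE n₂ → (G.obj Y).IsGE n₁) (X : A) :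
    IsIso (η.app ((DerivedCategory.singleFunctor A 0).obj X)) := by
  let H := fun i => DerivedCategory.homologyFunctor B i
  let S := fun X : A => (DerivedCategory.singleFunctor A 0).obj X
  obtain ⟨n₁, hn₁⟩ : ∃ n₁ : ℤ, ∀ X : A, ∀ i < n₁, IsIso ((H i).map (η.app (S X))) := by
    obtain ⟨m₁, hm₁⟩ := hF 0
    obtain ⟨m₂, hm₂⟩ := hG 0
    let m := max (max m₁ m₂) 0
    refine ⟨-m, fun X i hi => ?_⟩
    haveI : (S X).IsGE 0 := inferInstance
    haveI := t.isGE_shift (S X) 0 (-m) m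
    have h := isIso_of_isZero η (i + m) ((S X)⟦-m⟧)
      ((DerivedCategory.isGE_iff _ _).1 (hm₁ _ (t.isGE_of_ge _ m₁ m (by omega))) _ (by lia))
      ((DerivedCategory.isGE_iff _ _).1 (hm₂ _ (t.isGE_of_ge _ m₂ m (by omega))) _ (by lia))
    have h2 := isIso_shift_iff η ((S X)⟦-m⟧) m i (i + m) (by lia) h
    have e : ((S X)⟦-m⟧)⟦m⟧ ≅ S X := (shiftFunctorCompIsoId (DerivedCategory A) (-m) m (by lia)).app (S X)
    have : (H i).map (η.app (S X)) = (H i).map (F.map e.inv) ≫ (H i).map (η.app _) ≫ (H i).map (G.map e.hom) := by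
      rw [← Functor.map_comp, ← Functor.map_comp, ← η.naturality, ← Functor.map_comp_assoc, e.inv_hom_id,
        CategoryTheory.Functor.map_id, Category.id_comp]
    rw [this]; infer_instance
  rw [DerivedCategory.isIso_iff]
  suffices hk : ∀ (k : ℕ) (X : A) (i : ℤ), i < n₁ + k → IsIso ((H i).map (η.app (S X))) from
    fun i => hk (i - n₁ + 1).toNat X i (by lia)
  intro k
  induction k with
  | zero => exact fun X i hi => hn₁ X i (by simpa using hi)
  | succ k ih =>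
    have step : ∀ (X : A) (i : ℤ), i < n₁ + (k + 1 : ℕ) →
        Mono ((H i).map (η.app (S X))) ∧ ((∀ Z, Mono ((H i).map (η.app (S Z)))) → Epi ((H i).map (η.app (S X)))) := by
      intro X i hi
      obtain ⟨Y, f, hY, _⟩ := hgen X
      let T : ShortComplex A := ShortComplex.mk f (cokernel.π f) (cokernel.condition f)
      have hS : T.ShortExact := { exact := ShortComplex.exact_cokernel f }
      have hT := inv_rot_of_distTriang _ hS.singleTriangle_distinguished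
      haveI : IsIso (η.app (S Y)) := hη Y hY
      haveI := isIso_app_shift η (S Y) (-1)
      haveI hZ : IsIso ((H i).map (η.app ((S (cokernel f))⟦(-1 : ℤ)⟧))) :=
        isIso_shift_iff η _ (-1) i (i - 1) (by lia) (ih (cokernel f) (i - 1) (by lia))
      refine ⟨mono_mid η _ hT i (inferInstanceAs (Mono ((H i).map (η.app ((S (cokernel f))⟦(-1 : ℤ)⟧)))))
        (inferInstanceAs (Mono ((H i).map (η.app (S Y))))) (inferInstanceAs (Epi ((H i).map (η.app ((S Y)⟦(-1 : ℤ)⟧))))),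
        fun hm => ?_⟩
      refine epi_mid η _ hT i (inferInstanceAs (Epi ((H i).map (η.app ((S (cokernel f))⟦(-1 : ℤ)⟧)))))
        (inferInstanceAs (Epi ((H i).map (η.app (S Y))))) ?_
      let e : ((S (cokernel f))⟦(-1 : ℤ)⟧)⟦(1 : ℤ)⟧ ≅ S (cokernel f) :=
        (shiftFunctorCompIsoId (DerivedCategory A) (-1 : ℤ) 1 (by lia)).app _
      haveI := hm (cokernel f)
      have : (H i).map (η.app (((S (cokernel f))⟦(-1 : ℤ)⟧)⟦(1 : ℤ)⟧)) =
          (H i).map (F.map e.hom) ≫ (H i).map (η.app (S (cokernel f))) ≫ (H i).map (G.map e.inv) := by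
        rw [← Functor.map_comp, ← Functor.map_comp, ← η.naturality, ← Functor.map_comp_assoc, e.hom_inv_id,
          CategoryTheory.Functor.map_id, Category.id_comp]
      show Mono ((H i).map (η.app (((S (cokernel f))⟦(-1 : ℤ)⟧)⟦(1 : ℤ)⟧)))
      rw [this]; infer_instance
    intro X i hi
    haveI := (step X i hi).1
    haveI := (step X i hi).2 fun Z => (step Z i hi).1
    exact isIso_of_mono_of_epi _

end

end Groth.Agent.H4Easy
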