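import Mathlib

/-! Bounded complexes of injectives in the derived category -/

set_option autoImplicit false
set_option linter.style.haveILetI false

open CategoryTheory CategoryTheory.Limits CategoryTheory.Pretriangulated

universe w v u

namespace Groth.Agent.H4Easy


section
variable {A : Type u} [Category.{v} A] [Abelian A] [HasDerivedCategory.{w} A]

/-- Vanishing of maps from objects in degree zero, in terms of chain maps into a K-injective complex. -/
theorem hom_vanishing_iff (I : CochainComplex A ℤ) [I.IsKInjective] {K : CochainComplex A ℤ} (f : K ⟶ I) [QuasiIso f]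
    (Y : A) (i : ℤ) :
    (∀ φ : (DerivedCategory.singleFunctor A 0).obj Y ⟶ (DerivedCategory.Q.obj K)⟦i⟧, φ = 0) ↔
      ∀ m : (HomologicalComplex.single A (ComplexShape.up ℤ) i).obj Y ⟶ I,
        (HomotopyCategory.quotient A (ComplexShape.up ℤ)).map m = 0 := by
  haveI : IsIso (DerivedCategory.Q.map f) := (DerivedCategory.isIso_Q_map_iff_quasiIso A f).2 inferInstance
  let e : ((DerivedCategory.singleFunctor A i).obj Y)⟦i⟧ ≅ (DerivedCategory.singleFunctor A 0).obj Y :=
    ((DerivedCategory.singleFunctors A).shiftIso i 0 i (by lia)).app Y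
  let ι₀ : (DerivedCategory.singleFunctor A i).obj Y ≅
      DerivedCategory.Q.obj ((HomologicalComplex.single A (ComplexShape.up ℤ) i).obj Y) :=
    (DerivedCategory.singleFunctorIsoCompQ A i).app Y
  constructor
  · intro h m
    apply (CochainComplex.IsKInjective.Qh_map_bijective _ I).1
    rw [Functor.map_zero]
    let ψ : (DerivedCategory.singleFunctor A i).obj Y ⟶ DerivedCategory.Q.obj K :=
      ι₀.hom ≫ DerivedCategory.Q.map m ≫ inv (DerivedCategory.Q.map f)
    have h1 : ψ⟦i⟧' = 0 := by rw [← cancel_epi e.inv, comp_zero]; exact h _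
    have h2 : ψ = 0 := (shiftFunctor (DerivedCategory A) i).map_injective (by rw [h1, Functor.map_zero])
    have h3 : DerivedCategory.Q.map m = 0 := by
      rw [← cancel_mono (inv (DerivedCategory.Q.map f)), ← cancel_epi (ι₀.hom),
        zero_comp, comp_zero]
      exact h2
    exact h3
  · intro h φ
    let ψ : (DerivedCategory.singleFunctor A i).obj Y ⟶ DerivedCategory.Q.obj K :=
      (shiftFunctor (DerivedCategory A) i).preimage (e.hom ≫ φ)
    obtain ⟨g, hg⟩ := (CochainComplex.IsKInjective.Qh_map_bijective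
      ((HomotopyCategory.quotient A (ComplexShape.up ℤ)).obj ((HomologicalComplex.single A (ComplexShape.up ℤ) i).obj Y)) I).2
      (ι₀.inv ≫ ψ ≫ DerivedCategory.Q.map f)
    obtain ⟨m, rfl⟩ := (HomotopyCategory.quotient A (ComplexShape.up ℤ)).map_surjective g
    rw [h m, Functor.map_zero] at hg
    have h2 : ψ = 0 := by
      rw [← cancel_mono (DerivedCategory.Q.map f), ← cancel_epi (ι₀.inv),
        zero_comp, comp_zero]
      exact hg.symm
    rw [← cancel_epi e.hom, comp_zero, ← (shiftFunctor (DerivedCategory A) i).map_preimage (e.hom ≫ φ)]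
    exact (congrArg _ h2).trans (Functor.map_zero _ _ _)

theorem quasiIso_bounded_injective_iff [EnoughInjectives A] (K : CochainComplex A ℤ) (a : ℤ) [K.IsStrictlyGE a] :
    (∃ (I : CochainComplex A ℤ) (b c : ℤ) (f : K ⟶ I), I.IsStrictlyGE b ∧ I.IsStrictlyLE c ∧
        (∀ n : ℤ, Injective (I.X n)) ∧ QuasiIso f) ↔
      ∃ n₀ : ℤ, ∀ (Y : A) (i : ℤ), n₀ < i → ∀ φ : (DerivedCategory.singleFunctor A 0).obj Y ⟶ (DerivedCategory.Q.obj K)⟦i⟧, φ = 0 := by
  constructor
  · rintro ⟨I, b, c, f, _, _, hI, _⟩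
    haveI := hI
    haveI := CochainComplex.isKInjective_of_injective I b
    refine ⟨c, fun Y i hi => (hom_vanishing_iff I f Y i).2 fun m => ?_⟩
    rw [show m = 0 from HomologicalComplex.from_single_hom_ext ((I.isZero_of_isStrictlyLE c i hi).eq_of_tgt _ _),
      Functor.map_zero]
  · rintro ⟨n₀, h⟩
    obtain ⟨I, j, _, hI, _⟩ := CochainComplex.Plus.modelCategoryQuillen.exists_quasiIso_injective K a
    haveI := hI
    haveI := CochainComplex.isKInjective_of_injective I a
    have key : ∀ i, n₀ < i → ∃ s : I.cycles i ⟶ I.X (i - 1), s ≫ I.toCycles (i - 1) i = 𝟙 _ := by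
      intro i hi
      let m : (HomologicalComplex.single A (ComplexShape.up ℤ) i).obj (I.cycles i) ⟶ I :=
        HomologicalComplex.mkHomFromSingle (I.iCycles i) (fun k hk => I.iCycles_d i k)
      have H := HomotopyCategory.homotopyOfEq m 0 (by rw [(hom_vanishing_iff I j _ i).1 (h _ i hi) m, Functor.map_zero])
      refine ⟨(HomologicalComplex.singleObjXSelf (ComplexShape.up ℤ) i (I.cycles i)).inv ≫ H.hom i (i - 1), ?_⟩
      have hc := H.comm i
      rw [dNext_eq _ (show (ComplexShape.up ℤ).Rel i (i + 1) from rfl),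
        prevD_eq _ (show (ComplexShape.up ℤ).Rel (i - 1) i by simp), HomologicalComplex.single_obj_d, zero_comp, zero_add,
        HomologicalComplex.zero_f, add_zero, HomologicalComplex.mkHomFromSingle_f] at hc
      rw [← cancel_mono (I.iCycles i), Category.assoc, HomologicalComplex.toCycles_i, Category.id_comp, Category.assoc,
        ← hc, Iso.inv_hom_id_assoc]
    let n := max (n₀ + 1) a
    haveI hLE : I.IsLE n := by
      rw [CochainComplex.isLE_iff]
      intro i hi
      obtain ⟨s, hs⟩ := key i (by lia)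
      rw [HomologicalComplex.exactAt_iff_isZero_homology]
      haveI : Epi (I.toCycles (i - 1) i) := epi_of_epi_fac hs
      refine IsZero.of_epi_eq_zero (I.homologyπ i) ?_
      rw [← cancel_epi (I.toCycles (i - 1) i), comp_zero, HomologicalComplex.toCycles_comp_homologyπ]
    haveI : QuasiIso (I.ιTruncLE n) := (CochainComplex.quasiIso_ιTruncLE_iff I n).2 hLE
    haveI hinj : ∀ i, Injective ((I.truncLE n).X i) := by
      intro i
      rcases lt_trichotomy i n with hi | rfl | hi
      · exact Injective.of_iso (I.truncLEXIso n i hi).symm (hI i)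
      · obtain ⟨s, hs⟩ := key n (by lia)
        haveI : Injective (I.cycles n) := ⟨fun g f _ => by
          obtain ⟨h', hh'⟩ : ∃ h', f ≫ h' = g ≫ s := ⟨_, Injective.comp_factorThru (g ≫ s) f⟩
          exact ⟨h' ≫ I.toCycles (n - 1) n, by rw [reassoc_of% hh', hs, Category.comp_id]⟩⟩
        exact Injective.of_iso (HomologicalComplex.truncLEXIsoCycles I (ComplexShape.embeddingUpIntLE n) (i := 0) (by simp)
          (by rw [ComplexShape.boundaryLE_embeddingUpIntLE_iff])).symm inferInstance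
      · exact ((I.truncLE n).isZero_of_isStrictlyLE n i hi).injective
    haveI hGE : (I.truncLE n).IsStrictlyGE a := by
      rw [CochainComplex.isStrictlyGE_iff]
      intro i hi
      exact (I.isZero_of_isStrictlyGE a i hi).of_iso (I.truncLEXIso n i (by lia))
    haveI := CochainComplex.isKInjective_of_injective (I.truncLE n) a
    obtain ⟨e, he⟩ := (CochainComplex.IsKInjective.quasiIso_iff (I.ιTruncLE n)).1 inferInstance
    haveI : QuasiIso e.inv := inferInstance
    exact ⟨I.truncLE n, a, n, j ≫ e.inv, hGE, inferInstance, hinj, inferInstance⟩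

omit [HasDerivedCategory.{w} A] in
theorem injective_mappingCone_X {K L : CochainComplex A ℤ} (f : K ⟶ L) (n : ℤ) [Injective (K.X (n + 1))] [Injective (L.X n)] :
    Injective ((CochainComplex.mappingCone f).X n) :=
  Injective.of_iso (HomologicalComplex.homotopyCofiber.XIsoBiprod f n (n + 1) rfl).symm inferInstance

theorem iso_bounded_injective_of_triangle (T : Triangle (DerivedCategory A)) (hT : T ∈ distTriang (DerivedCategory A))
    (h₁ : (∃ (I : CochainComplex A ℤ) (b c : ℤ), I.IsStrictlyGE b ∧ I.IsStrictlyLE c ∧ (∀ n : ℤ, Injective (I.X n)) ∧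
      Nonempty (T.obj₁ ≅ DerivedCategory.Q.obj I)))
    (h₃ : (∃ (I : CochainComplex A ℤ) (b c : ℤ), I.IsStrictlyGE b ∧ I.IsStrictlyLE c ∧ (∀ n : ℤ, Injective (I.X n)) ∧
      Nonempty (T.obj₃ ≅ DerivedCategory.Q.obj I))) :
    (∃ (I : CochainComplex A ℤ) (b c : ℤ), I.IsStrictlyGE b ∧ I.IsStrictlyLE c ∧ (∀ n : ℤ, Injective (I.X n)) ∧
      Nonempty (T.obj₂ ≅ DerivedCategory.Q.obj I)) := by
  obtain ⟨I, b, c, hb, hc, hI, ⟨e₁⟩⟩ := h₁
  obtain ⟨J, b', c', hb', hc', hJ, ⟨e₃⟩⟩ := h₃
  let I' : CochainComplex A ℤ := I⟦(1 : ℤ)⟧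
  haveI hI' : ∀ n, Injective (I'.X n) := fun n => hI (n + 1)
  haveI hb1 : I'.IsStrictlyGE (b - 1) := I.isStrictlyGE_shift b 1 (b - 1) (by lia)
  haveI hc1 : I'.IsStrictlyLE (c - 1) := I.isStrictlyLE_shift c 1 (c - 1) (by lia)
  haveI := CochainComplex.isKInjective_of_injective I' (b - 1)
  let eI : T.obj₁⟦(1 : ℤ)⟧ ≅ DerivedCategory.Q.obj I' :=
    (shiftFunctor _ (1 : ℤ)).mapIso e₁ ≪≫ ((DerivedCategory.Q.commShiftIso (1 : ℤ)).app I).symm
  obtain ⟨g, hg⟩ := (CochainComplex.IsKInjective.Qh_map_bijective ((HomotopyCategory.quotient A _).obj J) I').2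
    (e₃.inv ≫ T.mor₃ ≫ eI.hom)
  obtain ⟨φ, rfl⟩ := (HomotopyCategory.quotient A (ComplexShape.up ℤ)).map_surjective g
  have hT' := rot_of_distTriang _ (rot_of_distTriang _ hT)
  obtain ⟨e, -, -⟩ := exists_iso_of_arrow_iso _ _ hT' (DerivedCategory.mappingCone_triangle_distinguished φ)
    (Arrow.isoMk e₃ eI (by
      show e₃.hom ≫ DerivedCategory.Q.map φ = T.mor₃ ≫ eI.hom
      rw [show DerivedCategory.Q.map φ = e₃.inv ≫ T.mor₃ ≫ eI.hom from hg, e₃.hom_inv_id_assoc]))
  let M := CochainComplex.mappingCone φ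
  refine ⟨M⟦(-1 : ℤ)⟧, min (b' - 1) (b - 1) + 1, max (c' - 1) (c - 1) + 1, ?_, ?_,
    fun n => (injective_mappingCone_X φ (n + -1) : Injective (M.X (n + -1))), ⟨?_⟩⟩
  · rw [CochainComplex.isStrictlyGE_iff]
    intro i hi
    refine IsZero.of_iso ?_ (HomologicalComplex.homotopyCofiber.XIsoBiprod φ (i + -1) (i + -1 + 1) rfl)
    rw [IsZero.iff_id_eq_zero]
    exact biprod.hom_ext _ _ ((J.isZero_of_isStrictlyGE b' _ (by lia)).eq_of_tgt _ _)
      ((I'.isZero_of_isStrictlyGE (b - 1) _ (by lia)).eq_of_tgt _ _)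
  · rw [CochainComplex.isStrictlyLE_iff]
    intro i hi
    refine IsZero.of_iso ?_ (HomologicalComplex.homotopyCofiber.XIsoBiprod φ (i + -1) (i + -1 + 1) rfl)
    rw [IsZero.iff_id_eq_zero]
    exact biprod.hom_ext _ _ ((J.isZero_of_isStrictlyLE c' _ (by lia)).eq_of_tgt _ _)
      ((I'.isZero_of_isStrictlyLE (c - 1) _ (by lia)).eq_of_tgt _ _)
  · exact (shiftEquiv (DerivedCategory A) (1 : ℤ)).unitIso.app T.obj₂ ≪≫
      (shiftFunctor _ (-1 : ℤ)).mapIso (Triangle.π₃.mapIso e) ≪≫
      ((DerivedCategory.Q.commShiftIso (-1 : ℤ)).app M).symm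

end

end Groth.Agent.H4Easy
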