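import Mathlib
import Groth.Prelude.Def_CohDer

/-! Thick subcategories and Verdier quotients, classical generators, existence of Serre functors -/

set_option autoImplicit false
set_option linter.style.haveILetI false

open CategoryTheory CategoryTheory.Limits CategoryTheory.Pretriangulated ZeroObject

universe w v v' u u'

namespace Groth.Agent.H4Easy


section
variable {A : Type w} [CommRing A] {T : Type u} [Category.{v} T] [Preadditive T] [HasZeroObject T] [HasShift T ℤ]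
  [∀ n : ℤ, (shiftFunctor T n).Additive] [Pretriangulated T] [IsTriangulated T]
  (U : ObjectProperty T) [U.IsTriangulated] [U.IsClosedUnderIsomorphisms] [U.IsStableUnderRetracts]
  {E : Type u'} [Category.{v'} E] [Preadditive E] [Linear A E] (Q : T ⥤ E) [Q.Additive] [Q.IsLocalization U.trW]

theorem verdier_isZero_iff (X : T) : IsZero (Q.obj X) ↔ U X := by
  constructor
  · intro h
    have h0 : Q.map (𝟙 X) = Q.map 0 := h.eq_of_src _ _
    obtain ⟨W, s, hs, hs0⟩ := (MorphismProperty.map_eq_iff_precomp Q U.trW (𝟙 X) 0).1 h0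
    rw [Category.comp_id, comp_zero] at hs0
    obtain ⟨C, g, k, hT, hC⟩ := (U.trW_iff s).1 hs
    obtain ⟨r, hr⟩ : ∃ r : C ⟶ X, 𝟙 X = g ≫ r := Triangle.yoneda_exact₂ _ hT (𝟙 X) (by
      show s ≫ 𝟙 X = 0
      rw [Category.comp_id, hs0])
    exact ObjectProperty.IsStableUnderRetracts.of_retract ⟨g, r, hr.symm⟩ hC
  · intro h
    haveI : IsIso (Q.map (0 : (0 : T) ⟶ X)) :=
      Localization.inverts Q U.trW _ ((U.trW_iff _).2 ⟨X, 𝟙 X, 0, isomorphic_distinguished _
        (contractible_distinguished₁ X) _ (Iso.refl _), h⟩)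
    exact IsZero.of_iso (Q.map_isZero (isZero_zero T)) (asIso (Q.map (0 : (0 : T) ⟶ X))).symm

theorem thick_iff_smul (X : T) : U X ↔ ∀ m : Ideal A, m.IsMaximal → ∃ s : A, s ∉ m ∧ s • 𝟙 (Q.obj X) = 0 := by
  rw [← verdier_isZero_iff U Q X]
  refine ⟨fun h m hm => ⟨1, fun h1 => hm.ne_top ((Ideal.eq_top_iff_one m).2 h1), h.eq_of_src _ _⟩, fun h => ?_⟩
  let I : Ideal A := LinearMap.ker (LinearMap.toSpanSingleton A _ (𝟙 (Q.obj X)))
  have : I = ⊤ := by
    by_contra hne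
    obtain ⟨m, hm, hle⟩ := I.exists_le_maximal hne
    obtain ⟨s, hs, hs0⟩ := h m hm
    exact hs (hle hs0)
  have h1 : (1 : A) • 𝟙 (Q.obj X) = 0 := (Ideal.eq_top_iff_one I).1 this
  rw [one_smul] at h1
  exact (IsZero.iff_id_eq_zero _).2 h1

end

section
variable {D : Type u} [Category.{v} D] [Preadditive D] [HasZeroObject D] [HasShift D ℤ]
  [∀ n : ℤ, (shiftFunctor D n).Additive] [Pretriangulated D] [IsTriangulated D]

/-- Objects with no nonzero maps from their shifts into `K`. -/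
def leftOrth (K : D) : ObjectProperty D := fun X => ∀ (n : ℤ) (f : X⟦n⟧ ⟶ K), f = 0

instance (K : D) : (leftOrth K).IsClosedUnderIsomorphisms where
  of_iso e h n f := by
    rw [← cancel_epi ((shiftFunctor D n).map e.hom), comp_zero]; exact h n _

instance (K : D) : (leftOrth K).IsStableUnderRetracts where
  of_retract r h n f := by
    have : r.i⟦n⟧' ≫ r.r⟦n⟧' = 𝟙 _ := by rw [← Functor.map_comp, r.retract, CategoryTheory.Functor.map_id]
    rw [← Category.id_comp f, ← this, Category.assoc, h n (r.r⟦n⟧' ≫ f), comp_zero]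

instance (K : D) : (leftOrth K).IsTriangulated where
  exists_zero := ⟨0, isZero_zero D, fun n f => ((shiftFunctor D n).map_isZero (isZero_zero D)).eq_of_src _ _⟩
  isStableUnderShiftBy a := ObjectProperty.IsStableUnderShiftBy.mk fun X hX n f => by
    rw [← cancel_epi ((shiftFunctorAdd D a n).app X).hom, comp_zero]
    exact hX (a + n) _
  toIsTriangulatedClosed₂ := ObjectProperty.IsTriangulatedClosed₂.mk' fun T hT h₁ h₃ n f => by
    have hTn := Triangle.shift_distinguished T hT n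
    obtain ⟨g, hg⟩ := Triangle.yoneda_exact₂ _ hTn f (h₁ n _)
    rw [hg, h₃ n g]
    exact comp_zero

theorem generates_of_classical (E : D) (hE : (ObjectProperty.singleton E).IsClassicalTriangulatedGenerator) :
    CohDer.Generates (fun _ : PUnit.{1} => E) := by
  intro K hK
  have hle : (ObjectProperty.singleton E).triangEnvelope ≤ leftOrth K := by
    rw [ObjectProperty.triangEnvelope_le_iff]
    rintro _ ⟨⟩ n f
    let e : E⟦n⟧⟦-n⟧ ≅ E := (shiftFunctorCompIsoId D n (-n) (by lia)).app E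
    have h := hK PUnit.unit (-n) (e.inv ≫ f⟦-n⟧')
    exact (shiftFunctor D (-n)).map_injective (by rw [Functor.map_zero, ← cancel_epi e.inv, comp_zero]; exact h)
  rw [(ObjectProperty.isClassicalTriangulatedGenerator_iff _).1 hE] at hle
  have h := hle K trivial 0 ((shiftFunctorZero D ℤ).hom.app K)
  rw [IsZero.iff_id_eq_zero, ← cancel_epi ((shiftFunctorZero D ℤ).hom.app K), comp_zero]
  exact (Category.comp_id _).trans h

end

section
variable {k : Type w} [Field k] {T : Type u} [Category.{v} T] [Preadditive T] [Linear k T] [∀ X Y : T, Module.Finite k (X ⟶ Y)]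

theorem serre_functor_of_representable
    (h₁ : ∀ X : T, ∃ (SX : T) (e : ∀ Y : T, (Y ⟶ SX) ≃ₗ[k] Module.Dual k (X ⟶ Y)),
      ∀ (Y Y' : T) (g : Y' ⟶ Y) (f : Y ⟶ SX), e Y' (g ≫ f) = (e Y f) ∘ₗ Linear.rightComp k X g)
    (h₂ : ∀ X : T, ∃ (RX : T) (e : ∀ Y : T, (RX ⟶ Y) ≃ₗ[k] Module.Dual k (Y ⟶ X)),
      ∀ (Y Y' : T) (g : Y ⟶ Y') (f : RX ⟶ Y), e Y' (f ≫ g) = (e Y f) ∘ₗ Linear.leftComp k X g) :
    ∃ (S : T ≌ T) (_ : S.functor.Additive) (_ : S.functor.Linear k)
      (c : ∀ X Y : T, (X ⟶ Y) ≃ₗ[k] Module.Dual k (Y ⟶ S.functor.obj X)),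
      (∀ (X Y Y' : T) (f : X ⟶ Y) (g : Y ⟶ Y'), c X Y' (f ≫ g) = (c X Y f) ∘ₗ Linear.leftComp k (S.functor.obj X) g) ∧
      (∀ (X' X Y : T) (a : X' ⟶ X) (f : X ⟶ Y), c X' Y (a ≫ f) = (c X Y f) ∘ₗ Linear.rightComp k Y (S.functor.map a)) := by
  choose S e he using h₁
  have he' : ∀ (X Y Y' : T) (g : Y' ⟶ Y) (f : Y ⟶ S X) (h : X ⟶ Y'), e X Y' (g ≫ f) h = e X Y f (h ≫ g) :=
    fun X Y Y' g f h => LinearMap.congr_fun (he X Y Y' g f) h
  let c : ∀ X Y : T, (X ⟶ Y) ≃ₗ[k] Module.Dual k (Y ⟶ S X) := fun X Y =>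
    (Module.evalEquiv k (X ⟶ Y)).trans (e X Y).dualMap
  have hc : ∀ (X Y : T) (f : X ⟶ Y) (g : Y ⟶ S X), c X Y f g = e X Y g f := fun X Y f g => rfl
  let Smap : ∀ {X' X : T}, (X' ⟶ X) → (S X' ⟶ S X) := fun {X' X} a =>
    (e X (S X')).symm ((e X' (S X') (𝟙 _)) ∘ₗ Linear.leftComp k (S X') a)
  have key : ∀ {X' X : T} (a : X' ⟶ X) (Y : T) (g : Y ⟶ S X') (f : X ⟶ Y), e X Y (g ≫ Smap a) f = e X' Y g (a ≫ f) := by
    intro X' X a Y g f
    rw [he' X _ Y g (Smap a) f, show e X (S X') (Smap a) = _ from (e X (S X')).apply_symm_apply _]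
    show e X' (S X') (𝟙 _) (a ≫ f ≫ g) = _
    rw [← Category.assoc, ← he' X' _ Y g (𝟙 _) (a ≫ f), Category.comp_id]
  have ext' : ∀ {X Y : T} (g g' : Y ⟶ S X), (∀ f, e X Y g f = e X Y g' f) → g = g' :=
    fun {X Y} g g' h => (e X Y).injective (LinearMap.ext h)
  have key' : ∀ {X' X : T} (a : X' ⟶ X) (f : X ⟶ S X'), e X (S X') (Smap a) f = e X' (S X') (𝟙 _) (a ≫ f) :=
    fun {X' X} a f => by have := key a (S X') (𝟙 _) f; rwa [Category.id_comp] at this
  let F : T ⥤ T :=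
    { obj := S
      map := fun a => Smap a
      map_id := fun X => ext' _ _ fun f => by rw [key', Category.id_comp]
      map_comp := fun {X Y Z} a b => ext' _ _ fun f => by rw [key', key b _ (Smap a), key', Category.assoc] }
  haveI : F.Additive := ⟨fun {X Y} {a b} => ext' _ _ fun f => by
    show e Y (S X) (Smap (a + b)) f = e Y (S X) (Smap a + Smap b) f
    rw [map_add, LinearMap.add_apply, key', key', key', Preadditive.add_comp, map_add]⟩
  haveI : F.Linear k := ⟨fun {X Y} a r => ext' _ _ fun f => by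
    show e Y (S X) (Smap (r • a)) f = e Y (S X) (r • Smap a) f
    rw [map_smul, LinearMap.smul_apply, key', key', Linear.smul_comp, map_smul]⟩
  have hflip : ∀ {X' X : T} (a : X' ⟶ X) (f : X ⟶ S X'), e X (S X') (Smap a) f = e X' X f a := by
    intro X' X a f
    rw [key', ← he' X' (S X') X f (𝟙 _) a, Category.comp_id]
  haveI : F.Faithful := ⟨fun {X Y} {a b} hab => by
    apply (c X Y).injective
    refine LinearMap.ext fun f => ?_
    rw [hc, hc, ← hflip a f, ← hflip b f]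
    exact congrArg (fun q => e Y (S X) q f) hab⟩
  haveI : F.Full := ⟨fun {X Y} g => by
    obtain ⟨a, ha⟩ := (c X Y).surjective (e Y (S X) g)
    exact ⟨a, ext' _ _ fun f => (hflip a f).trans ((hc X Y a f).symm.trans (LinearMap.congr_fun ha f))⟩⟩
  haveI : F.EssSurj := ⟨fun X => by
    obtain ⟨R, eR, heR⟩ := h₂ X
    let d : ∀ Y : T, (Y ⟶ X) ≃ₗ[k] Module.Dual k (R ⟶ Y) := fun Y =>
      (Module.evalEquiv k (Y ⟶ X)).trans (eR Y).dualMap
    have hd : ∀ (Y : T) (g : Y ⟶ X) (f : R ⟶ Y), d Y g f = eR Y f g := fun Y g f => rfl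
    exact ⟨R, ⟨Yoneda.ext (S R) X (fun {Z} g => (d Z).symm (e R Z g)) (fun {Z} g => (e R Z).symm (d Z g))
      (fun g => by simp) (fun g => by simp) (fun {Z Z'} g h => by
        apply (d Z').injective
        rw [LinearEquiv.apply_symm_apply]
        refine LinearMap.ext fun f => ?_
        rw [hd, show eR Z' f (g ≫ (d Z).symm (e R Z h)) = eR Z (f ≫ g) ((d Z).symm (e R Z h)) from
            (LinearMap.congr_fun (heR Z' Z g f) _).symm,
          ← hd, LinearEquiv.apply_symm_apply, he'])⟩⟩⟩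
  haveI : F.IsEquivalence := { }
  refine ⟨F.asEquivalence, ‹F.Additive›, ‹F.Linear k›, c, fun X Y Y' f g => LinearMap.ext fun h => ?_,
    fun X' X Y a f => LinearMap.ext fun h => ?_⟩
  · show c X Y' (f ≫ g) h = c X Y f (g ≫ h)
    rw [hc, hc, he']
  · show c X' Y (a ≫ f) h = c X Y f (h ≫ Smap a)
    exact (key a Y h f).symm

theorem representable_of_serre_functor (S : T ≌ T) (c : ∀ X Y : T, (X ⟶ Y) ≃ₗ[k] Module.Dual k (Y ⟶ S.functor.obj X))
    (hc₁ : ∀ (X Y Y' : T) (f : X ⟶ Y) (g : Y ⟶ Y'), c X Y' (f ≫ g) = (c X Y f) ∘ₗ Linear.leftComp k (S.functor.obj X) g) :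
    (∀ X : T, ∃ (SX : T) (e : ∀ Y : T, (Y ⟶ SX) ≃ₗ[k] Module.Dual k (X ⟶ Y)),
      ∀ (Y Y' : T) (g : Y' ⟶ Y) (f : Y ⟶ SX), e Y' (g ≫ f) = (e Y f) ∘ₗ Linear.rightComp k X g) ∧
    (∀ X : T, ∃ (RX : T) (e : ∀ Y : T, (RX ⟶ Y) ≃ₗ[k] Module.Dual k (Y ⟶ X)),
      ∀ (Y Y' : T) (g : Y ⟶ Y') (f : RX ⟶ Y), e Y' (f ≫ g) = (e Y f) ∘ₗ Linear.leftComp k X g) := by
  refine ⟨fun X => ⟨S.functor.obj X, fun Y => (Module.evalEquiv k (Y ⟶ S.functor.obj X)).trans (c X Y).dualMap, ?_⟩,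
    fun X => ⟨S.inverse.obj X, fun Y => (c (S.inverse.obj X) Y).trans
      (Linear.homCongr k (Iso.refl Y) (S.counitIso.app X)).symm.dualMap, ?_⟩⟩
  · intro Y Y' g f
    refine LinearMap.ext fun h => ?_
    show c X Y' h (g ≫ f) = c X Y (h ≫ g) f
    rw [hc₁]
    rfl
  · intro Y Y' g f
    refine LinearMap.ext fun h => ?_
    show c _ Y' (f ≫ g) ((Linear.homCongr k (Iso.refl Y') (S.counitIso.app X)).symm h) =
      c _ Y f ((Linear.homCongr k (Iso.refl Y) (S.counitIso.app X)).symm (g ≫ h))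
    rw [hc₁]
    simp [Linear.homCongr_symm_apply]

end

end Groth.Agent.H4Easy
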