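import Mathlib
import Groth.Agent.H4Easy.Batch62

/-! Replacement of sequences of complexes, skew pairing, graded conjugation, Verdier localization by a multiplicative set. -/

set_option autoImplicit false
set_option linter.style.haveILetI false

open CategoryTheory CategoryTheory.Limits CategoryTheory.Pretriangulated ZeroObject

universe w v v' u u'

namespace Groth.Agent.H4Easy


section
variable {V : Type u} [Category.{v} V] [Preadditive V] [HasBinaryBiproducts V] [HasZeroObject V]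

theorem exists_replacement_of_sequence (X : ℕ → CochainComplex V ℤ) (a : ∀ i, X i ⟶ X (i + 1)) :
    ∃ (B : ℕ → CochainComplex V ℤ) (b : ∀ i, B i ⟶ B (i + 1)) (e : ∀ i, HomotopyEquiv (B i) (X i)),
      (∀ i, b i ≫ (e (i + 1)).hom = (e i).hom ≫ a i) ∧
      (∀ (i : ℕ) (n : ℤ), ∃ (C : V) (ε : (B (i + 1)).X n ≅ (B i).X n ⊞ C), (b i).f n ≫ ε.hom = biprod.inl) ∧
      ((∀ i, ∃ m : ℤ, (X i).IsStrictlyGE m) → ∀ i, ∃ m : ℤ, (B i).IsStrictlyGE m) ∧
      ((∀ i, ∃ m : ℤ, (X i).IsStrictlyLE m) → ∀ i, ∃ m : ℤ, (B i).IsStrictlyLE m) := by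
  choose L' α' π s h₁ h₂ h₃ h₄ h₅ h₆ using fun (K L : CochainComplex V ℤ) (α : K ⟶ L) =>
    Groth.Agent.H4Easy.exists_injective_factorization K L α
  let eq' : ∀ (K L : CochainComplex V ℤ) (α : K ⟶ L), HomotopyEquiv (L' K L α) L := fun K L α =>
    { hom := π K L α, inv := s K L α, homotopyHomInvId := (h₃ K L α).some, homotopyInvHomId := Homotopy.ofEq (h₂ K L α) }
  let S : ℕ → Type _ := fun i => Σ B : CochainComplex V ℤ, HomotopyEquiv B (X i)
  let next : ∀ i, S i → S (i + 1) := fun i st => ⟨L' st.1 (X (i + 1)) (st.2.hom ≫ a i), eq' _ _ _⟩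
  let st : ∀ i, S i := fun i => Nat.rec (motive := S) ⟨X 0, HomotopyEquiv.refl _⟩ next i
  refine ⟨fun i => (st i).1, fun i => α' (st i).1 (X (i + 1)) ((st i).2.hom ≫ a i), fun i => (st i).2,
    fun i => h₁ _ _ _, fun i n => h₄ (st i).1 (X (i + 1)) ((st i).2.hom ≫ a i) n, fun hX i => ?_, fun hX i => ?_⟩
  · induction i with
    | zero => exact hX 0
    | succ i ih =>
      obtain ⟨m, hm⟩ := ih
      obtain ⟨m', hm'⟩ := hX (i + 1)
      exact h₅ _ _ _ (min m m') (CochainComplex.isStrictlyGE_of_ge _ _ m (min_le_left _ _))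
        (CochainComplex.isStrictlyGE_of_ge _ _ m' (min_le_right _ _))
  · induction i with
    | zero => exact hX 0
    | succ i ih =>
      obtain ⟨m, hm⟩ := ih
      obtain ⟨m', hm'⟩ := hX (i + 1)
      exact h₆ _ _ _ (max m m') (CochainComplex.isStrictlyLE_of_le _ m _ (le_max_left _ _))
        (CochainComplex.isStrictlyLE_of_le _ m' _ (le_max_right _ _))

end

section
variable {k : Type u} [Field k]

open Matrix in
theorem skew_range_iff (h2 : (2 : k) ≠ 0) (A : Matrix (Fin 3 ⊕ Fin 3) (Fin 3 ⊕ Fin 3) k) :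
    (A.transpose * Matrix.fromBlocks (0 : Matrix (Fin 3) (Fin 3) k) 1 1 0 +
        Matrix.fromBlocks (0 : Matrix (Fin 3) (Fin 3) k) 1 1 0 * A = 0 ∧
      LinearMap.range (Matrix.mulVecLin A.transpose) ≤
        Submodule.span k {Pi.single (Sum.inl 0 : Fin 3 ⊕ Fin 3) (1 : k), Pi.single (Sum.inl 1 : Fin 3 ⊕ Fin 3) (1 : k)}) ↔
      ∃ a : k, A = a • (Matrix.single (Sum.inr 0) (Sum.inl 1) (1 : k) - Matrix.single (Sum.inr 1) (Sum.inl 0) (1 : k)) := by
  let σ : Fin 3 ⊕ Fin 3 → Fin 3 ⊕ Fin 3 := Sum.swap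
  have e₁ : ∀ i j, (A.transpose * Matrix.fromBlocks (0 : Matrix (Fin 3) (Fin 3) k) 1 1 0 : Matrix _ _ k) i j = A (σ j) i := by
    intro i j
    rcases j with j | j <;> simp [Matrix.mul_apply, Fintype.sum_sum_type, Matrix.one_apply, σ]
  have e₂ : ∀ i j, (Matrix.fromBlocks (0 : Matrix (Fin 3) (Fin 3) k) 1 1 0 * A : Matrix _ _ k) i j = A (σ i) j := by
    intro i j
    rcases i with i | i <;> simp [Matrix.mul_apply, Fintype.sum_sum_type, Matrix.one_apply, σ]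
  constructor
  · rintro ⟨hskew, hr⟩
    have hs : ∀ i j, A (σ j) i + A (σ i) j = 0 := fun i j => by
      have := congrFun (congrFun hskew i) j
      rwa [Matrix.add_apply, e₁, e₂] at this
    have hcol : ∀ i c, c ≠ Sum.inl 0 → c ≠ Sum.inl 1 → A i c = 0 := by
      intro i c hc0 hc1
      obtain ⟨x, y, hxy⟩ := Submodule.mem_span_pair.1 (hr ⟨Pi.single i 1, rfl⟩)
      have := congrFun hxy c
      simpa [Matrix.mulVecLin_apply, Pi.single_eq_of_ne hc0, Pi.single_eq_of_ne hc1, eq_comm] using this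
    have hrow : ∀ i c, i ≠ Sum.inl 0 → i ≠ Sum.inl 1 → A (σ i) c = 0 := by
      intro i c hi0 hi1
      have := hs i c
      rw [hcol (σ c) i hi0 hi1, zero_add] at this
      exact this
    have hdiag : ∀ i, A (σ i) i = 0 := fun i => by
      have := hs i i
      rw [← two_mul] at this
      exact (mul_eq_zero.1 this).resolve_left h2
    have hanti := hs (Sum.inl 0) (Sum.inl 1)
    refine ⟨A (Sum.inr 0) (Sum.inl 1), Matrix.ext fun i c => ?_⟩
    obtain ⟨i, rfl⟩ : ∃ i', i = σ i' := ⟨σ i, (Sum.swap_swap i).symm⟩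
    by_cases hi0 : i = Sum.inl 0
    · subst hi0
      by_cases hc0 : c = Sum.inl 0
      · subst hc0; simp [σ, hdiag (Sum.inl 0), show A (Sum.inr 0) (Sum.inl 0) = 0 from hdiag (Sum.inl 0)]
      by_cases hc1 : c = Sum.inl 1
      · subst hc1; simp [σ]
      · simp [σ, hcol _ c hc0 hc1, Matrix.single_apply, Ne.symm hc1, show (Sum.inr 0 : Fin 3 ⊕ Fin 3) ≠ Sum.inr 1 by simp]
    by_cases hi1 : i = Sum.inl 1
    · subst hi1
      by_cases hc0 : c = Sum.inl 0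
      · subst hc0
        simp only [σ, Sum.swap_inl] at hanti ⊢
        simp [eq_neg_of_add_eq_zero_left hanti]
      by_cases hc1 : c = Sum.inl 1
      · subst hc1; simp [σ, show A (Sum.inr 1) (Sum.inl 1) = 0 from hdiag (Sum.inl 1)]
      · simp [σ, hcol _ c hc0 hc1, Matrix.single_apply, Ne.symm hc0]
    rw [hrow i c hi0 hi1]
    rcases i with i | i
    · have h0 : i ≠ 0 := fun h => hi0 (by rw [h])
      have h1 : i ≠ 1 := fun h => hi1 (by rw [h])
      simp [σ, Matrix.single_apply, Ne.symm h0, Ne.symm h1]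
    · simp [σ, Matrix.single_apply]
  · rintro ⟨a, rfl⟩
    refine ⟨Matrix.ext fun i j => ?_, ?_⟩
    · rw [Matrix.add_apply, e₁, e₂]
      rcases i with i | i <;> rcases j with j | j <;> simp [σ, Matrix.single_apply] <;>
        (fin_cases i <;> fin_cases j <;> simp)
    · rintro _ ⟨x, rfl⟩
      rw [Submodule.mem_span_pair]
      refine ⟨-a * x (Sum.inr 1), a * x (Sum.inr 0), funext fun c => ?_⟩
      rcases c with c | c
      · fin_cases c <;> simp [Matrix.mulVecLin_apply, Matrix.mulVec, dotProduct, Fintype.sum_sum_type, Matrix.single_apply, Fin.sum_univ_three]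
      · simp [Matrix.mulVecLin_apply, Matrix.mulVec, dotProduct, Fintype.sum_sum_type, Matrix.single_apply]

end

section
variable {k : Type u} [Field k] {V W : Type v} [AddCommGroup V] [Module k V] [FiniteDimensional k V] [Nontrivial V]
  [AddCommGroup W] [Module k W] [FiniteDimensional k W]

theorem graded_conj (𝒱 : ℤ → Submodule k V) (h𝒱 : DirectSum.IsInternal 𝒱) (𝒲 : ℤ → Submodule k W)
    (h𝒲 : DirectSum.IsInternal 𝒲) (φ : Module.End k V ≃ₐ[k] Module.End k W)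
    (hφ : ∀ (d : ℤ) (f : Module.End k V), (∀ (i : ℤ) (x : V), x ∈ 𝒱 i → f x ∈ 𝒱 (i + d)) →
      ∀ (i : ℤ) (y : W), y ∈ 𝒲 i → φ f y ∈ 𝒲 (i + d)) :
    ∃ (n : ℤ) (g : V ≃ₗ[k] W), (∀ i : ℤ, Submodule.map (g : V →ₗ[k] W) (𝒱 i) = 𝒲 (i + n)) ∧
      (∀ f : Module.End k V, φ f = (g : V →ₗ[k] W) ∘ₗ f ∘ₗ (g.symm : W →ₗ[k] V)) ∧
      ∀ (n' : ℤ) (g' : V ≃ₗ[k] W), (∀ i : ℤ, Submodule.map (g' : V →ₗ[k] W) (𝒱 i) = 𝒲 (i + n')) →
        (∀ f : Module.End k V, φ f = (g' : V →ₗ[k] W) ∘ₗ f ∘ₗ (g'.symm : W →ₗ[k] V)) →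
        n' = n ∧ ∃ c : kˣ, ∀ x : V, g' x = c • g x := by
  classical
  obtain ⟨g, hg⟩ := φ.eq_linearEquivConjAlgEquiv
  have hgφ : ∀ f : Module.End k V, φ f = (g : V →ₗ[k] W) ∘ₗ f ∘ₗ (g.symm : W →ₗ[k] V) := fun f => by
    rw [hg]; exact LinearMap.ext fun _ => rfl
  have hgx : ∀ (f : Module.End k V) (x : V), φ f (g x) = g (f x) := fun f x => by rw [hgφ]; simp
  have hne : ∃ i₀, 𝒱 i₀ ≠ ⊥ := by
    by_contra hall
    push Not at hall
    have := h𝒱.submodule_iSup_eq_top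
    rw [iSup_congr hall, iSup_bot] at this
    exact bot_ne_top this
  obtain ⟨i₀, hi₀⟩ := hne
  obtain ⟨x₀, hx₀, hx₀ne⟩ := Submodule.exists_mem_ne_zero_of_ne_bot hi₀
  have hx₀n : x₀ ∉ ⨆ l ≠ i₀, 𝒱 l := fun h =>
    hx₀ne (Submodule.disjoint_def.1 (h𝒱.submodule_iSupIndep i₀) x₀ hx₀ h)
  obtain ⟨ε₀, hε₀, hε₀'⟩ := Submodule.exists_dual_map_eq_bot_of_notMem hx₀n inferInstance
  let ε : Module.Dual k V := (ε₀ x₀)⁻¹ • ε₀
  have hεx : ε x₀ = 1 := by simp [ε, inv_mul_cancel₀ hε₀]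
  have hε0 : ∀ l, l ≠ i₀ → ∀ x ∈ 𝒱 l, ε x = 0 := fun l hl x hx => by
    have : ε₀ x ∈ Submodule.map ε₀ (⨆ l ≠ i₀, 𝒱 l) :=
      ⟨x, Submodule.mem_iSup_of_mem l (Submodule.mem_iSup_of_mem hl hx), rfl⟩
    rw [hε₀', Submodule.mem_bot] at this
    simp [ε, this]
  let E : V → Module.End k V := fun x => LinearMap.smulRight ε x
  have hEhom : ∀ i, ∀ x ∈ 𝒱 i, ∀ (l : ℤ) (y : V), y ∈ 𝒱 l → E x y ∈ 𝒱 (l + (i - i₀)) := by
    intro i x hx l y hy
    show ε y • x ∈ _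
    by_cases hl : l = i₀
    · subst hl; rw [add_sub_cancel]; exact Submodule.smul_mem _ _ hx
    · rw [hε0 l hl y hy, zero_smul]; exact zero_mem _
  have hgx₀ : g x₀ ≠ 0 := fun h => hx₀ne (g.map_eq_zero_iff.1 h)
  obtain ⟨j, hj⟩ : ∃ j, g x₀ ∈ 𝒲 j := by
    by_contra hj
    push Not at hj
    have hzero : ∀ w : W, φ (E x₀) w = 0 := by
      intro w
      have hw : w ∈ ⨆ l, 𝒲 l := by rw [h𝒲.submodule_iSup_eq_top]; trivial
      induction hw using Submodule.iSup_induction' with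
      | mem l y hy =>
        have hmem := hφ 0 (E x₀) (fun l' y' hy' => by simpa using hEhom i₀ x₀ hx₀ l' y' hy') l y hy
        rw [add_zero] at hmem
        have he : φ (E x₀) y = ε (g.symm y) • g x₀ := by rw [hgφ]; simp [E]
        rw [he] at hmem ⊢
        by_contra hne'
        have hc : ε (g.symm y) ≠ 0 := fun h => hne' (by rw [h, zero_smul])
        exact hj l (by simpa [smul_smul, inv_mul_cancel₀ hc] using Submodule.smul_mem _ (ε (g.symm y))⁻¹ hmem)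
      | zero => exact map_zero _
      | add y z _ _ hy hz => rw [map_add, hy, hz, add_zero]
    exact hgx₀ (by rw [← hzero (g x₀), hgx]; simp [E, hεx])
  have hle : ∀ i, ∀ x ∈ 𝒱 i, g x ∈ 𝒲 (i + (j - i₀)) := by
    intro i x hx
    have := hφ (i - i₀) (E x) (fun l y hy => hEhom i x hx l y hy) j (g x₀) hj
    rw [hgx, show E x x₀ = x by simp [E, hεx], show j + (i - i₀) = i + (j - i₀) by ring] at this
    exact this
  have hmap : ∀ i : ℤ, Submodule.map (g : V →ₗ[k] W) (𝒱 i) = 𝒲 (i + (j - i₀)) := by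
    intro i
    refine le_antisymm (Submodule.map_le_iff_le_comap.2 (hle i)) fun y hy => ?_
    have htop : g.symm y ∈ 𝒱 i ⊔ ⨆ l ≠ i, 𝒱 l := by
      rw [← iSup_split_single, h𝒱.submodule_iSup_eq_top]; trivial
    obtain ⟨x, hx, r, hr, hxr⟩ := Submodule.mem_sup.1 htop
    have hgr : g r ∈ ⨆ l ≠ i + (j - i₀), 𝒲 l := by
      have hle' : Submodule.map (g : V →ₗ[k] W) (⨆ l ≠ i, 𝒱 l) ≤ ⨆ l ≠ i + (j - i₀), 𝒲 l := by
        simp only [Submodule.map_iSup]
        exact iSup₂_le fun l hl => le_iSup₂_of_le (l + (j - i₀)) (by simpa using hl) (Submodule.map_le_iff_le_comap.2 (hle l))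
      exact hle' ⟨r, hr, rfl⟩
    have hy' : y = g x + g r := by rw [← map_add, hxr, g.apply_symm_apply]
    have hr' : g r ∈ 𝒲 (i + (j - i₀)) := by
      rw [show g r = y - g x by rw [hy']; abel]; exact sub_mem hy (hle i x hx)
    have hr0 : g r = 0 := Submodule.disjoint_def.1 (h𝒲.submodule_iSupIndep _) _ hr' hgr
    exact ⟨x, hx, by rw [hy', hr0, add_zero]; rfl⟩
  refine ⟨j - i₀, g, hmap, hgφ, fun n' g' hg' hgφ' => ?_⟩
  have hgx' : ∀ (f : Module.End k V) (x : V), φ f (g' x) = g' (f x) := fun f x => by rw [hgφ']; simp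
  have hscal : ∀ x, g' x = ε (g.symm (g' x₀)) • g x := fun x => by
    have := hgx' (E x) x₀
    rw [show E x x₀ = x by simp [E, hεx]] at this
    rw [← this, hgφ]
    simp [E]
  have hc : ε (g.symm (g' x₀)) ≠ 0 := fun h => hx₀ne (g'.map_eq_zero_iff.1 (by rw [hscal, h, zero_smul]))
  refine ⟨?_, Units.mk0 _ hc, hscal⟩
  by_contra hnn
  have h1 : g x₀ ∈ 𝒲 (i₀ + n') := by
    have h2 : g' x₀ ∈ 𝒲 (i₀ + n') := hg' i₀ ▸ Submodule.mem_map_of_mem hx₀
    rw [hscal] at h2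
    simpa [smul_smul, inv_mul_cancel₀ hc] using Submodule.smul_mem _ (ε (g.symm (g' x₀)))⁻¹ h2
  have h3 : g x₀ ∈ 𝒲 (i₀ + (j - i₀)) := hle i₀ x₀ hx₀
  exact hgx₀ (Submodule.disjoint_def.1 (h𝒲.submodule_iSupIndep _) _ h3
    (Submodule.mem_iSup_of_mem (i₀ + n') (Submodule.mem_iSup_of_mem (fun h => hnn (by lia)) h1)))

end

section
variable {A : Type w} [CommRing A] (S : Submonoid A) {T : Type u} [Category.{v} T] [Preadditive T] [Linear A T]
  [HasZeroObject T] [HasShift T ℤ] [∀ n : ℤ, (shiftFunctor T n).Additive] [∀ n : ℤ, (shiftFunctor T n).Linear A]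
  [Pretriangulated T] [IsTriangulated T]

/-- Objects annihilated by an element of `S`. -/
def killedBy : ObjectProperty T := fun Z => ∃ s ∈ S, s • 𝟙 Z = 0

instance : (killedBy S : ObjectProperty T).IsClosedUnderIsomorphisms where
  of_iso {X Y} e h := by
    obtain ⟨s, hs, hs0⟩ := h
    refine ⟨s, hs, ?_⟩
    calc s • 𝟙 Y = e.inv ≫ (s • 𝟙 X) ≫ e.hom := by simp
      _ = 0 := by rw [hs0, zero_comp, comp_zero]

instance : (killedBy S : ObjectProperty T).IsStableUnderRetracts where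
  of_retract {X Y} r h := by
    obtain ⟨s, hs, hs0⟩ := h
    refine ⟨s, hs, ?_⟩
    calc s • 𝟙 X = r.i ≫ (s • 𝟙 Y) ≫ r.r := by simp [r.retract]
      _ = 0 := by rw [hs0, zero_comp, comp_zero]

instance : (killedBy S : ObjectProperty T).IsTriangulated where
  exists_zero := ⟨0, isZero_zero T, 1, S.one_mem, (isZero_zero T).eq_of_src _ _⟩
  isStableUnderShiftBy a := ObjectProperty.IsStableUnderShiftBy.mk fun X ⟨s, hs, hs0⟩ => ⟨s, hs, by
    calc s • 𝟙 (X⟦a⟧) = (s • 𝟙 X)⟦a⟧' := by rw [Functor.map_smul, CategoryTheory.Functor.map_id]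
      _ = 0 := by rw [hs0, Functor.map_zero]⟩
  toIsTriangulatedClosed₂ := ObjectProperty.IsTriangulatedClosed₂.mk' fun R hR ⟨s₁, hs₁, h₁⟩ ⟨s₃, hs₃, h₃⟩ => by
    refine ⟨s₁ * s₃, S.mul_mem hs₁ hs₃, ?_⟩
    obtain ⟨z, hz⟩ : ∃ z : R.obj₂ ⟶ R.obj₁, s₃ • 𝟙 R.obj₂ = z ≫ R.mor₁ := R.coyoneda_exact₂ hR _ (by
      calc (s₃ • 𝟙 R.obj₂) ≫ R.mor₂ = R.mor₂ ≫ (s₃ • 𝟙 R.obj₃) := by simp
        _ = 0 := by rw [h₃, comp_zero])
    calc (s₁ * s₃) • 𝟙 R.obj₂ = s₁ • (z ≫ R.mor₁) := by rw [mul_smul, hz]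
      _ = z ≫ (s₁ • 𝟙 R.obj₁) ≫ R.mor₁ := by simp
      _ = 0 := by rw [h₁, zero_comp, comp_zero]

theorem isLocalizedModule_verdier (U : ObjectProperty T) [U.IsTriangulated] [U.IsClosedUnderIsomorphisms]
    [U.IsStableUnderRetracts]
    (hU : ∀ (X : T) (f : A), f ∈ S → ∀ (Z : T) (g : X ⟶ Z) (h : Z ⟶ X⟦(1 : ℤ)⟧),
      Triangle.mk (f • 𝟙 X) g h ∈ distTriang T → U Z)
    (hmin : ∀ (U' : ObjectProperty T) [U'.IsTriangulated] [U'.IsClosedUnderIsomorphisms] [U'.IsStableUnderRetracts],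
      (∀ (X : T) (f : A), f ∈ S → ∀ (Z : T) (g : X ⟶ Z) (h : Z ⟶ X⟦(1 : ℤ)⟧),
        Triangle.mk (f • 𝟙 X) g h ∈ distTriang T → U' Z) → U ≤ U')
    {E : Type u'} [Category.{v'} E] [Preadditive E] [Linear A E] (Q : T ⥤ E) [Q.Additive] [Q.Linear A]
    [Q.IsLocalization U.trW] (X Y : T) :
    IsLocalizedModule S (Q.mapLinearMap A : (X ⟶ Y) →ₗ[A] (Q.obj X ⟶ Q.obj Y)) := by
  have hle : U ≤ killedBy S := by
    refine hmin _ fun X f hf Z g h hT => ⟨f * f, S.mul_mem hf hf, ?_⟩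
    have hh : (f • 𝟙 Z) ≫ h = 0 := by
      have h0 : h ≫ (f • 𝟙 X)⟦(1 : ℤ)⟧' = 0 := comp_distTriang_mor_zero₃₁ _ hT
      rw [Functor.map_smul, CategoryTheory.Functor.map_id, Linear.comp_smul, Category.comp_id] at h0
      rw [Linear.smul_comp, Category.id_comp, h0]
    obtain ⟨k', hk⟩ : ∃ k' : X⟦(1 : ℤ)⟧ ⟶ Z, f • 𝟙 Z = h ≫ k' := Triangle.yoneda_exact₃ _ hT (f • 𝟙 Z) (by
      have h0 : (f • 𝟙 X) ≫ g = 0 := comp_distTriang_mor_zero₁₂ _ hT
      show g ≫ (f • 𝟙 Z) = 0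
      rw [Linear.comp_smul, Category.comp_id]
      rwa [Linear.smul_comp, Category.id_comp] at h0)
    calc (f * f) • 𝟙 Z = (f • 𝟙 Z) ≫ (f • 𝟙 Z) := by simp [mul_smul]
      _ = ((f • 𝟙 Z) ≫ h) ≫ k' := by rw [Category.assoc, ← hk]
      _ = 0 := by rw [hh, zero_comp]
  have lift : ∀ {W W' : T} (σ : W ⟶ W'), U.trW σ → ∃ s ∈ S, ∃ τ : W' ⟶ W, τ ≫ σ = s • 𝟙 W' := by
    intro W W' σ hσ
    obtain ⟨Z, g, h, hT, hZ⟩ := (U.trW_iff σ).1 hσ
    obtain ⟨s, hs, hs0⟩ := hle _ hZ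
    obtain ⟨τ, hτ⟩ : ∃ τ : W' ⟶ W, s • 𝟙 W' = τ ≫ σ := Triangle.coyoneda_exact₂ _ hT (s • 𝟙 W') (by
      show (s • 𝟙 W') ≫ g = 0
      calc (s • 𝟙 W') ≫ g = g ≫ (s • 𝟙 Z) := by simp
        _ = 0 := by rw [hs0, comp_zero])
    exact ⟨s, hs, τ, hτ.symm⟩
  refine ⟨fun s => ?_, fun φ => ?_, fun {f g} hfg => ?_⟩
  · obtain ⟨Z, g, h, hT⟩ := distinguished_cocone_triangle ((s : A) • 𝟙 X)
    haveI : IsIso (Q.map ((s : A) • 𝟙 X)) :=
      Localization.inverts Q U.trW _ ((U.trW_iff _).2 ⟨Z, g, h, hT, hU X s s.2 Z g h hT⟩)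
    have hinv : ∀ ψ : Q.obj X ⟶ Q.obj Y, (s : A) • ψ = Q.map ((s : A) • 𝟙 X) ≫ ψ := fun ψ => by
      rw [Functor.map_smul, CategoryTheory.Functor.map_id, Linear.smul_comp, Category.id_comp]
    rw [Module.End.isUnit_iff]
    constructor
    · intro a b hab
      simp only [Module.algebraMap_end_apply, hinv] at hab
      exact (cancel_epi _).1 hab
    · intro ψ
      refine ⟨inv (Q.map ((s : A) • 𝟙 X)) ≫ ψ, ?_⟩
      simp only [Module.algebraMap_end_apply, hinv, IsIso.hom_inv_id_assoc]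
  · obtain ⟨r, hr⟩ := Localization.exists_rightFraction Q U.trW φ
    obtain ⟨s, hs, τ, hτ⟩ := lift r.s r.hs
    refine ⟨(τ ≫ r.f, ⟨s, hs⟩), ?_⟩
    show s • φ = Q.map (τ ≫ r.f)
    haveI : IsIso (Q.map r.s) := Localization.inverts Q U.trW _ r.hs
    rw [hr, Functor.map_comp, ← MorphismProperty.RightFraction.map_s_comp_map r Q (Localization.inverts Q U.trW),
      ← Category.assoc, ← Functor.map_comp, hτ, Functor.map_smul, CategoryTheory.Functor.map_id, Linear.smul_comp,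
      Category.id_comp]
  · obtain ⟨W, σ, hσ, heq⟩ := (MorphismProperty.map_eq_iff_precomp Q U.trW f g).1 hfg
    obtain ⟨s, hs, τ, hτ⟩ := lift σ hσ
    refine ⟨⟨s, hs⟩, ?_⟩
    show s • f = s • g
    have := congrArg (τ ≫ ·) heq
    simp only [← Category.assoc, hτ, Linear.smul_comp, Category.id_comp] at this
    exact this

end

end Groth.Agent.H4Easy
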